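import Groth.Agent.Helper1.SCV12
import Groth.Agent.Helper1.SCV13
import Groth.Agent.Helper1.ProjTop8

set_option autoImplicit false
set_option linter.style.haveILetI false
set_option linter.unusedSectionVars false
set_option linter.unusedVariables false

/-!
# Consequences of the universal complex of a chart: local freeness of `R^n f_* F`, flatness of
the homology
-/

namespace Groth.Agent.Helper1.SCV

open CategoryTheory Limits Opposite TopologicalSpace AlgebraicGeometry TensorProduct
  AlgebraicGeometry.Scheme.Modules Topology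
open Groth.Agent.Helper1.BaseChart Groth.Agent.Helper1.GBC Groth.Agent.Helper1.HMap
open Groth.Agent.Lead.BCMap Groth.Agent.Helper1.FlatCx Groth.Agent.Helper1.NoethApx
open Groth.Agent.Helper1.BCFlatCoh Groth.Agent.Helper1
open Groth.Agent.Helper4 Groth.Agent.Helper4.FinLocFree

universe u

variable {X S : Scheme.{u}} (f : X ⟶ S) (W : S.Opens) [IsAffine (W : Scheme.{u})]

/-- the complex computes the cohomology of the chart -/
theorem UnivGC.nonempty_equiv {F : X.Modules} {K : ChainComplex (ModuleCat.{u} (AV W)) ℤ}
    {q : ℤ} {p : ℕ} (H : UnivGC f W F K q p) :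
    letI := chartOver f W
    Nonempty (K.homology q ≃ₗ[AV W] Coh.HH (XV f W) (FV f W F) p) := by
  letI := chartOver f W
  have hsq : IsPullback (𝟙 (XV f W)) (XV f W ↘ Spec (CommRingCat.of (AV W)))
      (XV f W ↘ Spec (CommRingCat.of (AV W)))
      (Spec.map (CommRingCat.ofHom (algebraMap (AV W) (AV W)))) := by
    have h1 : Spec.map (CommRingCat.ofHom (algebraMap (AV W) (AV W))) =
        𝟙 (Spec (CommRingCat.of (AV W))) := by
      exact Spec.map_id _
    rw [h1]
    exact IsPullback.id_horiz (XV f W ↘ Spec (CommRingCat.of (AV W)))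
  obtain ⟨e, -, -⟩ := H (AV W) (XV f W) (𝟙 _) hsq
  exact ⟨e⟩

variable [QuasiCompact f] [QuasiSeparated f] [HasInjectiveResolutions X.Modules]
  (F : X.Modules) [Coh.IsQCoh F]

/-- **(R4)** if `R^p f_* F` is finite locally free over the chart, the homology of the complex
of the chart is flat -/
theorem flat_homology_of_isFinLocFree_restrict
    (K : ChainComplex (ModuleCat.{u} (AV W)) ℤ) (q : ℤ) (p : ℕ)
    (H : UnivGC f W F K q p)
    (hlf : FlatMod.IsFinLocFree (((Coh.Rpush f p).obj F).restrict W.ι)) :
    Module.Flat (AV W) (K.homology q) := by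
  letI := chartOver f W
  haveI : F.IsQuasicoherent := inferInstance
  haveI := SchAdj.isGrothendieckAbelian_modules (f ⁻¹ᵁ W : Scheme.{u})
  haveI : HasInjectiveResolutions (XV f W).Modules := inferInstance
  haveI : Coh.IsQCoh (FV f W F) := inferInstance
  haveI : (NV f W F p).IsQuasicoherent := Groth.Agent.S0030.result (f ∣_ W) (FV f W F) p
  obtain ⟨e1⟩ := H.nonempty_equiv
  obtain ⟨e2⟩ := nonempty_linearEquiv_sections f W F p
  let e := e1.trans e2
  obtain ⟨i⟩ := Groth.Agent.Helper1.RpRestr.nonempty_iso f W p
  let j : ((Coh.Rpush f p).obj F).restrict W.ι ≅ NV f W F p := i.app F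
  have h2 : FlatMod.IsFinLocFree (NV f W F p) :=
    Groth.Agent.Helper4.FinLocFree2.isFinLocFree_of_iso j hlf
  have hflat : Module.Flat (AV W) Γ(NV f W F p, ⊤) := by
    refine Groth.Agent.Helper4.FinLocFree5.flat_sections_of_flat_stalks (NV f W F p)
      (isAffineOpen_top (W : Scheme.{u})) ?_
    intro y _
    haveI := Groth.Agent.Helper4.FinLocFree2.free_stalk_of_isFinLocFree (NV f W F p) h2 y
    infer_instance
  exact Module.Flat.of_linearEquiv e

end Groth.Agent.Helper1.SCV
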