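import Groth.Agent.Helper1.SCV14

set_option autoImplicit false
set_option linter.style.haveILetI false
set_option linter.unusedSectionVars false
set_option linter.unusedVariables false

/-!
# Local freeness of `R^n f_* F` near a point where `T^n` and `T^{n-1}` are right exact
-/

namespace Groth.Agent.Helper1.SCV

open CategoryTheory Limits Opposite TopologicalSpace AlgebraicGeometry TensorProduct
  AlgebraicGeometry.Scheme.Modules Topology
open Groth.Agent.Helper1.BaseChart Groth.Agent.Helper1.GBC Groth.Agent.Helper1.HMap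
open Groth.Agent.Lead.BCMap Groth.Agent.Helper1.FlatCx Groth.Agent.Helper1.NoethApx
open Groth.Agent.Helper1.BCFlatCoh Groth.Agent.Helper1
open Groth.Agent.Helper4 Groth.Agent.Helper4.FinLocFree

universe u

variable {X S : Scheme.{u}} (f : X ⟶ S) (W : S.Opens) [IsAffine (W : Scheme.{u})]

variable [QuasiCompact f] [QuasiSeparated f] [HasInjectiveResolutions X.Modules]
  (F : X.Modules) [Coh.IsQCoh F]
  (K : ChainComplex (ModuleCat.{u} (AV W)) ℤ)
  (hK : ∀ i, Module.Finite (AV W) (K.X i) ∧ Module.Free (AV W) (K.X i))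

set_option maxHeartbeats 1600000 in
include hK in
/-- **(R2)** near a point of the free loci of `Z'_q` and `Z'_{q-1}`, `R^n f_* F` is finite
locally free and the ranks of the fibres are locally constant -/
theorem exists_nhd_of_mem_freeLocus (q : ℤ) (n : ℕ) (H : UnivGC f W F K q n)
    (hbetti : ∀ (s : S) (hs : s ∈ W),
      PerfAux.betti f F s n = CohIII.dRank K q (chartPt W s hs))
    (s : S) (hs : s ∈ W)
    (hx₁ : chartPt W s hs ∈ Module.freeLocus (AV W) (K.opcycles q))
    (hx₂ : chartPt W s hs ∈ Module.freeLocus (AV W) (K.opcycles (q - 1))) :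
    ∃ V : S.Opens, s ∈ V ∧ V ≤ W ∧
      FlatMod.IsFinLocFree (((Coh.Rpush f n).obj F).restrict V.ι) ∧
      IsLocallyConstant (fun v : V => CohIII.fiberRank f F n v.1) := by
  obtain ⟨_, ⟨a, rfl⟩, hxa, hsub⟩ :=
    PrimeSpectrum.isTopologicalBasis_basic_opens.exists_subset_of_mem_open
      (show chartPt W s hs ∈ Module.freeLocus (AV W) (K.opcycles q) ∩
        Module.freeLocus (AV W) (K.opcycles (q - 1)) from ⟨hx₁, hx₂⟩)
      ((isOpen_freeLocus_opcycles K hK q).inter (isOpen_freeLocus_opcycles K hK (q - 1)))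
  have hsub₁ : (PrimeSpectrum.basicOpen a : Set (PrimeSpectrum (AV W))) ⊆
      Module.freeLocus (AV W) (K.opcycles q) := fun y hy => (hsub hy).1
  have hsub₂ : (PrimeSpectrum.basicOpen a : Set (PrimeSpectrum (AV W))) ⊆
      Module.freeLocus (AV W) (K.opcycles (q - 1)) := fun y hy => (hsub hy).2
  obtain ⟨W₁, hsW₁, hW₁W, hW₁⟩ := exists_open_of_nhds W s hs
    (PrimeSpectrum.basicOpen a : Set (PrimeSpectrum (AV W)))
    ((PrimeSpectrum.basicOpen a).isOpen.mem_nhds hxa)
  obtain ⟨V, hV, hsV, hVW₁⟩ := exists_isAffineOpen_mem_and_subset (x := s) (U := W₁) hsW₁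
  haveI : IsAffine (V : Scheme.{u}) := hV
  have hVW : V ≤ W := fun y hy => hW₁W (hVW₁ hy)
  have e : V ≤ (𝟙 S) ⁻¹ᵁ W := by
    rw [Scheme.Hom.id_preimage]
    exact hVW
  letI := chartsAlgebra (𝟙 S) W V e
  have hcomap : ∀ (w : S) (hw : w ∈ V),
      PrimeSpectrum.comap (algebraMap (AV W) (AV V)) (chartPt V w hw) = chartPt W w (hVW hw) :=
    fun w hw => chartPt_comap (𝟙 S) W V e w hw
  have hB : IsUnit (algebraMap (AV W) (AV V) a) := by
    by_contra hnu
    obtain ⟨M, hM, haM⟩ := exists_max_ideal_of_mem_nonunits hnu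
    obtain ⟨w, hw, hwy⟩ := exists_eq_chartPt V (⟨M, hM.isPrime⟩ : PrimeSpectrum (AV V))
    have h2 : chartPt W w (hVW hw) ∈ (PrimeSpectrum.basicOpen a : Set (PrimeSpectrum (AV W))) :=
      hW₁ w (hVW hw) (hVW₁ hw)
    rw [← hcomap w hw, hwy] at h2
    exact h2 haM
  obtain ⟨hfin, hproj⟩ := finite_projective_homology_bcCx K hK q a hsub₁ hsub₂ (AV V) hB
  refine ⟨V, hsV, hVW, ?_, ?_⟩
  · -- local freeness
    letI oW := chartOver f W
    letI oV := chartOver f V
    have hsq := isPullback_charts f (𝟙 S) f (𝟙 X) W V e (IsPullback.id_horiz f)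
    obtain ⟨-, e', -⟩ := H (AV V) (XV f V)
      (gRes f (𝟙 S) f (𝟙 X) W V e (IsPullback.id_horiz f).w) hsq
    let J : (Scheme.Modules.pullback (gRes f (𝟙 S) f (𝟙 X) W V e (IsPullback.id_horiz f).w)).obj
        (FV f W F) ≅ FV f V F :=
      CohPull.pullOnIso (𝟙 X) (f ⁻¹ᵁ W) (f ⁻¹ᵁ V)
        (preimage_le f (𝟙 S) f (𝟙 X) W V e (IsPullback.id_horiz f).w) F ≪≫
      (Scheme.Modules.restrictFunctor (f ⁻¹ᵁ V).ι).mapIso ((Scheme.Modules.pullbackId X).app F)
    let e1 : (CohIII.bcCx (algebraMap (AV W) (AV V)) K).homology q ≃ₗ[AV V]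
        Coh.HH (XV f V) (FV f V F) n := e'.trans (ProjTop.HHlinEquiv (AV V) J n)
    haveI := hfin
    haveI := hproj
    apply isFinLocFree_restrict_of_local
    intro y hy
    obtain ⟨U, hyU, hU⟩ := exists_free_nhd_of_projective f V F n _ e1 y hy
    exact ⟨U, _, hyU, hU⟩
  · -- local constancy
    have hlc := isLocallyConstant_dRank_bcCx K hK q a hsub₁ hsub₂ (AV V) hB
    have hcont : Continuous (fun v : V => chartPt V v.1 v.2) :=
      (V : Scheme.{u}).isoSpec.hom.continuous
    have heq : (fun v : V => CohIII.fiberRank f F n v.1) =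
        (fun y : PrimeSpectrum (AV V) =>
          CohIII.dRank (CohIII.bcCx (algebraMap (AV W) (AV V)) K) q y) ∘
          (fun v : V => chartPt V v.1 v.2) := by
      funext v
      show PerfAux.betti f F v.1 n = _
      rw [hbetti v.1 (hVW v.2)]
      show _ = CohIII.dRank (CohIII.bcCx (algebraMap (AV W) (AV V)) K) q (chartPt V v.1 v.2)
      rw [dRank_baseChange, hcomap v.1 v.2]
    rw [heq]
    exact hlc.comp_continuous hcont

end Groth.Agent.Helper1.SCV
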