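import Groth.Agent.Helper1.SCV15

set_option autoImplicit false
set_option linter.style.haveILetI false
set_option linter.unusedSectionVars false
set_option linter.unusedVariables false

/-!
# The package of facts about the universal complex of a chart, indexed by cohomological degrees
-/

namespace Groth.Agent.Helper1.SCV

open CategoryTheory Limits Opposite TopologicalSpace AlgebraicGeometry TensorProduct
  AlgebraicGeometry.Scheme.Modules Topology
open Groth.Agent.Helper1.BaseChart Groth.Agent.Helper1.GBC Groth.Agent.Helper1.HMap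
open Groth.Agent.Lead.BCMap Groth.Agent.Helper1.FlatCx Groth.Agent.Helper1.NoethApx
open Groth.Agent.Helper1.BCFlatCoh Groth.Agent.Helper1
open Groth.Agent.Helper4 Groth.Agent.Helper4.FinLocFree

universe u

section glue

variable {S : Scheme.{u}} (M : S.Modules)

/-- finite local freeness is local on the base -/
theorem isFinLocFree_of_local_restrict
    (h : ∀ x : S, ∃ V : S.Opens, x ∈ V ∧ FlatMod.IsFinLocFree (M.restrict V.ι)) :
    FlatMod.IsFinLocFree M := by
  apply isFinLocFree_of_isFreeAlong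
  intro x
  obtain ⟨V, hxV, hV⟩ := h x
  obtain ⟨U, n, hxU, hU⟩ := hV ⟨x, hxV⟩
  have h1 : IsFreeAlong (M.restrict V.ι) U.ι n := hU
  rw [IsFreeAlong.restrict_iff] at h1
  exact ⟨_, U.ι ≫ V.ι, inferInstance, n, ⟨⟨⟨x, hxV⟩, hxU⟩, rfl⟩, h1⟩

/-- finite local freeness over an open passes to smaller opens -/
theorem isFinLocFree_restrict_of_le {V W : S.Opens} (hWV : W ≤ V)
    (h : FlatMod.IsFinLocFree (M.restrict V.ι)) : FlatMod.IsFinLocFree (M.restrict W.ι) := by
  apply isFinLocFree_restrict_of_local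
  intro x hx
  obtain ⟨U, n, hxU, hU⟩ := h ⟨x, hWV hx⟩
  have h1 : IsFreeAlong (M.restrict V.ι) U.ι n := hU
  rw [IsFreeAlong.restrict_iff] at h1
  refine ⟨(U.ι ≫ V.ι).opensRange, n, ⟨⟨⟨x, hWV hx⟩, hxU⟩, rfl⟩, h1.opensRange _⟩

end glue

variable {X S : Scheme.{u}} (f : X ⟶ S) (W : S.Opens) [IsAffine (W : Scheme.{u})]

/-- the universal complex of the chart `W` -/
structure Master (F : X.Modules) (K : ChainComplex (ModuleCat.{u} (AV W)) ℤ) : Prop where
  hK : ∀ i, Module.Finite (AV W) (K.X i) ∧ Module.Free (AV W) (K.X i)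
  bdd : ∃ b : ℤ, ∀ i < b, IsZero (K.X i)
  gc : ∀ n : ℕ, UnivGC f W F K (-(n : ℤ)) n
  betti : ∀ (s : S) (hs : s ∈ W) (p : ℕ),
    PerfAux.betti f F s p = CohIII.dRank K (-(p : ℤ)) (chartPt W s hs)
  vanish : ∀ p : ℕ, (∀ s ∈ W, PerfAux.betti f F s p = 0) → IsZero (K.homology (-(p : ℤ)))

theorem exists_master [IsProper f] [LocallyOfFinitePresentation f]
    (F : X.Modules) (hF : CohB1.IsFP F) (hfl : FlatMod.IsFlatOver f F) :
    ∃ K : ChainComplex (ModuleCat.{u} (AV W)) ℤ, Master f W F K := by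
  obtain ⟨K, h1, h2, h3, h4, h5⟩ := exists_chart_master f W F hF hfl
  exact ⟨K, ⟨h1, h2, h3, h4, h5⟩⟩

/-- the locus of the chart where `T^n` is right exact -/
def OLoc (K : ChainComplex (ModuleCat.{u} (AV W)) ℤ) (n : ℕ) : Set (PrimeSpectrum (AV W)) :=
  Module.freeLocus (AV W) (K.opcycles (-(n : ℤ) - 1))

lemma neg_succ (n : ℕ) : -(((n + 1 : ℕ) : ℤ)) = -(n : ℤ) - 1 := by
  push_cast
  ring

lemma freeLocus_opcycles_congr (K : ChainComplex (ModuleCat.{u} (AV W)) ℤ) {i j : ℤ}
    (h : i = j) :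
    Module.freeLocus (AV W) (K.opcycles i) = Module.freeLocus (AV W) (K.opcycles j) := by
  subst h
  rfl

variable {f W} {F : X.Modules} {K : ChainComplex (ModuleCat.{u} (AV W)) ℤ}

/-- (P7) `T^n` is right exact everywhere for `n` large -/
theorem Master.exists_OLoc_eq_univ (M : Master f W F K) :
    ∃ N : ℕ, ∀ n : ℕ, N ≤ n → OLoc W K n = Set.univ := by
  obtain ⟨b, hb⟩ := M.bdd
  refine ⟨(-b).toNat, fun n hn => ?_⟩
  apply freeLocus_opcycles_eq_univ_of_isZero
  apply hb
  omega

/-- (P3) propagation downwards -/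
theorem Master.mem_OLoc_of_flat (M : Master f W F K) (n : ℕ) (x : PrimeSpectrum (AV W))
    (hx : x ∈ OLoc W K (n + 1)) (hfl : Module.Flat (AV W) (K.homology (-(((n + 1 : ℕ)) : ℤ)))) :
    x ∈ OLoc W K n := by
  have h := mem_freeLocus_opcycles_of_flat_homology K M.hK (-(((n + 1 : ℕ)) : ℤ)) x hx hfl
  unfold OLoc
  rw [← freeLocus_opcycles_congr W K (neg_succ n)]
  exact h

/-- (P5) vanishing of the cohomology of the fibre gives right exactness -/
theorem Master.mem_OLoc_of_subsingleton (M : Master f W F K) (m : ℕ) (s : S) (hs : s ∈ W)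
    (h : Subsingleton (CohIII.fiberH f F s m)) : chartPt W s hs ∈ OLoc W K m := by
  apply mem_freeLocus_opcycles_of_dRank_zero K M.hK
  rw [← M.betti s hs m]
  haveI : Subsingleton (PerfAux.fiberH f F s m) := h
  exact Module.finrank_zero_of_subsingleton

/-- (P6) vanishing of the cohomology of all fibres gives flatness (vanishing) of the homology -/
theorem Master.flat_of_subsingleton (M : Master f W F K) (m : ℕ)
    (h : ∀ s : S, Subsingleton (CohIII.fiberH f F s m)) :
    Module.Flat (AV W) (K.homology (-(m : ℤ))) := by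
  have h0 : IsZero (K.homology (-(m : ℤ))) := by
    apply M.vanish
    intro s _
    haveI : Subsingleton (PerfAux.fiberH f F s m) := h s
    exact Module.finrank_zero_of_subsingleton
  haveI : Subsingleton (K.homology (-(m : ℤ))) := ModuleCat.subsingleton_of_isZero h0
  infer_instance

variable [QuasiCompact f] [QuasiSeparated f] [HasInjectiveResolutions X.Modules] [Coh.IsQCoh F]

/-- (P4) local freeness of `R^m f_* F` over the chart gives flatness of the homology -/
theorem Master.flat_of_isFinLocFree (M : Master f W F K) (m : ℕ)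
    (hlf : FlatMod.IsFinLocFree (((Coh.Rpush f m).obj F).restrict W.ι)) :
    Module.Flat (AV W) (K.homology (-(m : ℤ))) :=
  flat_homology_of_isFinLocFree_restrict f W F K _ m (M.gc m) hlf

/-- (P2) local freeness of `R^{n+1} f_* F` near a point where `T^n` and `T^{n+1}` are right
exact -/
theorem Master.exists_nhd (M : Master f W F K) (n : ℕ) (s : S) (hs : s ∈ W)
    (h₁ : chartPt W s hs ∈ OLoc W K n) (h₂ : chartPt W s hs ∈ OLoc W K (n + 1)) :
    ∃ V : S.Opens, s ∈ V ∧ V ≤ W ∧
      FlatMod.IsFinLocFree (((Coh.Rpush f (n + 1)).obj F).restrict V.ι) ∧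
      IsLocallyConstant (fun v : V => CohIII.fiberRank f F (n + 1) v.1) := by
  refine exists_nhd_of_mem_freeLocus f W F K M.hK (-(((n + 1 : ℕ)) : ℤ)) (n + 1) (M.gc (n + 1))
    (fun s hs => M.betti s hs (n + 1)) s hs ?_ h₂
  rw [freeLocus_opcycles_congr W K (neg_succ n)]
  exact h₁

/-- (P1) the base change map of the fibre is an epimorphism iff `T^n` is right exact there -/
theorem Master.epi_iff (M : Master f W F K) (n : ℕ) (s : S) (hs : s ∈ W)
    [HasInjectiveResolutions (f.fiber s).Modules]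
    {Δ : RDer.DerivedLES (pushforward f)}
    {Δs : RDer.DerivedLES (pushforward (f.fiberToSpecResidueField s))}
    {E : CohCmp.SectCmp f Δ} {Es : CohCmp.SectCmp (f.fiberToSpecResidueField s) Δs}
    (Bs : CohCmp.GenBC f (S.fromSpecResidueField s) (f.fiberToSpecResidueField s) (f.fiberι s)
      (f.fiber_fac s) E Es) :
    Epi (Bs.bc n F) ↔ chartPt W s hs ∈ OLoc W K n :=
  fibre_epi_iff f W s hs F n Bs K M.hK (-(n : ℤ)) (M.gc n)

end Groth.Agent.Helper1.SCV
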