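import Groth.Agent.Helper1.SCV16
import Groth.Agent.Helper1.PCH7

set_option autoImplicit false
set_option linter.style.haveILetI false
set_option linter.unusedSectionVars false
set_option linter.unusedVariables false

/-!
# The compatibility of the comparison maps with restriction and pullback, in general
-/

namespace Groth.Agent.Helper1.SCV

open CategoryTheory Opposite TopologicalSpace AlgebraicGeometry
open Groth.Agent.Helper1.BaseChart

universe u

variable {X S X' S' : Scheme.{u}} {f : X ⟶ S} {g : S' ⟶ S} {f' : X' ⟶ S'} {g' : X' ⟶ X}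
  (h : IsPullback g' f' f g)
  [HasInjectiveResolutions X.Modules] [HasInjectiveResolutions X'.Modules]
  {Δ' : RDer.DerivedLES (Scheme.Modules.pushforward f')}
  {E' : CohCmp.SectCmp f' Δ'}
  (F : X.Modules) (p : ℕ) (V : S.Opens) (V' : S'.Opens) (e : V' ≤ g ⁻¹ᵁ V)

/-- **(N2)** the restriction compatibility holds for every open `V' ≤ g⁻¹ V` -/
theorem resCompat : ResCompat h (E' := E') F p V V' e := by
  intro x
  have h1 := Groth.Agent.Helper6.ResLE3.ε_resLE f' E' e ((Scheme.Modules.pullback g').obj F) p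
    (CohPull.pullOn g' (f ⁻¹ᵁ V) (f' ⁻¹ᵁ (g ⁻¹ᵁ V)) (CohCmp.sqLE f g f' g' h.w V) F p x)
  rw [← h1]
  exact congrArg (E'.ε V' ((Scheme.Modules.pullback g').obj F) p)
    (Groth.Agent.Helper1.PC.resLE_pullOn g' (f ⁻¹ᵁ V) (f' ⁻¹ᵁ (g ⁻¹ᵁ V)) (f' ⁻¹ᵁ V')
      (CohCmp.sqLE f g f' g' h.w V) (f'.preimage_mono e) F p x)

end Groth.Agent.Helper1.SCV
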