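import Groth.Agent.Helper1.SCV20
import Groth.Agent.Helper1.PCH8

set_option autoImplicit false
set_option linter.style.haveILetI false
set_option linter.unusedSectionVars false
set_option linter.unusedVariables false

/-!
# The degree-zero base change map over affine opens, in terms of a complex computing
cohomology universally
-/

namespace Groth.Agent.Helper1.SCV

open CategoryTheory Limits Opposite TopologicalSpace AlgebraicGeometry TensorProduct
  AlgebraicGeometry.Scheme.Modules
open Groth.Agent.Helper1.BaseChart Groth.Agent.Helper1.GBC Groth.Agent.Helper1.HMap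
open Groth.Agent.Lead.BCMap

universe u

section smul

variable {X Y : Scheme.{u}} (f : X ⟶ Y)

/-- the inverse of the classes of sections is linear over the functions on the base -/
lemma sectH0_symm_smul (V : Y.Opens) (r : Γ(Y, V)) (F : X.Modules)
    (x : Coh.HHon X F (f ⁻¹ᵁ V) 0) :
    (show Γ((pushforward f).obj F, V) from
      (CohPull.sectH0 F (f ⁻¹ᵁ V)).symm (topOf (f ⁻¹ᵁ V) (f.app V r) • x)) =
      r • (show Γ((pushforward f).obj F, V) from (CohPull.sectH0 F (f ⁻¹ᵁ V)).symm x) := by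
  obtain ⟨s, rfl⟩ := (CohPull.sectH0 F (f ⁻¹ᵁ V)).surjective x
  rw [← sectH0_smul, AddEquiv.symm_apply_apply, AddEquiv.symm_apply_apply]
  rfl

end smul

variable {X S X' S' : Scheme.{u}} {f : X ⟶ S} {g : S' ⟶ S} {f' : X' ⟶ S'} {g' : X' ⟶ X}
  (h : IsPullback g' f' f g)
  [QuasiCompact f] [QuasiSeparated f]
  (F : X.Modules) [Coh.IsQCoh F] (V : S.Opens) (V' : S'.Opens)
  [IsAffine (V : Scheme.{u})] [IsAffine (V' : Scheme.{u})] (e : V' ≤ g ⁻¹ᵁ V)

set_option maxHeartbeats 1600000 in
/-- **the degree-zero base change map on an affine open**, in terms of a complex computing the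
cohomology of the charts compatibly with pullback -/
theorem bc0_app_main
    {ι : Type} {c : ComplexShape ι} (K : HomologicalComplex (ModuleCat.{u} (AV V)) c) (q : ι)
    (hGC : letI := chartOver f V; letI := chartOver f' V'; letI := chartsAlgebra g V V' e
      GCAt (AV V) (AV V') (gRes f g f' g' V V' e h.w) (FV f V F) K q 0) :
    letI := chartsAlgebra g V V' e
    (Function.Surjective ((CohBC.bc0 f g f' g' h.w F).app V') ↔
      Submodule.span (AV V') (Set.range (fun x : K.homology q =>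
        ((hmapM (AV V') K q).hom x :
          (CohIII.bcCx (algebraMap (AV V) (AV V')) K).homology q))) = ⊤) ∧
    ((∃ eL : AV V' ⊗[AV V] K.homology q ≃ₗ[AV V']
        (CohIII.bcCx (algebraMap (AV V) (AV V')) K).homology q,
        ∀ x, eL (1 ⊗ₜ x) = (hmapM (AV V') K q).hom x) →
      Function.Bijective ((CohBC.bc0 f g f' g' h.w F).app V')) := by
  letI oV := chartOver f V
  letI oV' := chartOver f' V'
  letI aAA' := chartsAlgebra g V V' e
  obtain ⟨e₁, e₁', he₁⟩ := hGC
  letI aRR' : Algebra Γ(S, V) Γ(S', V') := (g.appLE V V' e).hom.toAlgebra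
  have hV : IsAffineOpen V := ‹IsAffine (V : Scheme.{u})›
  have hV' : IsAffineOpen V' := ‹IsAffine (V' : Scheme.{u})›
  haveI : F.IsQuasicoherent := inferInstance
  haveI qN : ((pushforward f).obj F).IsQuasicoherent :=
    Groth.Agent.Helper4.QcohGlue.isQuasicoherent_pushforward f F
  haveI : QuasiCompact f' := MorphismProperty.of_isPullback (P := @QuasiCompact) h inferInstance
  haveI : QuasiSeparated f' :=
    MorphismProperty.of_isPullback (P := @QuasiSeparated) h inferInstance
  haveI qG : ((Scheme.Modules.pullback g').obj F).IsQuasicoherent :=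
    Groth.Agent.Lead.StalkPull.isQuasicoherent_pullbackObj g' F
  haveI : Coh.IsQCoh ((Scheme.Modules.pullback g').obj F) := qG
  letI mRN₁ : Module Γ(S, V) Γ((Scheme.Modules.pullback g).obj ((pushforward f).obj F), V') :=
    Module.compHom _ (g.appLE V V' e).hom
  haveI tN₁ : IsScalarTower Γ(S, V) Γ(S', V')
      Γ((Scheme.Modules.pullback g).obj ((pushforward f).obj F), V') :=
    IsScalarTower.of_compHom _ _ _
  obtain ⟨ρ₁, hρ₁, hb₁⟩ := exists_isBaseChange_pbSec g ((pushforward f).obj F) hV hV' e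
  let β : Γ((Scheme.Modules.pullback g).obj ((pushforward f).obj F), V') →ₗ[Γ(S', V')]
      Γ((pushforward f').obj ((Scheme.Modules.pullback g').obj F), V') :=
    { toFun := (CohBC.bc0 f g f' g' h.w F).app V'
      map_add' := fun a b => map_add _ a b
      map_smul' := fun r m => Hom.app_smul (CohBC.bc0 f g f' g' h.w F) r m }
  letI mAN : Module (AV V) ((CohIII.bcCx (algebraMap (AV V) (AV V')) K).homology q) :=
    Module.compHom _ (algebraMap (AV V) (AV V'))
  haveI tAN : IsScalarTower (AV V) (AV V')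
      ((CohIII.bcCx (algebraMap (AV V) (AV V')) K).homology q) :=
    IsScalarTower.of_compHom _ _ _
  let hh : K.homology q →ₗ[AV V] (CohIII.bcCx (algebraMap (AV V) (AV V')) K).homology q :=
    { toFun := fun x => (hmapM (AV V') K q).hom x
      map_add' := fun x y => map_add _ x y
      map_smul' := fun a x => (hmapM (AV V') K q).hom.map_smul a x }
  let a₁ : K.homology q ≃+ Γ((pushforward f).obj F, V) :=
    e₁.toAddEquiv.trans (CohPull.sectH0 F (f ⁻¹ᵁ V)).symm
  have ha₁ : ∀ (a : AV V) x, a₁ (a • x) = tau V a • a₁ x := by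
    intro a x
    show (show Γ((pushforward f).obj F, V) from
      (CohPull.sectH0 F (f ⁻¹ᵁ V)).symm (e₁ (a • x))) =
      tau V a • (show Γ((pushforward f).obj F, V) from
        (CohPull.sectH0 F (f ⁻¹ᵁ V)).symm (e₁ x))
    rw [e₁.map_smul, ← sectH0_symm_smul]
    refine congrArg (fun t => (CohPull.sectH0 F (f ⁻¹ᵁ V)).symm t) ?_
    show Sheaf.H.map (Coh.smulAb _ (Coh.toGlobal (chartHom f V) a)) 0 (e₁ x) = _
    rw [toGlobal_chart]
    rfl
  let iso := CohPull.pullOnIso g' (f ⁻¹ᵁ V) (f' ⁻¹ᵁ V') (preimage_le f g f' g' V V' e h.w) F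
  let a₂ : (CohIII.bcCx (algebraMap (AV V) (AV V')) K).homology q ≃+
      Γ((pushforward f').obj ((Scheme.Modules.pullback g').obj F), V') :=
    e₁'.toAddEquiv.trans
      ((Groth.Agent.Helper1.ProjTop.HHlinEquiv (AV V') iso 0).toAddEquiv.trans
        (CohPull.sectH0 ((Scheme.Modules.pullback g').obj F) (f' ⁻¹ᵁ V')).symm)
  have ha₂ : ∀ (a' : AV V') y, a₂ (a' • y) = tau V' a' • a₂ y := by
    intro a' y
    show (show Γ((pushforward f').obj ((Scheme.Modules.pullback g').obj F), V') from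
      (CohPull.sectH0 ((Scheme.Modules.pullback g').obj F) (f' ⁻¹ᵁ V')).symm
        (Groth.Agent.Helper1.ProjTop.HHlinEquiv (AV V') iso 0 (e₁' (a' • y)))) =
      tau V' a' • (show Γ((pushforward f').obj ((Scheme.Modules.pullback g').obj F), V') from
        (CohPull.sectH0 ((Scheme.Modules.pullback g').obj F) (f' ⁻¹ᵁ V')).symm
          (Groth.Agent.Helper1.ProjTop.HHlinEquiv (AV V') iso 0 (e₁' y)))
    rw [e₁'.map_smul, LinearEquiv.map_smul, ← sectH0_symm_smul]
    refine congrArg (fun t => (CohPull.sectH0 ((Scheme.Modules.pullback g').obj F)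
      (f' ⁻¹ᵁ V')).symm t) ?_
    show Sheaf.H.map (Coh.smulAb _ (Coh.toGlobal (chartHom f' V') a')) 0 _ = _
    rw [toGlobal_chart]
    rfl
  have hc : ∀ x, β (ρ₁ (a₁ x)) = a₂ (hh x) := by
    intro x
    show (CohBC.bc0 f g f' g' h.w F).app V' (ρ₁ ((CohPull.sectH0 F (f ⁻¹ᵁ V)).symm (e₁ x))) =
      (CohPull.sectH0 ((Scheme.Modules.pullback g').obj F) (f' ⁻¹ᵁ V')).symm
        (Groth.Agent.Helper1.ProjTop.HHlinEquiv (AV V') iso 0 (e₁' ((hmapM (AV V') K q).hom x)))
    rw [hρ₁, he₁ x]
    obtain ⟨m, hm⟩ := (CohPull.sectH0 F (f ⁻¹ᵁ V)).surjective (e₁ x)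
    rw [← hm, AddEquiv.symm_apply_apply]
    refine (bcMap_pbSec f g g' f' h.w F V V' e m).trans ?_
    apply (CohPull.sectH0 ((Scheme.Modules.pullback g').obj F) (f' ⁻¹ᵁ V')).injective
    rw [AddEquiv.apply_symm_apply]
    exact (Groth.Agent.Helper1.PC.pullOn_sectH0 g' (f ⁻¹ᵁ V) (f' ⁻¹ᵁ V')
      (preimage_le f g f' g' V V' e h.w) F m).symm
  refine ⟨?_, ?_⟩
  · exact surjective_iff_span (tau V') (tau_bijective V').2 hh ρ₁ hb₁ β a₁ a₂ ha₂ hc
  · rintro ⟨eL, heL⟩
    exact bijective_of_isBaseChange (tau V) (tau V') (tau_algebraMap g V V' e)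
      (tau_bijective V').2 hh ρ₁ hb₁ β a₁ ha₁ a₂ ha₂ hc (IsBaseChange.of_equiv eL heL)

end Groth.Agent.Helper1.SCV
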