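import Groth.Agent.Helper1.SCV2
import Groth.Agent.Helper6.ResLE3
import Groth.Agent.Helper6.PushEdge1
import Groth.Prelude.Def_Canon

set_option autoImplicit false
set_option linter.style.haveILetI false
set_option linter.unusedSectionVars false
set_option linter.unusedVariables false

/-!
# The comparison `H^q(f⁻¹V, F) → Γ(V, R^q f_* F)` is linear over the functions on `V`
-/

namespace Groth.Agent.Helper1.SCV

open CategoryTheory Limits Abelian Opposite TopologicalSpace AlgebraicGeometry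
  AlgebraicGeometry.Scheme.Modules
open Groth.Agent.Helper6 Groth.Agent.Helper6.ResLE1

universe u

variable {X Y : Scheme.{u}}

/-- functions on an open `U`, as global functions of the open subscheme -/
noncomputable def topOf (U : X.Opens) : Γ(X, U) →+* Coh.Γtop (U : Scheme.{u}) :=
  U.topIso.inv.hom

/-- the classes of sections: compatibility with scalars -/
lemma sectH0_smul (F : X.Modules) (U : X.Opens) (a : Γ(X, U)) (s : Γ(F, U)) :
    CohPull.sectH0 F U (a • s) = topOf U a • CohPull.sectH0 F U s := by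
  apply (Sheaf.H.equiv₀ (Coh.toAb (F.restrict U.ι)) isTerminalTop).injective
  rw [equiv₀_sectH0]
  refine Eq.trans ?_ (Sheaf.H.equiv₀_naturality (hT := isTerminalTop)
    (Coh.smulAb (F.restrict U.ι) (topOf U a)) (CohPull.sectH0 F U s))
  rw [equiv₀_sectH0, Coh.smulAb_app]
  refine (Scheme.Modules.map_smul F (eqToHom U.ι_image_top) a s).trans ?_
  congr 1
  show _ = ((forget₂ CommRingCat RingCat).map (Scheme.Hom.appIso U.ι ⊤).inv).hom
    ((Coh.resTop (U : Scheme.{u}) (op ⊤)) ((topOf U) a))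
  rw [Scheme.Opens.ι_appIso]
  have h : (homOfLE (le_top (a := (⊤ : (U : Scheme.{u}).Opens)))).op = 𝟙 _ :=
    Subsingleton.elim _ _
  show _ = ((U : Scheme.{u}).ringCatSheaf.obj.map
    (homOfLE (le_top (a := (⊤ : (U : Scheme.{u}).Opens)))).op).hom (topOf U a)
  rw [h, CategoryTheory.Functor.map_id]
  rfl

/-- multiplication by a function commutes with the connecting homomorphisms -/
lemma smul_extδ (U : X.Opens) (S : ShortComplex X.Modules)
    (hA : (S.map (CohCmp.toAbOn X U)).ShortExact) (p : ℕ) (r : Coh.Γtop (U : Scheme.{u}))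
    (z : Coh.HHon X S.X₃ U p) :
    HSMul.hSMul (α := Coh.Γtop (U : Scheme.{u})) (β := Coh.HHon X S.X₁ U (p + 1)) r
      (CohCmp.extδ hA p z) = CohCmp.extδ hA p (r • z) := by
  let φ : S.map (CohCmp.toAbOn X U) ⟶ S.map (CohCmp.toAbOn X U) :=
    { τ₁ := Coh.smulAb (S.X₁.restrict U.ι) r
      τ₂ := Coh.smulAb (S.X₂.restrict U.ι) r
      τ₃ := Coh.smulAb (S.X₃.restrict U.ι) r
      comm₁₂ := (Canon.toSheaf_map_comp_smulAb ((restrictFunctor U.ι).map S.f) r).symm
      comm₂₃ := (Canon.toSheaf_map_comp_smulAb ((restrictFunctor U.ι).map S.g) r).symm }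
  exact PushEdge1.map_δ hA hA φ p z

variable (f : X ⟶ Y) [HasInjectiveResolutions X.Modules] {Δ : RDer.DerivedLES (pushforward f)}
  (E : CohCmp.SectCmp f Δ)

/-- **linearity of the comparison map** -/
theorem ε_smul (V : Y.Opens) (r : Γ(Y, V)) (p : ℕ) (F : X.Modules)
    (x : Coh.HHon X F (f ⁻¹ᵁ V) p) :
    E.ε V F p (topOf (f ⁻¹ᵁ V) (f.app V r) • x) = r • E.ε V F p x := by
  refine ResLE3.delta_unique (f ⁻¹ᵁ V) (fun p F => ((Coh.Rpush f p).obj F).presheaf.obj (op V))
    (fun p F x => E.ε V F p (topOf (f ⁻¹ᵁ V) (f.app V r) • x))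
    (fun p F x => r • E.ε V F p x) ?_ ?_ p F x
  · intro F x
    obtain ⟨s, rfl⟩ := (CohPull.sectH0 F (f ⁻¹ᵁ V)).surjective x
    show E.ε V F 0 (topOf (f ⁻¹ᵁ V) (f.app V r) • CohPull.sectH0 F (f ⁻¹ᵁ V) s) =
      r • E.ε V F 0 (CohPull.sectH0 F (f ⁻¹ᵁ V) s)
    rw [← sectH0_smul, E.zero, E.zero]
    exact Hom.app_smul ((pushforward f).toRightDerivedZero.app F) r
      (show Γ((pushforward f).obj F, V) from s)
  · intro S hS hA p
    refine ⟨fun t => (Δ.δ S hS p (p + 1) rfl).app V t, fun z => ⟨?_, ?_⟩⟩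
    · show E.ε V S.X₁ (p + 1) (HSMul.hSMul (α := Coh.Γtop ((f ⁻¹ᵁ V : X.Opens) : Scheme.{u}))
        (β := Coh.HHon X S.X₁ (f ⁻¹ᵁ V) (p + 1)) (topOf (f ⁻¹ᵁ V) (f.app V r))
        (CohCmp.extδ hA p z)) = _
      rw [smul_extδ, E.delta V S hS hA p]
    · show r • E.ε V S.X₁ (p + 1) (CohCmp.extδ hA p z) = _
      rw [E.delta V S hS hA p]
      exact (Hom.app_smul (Δ.δ S hS p (p + 1) rfl) r _).symm

end Groth.Agent.Helper1.SCV
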