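import Groth.Agent.Helper1.BaseChart4
import Groth.Agent.Helper1.GBC9

set_option autoImplicit false
set_option linter.style.haveILetI false
set_option linter.unusedSectionVars false
set_option linter.unusedVariables false

/-!
# The cartesian square of charts attached to a cartesian square and affine opens of the bases
-/

namespace Groth.Agent.Helper1.SCV

open CategoryTheory Limits Opposite TopologicalSpace AlgebraicGeometry
open Groth.Agent.Helper1.BaseChart

universe u

variable {X S X' S' : Scheme.{u}} (f : X ⟶ S) (g : S' ⟶ S) (f' : X' ⟶ S') (g' : X' ⟶ X)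
  (V : S.Opens) (V' : S'.Opens) (e : V' ≤ g ⁻¹ᵁ V)

/-- the algebra structure of the ring of the chart `V'` over the ring of the chart `V` -/
@[reducible] noncomputable def chartsAlgebra : Algebra (AV V) (AV V') :=
  (g.resLE V V' e).appTop.hom.toAlgebra

include e in
lemma preimage_le (w : g' ≫ f = f' ≫ g) : f' ⁻¹ᵁ V' ≤ g' ⁻¹ᵁ (f ⁻¹ᵁ V) :=
  (f'.preimage_mono e).trans (CohCmp.sqLE f g f' g' w V)

/-- the morphism of charts -/
noncomputable abbrev gRes (w : g' ≫ f = f' ≫ g) : XV f' V' ⟶ XV f V :=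
  g'.resLE (f ⁻¹ᵁ V) (f' ⁻¹ᵁ V') (preimage_le f g f' g' V V' e w)

variable [IsAffine (V : Scheme.{u})] [IsAffine (V' : Scheme.{u})]

/-- the cartesian square of charts -/
theorem isPullback_charts (h : IsPullback g' f' f g) :
    letI := chartsAlgebra g V V' e
    IsPullback (gRes f g f' g' V V' e h.w) (chartHom f' V') (chartHom f V)
      (Spec.map (CommRingCat.ofHom (algebraMap (AV V) (AV V')))) := by
  letI := chartsAlgebra g V V' e
  have hUY : f' ⁻¹ᵁ V' = g' ⁻¹ᵁ (f ⁻¹ᵁ V) ⊓ f' ⁻¹ᵁ V' :=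
    (inf_eq_right.mpr (preimage_le f g f' g' V V' e h.w)).symm
  have h1 := Scheme.Hom.isPullback_resLE h e (le_refl (f ⁻¹ᵁ V)) hUY
  have h2 : f.resLE V (f ⁻¹ᵁ V) le_rfl = f ∣_ V := Scheme.Hom.resLE_eq_morphismRestrict f
  have h3 : f'.resLE V' (f' ⁻¹ᵁ V') le_rfl = f' ∣_ V' :=
    Scheme.Hom.resLE_eq_morphismRestrict f'
  rw [h2] at h1
  have h1' : IsPullback (gRes f g f' g' V V' e h.w) (f' ∣_ V') (f ∣_ V) (g.resLE V V' e) := by
    convert h1 using 1
    exact h3.symm
  refine IsPullback.of_iso h1' (Iso.refl _) (Iso.refl _) (V' : Scheme.{u}).isoSpec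
    (V : Scheme.{u}).isoSpec (by simp) (by simp [chartHom]) (by simp [chartHom]) ?_
  exact (Scheme.isoSpec_hom_naturality (g.resLE V V' e)).symm

end Groth.Agent.Helper1.SCV
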