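import Mathlib

set_option autoImplicit false
set_option linter.style.haveILetI false
set_option linter.unusedSectionVars false
set_option linter.unusedVariables false

/-!
# Transport of base change properties along semilinear bijections
-/

namespace Groth.Agent.Helper1.SCV

universe u

section alg

variable {A A' R R' : Type u} [CommRing A] [CommRing A'] [CommRing R] [CommRing R']
  [Algebra A A'] [Algebra R R'] (τ : A →+* R) (τ' : A' →+* R')
  (hτ : ∀ a, τ' (algebraMap A A' a) = algebraMap R R' (τ a))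
  (hτ' : Function.Surjective τ')
  {M N : Type u} [AddCommGroup M] [Module A M] [AddCommGroup N] [Module A N] [Module A' N]
  [IsScalarTower A A' N]
  {M₁ N₁ N₂ : Type u} [AddCommGroup M₁] [Module R M₁] [AddCommGroup N₁] [Module R N₁]
  [Module R' N₁] [IsScalarTower R R' N₁] [AddCommGroup N₂] [Module R' N₂]
  (h : M →ₗ[A] N) (ρ₁ : M₁ →ₗ[R] N₁) (hρ₁ : IsBaseChange R' ρ₁) (β : N₁ →ₗ[R'] N₂)
  (a₁ : M ≃+ M₁) (ha₁ : ∀ a x, a₁ (a • x) = τ a • a₁ x)
  (a₂ : N ≃+ N₂) (ha₂ : ∀ a' y, a₂ (a' • y) = τ' a' • a₂ y)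
  (hc : ∀ x, β (ρ₁ (a₁ x)) = a₂ (h x))

include ha₂ in
lemma a₂_symm_smul (a' : A') (z : N₂) : a₂.symm (τ' a' • z) = a' • a₂.symm z := by
  apply a₂.injective
  rw [AddEquiv.apply_symm_apply, ha₂, AddEquiv.apply_symm_apply]

include hτ' hρ₁ ha₂ hc in
/-- surjectivity of `β` in terms of the span of the image of `h` -/
theorem surjective_iff_span :
    Function.Surjective β ↔ Submodule.span A' (Set.range h) = ⊤ := by
  constructor
  · intro hs
    rw [eq_top_iff]
    intro y _
    obtain ⟨n₁, hn₁⟩ := hs (a₂ y)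
    have key : ∀ n₁ : N₁, a₂.symm (β n₁) ∈ Submodule.span A' (Set.range h) := by
      intro n₁
      refine hρ₁.inductionOn n₁ (fun n => a₂.symm (β n) ∈ Submodule.span A' (Set.range h))
        ?_ ?_ ?_ ?_
      · simp
      · intro m
        obtain ⟨x, rfl⟩ := a₁.surjective m
        show a₂.symm (β (ρ₁ (a₁ x))) ∈ _
        rw [hc, AddEquiv.symm_apply_apply]
        exact Submodule.subset_span ⟨x, rfl⟩
      · intro r' n hn
        obtain ⟨a', rfl⟩ := hτ' r'
        show a₂.symm (β (τ' a' • n)) ∈ _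
        rw [map_smul, a₂_symm_smul τ' a₂ ha₂]
        exact Submodule.smul_mem _ _ hn
      · intro n n' hn hn'
        show a₂.symm (β (n + n')) ∈ _
        rw [map_add, map_add]
        exact Submodule.add_mem _ hn hn'
    have := key n₁
    rwa [hn₁, AddEquiv.symm_apply_apply] at this
  · intro hspan n₂
    have key : ∀ y ∈ Submodule.span A' (Set.range h), a₂ y ∈ LinearMap.range β := by
      intro y hy
      induction hy using Submodule.span_induction with
      | mem y hy =>
        obtain ⟨x, rfl⟩ := hy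
        exact ⟨ρ₁ (a₁ x), hc x⟩
      | zero => simp
      | add y y' _ _ hy hy' =>
        rw [map_add]
        exact Submodule.add_mem _ hy hy'
      | smul a' y _ hy =>
        rw [ha₂]
        exact Submodule.smul_mem _ _ hy
    obtain ⟨n₁, hn₁⟩ := key (a₂.symm n₂) (by rw [hspan]; trivial)
    exact ⟨n₁, by rw [hn₁, AddEquiv.apply_symm_apply]⟩

include hτ hτ' hρ₁ ha₁ ha₂ hc in
/-- if `h` is a base change map, then `β` is bijective -/
theorem bijective_of_isBaseChange (hb : IsBaseChange A' h) : Function.Bijective β := by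
  have hspan : Submodule.span A' (Set.range h) = ⊤ := by
    rw [eq_top_iff]
    intro y _
    refine hb.inductionOn y (fun y => y ∈ Submodule.span A' (Set.range h)) ?_ ?_ ?_ ?_
    · simp
    · intro m
      exact Submodule.subset_span ⟨m, rfl⟩
    · intro s n hn
      exact Submodule.smul_mem _ _ hn
    · intro n n' hn hn'
      exact Submodule.add_mem _ hn hn'
  refine ⟨?_, (surjective_iff_span τ' hτ' h ρ₁ hρ₁ β a₁ a₂ ha₂ hc).2 hspan⟩
  -- injectivity: construct a retraction
  letI mA' : Module A' N₁ := Module.compHom N₁ τ'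
  letI mA : Module A N₁ := Module.compHom N₁ τ
  haveI : IsScalarTower A A' N₁ := ⟨fun a a' n => by
    show τ' (a • a') • n = τ a • (τ' a' • n)
    rw [Algebra.smul_def, map_mul, hτ, mul_smul, algebraMap_smul]⟩
  let g₀ : M →ₗ[A] N₁ :=
    { toFun := fun x => ρ₁ (a₁ x)
      map_add' := fun x y => by rw [map_add, map_add]
      map_smul' := fun a x => by
        rw [ha₁, map_smul]
        rfl }
  let γ₀ : N →ₗ[A'] N₁ := hb.lift g₀
  have hγ₀ : ∀ x, γ₀ (h x) = ρ₁ (a₁ x) := fun x => hb.lift_eq g₀ x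
  have key : ∀ n₁ : N₁, γ₀ (a₂.symm (β n₁)) = n₁ := by
    intro n₁
    refine hρ₁.inductionOn n₁ (fun n => γ₀ (a₂.symm (β n)) = n) ?_ ?_ ?_ ?_
    · simp
    · intro m
      obtain ⟨x, rfl⟩ := a₁.surjective m
      show γ₀ (a₂.symm (β (ρ₁ (a₁ x)))) = ρ₁ (a₁ x)
      rw [hc, AddEquiv.symm_apply_apply, hγ₀]
    · intro r' n hn
      obtain ⟨a', rfl⟩ := hτ' r'
      show γ₀ (a₂.symm (β (τ' a' • n))) = τ' a' • n
      rw [map_smul, a₂_symm_smul τ' a₂ ha₂, map_smul, hn]
      rfl
    · intro n n' hn hn'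
      show γ₀ (a₂.symm (β (n + n'))) = n + n'
      rw [map_add, map_add, map_add, hn, hn']
  intro n n' hnn'
  rw [← key n, ← key n', hnn']

end alg

end Groth.Agent.Helper1.SCV
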