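import Groth.Agent.Helper1.SCV3
import Groth.Agent.Helper1.SCV4
import Groth.Agent.Helper1.SCV5
import Groth.Agent.Helper1.RpCoh2

set_option autoImplicit false
set_option linter.style.haveILetI false
set_option linter.unusedSectionVars false
set_option linter.unusedVariables false

/-!
# Scalars of charts
-/

namespace Groth.Agent.Helper1.SCV

open CategoryTheory Limits Opposite TopologicalSpace AlgebraicGeometry
open Groth.Agent.Helper1.BaseChart

universe u

variable {X S X' S' : Scheme.{u}} (f : X ⟶ S) (g : S' ⟶ S)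
  (V : S.Opens) (V' : S'.Opens) (e : V' ≤ g ⁻¹ᵁ V)

/-- the ring isomorphism between the ring of the chart and the functions on the open -/
noncomputable def tau : AV V →+* Γ(S, V) := V.topIso.hom.hom

lemma tau_bijective : Function.Bijective (tau V) :=
  ConcreteCategory.bijective_of_isIso V.topIso.hom

/-- compatibility of the ring isomorphisms of two charts -/
lemma tau_algebraMap (a : AV V) :
    letI := chartsAlgebra g V V' e
    tau V' (algebraMap (AV V) (AV V') a) = (g.appLE V V' e).hom (tau V a) := by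
  letI := chartsAlgebra g V V' e
  have h1 : (g.resLE V V' e).appTop = V.topIso.hom ≫ g.appLE V V' e ≫ V'.topIso.inv :=
    Scheme.Hom.resLE_app_top g e
  show V'.topIso.hom.hom ((g.resLE V V' e).appTop.hom a) = _
  rw [h1]
  show (V'.topIso.inv ≫ V'.topIso.hom).hom ((g.appLE V V' e).hom (V.topIso.hom.hom a)) = _
  rw [Iso.inv_hom_id]
  rfl

variable [IsAffine (V : Scheme.{u})]

/-- the action of the ring of the chart on the cohomology of the chart -/
lemma toGlobal_chart (a : AV V) :
    Coh.toGlobal (chartHom f V) a = topOf (f ⁻¹ᵁ V) (f.app V (tau V a)) := by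
  have h0 := congrArg (fun φ : AV V →+* Coh.Γtop (XV f V) => φ a)
    (Groth.Agent.Helper1.RpCoh.toGlobal_comp_isoSpec (f ∣_ V))
  refine h0.trans ?_
  have h1 : (f.resLE V (f ⁻¹ᵁ V) le_rfl).appTop =
      V.topIso.hom ≫ f.appLE V (f ⁻¹ᵁ V) le_rfl ≫ (f ⁻¹ᵁ V).topIso.inv :=
    Scheme.Hom.resLE_app_top f le_rfl
  rw [Scheme.Hom.resLE_eq_morphismRestrict, Scheme.Hom.appLE_eq_app] at h1
  show (f ∣_ V).appTop.hom a = _
  rw [h1]
  rfl

end Groth.Agent.Helper1.SCV
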