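import Groth.Agent.Helper1.SCV6
import Groth.Agent.Lead.BCMap5
import Groth.Agent.Helper1.ProjTop8

set_option autoImplicit false
set_option linter.style.haveILetI false
set_option linter.unusedSectionVars false
set_option linter.unusedVariables false

/-!
# The base change map over affine opens, in terms of a complex computing cohomology universally
-/

namespace Groth.Agent.Helper1.SCV

open CategoryTheory Limits Opposite TopologicalSpace AlgebraicGeometry TensorProduct
  AlgebraicGeometry.Scheme.Modules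
open Groth.Agent.Helper1.BaseChart Groth.Agent.Helper1.GBC Groth.Agent.Helper1.HMap
open Groth.Agent.Lead.BCMap

universe u

variable {X S X' S' : Scheme.{u}} {f : X ⟶ S} {g : S' ⟶ S} {f' : X' ⟶ S'} {g' : X' ⟶ X}
  (h : IsPullback g' f' f g)
  [HasInjectiveResolutions X.Modules] [HasInjectiveResolutions X'.Modules]
  {Δ : RDer.DerivedLES (pushforward f)} {Δ' : RDer.DerivedLES (pushforward f')}
  {E : CohCmp.SectCmp f Δ} {E' : CohCmp.SectCmp f' Δ'} (B : CohCmp.GenBC f g f' g' h.w E E')
  (F : X.Modules) (p : ℕ) (V : S.Opens) (V' : S'.Opens) (e : V' ≤ g ⁻¹ᵁ V)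

/-- the compatibility of the comparison map with restriction to `V'` and the pullback of
classes: it holds for every `V' ≤ g⁻¹ V`, and trivially so for `V' = g⁻¹ V` -/
def ResCompat : Prop :=
  ∀ x : Coh.HHon X F (f ⁻¹ᵁ V) p,
    ((Coh.Rpush f' p).obj ((Scheme.Modules.pullback g').obj F)).presheaf.map (homOfLE e).op
      (E'.ε (g ⁻¹ᵁ V) ((Scheme.Modules.pullback g').obj F) p
        (CohPull.pullOn g' (f ⁻¹ᵁ V) (f' ⁻¹ᵁ (g ⁻¹ᵁ V)) (CohCmp.sqLE f g f' g' h.w V) F p x)) =
    E'.ε V' ((Scheme.Modules.pullback g').obj F) p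
      (CohPull.pullOn g' (f ⁻¹ᵁ V) (f' ⁻¹ᵁ V') (preimage_le f g f' g' V V' e h.w) F p x)

/-- the base change map on the classes `ε(x)` -/
theorem bc_pbSec_ε (hN2 : ResCompat h (E' := E') F p V V' e) (x : Coh.HHon X F (f ⁻¹ᵁ V) p) :
    (B.bc p F).app V' (pbSec g ((Coh.Rpush f p).obj F) V V' e (E.ε V F p x)) =
      E'.ε V' ((Scheme.Modules.pullback g').obj F) p
        (CohPull.pullOn g' (f ⁻¹ᵁ V) (f' ⁻¹ᵁ V') (preimage_le f g f' g' V V' e h.w) F p x) := by
  have h1 := homEquiv_app g ((Coh.Rpush f p).obj F) (B.bc p F) V V' e (E.ε V F p x)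
  have h2 : ((Scheme.Modules.pullbackPushforwardAdjunction g).homEquiv _ _) (B.bc p F) = B.φ p F :=
    Equiv.apply_symm_apply _ _
  rw [h2, B.compat V F p x] at h1
  exact h1.symm.trans (hN2 x)

end Groth.Agent.Helper1.SCV
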