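import Mathlib

/-!
# Horn filling in simplicial groups (Moore's algorithm), purely algebraic core

Three consecutive levels `G0 = X_m`, `G1 = X_{m+1}`, `G2 = X_{m+2}` of a simplicial group with the
faces `d1, d2` and degeneracies `s0, s1` between them; simplicial identities are passed as
hypotheses in `ℕ`-indexed form. `N1 ≤ G1`, `N2 ≤ G2` are subgroups stable under `d2`, `s1`.
-/

set_option autoImplicit false
universe u
open CategoryTheory Simplicial Opposite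

namespace Groth.Agent.Helper1.SGrpFill

section core

variable {G0 G1 G2 : Type*} [Group G0] [Group G1] [Group G2] (m : ℕ)
  (d1 : Fin (m + 2) → (G1 →* G0)) (d2 : Fin (m + 3) → (G2 →* G1))
  (s0 : Fin (m + 1) → (G0 →* G1)) (s1 : Fin (m + 2) → (G1 →* G2))
  (N1 : Subgroup G1) (N2 : Subgroup G2)
  (hdd : ∀ (i j : ℕ) (_ : i ≤ j) (hj : j < m + 2) (w : G2),
    d1 ⟨i, by omega⟩ (d2 ⟨j + 1, by omega⟩ w) = d1 ⟨j, hj⟩ (d2 ⟨i, by omega⟩ w))
  (hds_le : ∀ (i j : ℕ) (_ : i ≤ j) (hj : j < m + 1) (y : G1),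
    d2 ⟨i, by omega⟩ (s1 ⟨j + 1, by omega⟩ y) = s0 ⟨j, hj⟩ (d1 ⟨i, by omega⟩ y))
  (hds_self : ∀ (i : ℕ) (hi : i < m + 2) (y : G1), d2 ⟨i, by omega⟩ (s1 ⟨i, hi⟩ y) = y)
  (hds_succ : ∀ (i : ℕ) (hi : i < m + 2) (y : G1), d2 ⟨i + 1, by omega⟩ (s1 ⟨i, hi⟩ y) = y)
  (hds_gt : ∀ (i j : ℕ) (_ : j < i) (hi : i < m + 2) (y : G1),
    d2 ⟨i + 1, by omega⟩ (s1 ⟨j, by omega⟩ y) = s0 ⟨j, by omega⟩ (d1 ⟨i, hi⟩ y))
  (hN_d : ∀ (j : Fin (m + 3)) (w : G2), w ∈ N2 → d2 j w ∈ N1)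
  (hN_s : ∀ (j : Fin (m + 2)) (y : G1), y ∈ N1 → s1 j y ∈ N2)
  (i : ℕ) (hi : i < m + 3) (x : ℕ → G1)
  (hx : ∀ j, j < m + 3 → j ≠ i → x j ∈ N1)
  (hcompat : ∀ (j k : ℕ) (_ : j ≤ k) (hk : k < m + 2), j ≠ i → k + 1 ≠ i →
    d1 ⟨k, hk⟩ (x j) = d1 ⟨j, by omega⟩ (x (k + 1)))

include hdd hds_le hds_self hN_d hN_s hx hcompat hi in
@[to_additive addStage1]
theorem stage1 (a : ℕ) (ha : a ≤ i) :
    ∃ w ∈ N2, ∀ (j : ℕ) (hj : j < a), d2 ⟨j, by omega⟩ w = x j := by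
  induction a with
  | zero => exact ⟨1, N2.one_mem, fun j hj => absurd hj (Nat.not_lt_zero j)⟩
  | succ a ih =>
    obtain ⟨w, hwN, hw⟩ := ih (by omega)
    have ha2 : a < m + 2 := by omega
    obtain ⟨y, hy⟩ : ∃ y : G1, y = x a * (d2 ⟨a, by omega⟩ w)⁻¹ := ⟨_, rfl⟩
    have hyN : y ∈ N1 := by
      rw [hy]
      exact N1.mul_mem (hx a (by omega) (by omega)) (N1.inv_mem (hN_d _ _ hwN))
    have hy1 : ∀ (j : ℕ) (hj : j < a), d1 ⟨j, by omega⟩ y = 1 := by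
      intro j hj
      obtain ⟨a', rfl⟩ : ∃ a', a = a' + 1 := ⟨a - 1, by omega⟩
      rw [hy, map_mul, map_inv, hdd j a' (by omega) (by omega) w,
        ← hcompat j a' (by omega) (by omega) (by omega) (by omega), hw j hj, mul_inv_cancel]
    refine ⟨s1 ⟨a, ha2⟩ y * w, N2.mul_mem (hN_s _ _ hyN) hwN, fun j hj => ?_⟩
    rcases Nat.lt_succ_iff_lt_or_eq.1 hj with hj' | rfl
    · obtain ⟨a', rfl⟩ : ∃ a', a = a' + 1 := ⟨a - 1, by omega⟩
      rw [map_mul, hds_le j a' (by omega) (by omega) y, hy1 j hj', map_one, one_mul, hw j hj']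
    · rw [map_mul, hds_self j ha2 y, hy, inv_mul_cancel_right]

include hdd hds_le hds_self hds_succ hds_gt hN_d hN_s hx hcompat hi in
@[to_additive addStage2]
theorem stage2 (c b : ℕ) (hbc : b + c = m + 2) (hb : i ≤ b) :
    ∃ w ∈ N2, (∀ (j : ℕ) (hj : j < i), d2 ⟨j, by omega⟩ w = x j) ∧
      ∀ (j : ℕ) (_ : b < j) (hj2 : j < m + 3), d2 ⟨j, hj2⟩ w = x j := by
  induction c generalizing b with
  | zero =>
    obtain ⟨w, hwN, hw⟩ := stage1 m d1 d2 s0 s1 N1 N2 hdd hds_le hds_self hN_d hN_s i hi x hx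
      hcompat i le_rfl
    exact ⟨w, hwN, hw, fun j hj hj2 => by omega⟩
  | succ c ih =>
    obtain ⟨w, hwN, hw1, hw2⟩ := ih (b + 1) (by omega) (by omega)
    have hb2 : b < m + 2 := by omega
    obtain ⟨y, hy⟩ : ∃ y : G1, y = x (b + 1) * (d2 ⟨b + 1, by omega⟩ w)⁻¹ := ⟨_, rfl⟩
    have hyN : y ∈ N1 := by
      rw [hy]
      exact N1.mul_mem (hx (b + 1) (by omega) (by omega)) (N1.inv_mem (hN_d _ _ hwN))
    -- faces of `y` below `i`
    have hy1 : ∀ (j : ℕ) (hj : j < i), d1 ⟨j, by omega⟩ y = 1 := by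
      intro j hj
      rw [hy, map_mul, map_inv, hdd j b (by omega) hb2 w,
        ← hcompat j b (by omega) hb2 (by omega) (by omega), hw1 j hj, mul_inv_cancel]
    -- faces of `y` above `b`
    have hy2 : ∀ (k : ℕ) (_ : b < k) (hk2 : k < m + 2), d1 ⟨k, hk2⟩ y = 1 := by
      intro k hk hk2
      rw [hy, map_mul, map_inv, ← hdd (b + 1) k (by omega) hk2 w,
        hcompat (b + 1) k (by omega) hk2 (by omega) (by omega),
        hw2 (k + 1) (by omega) (by omega), mul_inv_cancel]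
    refine ⟨s1 ⟨b, hb2⟩ y * w, N2.mul_mem (hN_s _ _ hyN) hwN, fun j hj => ?_, fun j hj hj2 => ?_⟩
    · obtain ⟨b', rfl⟩ : ∃ b', b = b' + 1 := ⟨b - 1, by omega⟩
      rw [map_mul, hds_le j b' (by omega) (by omega) y, hy1 j hj, map_one, one_mul, hw1 j hj]
    · rcases Nat.eq_or_lt_of_le (Nat.succ_le_of_lt hj) with rfl | hj'
      · rw [map_mul, hds_succ b hb2 y, hy, inv_mul_cancel_right]
      · obtain ⟨k, rfl⟩ : ∃ k, j = k + 1 := ⟨j - 1, by omega⟩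
        rw [map_mul, hds_gt k b (by omega) (by omega) y, hy2 k (by omega) (by omega), map_one,
          one_mul, hw2 (k + 1) (by omega) hj2]

include hdd hds_le hds_self hds_succ hds_gt hN_d hN_s hx hcompat hi in
@[to_additive addFill]
theorem fill :
    ∃ w ∈ N2, ∀ (j : ℕ) (hj : j < m + 3), j ≠ i → d2 ⟨j, hj⟩ w = x j := by
  obtain ⟨w, hwN, hw1, hw2⟩ := stage2 m d1 d2 s0 s1 N1 N2 hdd hds_le hds_self hds_succ hds_gt
    hN_d hN_s i hi x hx hcompat (m + 2 - i) i (by omega) le_rfl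
  refine ⟨w, hwN, fun j hj hji => ?_⟩
  rcases Nat.lt_or_gt_of_ne hji with h | h
  · exact hw1 j h
  · exact hw2 j h hj

end core

section Grp
variable (X : SimplicialObject GrpCat.{u})

theorem exists_fill_grp (m : ℕ) (i : Fin (m + 3))
    (x : ∀ j : Fin (m + 3), j ≠ i → X _⦋m + 1⦌)
    (hx : ∀ (j k : Fin (m + 3)) (hj : j ≠ i) (hk : k ≠ i) (hjk : j < k),
      (X.δ (k.pred (Fin.ne_zero_of_lt hjk))).hom (x j hj) =
        (X.δ (j.castPred (Fin.ne_last_of_lt hjk))).hom (x k hk)) :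
    ∃ w : X _⦋m + 2⦌, ∀ (j : Fin (m + 3)) (hj : j ≠ i), (X.δ j).hom w = x j hj := by
  classical
  let xN : ℕ → X _⦋m + 1⦌ := fun j =>
    if h : j < m + 3 ∧ j ≠ i.val then x ⟨j, h.1⟩ (fun e => h.2 (by rw [← e])) else 1
  have hxN : ∀ (j : Fin (m + 3)) (hj : j ≠ i), xN j.val = x j hj := by
    intro j hj
    have : j.val < m + 3 ∧ j.val ≠ i.val := ⟨j.2, fun e => hj (Fin.ext e)⟩
    simp only [xN, dif_pos this]
  have H1 : ∀ (a b : ℕ) (_ : a ≤ b) (hb : b < m + 2) (w : X _⦋m + 2⦌),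
      (X.δ (⟨a, by omega⟩ : Fin (m + 2))).hom ((X.δ (⟨b + 1, by omega⟩ : Fin (m + 3))).hom w) =
      (X.δ (⟨b, hb⟩ : Fin (m + 2))).hom ((X.δ (⟨a, by omega⟩ : Fin (m + 3))).hom w) := by
    intro a b hab hb w
    exact ConcreteCategory.congr_hom (X.δ_comp_δ (i := ⟨a, by omega⟩) (j := ⟨b, hb⟩) hab) w
  have H2 : ∀ (a b : ℕ) (_ : a ≤ b) (hb : b < m + 1) (y : X _⦋m + 1⦌),
      (X.δ (⟨a, by omega⟩ : Fin (m + 3))).hom ((X.σ (⟨b + 1, by omega⟩ : Fin (m + 2))).hom y) =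
      (X.σ (⟨b, hb⟩ : Fin (m + 1))).hom ((X.δ (⟨a, by omega⟩ : Fin (m + 2))).hom y) := by
    intro a b hab hb y
    exact ConcreteCategory.congr_hom
      (X.δ_comp_σ_of_le (i := ⟨a, by omega⟩) (j := ⟨b, hb⟩) hab) y
  have H3 : ∀ (a : ℕ) (ha : a < m + 2) (y : X _⦋m + 1⦌),
      (X.δ (⟨a, by omega⟩ : Fin (m + 3))).hom ((X.σ (⟨a, ha⟩ : Fin (m + 2))).hom y) = y := by
    intro a ha y
    exact ConcreteCategory.congr_hom (X.δ_comp_σ_self (i := ⟨a, ha⟩)) y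
  have H4 : ∀ (a : ℕ) (ha : a < m + 2) (y : X _⦋m + 1⦌),
      (X.δ (⟨a + 1, by omega⟩ : Fin (m + 3))).hom ((X.σ (⟨a, ha⟩ : Fin (m + 2))).hom y) = y := by
    intro a ha y
    exact ConcreteCategory.congr_hom (X.δ_comp_σ_succ (i := ⟨a, ha⟩)) y
  have H5 : ∀ (a b : ℕ) (_ : b < a) (ha : a < m + 2) (y : X _⦋m + 1⦌),
      (X.δ (⟨a + 1, by omega⟩ : Fin (m + 3))).hom ((X.σ (⟨b, by omega⟩ : Fin (m + 2))).hom y) =
      (X.σ (⟨b, by omega⟩ : Fin (m + 1))).hom ((X.δ (⟨a, ha⟩ : Fin (m + 2))).hom y) := by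
    intro a b hba ha y
    exact ConcreteCategory.congr_hom
      (X.δ_comp_σ_of_gt (i := ⟨a, ha⟩) (j := ⟨b, by omega⟩) hba) y
  have H6 : ∀ (j k : ℕ) (_ : j ≤ k) (hk : k < m + 2), j ≠ i.val → k + 1 ≠ i.val →
      (X.δ (⟨k, hk⟩ : Fin (m + 2))).hom (xN j) =
        (X.δ (⟨j, by omega⟩ : Fin (m + 2))).hom (xN (k + 1)) := by
    intro j k hjk hk hji hki
    have h1 := hxN ⟨j, by omega⟩ (fun e => hji (congrArg Fin.val e))
    have h2 := hxN ⟨k + 1, by omega⟩ (fun e => hki (congrArg Fin.val e))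
    simp only at h1 h2
    rw [h1, h2]
    exact hx ⟨j, by omega⟩ ⟨k + 1, by omega⟩ _ _ (by simp [Fin.lt_def]; omega)
  obtain ⟨w, -, hw⟩ := fill (G0 := X _⦋m⦌) (G1 := X _⦋m + 1⦌) (G2 := X _⦋m + 2⦌) m
    (fun j => (X.δ j).hom) (fun j => (X.δ j).hom) (fun j => (X.σ j).hom) (fun j => (X.σ j).hom)
    ⊤ ⊤ H1 H2 H3 H4 H5 (fun _ _ _ => trivial) (fun _ _ _ => trivial) i.val i.2 xN
    (fun _ _ _ => trivial) H6
  refine ⟨w, fun j hj => ?_⟩
  rw [← hxN j hj]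
  exact hw j.val j.2 (fun e => hj (Fin.ext e))

end Grp

theorem exists_fill_zero_grp (X : SimplicialObject GrpCat.{u}) (i : Fin 2)
    (x : ∀ j : Fin 2, j ≠ i → X _⦋0⦌) :
    ∃ w : X _⦋0 + 1⦌, ∀ (j : Fin 2) (hj : j ≠ i), (X.δ j).hom w = x j hj := by
  have h0 : ∀ y : X _⦋0⦌, (X.δ (0 : Fin 2)).hom ((X.σ (0 : Fin 1)).hom y) = y := fun y =>
    ConcreteCategory.congr_hom (X.δ_comp_σ_self (i := (0 : Fin 1))) y
  have h1 : ∀ y : X _⦋0⦌, (X.δ (1 : Fin 2)).hom ((X.σ (0 : Fin 1)).hom y) = y := fun y =>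
    ConcreteCategory.congr_hom (X.δ_comp_σ_succ (i := (0 : Fin 1))) y
  fin_cases i
  · refine ⟨(X.σ (0 : Fin 1)).hom (x 1 (by decide)), fun j hj => ?_⟩
    fin_cases j
    · exact absurd rfl hj
    · exact h1 _
  · refine ⟨(X.σ (0 : Fin 1)).hom (x 0 (by decide)), fun j hj => ?_⟩
    fin_cases j
    · exact h0 _
    · exact absurd rfl hj

theorem kan_grp (X : SimplicialObject GrpCat.{u}) : SSet.KanComplex (X ⋙ forget GrpCat.{u}) := by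
  rw [SSet.KanComplex.iff]
  intro n i f hf
  obtain _ | m := n
  · obtain ⟨w, hw⟩ := exists_fill_zero_grp X i (fun j hj => SSet.yonedaEquiv (f j hj))
    refine ⟨SSet.yonedaEquiv.symm w, fun j hj => ?_⟩
    rw [SSet.stdSimplex.δ_comp_yonedaEquiv_symm]
    apply SSet.yonedaEquiv.injective
    rw [Equiv.apply_symm_apply]
    exact hw j hj
  · have hc : ∀ (j k : Fin (m + 3)) (hj : j ≠ i) (hk : k ≠ i) (hjk : j < k),
        (X.δ (k.pred (Fin.ne_zero_of_lt hjk))).hom (SSet.yonedaEquiv (f j hj)) =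
        (X.δ (j.castPred (Fin.ne_last_of_lt hjk))).hom (SSet.yonedaEquiv (f k hk)) := by
      intro j k hj hk hjk
      have := congrArg SSet.yonedaEquiv (hf j k hj hk hjk)
      rw [SSet.stdSimplex.yonedaEquiv_δ_comp, SSet.stdSimplex.yonedaEquiv_δ_comp] at this
      exact this
    obtain ⟨w, hw⟩ := exists_fill_grp X m i (fun j hj => SSet.yonedaEquiv (f j hj)) hc
    refine ⟨SSet.yonedaEquiv.symm w, fun j hj => ?_⟩
    rw [SSet.stdSimplex.δ_comp_yonedaEquiv_symm]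
    apply SSet.yonedaEquiv.injective
    rw [Equiv.apply_symm_apply]
    exact hw j hj

section Ab
variable (X : SimplicialObject AddCommGrpCat.{u})

theorem exists_fill_ab (m : ℕ) (N1 : AddSubgroup (X _⦋m + 1⦌)) (N2 : AddSubgroup (X _⦋m + 2⦌))
    (hNd : ∀ (j : Fin (m + 3)) (w : X _⦋m + 2⦌), w ∈ N2 → (X.δ j).hom w ∈ N1)
    (hNs : ∀ (j : Fin (m + 2)) (y : X _⦋m + 1⦌), y ∈ N1 → (X.σ j).hom y ∈ N2)
    (i : Fin (m + 3))
    (x : ∀ j : Fin (m + 3), j ≠ i → X _⦋m + 1⦌)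
    (hxN : ∀ (j : Fin (m + 3)) (hj : j ≠ i), x j hj ∈ N1)
    (hx : ∀ (j k : Fin (m + 3)) (hj : j ≠ i) (hk : k ≠ i) (hjk : j < k),
      (X.δ (k.pred (Fin.ne_zero_of_lt hjk))).hom (x j hj) =
        (X.δ (j.castPred (Fin.ne_last_of_lt hjk))).hom (x k hk)) :
    ∃ w : X _⦋m + 2⦌, w ∈ N2 ∧ ∀ (j : Fin (m + 3)) (hj : j ≠ i), (X.δ j).hom w = x j hj := by
  classical
  let xN : ℕ → X _⦋m + 1⦌ := fun j =>
    if h : j < m + 3 ∧ j ≠ i.val then x ⟨j, h.1⟩ (fun e => h.2 (by rw [← e])) else 0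
  have hxN' : ∀ (j : Fin (m + 3)) (hj : j ≠ i), xN j.val = x j hj := by
    intro j hj
    have : j.val < m + 3 ∧ j.val ≠ i.val := ⟨j.2, fun e => hj (Fin.ext e)⟩
    simp only [xN, dif_pos this]
  have H1 : ∀ (a b : ℕ) (_ : a ≤ b) (hb : b < m + 2) (w : X _⦋m + 2⦌),
      (X.δ (⟨a, by omega⟩ : Fin (m + 2))).hom ((X.δ (⟨b + 1, by omega⟩ : Fin (m + 3))).hom w) =
      (X.δ (⟨b, hb⟩ : Fin (m + 2))).hom ((X.δ (⟨a, by omega⟩ : Fin (m + 3))).hom w) := by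
    intro a b hab hb w
    exact ConcreteCategory.congr_hom (X.δ_comp_δ (i := ⟨a, by omega⟩) (j := ⟨b, hb⟩) hab) w
  have H2 : ∀ (a b : ℕ) (_ : a ≤ b) (hb : b < m + 1) (y : X _⦋m + 1⦌),
      (X.δ (⟨a, by omega⟩ : Fin (m + 3))).hom ((X.σ (⟨b + 1, by omega⟩ : Fin (m + 2))).hom y) =
      (X.σ (⟨b, hb⟩ : Fin (m + 1))).hom ((X.δ (⟨a, by omega⟩ : Fin (m + 2))).hom y) := by
    intro a b hab hb y
    exact ConcreteCategory.congr_hom
      (X.δ_comp_σ_of_le (i := ⟨a, by omega⟩) (j := ⟨b, hb⟩) hab) y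
  have H3 : ∀ (a : ℕ) (ha : a < m + 2) (y : X _⦋m + 1⦌),
      (X.δ (⟨a, by omega⟩ : Fin (m + 3))).hom ((X.σ (⟨a, ha⟩ : Fin (m + 2))).hom y) = y := by
    intro a ha y
    exact ConcreteCategory.congr_hom (X.δ_comp_σ_self (i := ⟨a, ha⟩)) y
  have H4 : ∀ (a : ℕ) (ha : a < m + 2) (y : X _⦋m + 1⦌),
      (X.δ (⟨a + 1, by omega⟩ : Fin (m + 3))).hom ((X.σ (⟨a, ha⟩ : Fin (m + 2))).hom y) = y := by
    intro a ha y
    exact ConcreteCategory.congr_hom (X.δ_comp_σ_succ (i := ⟨a, ha⟩)) y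
  have H5 : ∀ (a b : ℕ) (_ : b < a) (ha : a < m + 2) (y : X _⦋m + 1⦌),
      (X.δ (⟨a + 1, by omega⟩ : Fin (m + 3))).hom ((X.σ (⟨b, by omega⟩ : Fin (m + 2))).hom y) =
      (X.σ (⟨b, by omega⟩ : Fin (m + 1))).hom ((X.δ (⟨a, ha⟩ : Fin (m + 2))).hom y) := by
    intro a b hba ha y
    exact ConcreteCategory.congr_hom
      (X.δ_comp_σ_of_gt (i := ⟨a, ha⟩) (j := ⟨b, by omega⟩) hba) y
  have H6 : ∀ (j k : ℕ) (_ : j ≤ k) (hk : k < m + 2), j ≠ i.val → k + 1 ≠ i.val →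
      (X.δ (⟨k, hk⟩ : Fin (m + 2))).hom (xN j) =
        (X.δ (⟨j, by omega⟩ : Fin (m + 2))).hom (xN (k + 1)) := by
    intro j k hjk hk hji hki
    have h1 := hxN' ⟨j, by omega⟩ (fun e => hji (congrArg Fin.val e))
    have h2 := hxN' ⟨k + 1, by omega⟩ (fun e => hki (congrArg Fin.val e))
    simp only at h1 h2
    rw [h1, h2]
    exact hx ⟨j, by omega⟩ ⟨k + 1, by omega⟩ _ _ (by simp [Fin.lt_def]; omega)
  have H7 : ∀ j, j < m + 3 → j ≠ i.val → xN j ∈ N1 := by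
    intro j hj hji
    have h1 := hxN' ⟨j, hj⟩ (fun e => hji (congrArg Fin.val e))
    simp only at h1
    rw [h1]
    exact hxN _ _
  obtain ⟨w, hwN, hw⟩ := addFill (G0 := X _⦋m⦌) (G1 := X _⦋m + 1⦌) (G2 := X _⦋m + 2⦌) m
    (fun j => (X.δ j).hom) (fun j => (X.δ j).hom) (fun j => (X.σ j).hom) (fun j => (X.σ j).hom)
    N1 N2 H1 H2 H3 H4 H5 hNd hNs i.val i.2 xN H7 H6
  refine ⟨w, hwN, fun j hj => ?_⟩
  rw [← hxN' j hj]
  exact hw j.val j.2 (fun e => hj (Fin.ext e))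

theorem exists_fill_zero_ab (N0 : AddSubgroup (X _⦋0⦌)) (N1 : AddSubgroup (X _⦋0 + 1⦌))
    (hNs : ∀ (y : X _⦋0⦌), y ∈ N0 → (X.σ (0 : Fin 1)).hom y ∈ N1) (i : Fin 2)
    (x : ∀ j : Fin 2, j ≠ i → X _⦋0⦌) (hxN : ∀ (j : Fin 2) (hj : j ≠ i), x j hj ∈ N0) :
    ∃ w : X _⦋0 + 1⦌, w ∈ N1 ∧ ∀ (j : Fin 2) (hj : j ≠ i), (X.δ j).hom w = x j hj := by
  have h0 : ∀ y : X _⦋0⦌, (X.δ (0 : Fin 2)).hom ((X.σ (0 : Fin 1)).hom y) = y := fun y =>
    ConcreteCategory.congr_hom (X.δ_comp_σ_self (i := (0 : Fin 1))) y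
  have h1 : ∀ y : X _⦋0⦌, (X.δ (1 : Fin 2)).hom ((X.σ (0 : Fin 1)).hom y) = y := fun y =>
    ConcreteCategory.congr_hom (X.δ_comp_σ_succ (i := (0 : Fin 1))) y
  fin_cases i
  · refine ⟨(X.σ (0 : Fin 1)).hom (x 1 (by decide)), hNs _ (hxN _ _), fun j hj => ?_⟩
    fin_cases j
    · exact absurd rfl hj
    · exact h1 _
  · refine ⟨(X.σ (0 : Fin 1)).hom (x 0 (by decide)), hNs _ (hxN _ _), fun j hj => ?_⟩
    fin_cases j
    · exact h0 _
    · exact absurd rfl hj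

end Ab

section Fib
variable {X Y : SimplicialObject AddCommGrpCat.{u}} (f : X ⟶ Y)

lemma f_δ {n : ℕ} (j : Fin (n + 2)) (w : X _⦋n + 1⦌) :
    (f.app _).hom ((X.δ j).hom w) = (Y.δ j).hom ((f.app _).hom w) :=
  ConcreteCategory.congr_hom (f.naturality (SimplexCategory.δ j).op) w

lemma f_σ {n : ℕ} (j : Fin (n + 1)) (w : X _⦋n⦌) :
    (f.app _).hom ((X.σ j).hom w) = (Y.σ j).hom ((f.app _).hom w) :=
  ConcreteCategory.congr_hom (f.naturality (SimplexCategory.σ j).op) w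

/-- the kernel sub-simplicial group -/
def kerN (n : ℕ) : AddSubgroup (X _⦋n⦌) := (f.app (op ⦋n⦌)).hom.ker

lemma mem_kerN {n : ℕ} (w : X _⦋n⦌) : w ∈ kerN f n ↔ (f.app (op ⦋n⦌)).hom w = 0 := Iff.rfl

lemma kerN_δ {n : ℕ} (j : Fin (n + 2)) (w : X _⦋n + 1⦌) (hw : w ∈ kerN f (n + 1)) :
    (X.δ j).hom w ∈ kerN f n := by
  rw [mem_kerN] at hw ⊢
  rw [f_δ, hw, map_zero]

lemma kerN_σ {n : ℕ} (j : Fin (n + 1)) (w : X _⦋n⦌) (hw : w ∈ kerN f n) :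
    (X.σ j).hom w ∈ kerN f (n + 1) := by
  rw [mem_kerN] at hw ⊢
  rw [f_σ, hw, map_zero]

theorem exists_lift_ab (hf : ∀ n : SimplexCategoryᵒᵖ, Function.Surjective (f.app n))
    (m : ℕ) (i : Fin (m + 3))
    (x : ∀ j : Fin (m + 3), j ≠ i → X _⦋m + 1⦌)
    (hx : ∀ (j k : Fin (m + 3)) (hj : j ≠ i) (hk : k ≠ i) (hjk : j < k),
      (X.δ (k.pred (Fin.ne_zero_of_lt hjk))).hom (x j hj) =
        (X.δ (j.castPred (Fin.ne_last_of_lt hjk))).hom (x k hk))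
    (y : Y _⦋m + 2⦌)
    (hy : ∀ (j : Fin (m + 3)) (hj : j ≠ i), (f.app _).hom (x j hj) = (Y.δ j).hom y) :
    ∃ w : X _⦋m + 2⦌, (∀ (j : Fin (m + 3)) (hj : j ≠ i), (X.δ j).hom w = x j hj) ∧
      (f.app _).hom w = y := by
  obtain ⟨w0, hw0⟩ := hf (op ⦋m + 2⦌) y
  have hw0' : (f.app (op ⦋m + 2⦌)).hom w0 = y := hw0
  have hdd : ∀ (j k : Fin (m + 3)) (hjk : j < k) (w : X _⦋m + 2⦌),
      (X.δ (k.pred (Fin.ne_zero_of_lt hjk))).hom ((X.δ j).hom w) =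
        (X.δ (j.castPred (Fin.ne_last_of_lt hjk))).hom ((X.δ k).hom w) := by
    intro j k hjk w
    have h := X.δ_comp_δ (i := j.castPred (Fin.ne_last_of_lt hjk))
      (j := k.pred (Fin.ne_zero_of_lt hjk)) (by
        have := Fin.lt_def.1 hjk
        rw [Fin.le_def, Fin.coe_castPred, Fin.val_pred]; omega)
    rw [Fin.succ_pred, Fin.castSucc_castPred] at h
    exact (ConcreteCategory.congr_hom h w).symm
  obtain ⟨u, huN, hu⟩ := exists_fill_ab X m (kerN f (m + 1)) (kerN f (m + 2))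
    (fun j w hw => kerN_δ f j w hw) (fun j w hw => kerN_σ f j w hw) i
    (fun j hj => x j hj - (X.δ j).hom w0)
    (fun j hj => by
      rw [mem_kerN, map_sub, hy j hj, f_δ, hw0', sub_self])
    (fun j k hj hk hjk => by
      rw [map_sub, map_sub, hx j k hj hk hjk, hdd j k hjk w0])
  refine ⟨u + w0, fun j hj => ?_, ?_⟩
  · rw [map_add, hu j hj, sub_add_cancel]
  · rw [map_add, (mem_kerN f u).1 huN, hw0']
    exact zero_add y

theorem exists_lift_zero_ab (hf : ∀ n : SimplexCategoryᵒᵖ, Function.Surjective (f.app n))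
    (i : Fin 2) (x : ∀ j : Fin 2, j ≠ i → X _⦋0⦌) (y : Y _⦋0 + 1⦌)
    (hy : ∀ (j : Fin 2) (hj : j ≠ i), (f.app _).hom (x j hj) = (Y.δ j).hom y) :
    ∃ w : X _⦋0 + 1⦌, (∀ (j : Fin 2) (hj : j ≠ i), (X.δ j).hom w = x j hj) ∧
      (f.app _).hom w = y := by
  obtain ⟨w0, hw0⟩ := hf (op ⦋0 + 1⦌) y
  have hw0' : (f.app (op ⦋0 + 1⦌)).hom w0 = y := hw0
  obtain ⟨u, huN, hu⟩ := exists_fill_zero_ab X (kerN f 0) (kerN f (0 + 1))
    (fun w hw => kerN_σ f _ w hw) i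
    (fun j hj => x j hj - (X.δ j).hom w0)
    (fun j hj => by
      rw [mem_kerN, map_sub, hy j hj, f_δ, hw0', sub_self])
  refine ⟨u + w0, fun j hj => ?_, ?_⟩
  · rw [map_add, hu j hj, sub_add_cancel]
  · rw [map_add, (mem_kerN f u).1 huN, hw0']
    exact zero_add y

end Fib

theorem fibration_ab {S T : SimplicialObject AddCommGrpCat.{u}} (f : S ⟶ T)
    (hf : ∀ n : SimplexCategoryᵒᵖ, Function.Surjective (f.app n)) :
    SSet.modelCategoryQuillen.J.rlp (X := S ⋙ forget AddCommGrpCat.{u})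
      (Y := T ⋙ forget AddCommGrpCat.{u}) (Functor.whiskerRight f (forget AddCommGrpCat.{u})) := by
  intro A B ι hj
  simp only [SSet.modelCategoryQuillen.J, MorphismProperty.iSup_iff] at hj
  obtain ⟨n, ⟨i⟩⟩ := hj
  refine ⟨fun {t b} sq => ?_⟩
  have hy : ∀ (j : Fin (n + 2)) (hj : j ≠ i),
      (f.app _).hom (SSet.yonedaEquiv (SSet.horn.ι i j hj ≫ t)) =
        (T.δ j).hom (SSet.yonedaEquiv b) := by
    intro j hj
    have h1 := congrArg SSet.yonedaEquiv (SSet.horn.ι i j hj ≫= sq.w)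
    rw [SSet.horn.ι_ι_assoc, SSet.stdSimplex.yonedaEquiv_δ_comp, ← Category.assoc,
      SSet.yonedaEquiv_comp] at h1
    exact h1
  have key : ∃ w : S _⦋n + 1⦌,
      (∀ (j : Fin (n + 2)) (hj : j ≠ i),
        (S.δ j).hom w = SSet.yonedaEquiv (SSet.horn.ι i j hj ≫ t)) ∧
      (f.app _).hom w = SSet.yonedaEquiv b := by
    obtain _ | m := n
    · exact exists_lift_zero_ab f hf i _ _ hy
    · refine exists_lift_ab f hf m i _ ?_ _ hy
      intro j k hj hk hjk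
      have := congrArg SSet.yonedaEquiv (SSet.horn.IsCompatible.of_hom t j k hj hk hjk)
      rw [SSet.stdSimplex.yonedaEquiv_δ_comp, SSet.stdSimplex.yonedaEquiv_δ_comp] at this
      exact this
  obtain ⟨w, hw1, hw2⟩ := key
  refine ⟨⟨{ l := SSet.yonedaEquiv.symm w, fac_left := SSet.horn.hom_ext' (fun j hj => ?_),
             fac_right := ?_ }⟩⟩
  · rw [SSet.horn.ι_ι_assoc, SSet.stdSimplex.δ_comp_yonedaEquiv_symm]
    apply SSet.yonedaEquiv.injective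
    rw [Equiv.apply_symm_apply]
    exact hw1 j hj
  · rw [SSet.yonedaEquiv_symm_comp]
    apply SSet.yonedaEquiv.injective
    rw [Equiv.apply_symm_apply]
    exact hw2

end Groth.Agent.Helper1.SGrpFill
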