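import Groth.Agent.Helper1.SGrpFill
import Groth.Agent.Helper1.AbElem

set_option autoImplicit false
universe u
open CategoryTheory Simplicial Opposite AlgebraicTopology AlgebraicTopology.DoldKan

namespace Groth.Agent.Helper1.SGrpTriv

open Groth.Agent.Helper1.SGrpFill Groth.Agent.Helper1.AbElem

variable {X Y : SimplicialObject AddCommGrpCat.{u}} (f : X ⟶ Y)

lemma hom_sum {A B : AddCommGrpCat.{u}} {ι : Type*} (s : Finset ι) (φ : ι → (A ⟶ B)) (a : A) :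
    (∑ i ∈ s, φ i).hom a = ∑ i ∈ s, (φ i).hom a := by
  classical
  induction s using Finset.induction_on with
  | empty => simp
  | insert i s hi ih =>
    rw [Finset.sum_insert hi, Finset.sum_insert hi, AddCommGrpCat.hom_add, AddMonoidHom.add_apply, ih]

lemma d_apply (n : ℕ) (a : X _⦋n + 1⦌) :
    ((AlternatingFaceMapComplex.obj X).d (n + 1) n).hom a =
      ∑ i : Fin (n + 2), (-1 : ℤ) ^ (i : ℕ) • (X.δ i).hom a := by
  rw [AlternatingFaceMapComplex.obj_d_eq, hom_sum]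
  refine Finset.sum_congr rfl fun i _ => ?_
  rw [AddCommGrpCat.hom_zsmul, AddMonoidHom.smul_apply]

/-- if all higher faces vanish, the alternating differential is `d₀` -/
lemma d_apply_of_faces (n : ℕ) (a : X _⦋n + 1⦌) (ha : ∀ j : Fin (n + 1), (X.δ j.succ).hom a = 0) :
    ((AlternatingFaceMapComplex.obj X).d (n + 1) n).hom a = (X.δ 0).hom a := by
  rw [d_apply, Fin.sum_univ_succ]
  simp only [Fin.val_zero, pow_zero, one_smul, ha, smul_zero, Finset.sum_const_zero, add_zero]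

lemma f_d (n : ℕ) (a : X _⦋n + 1⦌) :
    (f.app (op ⦋n⦌)).hom (((AlternatingFaceMapComplex.obj X).d (n + 1) n).hom a) =
      ((AlternatingFaceMapComplex.obj Y).d (n + 1) n).hom ((f.app (op ⦋n + 1⦌)).hom a) :=
  (ConcreteCategory.congr_hom ((AlternatingFaceMapComplex.map f).comm (n + 1) n) a).symm

lemma f_P (n : ℕ) (a : X _⦋n⦌) :
    (f.app (op ⦋n⦌)).hom ((PInfty.f n : X _⦋n⦌ ⟶ X _⦋n⦌).hom a) =
      (PInfty.f n : Y _⦋n⦌ ⟶ Y _⦋n⦌).hom ((f.app (op ⦋n⦌)).hom a) :=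
  (ConcreteCategory.congr_hom (PInfty_f_naturality n f) a).symm

lemma P_faces (n : ℕ) (a : X _⦋n + 1⦌) (j : Fin (n + 1)) :
    (X.δ j.succ).hom ((PInfty.f (n + 1) : X _⦋n + 1⦌ ⟶ X _⦋n + 1⦌).hom a) = 0 := by
  have h := HigherFacesVanish.of_P (X := X) (n + 1) n j (by omega)
  rw [← PInfty_f] at h
  exact ConcreteCategory.congr_hom h a

lemma d_P (n : ℕ) (a : X _⦋n + 1⦌) :
    ((AlternatingFaceMapComplex.obj X).d (n + 1) n).hom
        ((PInfty.f (n + 1) : X _⦋n + 1⦌ ⟶ X _⦋n + 1⦌).hom a) =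
      (PInfty.f n : X _⦋n⦌ ⟶ X _⦋n⦌).hom (((AlternatingFaceMapComplex.obj X).d (n + 1) n).hom a) :=
  ConcreteCategory.congr_hom ((PInfty : AlternatingFaceMapComplex.obj X ⟶ AlternatingFaceMapComplex.obj X).comm (n + 1) n) a

/-- an element all of whose higher faces vanish is fixed by `PInfty` -/
lemma P_eq_self (n : ℕ) (z : X _⦋n + 1⦌) (hz : ∀ j : Fin (n + 1), (X.δ j.succ).hom z = 0) :
    (PInfty.f (n + 1) : X _⦋n + 1⦌ ⟶ X _⦋n + 1⦌).hom z = z := by
  have hv : HigherFacesVanish (n + 1) (eltHom z) := by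
    intro j _
    rw [eltHom_comp, hz, eltHom_zero]
  have := hv.comp_P_eq_self
  rw [← PInfty_f, eltHom_comp] at this
  exact eltHom_injective this


/-- typed versions -/
def dA (X : SimplicialObject AddCommGrpCat.{u}) (n : ℕ) : X _⦋n + 1⦌ →+ X _⦋n⦌ :=
  ((AlternatingFaceMapComplex.obj X).d (n + 1) n).hom

def fA (n : ℕ) : X _⦋n⦌ →+ Y _⦋n⦌ := (f.app (op ⦋n⦌)).hom

noncomputable def PA (X : SimplicialObject AddCommGrpCat.{u}) (n : ℕ) : X _⦋n⦌ →+ X _⦋n⦌ :=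
  (PInfty.f n : X _⦋n⦌ ⟶ X _⦋n⦌).hom

lemma fA_dA (n : ℕ) (a : X _⦋n + 1⦌) : fA f n (dA X n a) = dA Y n (fA f (n + 1) a) := f_d f n a

lemma fA_PA (n : ℕ) (a : X _⦋n⦌) : fA f n (PA X n a) = PA Y n (fA f n a) := f_P f n a

lemma dA_dA (n : ℕ) (b : X _⦋n + 2⦌) : dA X n (dA X (n + 1) b) = 0 :=
  ConcreteCategory.congr_hom ((AlternatingFaceMapComplex.obj X).d_comp_d (n + 2) (n + 1) n) b

lemma dA_PA (n : ℕ) (a : X _⦋n + 1⦌) : dA X n (PA X (n + 1) a) = PA X n (dA X n a) := d_P n a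

lemma δ_PA (n : ℕ) (a : X _⦋n + 1⦌) (j : Fin (n + 1)) :
    (X.δ j.succ).hom (PA X (n + 1) a) = 0 := P_faces n a j

lemma dA_of_faces (n : ℕ) (a : X _⦋n + 1⦌) (ha : ∀ j : Fin (n + 1), (X.δ j.succ).hom a = 0) :
    dA X n a = (X.δ 0).hom a := d_apply_of_faces n a ha

theorem acycN (hf : ∀ n : SimplexCategoryᵒᵖ, Function.Surjective (f.app n))
    [hq : QuasiIso ((alternatingFaceMapComplex AddCommGrpCat.{u}).map f)] (n : ℕ) (z : X _⦋n⦌)
    (hz : ∀ k, ((AlternatingFaceMapComplex.obj X).d n k).hom z = 0)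
    (hzP : PA X n z = z)
    (hfz : fA f n z = 0) :
    ∃ v : X _⦋n + 1⦌, fA f (n + 1) v = 0 ∧ (X.δ 0).hom v = z ∧
      ∀ j : Fin (n + 1), (X.δ j.succ).hom v = 0 := by
  have hφ : QuasiIso (AlternatingFaceMapComplex.map f) := hq
  -- `z` is a boundary
  obtain ⟨a, ha⟩ : ∃ a : X _⦋n + 1⦌, dA X n a = z :=
    inj_elem (AlternatingFaceMapComplex.map f) (n + 1) n
      ((ComplexShape.down ℕ).next n) (by simp) rfl z (hz _) 0
      (by rw [map_zero]; exact hfz)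
  -- correct `a` to lie in the kernel of `f`
  have hfa : dA Y n (fA f (n + 1) a) = 0 := by
    rw [← fA_dA, ha, hfz]
  obtain ⟨c, b', hc, hcb⟩ : ∃ (c : X _⦋n + 1⦌) (b' : Y _⦋n + 2⦌), dA X n c = 0 ∧
      fA f (n + 1) a = fA f (n + 1) c + dA Y (n + 1) b' :=
    surj_elem (AlternatingFaceMapComplex.map f) (n + 2) (n + 1) n
      (by simp) (by simp) (fA f (n + 1) a) hfa
  obtain ⟨b, hb⟩ : ∃ b : X _⦋n + 2⦌, fA f (n + 2) b = b' := hf (op ⦋n + 2⦌) b'
  obtain ⟨a', ha'⟩ : ∃ a' : X _⦋n + 1⦌, a' = a - c - dA X (n + 1) b := ⟨_, rfl⟩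
  have hfa' : fA f (n + 1) a' = 0 := by
    rw [ha', map_sub, map_sub, fA_dA, hb, hcb]
    abel
  have hda' : dA X n a' = z := by
    rw [ha', map_sub, map_sub, ha, hc, dA_dA, sub_zero, sub_zero]
  refine ⟨PA X (n + 1) a', ?_, ?_, fun j => δ_PA n a' j⟩
  · rw [fA_PA, hfa', map_zero]
  · rw [← dA_of_faces n _ (fun j => δ_PA n a' j), dA_PA, hda', hzP]


lemma d_eq_zero_of_faces (m : ℕ) (z : X _⦋m + 1⦌) (hz : ∀ j : Fin (m + 2), (X.δ j).hom z = 0)
    (k : ℕ) : ((AlternatingFaceMapComplex.obj X).d (m + 1) k).hom z = 0 := by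
  by_cases hk : k = m
  · subst hk
    rw [d_apply]
    exact Finset.sum_eq_zero fun i _ => by rw [hz, smul_zero]
  · rw [(AlternatingFaceMapComplex.obj X).shape (m + 1) k (by
      change ¬ (k + 1 = m + 1); omega)]
    rfl

lemma d_zero_eq_zero (z : X _⦋0⦌) (k : ℕ) :
    ((AlternatingFaceMapComplex.obj X).d 0 k).hom z = 0 := by
  rw [(AlternatingFaceMapComplex.obj X).shape 0 k (by change ¬ (k + 1 = 0); omega)]
  rfl

/-- filling spheres: dimension `m + 2` -/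
theorem exists_sphere_lift (hf : ∀ n : SimplexCategoryᵒᵖ, Function.Surjective (f.app n))
    [hq : QuasiIso ((alternatingFaceMapComplex AddCommGrpCat.{u}).map f)]
    (m : ℕ) (x : Fin (m + 3) → X _⦋m + 1⦌)
    (hx : ∀ (j k : Fin (m + 3)) (hjk : j < k),
      (X.δ (k.pred (Fin.ne_zero_of_lt hjk))).hom (x j) =
        (X.δ (j.castPred (Fin.ne_last_of_lt hjk))).hom (x k))
    (y : Y _⦋m + 2⦌)
    (hy : ∀ (j : Fin (m + 3)), fA f (m + 1) (x j) = (Y.δ j).hom y) :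
    ∃ w : X _⦋m + 2⦌, (∀ (j : Fin (m + 3)), (X.δ j).hom w = x j) ∧ fA f (m + 2) w = y := by
  obtain ⟨w0, hw0⟩ : ∃ w0 : X _⦋m + 2⦌, fA f (m + 2) w0 = y := hf (op ⦋m + 2⦌) y
  have hdd : ∀ (j k : Fin (m + 3)) (hjk : j < k) (w : X _⦋m + 2⦌),
      (X.δ (k.pred (Fin.ne_zero_of_lt hjk))).hom ((X.δ j).hom w) =
        (X.δ (j.castPred (Fin.ne_last_of_lt hjk))).hom ((X.δ k).hom w) := by
    intro j k hjk w
    have h := X.δ_comp_δ (i := j.castPred (Fin.ne_last_of_lt hjk))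
      (j := k.pred (Fin.ne_zero_of_lt hjk)) (by
        have := Fin.lt_def.1 hjk
        rw [Fin.le_def, Fin.coe_castPred, Fin.val_pred]; omega)
    rw [Fin.succ_pred, Fin.castSucc_castPred] at h
    exact (ConcreteCategory.congr_hom h w).symm
  obtain ⟨x', hx'⟩ : ∃ x' : Fin (m + 3) → X _⦋m + 1⦌, x' = fun j => x j - (X.δ j).hom w0 :=
    ⟨_, rfl⟩
  have hx'N : ∀ j, x' j ∈ kerN f (m + 1) := by
    intro j
    rw [mem_kerN, hx']
    change fA f (m + 1) (x j - (X.δ j).hom w0) = 0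
    rw [map_sub, hy j]
    change _ - (f.app _).hom ((X.δ j).hom w0) = 0
    rw [f_δ]
    change _ - (Y.δ j).hom (fA f (m + 2) w0) = 0
    rw [hw0, sub_self]
  have hx'c : ∀ (j k : Fin (m + 3)) (hjk : j < k),
      (X.δ (k.pred (Fin.ne_zero_of_lt hjk))).hom (x' j) =
        (X.δ (j.castPred (Fin.ne_last_of_lt hjk))).hom (x' k) := by
    intro j k hjk
    rw [hx']
    simp only [map_sub]
    rw [hx j k hjk, hdd j k hjk w0]
  obtain ⟨u, huN, hu⟩ := exists_fill_ab X m (kerN f (m + 1)) (kerN f (m + 2))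
    (fun j w hw => kerN_δ f j w hw) (fun j w hw => kerN_σ f j w hw) 0
    (fun j _ => x' j) (fun j _ => hx'N j) (fun j k _ _ hjk => hx'c j k hjk)
  obtain ⟨z, hz⟩ : ∃ z : X _⦋m + 1⦌, z = x' 0 - (X.δ 0).hom u := ⟨_, rfl⟩
  have hzN : z ∈ kerN f (m + 1) := by
    rw [hz]
    exact (kerN f (m + 1)).sub_mem (hx'N 0) (kerN_δ f 0 u huN)
  have hzf : ∀ j : Fin (m + 2), (X.δ j).hom z = 0 := by
    intro j
    have h1 := hx'c 0 j.succ (Fin.succ_pos j)
    have h2 := hdd 0 j.succ (Fin.succ_pos j) u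
    simp only [Fin.pred_succ, Fin.castPred_zero] at h1 h2
    rw [hz, map_sub, h1, h2, hu j.succ (Fin.succ_ne_zero j), sub_self]
  obtain ⟨v, hv1, hv2, hv3⟩ := acycN f hf (m + 1) z (d_eq_zero_of_faces m z hzf)
    (P_eq_self m z (fun j => hzf j.succ)) ((mem_kerN f z).1 hzN)
  refine ⟨w0 + u + v, fun j => ?_, ?_⟩
  · have hx'j : ∀ j, x' j = x j - (X.δ j).hom w0 := fun j => by rw [hx']
    rcases Fin.eq_zero_or_eq_succ j with rfl | ⟨j, rfl⟩
    · rw [map_add, map_add, hv2, hz, hx'j]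
      abel
    · rw [map_add, map_add, hv3, hu j.succ (Fin.succ_ne_zero j), hx'j]
      abel
  · rw [map_add, map_add, hv1, hw0]
    have : fA f (m + 2) u = 0 := (mem_kerN f u).1 huN
    rw [this, add_zero, add_zero]


/-- filling spheres: dimension `1` -/
theorem exists_sphere_lift_zero (hf : ∀ n : SimplexCategoryᵒᵖ, Function.Surjective (f.app n))
    [hq : QuasiIso ((alternatingFaceMapComplex AddCommGrpCat.{u}).map f)]
    (x : Fin 2 → X _⦋0⦌) (y : Y _⦋0 + 1⦌)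
    (hy : ∀ (j : Fin 2), fA f 0 (x j) = (Y.δ j).hom y) :
    ∃ w : X _⦋0 + 1⦌, (∀ (j : Fin 2), (X.δ j).hom w = x j) ∧ fA f (0 + 1) w = y := by
  obtain ⟨w0, hw0⟩ : ∃ w0 : X _⦋0 + 1⦌, fA f (0 + 1) w0 = y := hf (op ⦋0 + 1⦌) y
  obtain ⟨x', hx'⟩ : ∃ x' : Fin 2 → X _⦋0⦌, x' = fun j => x j - (X.δ j).hom w0 :=
    ⟨_, rfl⟩
  have hx'j : ∀ j, x' j = x j - (X.δ j).hom w0 := fun j => by rw [hx']
  have hx'N : ∀ j, x' j ∈ kerN f 0 := by
    intro j
    rw [mem_kerN, hx'j]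
    change fA f 0 (x j - (X.δ j).hom w0) = 0
    rw [map_sub, hy j]
    change _ - (f.app _).hom ((X.δ j).hom w0) = 0
    rw [f_δ]
    change _ - (Y.δ j).hom (fA f (0 + 1) w0) = 0
    rw [hw0, sub_self]
  obtain ⟨u, huN, hu⟩ := exists_fill_zero_ab X (kerN f 0) (kerN f (0 + 1))
    (fun w hw => kerN_σ f _ w hw) 0 (fun j _ => x' j) (fun j _ => hx'N j)
  obtain ⟨z, hz⟩ : ∃ z : X _⦋0⦌, z = x' 0 - (X.δ 0).hom u := ⟨_, rfl⟩
  have hzN : z ∈ kerN f 0 := by
    rw [hz]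
    exact (kerN f 0).sub_mem (hx'N 0) (kerN_δ f 0 u huN)
  obtain ⟨v, hv1, hv2, hv3⟩ := acycN f hf 0 z (d_zero_eq_zero z) rfl ((mem_kerN f z).1 hzN)
  refine ⟨w0 + u + v, fun j => ?_, ?_⟩
  · rcases Fin.eq_zero_or_eq_succ j with rfl | ⟨j, rfl⟩
    · rw [map_add, map_add, hv2, hz, hx'j]
      abel
    · rw [map_add, map_add, hv3, hu j.succ (Fin.succ_ne_zero j), hx'j]
      abel
  · rw [map_add, map_add, hv1, hw0]
    have : fA f (0 + 1) u = 0 := (mem_kerN f u).1 huN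
    rw [this, add_zero]
    exact add_zero y

theorem trivFib_ab {S T : SimplicialObject AddCommGrpCat.{u}} (f : S ⟶ T)
    (hf : ∀ n : SimplexCategoryᵒᵖ, Function.Surjective (f.app n))
    (hq : QuasiIso ((alternatingFaceMapComplex AddCommGrpCat.{u}).map f)) :
    SSet.modelCategoryQuillen.I.rlp (X := S ⋙ forget AddCommGrpCat.{u})
      (Y := T ⋙ forget AddCommGrpCat.{u}) (Functor.whiskerRight f (forget AddCommGrpCat.{u})) := by
  intro A B ι hι
  obtain ⟨n⟩ := hι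
  refine ⟨fun {t b} sq => ?_⟩
  obtain _ | n := n
  · obtain ⟨w, hw⟩ : ∃ w : S _⦋0⦌, fA f 0 w = SSet.yonedaEquiv b := hf (op ⦋0⦌) _
    refine ⟨⟨{ l := SSet.yonedaEquiv.symm w, fac_left := SSet.boundary.hom_ext₀, fac_right := ?_ }⟩⟩
    rw [SSet.yonedaEquiv_symm_comp]
    apply SSet.yonedaEquiv.injective
    rw [Equiv.apply_symm_apply]
    exact hw
  · have hy : ∀ (j : Fin (n + 2)),
        fA f n (SSet.yonedaEquiv (SSet.boundary.ι j ≫ t)) =
          (T.δ j).hom (SSet.yonedaEquiv b) := by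
      intro j
      have h1 := congrArg SSet.yonedaEquiv (SSet.boundary.ι j ≫= sq.w)
      rw [SSet.boundary.ι_ι_assoc, SSet.stdSimplex.yonedaEquiv_δ_comp, ← Category.assoc,
        SSet.yonedaEquiv_comp] at h1
      exact h1
    have key : ∃ w : S _⦋n + 1⦌,
        (∀ (j : Fin (n + 2)), (S.δ j).hom w = SSet.yonedaEquiv (SSet.boundary.ι j ≫ t)) ∧
        fA f (n + 1) w = SSet.yonedaEquiv b := by
      obtain _ | m := n
      · exact exists_sphere_lift_zero f hf _ _ hy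
      · refine exists_sphere_lift f hf m _ ?_ _ hy
        intro j k hjk
        have h0 : SSet.stdSimplex.δ (k.pred (Fin.ne_zero_of_lt hjk)) ≫ SSet.boundary.ι j =
            SSet.stdSimplex.δ (j.castPred (Fin.ne_last_of_lt hjk)) ≫ SSet.boundary.ι k := by
          rw [← cancel_mono (SSet.boundary (m + 2)).ι, Category.assoc, Category.assoc,
            SSet.boundary.ι_ι, SSet.boundary.ι_ι]
          have h := SSet.stdSimplex.δ_comp_δ (i := j.castPred (Fin.ne_last_of_lt hjk))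
            (j := k.pred (Fin.ne_zero_of_lt hjk)) (by
              have := Fin.lt_def.1 hjk
              rw [Fin.le_def, Fin.coe_castPred, Fin.val_pred]; omega)
          rw [Fin.succ_pred, Fin.castSucc_castPred] at h
          exact h.symm
        have := congrArg SSet.yonedaEquiv (h0 =≫ t)
        rw [Category.assoc, Category.assoc, SSet.stdSimplex.yonedaEquiv_δ_comp,
          SSet.stdSimplex.yonedaEquiv_δ_comp] at this
        exact this
    obtain ⟨w, hw1, hw2⟩ := key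
    refine ⟨⟨{ l := SSet.yonedaEquiv.symm w, fac_left := SSet.boundary.hom_ext (fun j => ?_),
               fac_right := ?_ }⟩⟩
    · rw [SSet.boundary.ι_ι_assoc, SSet.stdSimplex.δ_comp_yonedaEquiv_symm]
      apply SSet.yonedaEquiv.injective
      rw [Equiv.apply_symm_apply]
      exact hw1 j
    · rw [SSet.yonedaEquiv_symm_comp]
      apply SSet.yonedaEquiv.injective
      rw [Equiv.apply_symm_apply]
      exact hw2

end Groth.Agent.Helper1.SGrpTriv
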