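import Groth.Agent.Helper1.SL1

set_option autoImplicit false
set_option linter.style.haveILetI false
set_option linter.unusedSectionVars false
set_option linter.unusedVariables false

/-!
# The seesaw locus of an invertible module is closed when the geometric fibres are integral
-/

namespace Groth.Agent.Helper1.SS

open CategoryTheory AlgebraicGeometry AlgebraicGeometry.Scheme.Modules TopologicalSpace Topology
open Groth.Agent.Helper1.UGC Groth.Agent.Helper4 Groth.Agent.Helper4.FinLocFree

universe u

/-- geometric integrality from integrality of the base changes to fields -/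
theorem geometricallyIntegral_of_forall {X S : Scheme.{u}} (f : X ⟶ S)
    (hgeo : ∀ (K : Type u) [Field K] (x : Spec (CommRingCat.of K) ⟶ S),
      IsIntegral (Limits.pullback f x)) : GeometricallyIntegral f := by
  refine ⟨fun K _ y Z fst snd h => ?_⟩
  haveI := hgeo K y
  haveI : Nonempty Z := ⟨h.isoPullback.inv (Classical.arbitrary _)⟩
  exact isIntegral_of_isOpenImmersion h.isoPullback.hom

set_option maxHeartbeats 1600000 in
/-- **the seesaw locus is closed when the geometric fibres are integral** -/
theorem isClosedImmersion_of_geometricallyIntegral {X S Z : Scheme.{u}} (f : X ⟶ S) [Flat f]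
    [IsProper f] [LocallyOfFinitePresentation f] [GeometricallyIntegral f]
    (E : X.Modules) (hE : PicF.IsInvertible E) (j : Z ⟶ S) [IsImmersion j]
    (hZ : ∀ (T : Scheme.{u}) (g : T ⟶ S), (∃ g' : T ⟶ Z, g' ≫ j = g) ↔
        ∃ N : T.Modules, FlatMod.IsFinLocFree N ∧
          Nonempty ((pullback (Limits.pullback.snd f g)).obj N ≅
            (pullback (Limits.pullback.fst f g)).obj E)) :
    IsClosedImmersion j := by
  obtain ⟨M, hM, -, ⟨b⟩⟩ := Groth.Agent.Lead.InvDual.exists_inverse E hE
  have hEf := Groth.Agent.Lead.Ref1K.isFinLocFree_of_isInvertible E hE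
  have hMf := Groth.Agent.Lead.Ref1K.isFinLocFree_of_isInvertible M hM
  obtain ⟨_, hEfp, hEfl⟩ := conditions_of_isFinLocFree f E hEf
  obtain ⟨_, hMfp, hMfl⟩ := conditions_of_isFinLocFree f M hMf
  have hrange : Set.range j = {s | Nontrivial (CohIII.fiberH f E s 0)} ∩
      {s | Nontrivial (CohIII.fiberH f M s 0)} := by
    ext s
    haveI : IsIntegral (f.fiber s) :=
      fiber_of_geometrically (GeometricallyIntegral.geometrically_isIntegral (f := f)) s
    haveI : Nontrivial Γ(f.fiber s, ⊤) :=
      (Groth.Agent.Helper1.Seesaw.isField_Γ_fiber f s).nontrivial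
    rw [mem_range_iff_exists_lift, hZ _ (S.fromSpecResidueField s)]
    have hEs : PicF.IsInvertible (CohIII.fiberMod f E s) :=
      Groth.Agent.Helper4.PullSec.isInvertible_pullback (f.fiberι s) hE
    constructor
    · rintro ⟨N, hN, ⟨e⟩⟩
      obtain ⟨n, ⟨e1⟩⟩ := exists_pullback_iso_free_of_field (S.residueField s)
        (f.fiberToSpecResidueField s) N hN
      obtain ⟨e₀⟩ := nonempty_iso_unit_of_iso_free (CohIII.fiberMod f E s) hEs n (e.symm ≪≫ e1)
      let by' : CohB1.tensorMod (CohIII.fiberMod f E s) (CohIII.fiberMod f M s) ≅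
          Coh.structureModule (f.fiber s) :=
        (Groth.Agent.Helper4.PullTensor.pullTensorIso (f.fiberι s) hE hM).symm ≪≫
          (Scheme.Modules.pullback (f.fiberι s)).mapIso b ≪≫
          Groth.Agent.Helper4.PullUnit.pullbackUnitIso (f.fiberι s)
      have e₁ : CohIII.fiberMod f M s ≅ Coh.structureModule (f.fiber s) :=
        (Groth.Agent.Lead.Ref1B.unitorL _).symm ≪≫
          (PicGrp.tensorModIso e₀ (Iso.refl _)).symm ≪≫ by'
      exact ⟨Groth.Agent.Helper1.SW.nontrivial_HH_zero_of_iso_unit _ e₀,
        Groth.Agent.Helper1.SW.nontrivial_HH_zero_of_iso_unit _ e₁⟩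
    · rintro ⟨n1, n2⟩
      obtain ⟨e₀⟩ := Groth.Agent.Helper1.SW.fiber_trivial_of_sections f E M hE b s n1 n2
      refine ⟨FlatMod.freeMod _ 1, ?_,
        ⟨Groth.Agent.Helper8.TildeBC.pullbackFreeIso (f.fiberToSpecResidueField s) 1 ≪≫
          Groth.Agent.Helper4.QAffSec.freeOneIso _ ≪≫ e₀.symm⟩⟩
      intro x
      obtain ⟨U, hx, hU⟩ := Groth.Agent.Helper4.SN.isFinLocFreeOfRank_freeMod
        (X := Spec (S.residueField s)) 1 x
      exact ⟨U, 1, hx, hU⟩
  apply IsClosedImmersion.of_isPreimmersion
  rw [hrange]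
  exact (isClosed_nontrivial_fiberH f E hEfp hEfl 0).inter
    (isClosed_nontrivial_fiberH f M hMfp hMfl 0)

end Groth.Agent.Helper1.SS
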