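import Mathlib
import Groth.Agent.Helper1.SP3

/-!
# Fibre products of relative spectra over the base
-/

set_option autoImplicit false
set_option linter.style.haveILetI false

namespace Groth.Agent.Helper1.SP

open CategoryTheory Limits AlgebraicGeometry TopologicalSpace Opposite RelSpec
  Groth.Agent.Helper1.LP

universe u

noncomputable section

variable {S : Scheme.{u}} {A AE AF : QCAlg S} (ψE : AE ⟶ A) (ψF : AF ⟶ A)

theorem specMap_comm : QCAlg.specMap ψE ≫ AE.π = QCAlg.specMap ψF ≫ AF.π := by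
  rw [QCAlg.specMap_π, QCAlg.specMap_π]

/-- the chart of `Spec A` as an isomorphism onto the preimage of the preimage -/
def chartIso' (U : S.Opens) (hU : IsAffineOpen U) :
    Spec (A.presheaf.obj (op U)) ≅ (QCAlg.specMap ψF ⁻¹ᵁ (AF.π ⁻¹ᵁ U) : A.spec.Opens) :=
  IsOpenImmersion.isoOfRangeEq (A.ι U hU) (QCAlg.specMap ψF ⁻¹ᵁ (AF.π ⁻¹ᵁ U)).ι (by
    rw [Scheme.Opens.range_ι, specMap_preimage, A.π_preimage U hU]; rfl)

@[reassoc]
theorem chartIso'_hom_ι (U : S.Opens) (hU : IsAffineOpen U) :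
    (chartIso' ψF U hU).hom ≫ (QCAlg.specMap ψF ⁻¹ᵁ (AF.π ⁻¹ᵁ U)).ι = A.ι U hU :=
  IsOpenImmersion.isoOfRangeEq_hom_fac _ _ _

theorem isPullback_specMap_local
    (hpo : ∀ (U : S.Opens) (_ : IsAffineOpen U), IsPushout (AE.str.app (op U)) (AF.str.app (op U))
      (ψE.hom.app (op U)) (ψF.hom.app (op U))) (U : S.Opens) (hU : IsAffineOpen U) :
    IsPullback ((QCAlg.specMap ψE).resLE (AE.π ⁻¹ᵁ U) (QCAlg.specMap ψF ⁻¹ᵁ (AF.π ⁻¹ᵁ U))
        (le_h_preimage (specMap_comm ψE ψF) U (AF.π ⁻¹ᵁ U) le_rfl))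
      (QCAlg.specMap ψF ∣_ (AF.π ⁻¹ᵁ U)) (AE.π ∣_ U) (AF.π.resLE U (AF.π ⁻¹ᵁ U) le_rfl) := by
  have H0 := isPullback_SpecMap_of_isPushout _ _ _ _ (hpo U hU)
  refine H0.of_iso (chartIso' ψF U hU) (chartIso AE U hU) (chartIso AF U hU) hU.isoSpec.symm
    ?_ ?_ ?_ ?_
  · rw [← cancel_mono (AE.π ⁻¹ᵁ U).ι, Category.assoc, Category.assoc, chartIso_hom_ι,
      Scheme.Hom.resLE_comp_ι, chartIso'_hom_ι_assoc]
    exact (QCAlg.ι_specMap U hU ψE).symm
  · rw [← cancel_mono (AF.π ⁻¹ᵁ U).ι, Category.assoc, Category.assoc, chartIso_hom_ι,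
      morphismRestrict_ι, chartIso'_hom_ι_assoc]
    exact (QCAlg.ι_specMap U hU ψF).symm
  · rw [← cancel_mono U.ι, Category.assoc, Category.assoc, morphismRestrict_ι,
      chartIso_hom_ι_assoc, Iso.symm_hom, hU.isoSpec_inv_ι, AE.ι_π]
  · rw [← cancel_mono U.ι, Category.assoc, Category.assoc, Scheme.Hom.resLE_comp_ι,
      chartIso_hom_ι_assoc, Iso.symm_hom, hU.isoSpec_inv_ι, AF.ι_π]

/-- fibre products of relative spectra: if `A(U)` is the pushout of `AE(U)` and `AF(U)` over the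
functions for every affine open `U`, then `Spec A = Spec AE ×_S Spec AF` -/
theorem isPullback_specMap
    (hpo : ∀ (U : S.Opens) (_ : IsAffineOpen U), IsPushout (AE.str.app (op U)) (AF.str.app (op U))
      (ψE.hom.app (op U)) (ψF.hom.app (op U))) :
    IsPullback (QCAlg.specMap ψE) (QCAlg.specMap ψF) AE.π AF.π := by
  refine isPullback_of_local _ _ _ _ (specMap_comm ψE ψF)
    (fun U : S.affineOpens => (U : S.Opens)) (fun U => AF.π ⁻¹ᵁ (U : S.Opens)) (fun U => le_rfl) ?_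
    (fun U => isPullback_specMap_local ψE ψF hpo U.1 U.2)
  rw [← Scheme.Hom.preimage_iSup, iSup_affineOpens_eq_top, Scheme.Hom.preimage_top]

end

end Groth.Agent.Helper1.SP
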