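import Groth.Agent.Helper1.SS9
import Groth.Agent.Lead.H0GeomC

set_option autoImplicit false
set_option linter.style.haveILetI false
set_option linter.unusedSectionVars false
set_option linter.unusedVariables false

/-!
# The rank pieces of the locus, and the decomposition of the base by the rank on the fibres
-/

namespace Groth.Agent.Helper1.SS

open CategoryTheory AlgebraicGeometry AlgebraicGeometry.Scheme.Modules TopologicalSpace
open Groth.Agent.Helper1.UGC Groth.Agent.Helper4 Groth.Agent.Helper4.FinLocFree

universe u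

section Transport

variable {X S : Scheme.{u}} (f : X ⟶ S)

theorem isIso_counit_of_iso {F F' : X.Modules} (e : F ≅ F')
    [h : IsIso ((pullbackPushforwardAdjunction f).counit.app F)] :
    IsIso ((pullbackPushforwardAdjunction f).counit.app F') := by
  have h1 := (pullbackPushforwardAdjunction f).counit.naturality e.hom
  simp only [Functor.comp_map, Functor.id_map] at h1
  have h2 : (pullbackPushforwardAdjunction f).counit.app F' =
      (pullback f).map ((pushforward f).map e.inv) ≫
        (pullbackPushforwardAdjunction f).counit.app F ≫ e.hom := by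
    rw [← h1, ← Category.assoc, ← Functor.map_comp, ← Functor.map_comp, Iso.inv_hom_id,
      CategoryTheory.Functor.map_id, CategoryTheory.Functor.map_id, Category.id_comp]
  rw [h2]
  infer_instance

end Transport

variable {X S : Scheme.{u}} (f : X ⟶ S) [IsProper f]

/-- the loci of the base of different ranks are disjoint, as soon as the fibres are nonempty -/
theorem baseRank_disjoint (E : X.Modules) [E.IsQuasicoherent] {r r' : ℕ} {s : S}
    (hne : ∃ x : X, f x = s) (h : s ∈ baseRank f E r) (h' : s ∈ baseRank f E r') : r = r' := by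
  obtain ⟨x, hx⟩ := hne
  exact rank_eq_of_mem_rankOpen E ((mem_baseRank_iff f E r s).mp h x hx)
    ((mem_baseRank_iff f E r' s).mp h' x hx)

/-- the fibres are nonempty when they have nonzero global functions -/
theorem exists_mem_fiber (h : ∀ s : S, IsIso (f.fiberToSpecResidueField s).appTop) (s : S) :
    ∃ x : X, f x = s := by
  have hbij : Function.Bijective ((f.fiberToSpecResidueField s).app ⊤).hom :=
    (ConcreteCategory.isIso_iff_bijective _).mp (h s)
  haveI : Nontrivial Γ(Spec (S.residueField s), ⊤) :=
    ((Scheme.ΓSpecIso (S.residueField s)).commRingCatIsoToRingEquiv.toMulEquiv.isField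
      (Field.toIsField (S.residueField s))).nontrivial
  haveI : Nontrivial Γ(f.fiber s, ⊤) := hbij.injective.nontrivial
  by_contra hne
  push Not at hne
  haveI : IsEmpty (f.fiber s) := by
    refine ⟨fun x' => hne (f.fiberι s x') ?_⟩
    have : f.fiberι s x' ∈ Set.range (f.fiberι s) := ⟨x', rfl⟩
    rw [Scheme.Hom.range_fiberι] at this
    exact this
  exact not_subsingleton Γ(f.fiber s, ⊤) inferInstance

/-- **the loci of the base by the rank on the fibres cover the base** -/
theorem exists_mem_baseRank (h : ∀ s : S, IsIso (f.fiberToSpecResidueField s).appTop)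
    (E : X.Modules) (hE : FlatMod.IsFinLocFree E) (s : S) : ∃ r, s ∈ baseRank f E r := by
  haveI : E.IsQuasicoherent := FinLocFree4.isQuasicoherent_of_isFinLocFree E hE
  have hbij : Function.Bijective ((f.fiberToSpecResidueField s).app ⊤).hom :=
    (ConcreteCategory.isIso_iff_bijective _).mp (h s)
  have hfield0 : IsField Γ(Spec (S.residueField s), ⊤) :=
    (Scheme.ΓSpecIso (S.residueField s)).commRingCatIsoToRingEquiv.toMulEquiv.isField
      (Field.toIsField (S.residueField s))
  have hfield : IsField (Γ(f.fiber s, ⊤) : Type u) :=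
    (RingEquiv.ofBijective _ hbij).symm.toMulEquiv.isField hfield0
  haveI : PreconnectedSpace (f.fiber s) := by
    apply Groth.Agent.Lead.H0Geom.preconnectedSpace_of_idem
    intro e he
    letI := hfield.toField
    exact IsIdempotentElem.iff_eq_zero_or_one.mp he
  obtain ⟨x₀, hx₀⟩ := exists_mem_fiber f h s
  have hx₀' : x₀ ∈ Set.range (f.fiberι s) := by
    rw [Scheme.Hom.range_fiberι]
    exact hx₀
  obtain ⟨y₀, hy₀⟩ := hx₀'
  set Es := (pullback (f.fiberι s)).obj E with hEs
  have hEs' : FlatMod.IsFinLocFree Es := Groth.Agent.Lead.LocLift.isFinLocFree_pullback _ hE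
  haveI : Es.IsQuasicoherent := FinLocFree4.isQuasicoherent_of_isFinLocFree Es hEs'
  obtain ⟨r, hr⟩ := exists_mem_rankOpen Es hEs' y₀
  have hclopen : IsClopen (rankOpen Es r : Set (f.fiber s)) :=
    ⟨isClosed_rankOpen Es hEs' r, (rankOpen Es r).isOpen⟩
  have huniv : (rankOpen Es r : Set (f.fiber s)) = Set.univ := hclopen.eq_univ ⟨y₀, hr⟩
  refine ⟨r, (mem_baseRank_iff f E r s).mpr ?_⟩
  intro x hx
  have hx' : x ∈ Set.range (f.fiberι s) := by
    rw [Scheme.Hom.range_fiberι]
    exact hx
  obtain ⟨y, rfl⟩ := hx'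
  obtain ⟨n, hn⟩ := exists_mem_rankOpen E hE (f.fiberι s y)
  have h1 : y ∈ rankOpen Es n := mem_rankOpen_pullback _ E n y hn
  have h2 : y ∈ rankOpen Es r := by
    have : y ∈ (rankOpen Es r : Set (f.fiber s)) := by rw [huniv]; trivial
    exact this
  have := rank_eq_of_mem_rankOpen Es h1 h2
  subst this
  exact hn

variable [Flat f] [LocallyOfFinitePresentation f]

/-- a rank piece of the locus -/
structure RankPiece (E : X.Modules) (r : ℕ) where
  /-- the scheme -/
  Z : Scheme.{u}
  /-- the immersion -/
  j : Z ⟶ S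
  imm : IsImmersion j
  lfp : LocallyOfFinitePresentation j
  range_le : ∀ z : Z, j z ∈ baseRank f E r
  up : ∀ {Y T : Scheme.{u}} (g : T ⟶ S) (p : Y ⟶ T) (v : Y ⟶ X) (_ : IsPullback v p f g),
    (∃ u : T ⟶ Z, u ≫ j = g) ↔
      ∃ N : T.Modules, FlatMod.IsFinLocFreeOfRank r N ∧
        Nonempty ((pullback v).obj E ≅ (pullback p).obj N)

theorem nonempty_rankPiece (h : ∀ s : S, IsIso (f.fiberToSpecResidueField s).appTop)
    (E : X.Modules) (hE : FlatMod.IsFinLocFree E) (r : ℕ) : Nonempty (RankPiece f E r) := by
  obtain ⟨Z₁, ι₁, W, himm, hlfp, hqc, hW, hUP⟩ := exists_rank_immersion f h E hE r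
  haveI := himm
  haveI := hlfp
  refine ⟨⟨W, W.ι ≫ ι₁, inferInstance, inferInstance, ?_, hUP⟩⟩
  intro z
  have h1 : (z.1 : Z₁) ∈ (W : Set Z₁) := z.2
  rw [hW] at h1
  exact h1.2

end Groth.Agent.Helper1.SS
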