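import Groth.Agent.Helper1.SS10

set_option autoImplicit false
set_option linter.style.haveILetI false
set_option linter.unusedSectionVars false
set_option linter.unusedVariables false

/-!
# Assembling the rank pieces
-/

namespace Groth.Agent.Helper1.SS

open CategoryTheory AlgebraicGeometry AlgebraicGeometry.Scheme.Modules TopologicalSpace
open Groth.Agent.Helper1.UGC Groth.Agent.Helper4 Groth.Agent.Helper4.FinLocFree

universe u

variable {X S : Scheme.{u}} (f : X ⟶ S) [IsProper f] [Flat f] [LocallyOfFinitePresentation f]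
  (h : ∀ s : S, IsIso (f.fiberToSpecResidueField s).appTop)
  (E : X.Modules) (hE : FlatMod.IsFinLocFree E) (P : ∀ r : ℕ, RankPiece f E r)

include h hE in
/-- the comparison of the restriction of the coproduct over a rank locus with the piece -/
theorem exists_iso_piece (r : ℕ) :
    ∃ k : (P r).Z ⟶ ((Limits.Sigma.desc (fun r => (P r).j) ⁻¹ᵁ baseRank f E r : Opens _) :
        Scheme.{u}),
      IsIso k ∧ (k ≫ (Limits.Sigma.desc (fun r => (P r).j) ∣_ baseRank f E r)) ≫
        (baseRank f E r).ι = (P r).j := by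
  haveI : E.IsQuasicoherent := FinLocFree4.isQuasicoherent_of_isFinLocFree E hE
  set Zf := fun r => (P r).Z with hZf
  set j := Limits.Sigma.desc (fun r => (P r).j) with hj
  have hι : ∀ r, Limits.Sigma.ι Zf r ≫ j = (P r).j := fun r => Limits.Sigma.ι_desc _ _
  set V := baseRank f E r with hV
  have hrange : Set.range (Limits.Sigma.ι Zf r) ⊆ Set.range (j ⁻¹ᵁ V).ι := by
    rintro _ ⟨z, rfl⟩
    rw [Scheme.Opens.range_ι]
    show j (Limits.Sigma.ι Zf r z) ∈ V
    rw [← Scheme.Hom.comp_apply, hι]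
    exact (P r).range_le z
  let k := IsOpenImmersion.lift (j ⁻¹ᵁ V).ι (Limits.Sigma.ι Zf r) hrange
  have hk : k ≫ (j ⁻¹ᵁ V).ι = Limits.Sigma.ι Zf r := IsOpenImmersion.lift_fac _ _ _
  haveI : IsOpenImmersion (k ≫ (j ⁻¹ᵁ V).ι) := by rw [hk]; infer_instance
  haveI : IsOpenImmersion k := IsOpenImmersion.of_comp k (j ⁻¹ᵁ V).ι
  have hsurj : Function.Surjective k := by
    intro x
    obtain ⟨r', z, hz⟩ := (sigmaOpenCover Zf).exists_eq x.1
    have hz' : Limits.Sigma.ι Zf r' z = x.1 := hz
    have h1 : j x.1 ∈ V := x.2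
    have h2 : j x.1 ∈ baseRank f E r' := by
      rw [← hz', ← Scheme.Hom.comp_apply, hι]
      exact (P r').range_le z
    have hrr : r = r' := baseRank_disjoint f E (exists_mem_fiber f h _) h1 h2
    subst hrr
    refine ⟨z, ?_⟩
    apply (j ⁻¹ᵁ V).ι.isOpenEmbedding.injective
    rw [← Scheme.Hom.comp_apply, hk, hz']
    rfl
  haveI : Epi k.base := (TopCat.epi_iff_surjective _).mpr hsurj
  refine ⟨k, IsOpenImmersion.isIso k, ?_⟩
  rw [Category.assoc, morphismRestrict_ι, ← Category.assoc, hk, hι]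

include h hE in
set_option maxHeartbeats 1600000 in
/-- **assembling the rank pieces** -/
theorem assemble :
    ∃ (Z : Scheme.{u}) (j : Z ⟶ S), IsImmersion j ∧ LocallyOfFinitePresentation j ∧
      ((∀ r, QuasiCompact (P r).j) → QuasiCompact j) ∧
      ∀ {Y T : Scheme.{u}} (g : T ⟶ S) (p : Y ⟶ T) (v : Y ⟶ X) (_ : IsPullback v p f g),
        (∃ u : T ⟶ Z, u ≫ j = g) ↔
          ∃ N : T.Modules, FlatMod.IsFinLocFree N ∧
            Nonempty ((pullback v).obj E ≅ (pullback p).obj N) := by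
  haveI : E.IsQuasicoherent := FinLocFree4.isQuasicoherent_of_isFinLocFree E hE
  set Zf := fun r => (P r).Z with hZf
  set j := Limits.Sigma.desc (fun r => (P r).j) with hj
  have hι : ∀ r, Limits.Sigma.ι Zf r ≫ j = (P r).j := fun r => Limits.Sigma.ι_desc _ _
  have hVtop : ⨆ r, baseRank f E r = ⊤ := by
    rw [eq_top_iff]
    intro s _
    obtain ⟨r, hr⟩ := exists_mem_baseRank f h E hE s
    exact Opens.mem_iSup.mpr ⟨r, hr⟩
  have himm : IsImmersion j := by
    apply IsZariskiLocalAtTarget.of_iSup_eq_top (P := @IsImmersion) _ hVtop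
    intro r
    obtain ⟨k, hkiso, hk⟩ := exists_iso_piece f h E hE P r
    haveI := hkiso
    haveI : IsImmersion ((k ≫ (j ∣_ baseRank f E r)) ≫ (baseRank f E r).ι) := by
      rw [hk]
      exact (P r).imm
    haveI := IsImmersion.of_comp (k ≫ (j ∣_ baseRank f E r)) (baseRank f E r).ι
    exact (MorphismProperty.cancel_left_of_respectsIso @IsImmersion k _).mp inferInstance
  have hlfp : LocallyOfFinitePresentation j :=
    IsZariskiLocalAtSource.sigmaDesc (fun r => (P r).lfp)
  refine ⟨∐ Zf, j, himm, hlfp, ?_, ?_⟩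
  · intro hqc
    apply IsZariskiLocalAtTarget.of_iSup_eq_top (P := @QuasiCompact) _ hVtop
    intro r
    obtain ⟨k, hkiso, hk⟩ := exists_iso_piece f h E hE P r
    haveI := hkiso
    haveI : QuasiCompact ((k ≫ (j ∣_ baseRank f E r)) ≫ (baseRank f E r).ι) := by
      rw [hk]
      exact hqc r
    haveI := QuasiCompact.of_comp (k ≫ (j ∣_ baseRank f E r)) (baseRank f E r).ι
    exact (MorphismProperty.cancel_left_of_respectsIso @QuasiCompact k _).mp inferInstance
  · intro Y T g p v hsq
    set F := (pullback v).obj E with hF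
    have hFlf : FlatMod.IsFinLocFree F := Groth.Agent.Lead.LocLift.isFinLocFree_pullback v hE
    constructor
    · rintro ⟨u, hu⟩
      let U : ℕ → T.Opens := fun r => u ⁻¹ᵁ (Limits.Sigma.ι Zf r).opensRange
      have hUcov : IsOpenCover U := by
        rw [IsOpenCover, eq_top_iff]
        intro t _
        obtain ⟨r, z, hz⟩ := (sigmaOpenCover Zf).exists_eq (u t)
        exact Opens.mem_iSup.mpr ⟨r, ⟨z, hz⟩⟩
      have hloc := desc_of_local p F U hUcov (fun r => by
        have hrange : Set.range ((U r).ι ≫ u) ⊆ Set.range (Limits.Sigma.ι Zf r) := by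
          rintro _ ⟨t, rfl⟩
          exact t.2
        let ur := IsOpenImmersion.lift (Limits.Sigma.ι Zf r) ((U r).ι ≫ u) hrange
        have hur : ur ≫ Limits.Sigma.ι Zf r = (U r).ι ≫ u := IsOpenImmersion.lift_fac _ _ _
        have hur' : ur ≫ (P r).j = (U r).ι ≫ g := by
          rw [← hι, ← Category.assoc, hur, Category.assoc, hu]
        have hsq' := isPullback_restrict f hsq (U r)
        obtain ⟨N, hN, ⟨θ⟩⟩ := ((P r).up _ _ _ hsq').mp ⟨ur, hur'⟩
        obtain ⟨h1, h2⟩ := desc_consequences f h E hE hsq' r N hN θ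
        let e : (pullback ((p ⁻¹ᵁ U r).ι ≫ v)).obj E ≅ (pullback (p ⁻¹ᵁ U r).ι).obj F :=
          ((pullbackComp (p ⁻¹ᵁ U r).ι v).app E).symm
        haveI := h2
        exact ⟨FinLocFree2.isFinLocFree_of_iso ((pushforward (p ∣_ U r)).mapIso e)
          (isFinLocFree_of_rank h1), isIso_counit_of_iso (p ∣_ U r) e⟩)
      haveI := hloc.2
      exact ⟨_, hloc.1, ⟨(asIso ((pullbackPushforwardAdjunction p).counit.app F)).symm⟩⟩
    · rintro ⟨N, hN, ⟨θ⟩⟩
      haveI := himm
      let U : ℕ → T.Opens := fun r => rankOpen N r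
      have hUcov : IsOpenCover U := by
        rw [IsOpenCover, eq_top_iff]
        intro t _
        obtain ⟨r, hr⟩ := exists_mem_rankOpen N hN t
        exact Opens.mem_iSup.mpr ⟨r, hr⟩
      apply exists_lift_of_cover j g U hUcov
      intro r
      have hsq' := isPullback_restrict f hsq (U r)
      have hNr : FlatMod.IsFinLocFreeOfRank r ((pullback (U r).ι).obj N) := by
        intro x
        obtain ⟨U', hx, hU'⟩ := (mem_rankOpen_iff N r x.1).mp x.2
        exact ⟨(U r).ι ⁻¹ᵁ U', hx,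
          Groth.Agent.Helper2.FinLocFreeLim.isFreeAlong_pullback (U r).ι hU'⟩
      let θr : (pullback ((p ⁻¹ᵁ U r).ι ≫ v)).obj E ≅
          (pullback (p ∣_ U r)).obj ((pullback (U r).ι).obj N) :=
        ((pullbackComp (p ⁻¹ᵁ U r).ι v).app E).symm ≪≫ (pullback (p ⁻¹ᵁ U r).ι).mapIso θ ≪≫
          (pullbackComp (p ⁻¹ᵁ U r).ι p).app N ≪≫
          (pullbackCongr (morphismRestrict_ι p (U r)).symm).app N ≪≫
          ((pullbackComp (p ∣_ U r) (U r).ι).app N).symm
      obtain ⟨ur, hur⟩ := ((P r).up _ _ _ hsq').mpr ⟨_, hNr, ⟨θr⟩⟩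
      exact ⟨ur ≫ Limits.Sigma.ι Zf r, by rw [Category.assoc, hι, hur]⟩

end Groth.Agent.Helper1.SS
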