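import Mathlib

set_option autoImplicit false
set_option linter.style.haveILetI false
set_option linter.unusedSectionVars false
set_option linter.unusedVariables false

/-!
# Constructible subsets of spectral spaces are quasi-compact
-/

namespace Groth.Agent.Helper1.SS

open Topology TopologicalSpace Set

variable {X : Type*} [TopologicalSpace X]

/-- the constructible topology is finer than the original one on a prespectral space -/
theorem isOpen_constructibleTopology_of_isOpen [PrespectralSpace X] {s : Set X} (hs : IsOpen s) :
    IsOpen[constructibleTopology X] s := by
  have hb := PrespectralSpace.isTopologicalBasis (X := X)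
  rw [hb.open_eq_sUnion' hs]
  refine @isOpen_sUnion X (constructibleTopology X) _ ?_
  rintro t ⟨ht, -⟩
  exact ht.2.isOpen_constructibleTopology_of_isOpen ht.1

/-- constructible sets are clopen in the constructible topology -/
theorem isClopen_constructibleTopology_of_isConstructible [CompactSpace X] {s : Set X}
    (hs : IsConstructible s) :
    IsOpen[constructibleTopology X] s ∧ IsOpen[constructibleTopology X] sᶜ := by
  induction hs using IsConstructible.empty_union_induction with
  | open_retrocompact U hUopen hUcomp =>
    have hc : IsCompact U := by
      have := hUcomp isCompact_univ isOpen_univ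
      simpa using this
    refine ⟨hc.isOpen_constructibleTopology_of_isOpen hUopen, ?_⟩
    apply IsCompact.isOpen_constructibleTopology_of_isClosed
    · rw [compl_compl]; exact hc
    · exact hUopen.isClosed_compl
  | union s hs t ht hs' ht' =>
    refine ⟨@IsOpen.union X s t (constructibleTopology X) hs'.1 ht'.1, ?_⟩
    rw [compl_union]
    exact @IsOpen.inter X (constructibleTopology X) sᶜ tᶜ hs'.2 ht'.2
  | compl s hs hs' =>
    refine ⟨hs'.2, ?_⟩
    rw [compl_compl]
    exact hs'.1

/-- **constructible subsets of a spectral space are quasi-compact** -/
theorem isCompact_of_isConstructible [CompactSpace X] [QuasiSober X] [PrespectralSpace X]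
    [QuasiSeparatedSpace X] {s : Set X} (hs : IsConstructible s) : IsCompact s := by
  obtain ⟨-, h2⟩ := isClopen_constructibleTopology_of_isConstructible hs
  let φ : WithConstructibleTopology X → X := WithTopology.ofTopology
  have hφ : Continuous φ := by
    rw [continuous_def]
    intro t ht
    rw [WithConstructibleTopology.isOpen_iff]
    exact isOpen_constructibleTopology_of_isOpen ht
  have hcl : IsClosed (φ ⁻¹' s) := by
    rw [WithConstructibleTopology.isClosed_iff]
    exact (@isOpen_compl_iff X s (constructibleTopology X)).mp h2
  have hc : IsCompact (φ ⁻¹' s) := hcl.isCompact
  have := hc.image hφ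
  rwa [Set.image_preimage_eq _ (WithTopology.ofTopology_surjective _)] at this

end Groth.Agent.Helper1.SS
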