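import Groth.Agent.Helper1.SS12
import Groth.Agent.Helper7.Fitt10
import Groth.Agent.Helper7.Fitt8
import Groth.Agent.Helper4.SuppDict
import Groth.Agent.Helper4.FPGlue
import Groth.Agent.Helper1.SuppDimSch

set_option autoImplicit false
set_option linter.style.haveILetI false
set_option linter.unusedSectionVars false
set_option linter.unusedVariables false

/-!
# The support of a finitely presented module is locally constructible; images under proper
morphisms of finite presentation have retrocompact complements
-/

namespace Groth.Agent.Helper1.SS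

open CategoryTheory AlgebraicGeometry TopologicalSpace Topology Set.Notation

universe u

section Ring

open Groth.Agent.Helper7.FittLib

/-- the complement of the support of a finitely presented module is quasi-compact -/
theorem isCompact_compl_support {R : Type u} [CommRing R] (M : Type u) [AddCommGroup M]
    [Module R M] [Module.FinitePresentation R M] :
    IsCompact ((Module.support R M)ᶜ : Set (PrimeSpectrum R)) := by
  haveI : Module.Finite R M := inferInstance
  have h1 : ((Module.support R M)ᶜ : Set (PrimeSpectrum R)) =
      (PrimeSpectrum.zeroLocus (Fitt.ideal R M 0 : Set R))ᶜ := by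
    ext p
    simp only [Set.mem_compl_iff, PrimeSpectrum.mem_zeroLocus, SetLike.coe_subset_coe]
    rw [Module.notMem_support_iff, (fitt_not_le_iff M 0 p.asIdeal).2.1]
    constructor
    · intro hsub
      refine ⟨Fin.elim0, ?_⟩
      rw [eq_top_iff]
      intro x _
      rw [Subsingleton.elim x 0]
      exact Submodule.zero_mem _
    · rintro ⟨g, hg⟩
      have : Set.range g = ∅ := Set.range_eq_empty g
      rw [this, Submodule.span_empty] at hg
      refine ⟨fun a b => ?_⟩
      have ha : a ∈ (⊥ : Submodule (Localization.AtPrime p.asIdeal)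
          (LocalizedModule p.asIdeal.primeCompl M)) := by rw [hg]; trivial
      have hb : b ∈ (⊥ : Submodule (Localization.AtPrime p.asIdeal)
          (LocalizedModule p.asIdeal.primeCompl M)) := by rw [hg]; trivial
      rw [Submodule.mem_bot] at ha hb
      rw [ha, hb]
  rw [h1]
  exact (PrimeSpectrum.isCompact_isOpen_iff_ideal.mpr ⟨_, fitt_fg (R := R) (M := M) 0, rfl⟩).1

end Ring

variable {X : Scheme.{u}}

/-- the complement of the support of a finitely presented module meets affine opens in
quasi-compact sets -/
theorem isCompact_inter_compl_support (Q : X.Modules) [Q.IsQuasicoherent] (hQ : CohB1.IsFP Q)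
    (V : X.Opens) (hV : IsAffineOpen V) :
    IsCompact ((V : Set X) ∩ (CohB1.support Q)ᶜ) := by
  haveI := Groth.Agent.Helper4.FPGlue.fp_sections Q hQ hV
  have h1 := isCompact_compl_support (R := Γ(X, V)) Γ(Q, V)
  have h2 : (V : Set X) ∩ (CohB1.support Q)ᶜ =
      hV.fromSpec '' ((Module.support Γ(X, V) Γ(Q, V))ᶜ) := by
    ext x
    constructor
    · rintro ⟨hxV, hx⟩
      refine ⟨hV.primeIdealOf ⟨x, hxV⟩, ?_, hV.fromSpec_primeIdealOf ⟨x, hxV⟩⟩
      intro hmem
      exact hx ((Groth.Agent.Helper4.SuppDict.mem_support_iff hV Q x hxV).mp hmem)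
    · rintro ⟨P, hP, rfl⟩
      have hmem := Groth.Agent.Helper1.SuppDimSch.fromSpec_mem hV P
      refine ⟨hmem, fun hx => hP ?_⟩
      have := (Groth.Agent.Helper4.SuppDict.mem_support_iff hV Q _ hmem).mpr hx
      rwa [Groth.Agent.Helper1.SuppDimSch.primeIdealOf_fromSpec] at this
  rw [h2]
  exact h1.image hV.fromSpec.continuous

/-- **the support of a finitely presented quasi-coherent module is locally constructible** -/
theorem isLocallyConstructible_support (Q : X.Modules) [Q.IsQuasicoherent] (hQ : CohB1.IsFP Q)
    (hcl : IsClosed (CohB1.support Q)) : IsLocallyConstructible (CohB1.support Q) := by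
  intro x
  obtain ⟨V, hV, hxV, -⟩ := exists_isAffineOpen_mem_and_subset (x := x)
    (U := (⊤ : X.Opens)) trivial
  refine ⟨V, V.isOpen.mem_nhds hxV, V.isOpen, ?_⟩
  haveI : CompactSpace (V : Set X) := isCompact_iff_compactSpace.mp hV.isCompact
  have hc := isCompact_inter_compl_support Q hQ V hV
  have hopen : IsOpen ((V : Set X) ↓∩ (CohB1.support Q)ᶜ) :=
    hcl.isOpen_compl.preimage continuous_subtype_val
  have hcomp : IsCompact ((V : Set X) ↓∩ (CohB1.support Q)ᶜ) := by
    rw [Topology.IsEmbedding.subtypeVal.isCompact_iff, Subtype.image_preimage_coe]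
    exact hc
  haveI : QuasiSeparatedSpace (V : Set X) :=
    (isQuasiSeparated_iff_quasiSeparatedSpace _ V.isOpen).mp hV.isQuasiSeparated
  have h3 : IsConstructible ((V : Set X) ↓∩ (CohB1.support Q)ᶜ) := hcomp.isConstructible hopen
  have h4 := h3.compl
  rwa [← Set.preimage_compl, compl_compl] at h4

/-- complements of locally constructible sets are locally constructible -/
theorem isLocallyConstructible_compl {Y : Type*} [TopologicalSpace Y] {s : Set Y}
    (hs : IsLocallyConstructible s) : IsLocallyConstructible sᶜ := by
  intro x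
  obtain ⟨U, hU, hUo, hc⟩ := hs x
  refine ⟨U, hU, hUo, ?_⟩
  have := hc.compl
  rwa [← Set.preimage_compl] at this

/-- an open subset of a scheme which is locally constructible is retrocompact: the inclusion
is quasi-compact -/
theorem quasiCompact_ι_of_isLocallyConstructible (W : X.Opens)
    (hW : IsLocallyConstructible (W : Set X)) : QuasiCompact W.ι := by
  rw [quasiCompact_iff_forall_isAffineOpen]
  intro V hV
  haveI : IsAffine (V : Scheme.{u}) := hV
  have h1 : IsLocallyConstructible (V.ι ⁻¹' (W : Set X)) :=
    hW.preimage_of_isOpenEmbedding V.ι.isOpenEmbedding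
  have h2 : IsConstructible (V.ι ⁻¹' (W : Set X)) := h1.isConstructible
  have h3 : IsCompact (V.ι ⁻¹' (W : Set X)) := isCompact_of_isConstructible h2
  have h4 : IsCompact ((V : Set X) ∩ W) := by
    have := h3.image V.ι.continuous
    rwa [Set.image_preimage_eq_inter_range, Scheme.Opens.range_ι, Set.inter_comm] at this
  rw [W.ι.isOpenEmbedding.isEmbedding.isCompact_iff]
  have h5 : W.ι '' ((W.ι ⁻¹ᵁ V : (W : Scheme.{u}).Opens) : Set (W : Scheme.{u})) =
      (V : Set X) ∩ W := by
    rw [Scheme.Hom.coe_preimage, Set.image_preimage_eq_inter_range, Scheme.Opens.range_ι]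
  rw [h5]
  exact h4

end Groth.Agent.Helper1.SS
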