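import Groth.Agent.Helper1.SS10
import Groth.Agent.Helper1.SS13

set_option autoImplicit false
set_option linter.style.haveILetI false
set_option linter.unusedSectionVars false
set_option linter.unusedVariables false

/-!
# The rank pieces are quasi-compact over the base
-/

namespace Groth.Agent.Helper1.SS

open CategoryTheory AlgebraicGeometry AlgebraicGeometry.Scheme.Modules TopologicalSpace Topology
open Groth.Agent.Helper1.UGC Groth.Agent.Helper4 Groth.Agent.Helper4.FinLocFree

universe u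

variable {X S : Scheme.{u}} (f : X ⟶ S) [IsProper f] [Flat f] [LocallyOfFinitePresentation f]
  (h : ∀ s : S, IsIso (f.fiberToSpecResidueField s).appTop)
  (E : X.Modules) (hE : FlatMod.IsFinLocFree E)

include h hE in
/-- the rank loci of the base are closed -/
theorem isClosed_baseRank (r : ℕ) : IsClosed (baseRank f E r : Set S) := by
  haveI : E.IsQuasicoherent := FinLocFree4.isQuasicoherent_of_isFinLocFree E hE
  have hc : ((baseRank f E r : S.Opens) : Set S)ᶜ =
      ((⨆ r' : {r' : ℕ // r' ≠ r}, baseRank f E r'.1 : S.Opens) : Set S) := by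
    ext s
    simp only [Set.mem_compl_iff, SetLike.mem_coe, Opens.mem_iSup]
    constructor
    · intro hs
      obtain ⟨r', hr'⟩ := exists_mem_baseRank f h E hE s
      refine ⟨⟨r', ?_⟩, hr'⟩
      rintro rfl
      exact hs hr'
    · rintro ⟨⟨r', hne⟩, hr'⟩ hs
      exact hne (baseRank_disjoint f E (exists_mem_fiber f h s) hr' hs)
  rw [← isOpen_compl_iff, hc]
  exact (⨆ r' : {r' : ℕ // r' ≠ r}, baseRank f E r'.1 : S.Opens).isOpen

include h hE in
set_option maxHeartbeats 1600000 in
/-- **the rank `r` piece of the locus, quasi-compact over the base** -/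
theorem exists_rankPiece_qc (r : ℕ) : ∃ P : RankPiece f E r, QuasiCompact P.j := by
  obtain ⟨hq, hFP, hfl⟩ := conditions_of_isFinLocFree f E hE
  haveI : Coh.IsQCoh E := hq
  obtain ⟨Z₁, ι₁, himm, hlfp, hqc, hUP, -⟩ := exists_universal_immersion' f E hFP hfl r
  set v₁ := Limits.pullback.fst f ι₁ with hv₁
  set p₁ := Limits.pullback.snd f ι₁ with hp₁
  have sq₁ : IsPullback v₁ p₁ f ι₁ := IsPullback.of_hasPullback f ι₁
  haveI : IsProper p₁ := MorphismProperty.of_isPullback (P := @IsProper) sq₁ inferInstance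
  haveI : Flat p₁ := MorphismProperty.of_isPullback (P := @Flat) sq₁ inferInstance
  haveI : LocallyOfFinitePresentation p₁ :=
    MorphismProperty.of_isPullback (P := @LocallyOfFinitePresentation) sq₁ inferInstance
  set E₁ := (pullback v₁).obj E with hE₁def
  have hE₁ : FlatMod.IsFinLocFree E₁ := Groth.Agent.Lead.LocLift.isFinLocFree_pullback v₁ hE
  obtain ⟨hq₁, hFP₁, hfl₁⟩ := conditions_of_isFinLocFree p₁ E₁ hE₁
  haveI : Coh.IsQCoh E₁ := hq₁
  have hgood₁ : ∀ z, PtGood p₁ E₁ r z := (hUP ι₁ p₁ v₁ sq₁).mp ⟨𝟙 _, Category.id_comp _⟩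
  obtain ⟨hpush₁, hbc₁⟩ := (univ_locFree_iff p₁ E₁ hFP₁ hfl₁ r).mpr hgood₁
  set ε₁ := (pullbackPushforwardAdjunction p₁).counit.app E₁ with hε₁
  have hA₁ : FlatMod.IsFinLocFree ((pullback p₁).obj ((pushforward p₁).obj E₁)) :=
    Groth.Agent.Lead.LocLift.isFinLocFree_pullback p₁ (isFinLocFree_of_rank hpush₁)
  obtain ⟨hqA₁, hFPA₁, -⟩ := conditions_of_isFinLocFree p₁ _ hA₁
  haveI := hqA₁
  have h₁ : ∀ z, IsIso (p₁.fiberToSpecResidueField z).appTop := hfib_of_isPullback f h sq₁
  set B := CohB1.support (Limits.cokernel ε₁) with hB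
  have hBcl : IsClosed B := by
    have hC : CohB1.IsFP (Limits.cokernel ε₁) :=
      Groth.Agent.Helper2.FibReg.isFP_cokernel hFPA₁ hFP₁ ε₁
    exact Groth.Agent.S0020.result _ _ (FinLocFree2.isFiniteType_of_isFinitePresentation _ hC)
  let W : Z₁.Opens := ⟨(p₁ '' B)ᶜ ∩ ι₁ ⁻¹' (baseRank f E r),
    IsOpen.inter (p₁.isClosedMap _ hBcl).isOpen_compl
      ((baseRank f E r).isOpen.preimage ι₁.continuous)⟩
  haveI := himm
  haveI := hlfp
  haveI := hqc
  -- quasi-compactness of the open immersion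
  have hqcW : QuasiCompact W.ι := by
    apply quasiCompact_ι_of_isLocallyConstructible
    have hC : CohB1.IsFP (Limits.cokernel ε₁) :=
      Groth.Agent.Helper2.FibReg.isFP_cokernel hFPA₁ hFP₁ ε₁
    haveI : ((pushforward p₁ ⋙ pullback p₁).obj E₁).IsQuasicoherent := hqA₁
    haveI : ((𝟭 (Limits.pullback f ι₁).Modules).obj E₁).IsQuasicoherent := hq₁
    haveI : (Limits.cokernel ε₁).IsQuasicoherent := QcohLimits.isQuasicoherent_cokernel ε₁
    have hBlc : IsLocallyConstructible B := isLocallyConstructible_support _ hC hBcl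
    haveI : QuasiCompact p₁ := MorphismProperty.of_isPullback (P := @QuasiCompact) sq₁ inferInstance
    have h1 : IsLocallyConstructible (p₁ '' B)ᶜ := isLocallyConstructible_compl (p₁.isLocallyConstructible_image hBlc)
    have h2 : IsLocallyConstructible (ι₁ ⁻¹' (baseRank f E r : Set S)) := by
      have hcl : IsClosed (ι₁ ⁻¹' (baseRank f E r : Set S)) :=
        (isClosed_baseRank f h E hE r).preimage ι₁.continuous
      have hop : IsOpen (ι₁ ⁻¹' (baseRank f E r : Set S)) :=
        (baseRank f E r).isOpen.preimage ι₁.continuous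
      exact IsRetrocompact.isLocallyConstructible hop (fun K hK _ => hK.inter_left hcl)
    exact h1.inter h2
  refine ⟨⟨W, W.ι ≫ ι₁, inferInstance, inferInstance, fun z => z.2.2, ?_⟩, inferInstance⟩
  intro Y T g p v hsq
  haveI : IsProper p := MorphismProperty.of_isPullback (P := @IsProper) hsq inferInstance
  haveI : Flat p := MorphismProperty.of_isPullback (P := @Flat) hsq inferInstance
  haveI : LocallyOfFinitePresentation p :=
    MorphismProperty.of_isPullback (P := @LocallyOfFinitePresentation) hsq inferInstance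
  set F := (pullback v).obj E with hF
  have hFlf : FlatMod.IsFinLocFree F := Groth.Agent.Lead.LocLift.isFinLocFree_pullback v hE
  obtain ⟨hqF, hFPF, hflF⟩ := conditions_of_isFinLocFree p F hFlf
  haveI : Coh.IsQCoh F := hqF
  -- the comparison with the family over `Z₁`
  have key : ∀ (u₁ : T ⟶ Z₁) (hu₁ : u₁ ≫ ι₁ = g), ∃ (v' : Y ⟶ Limits.pullback f ι₁),
      v' ≫ v₁ = v ∧ v' ≫ p₁ = p ≫ u₁ ∧ IsPullback v' p p₁ u₁ := by
    intro u₁ hu₁
    have hw : v ≫ f = (p ≫ u₁) ≫ ι₁ := by rw [hsq.w, Category.assoc, hu₁]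
    refine ⟨sq₁.lift v (p ≫ u₁) hw, sq₁.lift_fst _ _ _, sq₁.lift_snd _ _ _, ?_⟩
    refine IsPullback.of_right ?_ (sq₁.lift_snd _ _ _) sq₁
    rw [sq₁.lift_fst, hu₁]
    exact hsq
  constructor
  · rintro ⟨u, hu⟩
    set u₁ := u ≫ W.ι with hu₁def
    have hu₁ : u₁ ≫ ι₁ = g := by rw [hu₁def, Category.assoc]; exact hu
    have hpt : ∀ t, PtGood p F r t := (hUP g p v hsq).mp ⟨u₁, hu₁⟩
    have hN : FlatMod.IsFinLocFreeOfRank r ((pushforward p).obj F) :=
      ((univ_locFree_iff p F hFPF hflF r).mpr hpt).1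
    obtain ⟨v', hv'1, hv'2, sq'⟩ := key u₁ hu₁
    have hmemW : ∀ t : T, u₁ t ∈ W := fun t => (u t).2
    have hmiss : ∀ y : Y, v' y ∉ B := by
      intro y hy
      have h2 : p₁ (v' y) = u₁ (p y) := by
        rw [← Scheme.Hom.comp_apply, hv'2, Scheme.Hom.comp_apply]
      exact (hmemW (p y)).1 ⟨v' y, hy, h2⟩
    have hepi' : Epi ((pullback v').map ε₁) := (epi_pullback_map_iff v' hFPA₁ hFP₁ ε₁).mpr hmiss
    haveI := hbc₁ v' p u₁ sq'
    have hepi'' := (epi_counit_pullback_iff p₁ u₁ p v' sq'.w E₁).mp hepi'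
    let e : (pullback v').obj E₁ ≅ F := (pullbackComp v' v₁).app E ≪≫ (pullbackCongr hv'1).app E
    haveI hepiF : Epi ((pullbackPushforwardAdjunction p).counit.app F) :=
      @epi_counit_of_iso _ _ p _ _ e hepi''
    haveI : IsIso ((pullbackPushforwardAdjunction p).counit.app F) := by
      apply isIso_of_epi_of_sameRank
        (Groth.Agent.Lead.LocLift.isFinLocFree_pullback p (isFinLocFree_of_rank hN)) hFlf
      intro y
      refine ⟨r, mem_rankOpen_of_isFinLocFreeOfRank
        (Groth.Agent.Helper2.FinLocFreeLim.isFinLocFreeOfRank_pullback p hN) y, ?_⟩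
      apply mem_rankOpen_pullback v E r y
      have h3 : ι₁ (u₁ (p y)) ∈ baseRank f E r := (hmemW (p y)).2
      rw [← Scheme.Hom.comp_apply, hu₁] at h3
      refine (mem_baseRank_iff f E r _).mp h3 (v y) ?_
      rw [← Scheme.Hom.comp_apply, hsq.w, Scheme.Hom.comp_apply]
    exact ⟨_, hN, ⟨(asIso ((pullbackPushforwardAdjunction p).counit.app F)).symm⟩⟩
  · rintro ⟨N, hN, ⟨θ⟩⟩
    have hpt : ∀ t, PtGood p F r t := forall_ptGood_of_desc f h E hE hsq r N hN θ
    obtain ⟨u₁, hu₁⟩ := (hUP g p v hsq).mpr hpt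
    obtain ⟨v', hv'1, hv'2, sq'⟩ := key u₁ hu₁
    let e : (pullback v').obj E₁ ≅ F := (pullbackComp v' v₁).app E ≪≫ (pullbackCongr hv'1).app E
    haveI hiso := (desc_consequences p₁ h₁ E₁ hE₁ sq' r N hN (e ≪≫ θ)).2
    haveI := hbc₁ v' p u₁ sq'
    have hepi' : Epi ((pullback v').map ε₁) :=
      (epi_counit_pullback_iff p₁ u₁ p v' sq'.w E₁).mpr inferInstance
    have hmiss : ∀ y : Y, v' y ∉ B := (epi_pullback_map_iff v' hFPA₁ hFP₁ ε₁).mp hepi'
    have hW : ∀ t : T, u₁ t ∈ W := by
      intro t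
      constructor
      · rintro ⟨x₁, hx₁, hx₁t⟩
        obtain ⟨y, hy1, hy2⟩ :=
          Groth.Agent.Helper1.SchemeTop.exists_preimage_of_isPullback sq' x₁ t hx₁t
        apply hmiss y
        have : v' y = x₁ := hy1
        rw [this]
        exact hx₁
      · show ι₁ (u₁ t) ∈ baseRank f E r
        rw [← Scheme.Hom.comp_apply, hu₁, mem_baseRank_iff]
        intro x hx
        obtain ⟨y, hy1, hy2⟩ :=
          Groth.Agent.Helper1.SchemeTop.exists_preimage_of_isPullback hsq x t hx
        obtain ⟨n, hn⟩ := exists_mem_rankOpen E hE x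
        have hvy : v y = x := hy1
        have h1 : y ∈ rankOpen F n := mem_rankOpen_pullback v E n y (by rw [hvy]; exact hn)
        have h2 : y ∈ rankOpen F r := mem_rankOpen_of_iso θ.symm r y
          (mem_rankOpen_of_isFinLocFreeOfRank
            (Groth.Agent.Helper2.FinLocFreeLim.isFinLocFreeOfRank_pullback p hN) y)
        haveI : F.IsQuasicoherent := hqF
        have := rank_eq_of_mem_rankOpen F h1 h2
        subst this
        exact hn
    have hrange : Set.range u₁ ⊆ Set.range W.ι := by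
      rintro _ ⟨t, rfl⟩
      rw [Scheme.Opens.range_ι]
      exact hW t
    refine ⟨IsOpenImmersion.lift W.ι u₁ hrange, ?_⟩
    rw [← Category.assoc, IsOpenImmersion.lift_fac]
    exact hu₁

end Groth.Agent.Helper1.SS
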