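import Groth.Agent.Helper1.SS11
import Groth.Agent.Helper1.SS14
import Groth.Agent.Helper1.NodalRed3

set_option autoImplicit false
set_option linter.style.haveILetI false
set_option linter.unusedSectionVars false
set_option linter.unusedVariables false

/-!
# The seesaw locus for geometrically connected and reduced fibres
-/

namespace Groth.Agent.Helper1.SS

open CategoryTheory AlgebraicGeometry AlgebraicGeometry.Scheme.Modules TopologicalSpace Topology
open Groth.Agent.Helper1.UGC Groth.Agent.Helper4 Groth.Agent.Helper4.FinLocFree

universe u

/-- `Γ(X_s, O) = κ(s)` for a proper morphism with geometrically connected and geometrically reduced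
fibres -/
theorem isIso_appTop_of_geometrically {X S : Scheme.{u}} (f : X ⟶ S) [IsProper f]
    [GeometricallyConnected f] [GeometricallyReduced f] (s : S) :
    IsIso (f.fiberToSpecResidueField s).appTop := by
  apply Groth.Agent.Helper1.CurveFam.isIso_appTop_of_finrank
  haveI : GeometricallyReduced (f.fiberToSpecResidueField s) :=
    MorphismProperty.pullback_snd (P := @GeometricallyReduced) f (S.fromSpecResidueField s)
      inferInstance
  haveI : GeometricallyConnected (f.fiberToSpecResidueField s) :=
    MorphismProperty.pullback_snd (P := @GeometricallyConnected) f (S.fromSpecResidueField s)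
      inferInstance
  apply Groth.Agent.Helper1.NodalRed.finrank_Γ_fiber_eq_one_of_algClosure f s
  · exact pullback_of_geometrically
      (GeometricallyReduced.geometrically_isReduced (f := f.fiberToSpecResidueField s)) _ _
  · exact pullback_of_geometrically
      (GeometricallyConnected.geometrically_connectedSpace
        (f := f.fiberToSpecResidueField s)) _ _

/-- a point lies in the image of a preimmersion iff its residue field point lifts -/
theorem mem_range_iff_exists_lift {Z S : Scheme.{u}} (ι : Z ⟶ S) [IsPreimmersion ι] (s : S) :
    s ∈ Set.range ι ↔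
      ∃ u : Spec (S.residueField s) ⟶ Z, u ≫ ι = S.fromSpecResidueField s := by
  constructor
  · rintro ⟨z, rfl⟩
    have hsurj : Function.Surjective (ι.residueFieldMap z).hom := by
      have h1 : Function.Surjective ((ι.residueFieldMap z).hom ∘ (S.residue (ι z)).hom) := by
        have h2 : (ι.residueFieldMap z).hom ∘ (S.residue (ι z)).hom =
            (Z.residue z).hom ∘ (ι.stalkMap z).hom := by
          have := Scheme.residue_residueFieldMap ι z
          ext a
          exact congr($(this) a)
        rw [h2]
        exact (Z.residue_surjective z).comp (ι.stalkMap_surjective z)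
      exact Function.Surjective.of_comp h1
    have hbij : Function.Bijective (ι.residueFieldMap z).hom :=
      ⟨RingHom.injective _, hsurj⟩
    haveI : IsIso (ι.residueFieldMap z) := (ConcreteCategory.isIso_iff_bijective _).mpr hbij
    refine ⟨Spec.map (inv (ι.residueFieldMap z)) ≫ Z.fromSpecResidueField z, ?_⟩
    rw [Category.assoc, ← Scheme.Hom.SpecMap_residueFieldMap_fromSpecResidueField,
      ← Category.assoc, ← Spec.map_comp, IsIso.hom_inv_id, Spec.map_id, Category.id_comp]
  · rintro ⟨u, hu⟩
    let pt : Spec (S.residueField s) := IsLocalRing.closedPoint (S.residueField s)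
    refine ⟨u pt, ?_⟩
    have := congr($(hu) pt)
    rw [Scheme.fromSpecResidueField_apply] at this
    exact this

/-- a module which is free over an open containing all points is free -/
theorem nonempty_iso_freeMod_of_top {Y : Scheme.{u}} (G : Y.Modules) (V : Y.Opens)
    (hV : V = ⊤) (n : ℕ)
    (ψ : (pullback V.ι).obj G ≅ FlatMod.freeMod (V : Scheme.{u}) n) :
    Nonempty (G ≅ FlatMod.freeMod Y n) := by
  subst hV
  let i := Y.topIso.inv
  have hi : i ≫ (⊤ : Y.Opens).ι = 𝟙 Y := Y.toIso_inv_ι
  exact ⟨((pullbackId Y).app G).symm ≪≫ (pullbackCongr hi.symm).app G ≪≫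
    ((pullbackComp i (⊤ : Y.Opens).ι).app G).symm ≪≫ (pullback i).mapIso ψ ≪≫
    Groth.Agent.Helper8.TildeBC.pullbackFreeIso i n⟩

end Groth.Agent.Helper1.SS
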