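import Groth.Agent.Helper1.SS15

set_option autoImplicit false
set_option linter.style.haveILetI false
set_option linter.unusedSectionVars false
set_option linter.unusedVariables false

/-!
# The image of the seesaw locus
-/

namespace Groth.Agent.Helper1.SS

open CategoryTheory AlgebraicGeometry AlgebraicGeometry.Scheme.Modules TopologicalSpace Topology
open Groth.Agent.Helper1.UGC Groth.Agent.Helper4 Groth.Agent.Helper4.FinLocFree

universe u

variable {X S : Scheme.{u}} (f : X ⟶ S) (E : X.Modules)

/-- the image of an immersion with the seesaw universal property is the set of points over which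
the module is free on the fibre -/
theorem range_eq_of_up {Z : Scheme.{u}} (ι : Z ⟶ S) [IsImmersion ι]
    (UP : ∀ {Y T : Scheme.{u}} (g : T ⟶ S) (p : Y ⟶ T) (v : Y ⟶ X) (_ : IsPullback v p f g),
        (∃ u : T ⟶ Z, u ≫ ι = g) ↔
          ∃ N : T.Modules, FlatMod.IsFinLocFree N ∧
            Nonempty ((pullback v).obj E ≅ (pullback p).obj N)) :
    Set.range ι = {s : S | ∃ n : ℕ,
      Nonempty ((pullback (f.fiberι s)).obj E ≅ FlatMod.freeMod (f.fiber s) n)} := by
  ext s
  rw [mem_range_iff_exists_lift,
    UP (S.fromSpecResidueField s) (f.fiberToSpecResidueField s) (f.fiberι s)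
      (IsPullback.of_hasPullback _ _)]
  simp only [Set.mem_ofPred_eq]
  constructor
  · rintro ⟨N, hN, ⟨e⟩⟩
    let pt : Spec (S.residueField s) := IsLocalRing.closedPoint (S.residueField s)
    obtain ⟨U, n, hxU, ⟨eU⟩⟩ := hN pt
    have hU : U = ⊤ := by
      rw [eq_top_iff]
      intro x _
      have : x = pt := Subsingleton.elim (α := PrimeSpectrum (S.residueField s)) _ _
      rw [this]
      exact hxU
    have hU' : (f.fiberToSpecResidueField s) ⁻¹ᵁ U = ⊤ := by
      rw [hU]; rfl
    refine ⟨n, ?_⟩
    exact nonempty_iso_freeMod_of_top _ _ hU' n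
      ((pullback ((f.fiberToSpecResidueField s) ⁻¹ᵁ U).ι).mapIso e ≪≫
        pullbackRestrictFreeIso (f.fiberToSpecResidueField s) N U n eU)
  · rintro ⟨n, ⟨e⟩⟩
    refine ⟨FlatMod.freeMod _ n, ?_, ⟨e ≪≫
      (Groth.Agent.Helper8.TildeBC.pullbackFreeIso (f.fiberToSpecResidueField s) n).symm⟩⟩
    intro x
    obtain ⟨U, hx, hU⟩ := Groth.Agent.Helper4.SN.isFinLocFreeOfRank_freeMod
      (X := Spec (S.residueField s)) n x
    exact ⟨U, n, hx, hU⟩

end Groth.Agent.Helper1.SS
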