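import Groth.Agent.Helper1.SS1
import Groth.Agent.Helper4.SN30

set_option autoImplicit false
set_option linter.style.haveILetI false
set_option linter.unusedSectionVars false
set_option linter.unusedVariables false

/-!
# Modules pulled back from the base have good points
-/

namespace Groth.Agent.Helper1.SS

open CategoryTheory AlgebraicGeometry AlgebraicGeometry.Scheme.Modules TopologicalSpace
open Groth.Agent.Helper1.UGC Groth.Agent.Helper4

universe u

/-- lifts through a monomorphism glue -/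
theorem exists_lift_of_cover {T Z S : Scheme.{u}} (j : Z ⟶ S) [Mono j] (g : T ⟶ S)
    {I : Type*} (U : I → T.Opens) (hU : IsOpenCover U)
    (h : ∀ i, ∃ u : (U i : Scheme.{u}) ⟶ Z, u ≫ j = (U i).ι ≫ g) :
    ∃ u : T ⟶ Z, u ≫ j = g := by
  choose u hu using h
  let 𝒰 := T.openCoverOfIsOpenCover U hU
  have compat : ∀ i i' : I, Limits.pullback.fst (𝒰.f i) (𝒰.f i') ≫ u i =
      Limits.pullback.snd (𝒰.f i) (𝒰.f i') ≫ u i' := by
    intro i i'
    rw [← cancel_mono j, Category.assoc, Category.assoc]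
    have h1 : u i ≫ j = 𝒰.f i ≫ g := hu i
    have h2 : u i' ≫ j = 𝒰.f i' ≫ g := hu i'
    exact (congrArg (fun k => Limits.pullback.fst (𝒰.f i) (𝒰.f i') ≫ k) h1).trans
      ((Limits.pullback.condition_assoc g).trans
        (congrArg (fun k => Limits.pullback.snd (𝒰.f i) (𝒰.f i') ≫ k) h2.symm))
  refine ⟨𝒰.glueMorphisms u compat, ?_⟩
  apply 𝒰.hom_ext
  intro i
  rw [← Category.assoc, 𝒰.ι_glueMorphisms u compat i]
  exact hu i

variable {X S : Scheme.{u}} (f : X ⟶ S) [IsProper f] [Flat f] [LocallyOfFinitePresentation f]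

/-- the condition on the fibres passes to base changes -/
theorem hfib_of_isPullback (h : ∀ s : S, IsIso (f.fiberToSpecResidueField s).appTop)
    {Y T : Scheme.{u}} {g : T ⟶ S} {p : Y ⟶ T} {v : Y ⟶ X} (hsq : IsPullback v p f g) (t : T) :
    IsIso (p.fiberToSpecResidueField t).appTop :=
  Groth.Agent.Helper1.CurveFam.isIso_appTop_of_isPullback f h
    ((IsPullback.of_hasPullback p (T.fromSpecResidueField t)).paste_horiz hsq)

/-- the restriction of a cartesian square to an open of the base -/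
theorem isPullback_restrict {Y T : Scheme.{u}} {g : T ⟶ S} {p : Y ⟶ T} {v : Y ⟶ X}
    (hsq : IsPullback v p f g) (U : T.Opens) :
    IsPullback ((p ⁻¹ᵁ U).ι ≫ v) (p ∣_ U) f (U.ι ≫ g) :=
  (isPullback_morphismRestrict p U).flip.paste_horiz hsq

/-- **free modules are good everywhere** -/
theorem forall_ptGood_of_iso_free (h : ∀ s : S, IsIso (f.fiberToSpecResidueField s).appTop)
    (F : X.Modules) (r : ℕ) (θ : F ≅ FlatMod.freeMod X r) (s : S) : PtGood f F r s := by
  have hFlf : FlatMod.IsFinLocFree F := fun x => ⟨⊤, r, trivial,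
    ⟨(restrictFunctor (⊤ : X.Opens).ι).mapIso θ ≪≫ FinLocFree.restrictFreeIso _ r⟩⟩
  haveI : F.IsQuasicoherent := FinLocFree4.isQuasicoherent_of_isFinLocFree F hFlf
  haveI : Coh.IsQCoh F := ‹F.IsQuasicoherent›
  have hFP : CohB1.IsFP F := FinLocFree2.isFinitePresentation_of_isFinLocFree F hFlf
  have hfl : FlatMod.IsFlatOver f F := Groth.Agent.Lead.PerfLib.isFlatOver_of_isFinLocFree f hFlf
  refine (univ_locFree_iff f F hFP hfl r).mp ⟨?_, ?_⟩ s
  · -- the direct image is free
    haveI := Groth.Agent.Helper1.CurveFam.isIso_unitToPush f h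
    have e : (pushforward f).obj F ≅ FlatMod.freeMod S r :=
      (pushforward f).mapIso θ ≪≫ Limits.PreservesCoproduct.iso (pushforward f) _ ≪≫
        Limits.Sigma.mapIso (fun _ => (asIso (ClSub.unitToPush f)).symm)
    exact Groth.Agent.Helper2.FinLocFreeLim.isFinLocFreeOfRank_of_iso e.symm
      (Groth.Agent.Helper4.SN.isFinLocFreeOfRank_freeMod r)
  · intro X' S' g' f' g hsq
    haveI := Groth.Agent.Helper1.CurveFam.isIso_bc0_unit f h hsq
    haveI := isIso_bc0_freeMod f g f' g' hsq.w r
    exact isIso_bc0_of_iso f g f' g' hsq.w θ.symm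

end Groth.Agent.Helper1.SS
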