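import Groth.Agent.Helper1.SS3

set_option autoImplicit false
set_option linter.style.haveILetI false
set_option linter.unusedSectionVars false
set_option linter.unusedVariables false

/-!
# A module which comes from the base: good points, direct image, counit
-/

namespace Groth.Agent.Helper1.SS

open CategoryTheory AlgebraicGeometry AlgebraicGeometry.Scheme.Modules TopologicalSpace
open Groth.Agent.Helper1.UGC Groth.Agent.Helper4 Groth.Agent.Helper4.FinLocFree

universe u

variable {X S : Scheme.{u}} (f : X ⟶ S) [IsProper f] [Flat f] [LocallyOfFinitePresentation f]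

/-- the standard conditions for a finite locally free module -/
theorem conditions_of_isFinLocFree (E : X.Modules) (hE : FlatMod.IsFinLocFree E) :
    E.IsQuasicoherent ∧ CohB1.IsFP E ∧ FlatMod.IsFlatOver f E :=
  haveI := FinLocFree4.isQuasicoherent_of_isFinLocFree E hE
  ⟨FinLocFree4.isQuasicoherent_of_isFinLocFree E hE,
    FinLocFree2.isFinitePresentation_of_isFinLocFree E hE,
    Groth.Agent.Lead.PerfLib.isFlatOver_of_isFinLocFree f hE⟩

/-- the pullback of a module which is free over an open of the base is free over the preimage -/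
noncomputable def pullbackRestrictFreeIso {Y T : Scheme.{u}} (p : Y ⟶ T) (N : T.Modules)
    (U : T.Opens) (r : ℕ) (e : N.restrict U.ι ≅ FlatMod.freeMod (U : Scheme.{u}) r) :
    (pullback (p ⁻¹ᵁ U).ι).obj ((pullback p).obj N) ≅
      FlatMod.freeMod ((p ⁻¹ᵁ U : Y.Opens) : Scheme.{u}) r :=
  (pullbackComp (p ⁻¹ᵁ U).ι p).app N ≪≫
    (pullbackCongr (morphismRestrict_ι p U).symm).app N ≪≫
    ((pullbackComp (p ∣_ U) U.ι).app N).symm ≪≫
    (pullback (p ∣_ U)).mapIso ((restrictFunctorIsoPullback U.ι).app N).symm ≪≫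
    (pullback (p ∣_ U)).mapIso e ≪≫
    Groth.Agent.Helper8.TildeBC.pullbackFreeIso (p ∣_ U) r

variable (h : ∀ s : S, IsIso (f.fiberToSpecResidueField s).appTop)
  (E : X.Modules) (hE : FlatMod.IsFinLocFree E)

include h hE in
/-- **a module which comes from a locally free module of rank `r` on the base has only good
points of rank `r`** -/
theorem forall_ptGood_of_desc {Y T : Scheme.{u}} {g : T ⟶ S} {p : Y ⟶ T} {v : Y ⟶ X}
    (hsq : IsPullback v p f g) (r : ℕ) (N : T.Modules) (hN : FlatMod.IsFinLocFreeOfRank r N)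
    (θ : (pullback v).obj E ≅ (pullback p).obj N) (t : T) :
    PtGood p ((pullback v).obj E) r t := by
  obtain ⟨hq, hFP, hfl⟩ := conditions_of_isFinLocFree f E hE
  haveI : Coh.IsQCoh E := hq
  obtain ⟨Z₁, ι₁, himm, -, -, hUP, -⟩ := exists_universal_immersion' f E hFP hfl r
  haveI := himm
  refine (hUP g p v hsq).mp ?_ t
  choose U hU using hN
  have hcov : IsOpenCover U := by
    rw [IsOpenCover, eq_top_iff]
    intro x _
    exact Opens.mem_iSup.mpr ⟨x, (hU x).1⟩
  apply exists_lift_of_cover ι₁ g U hcov
  intro i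
  obtain ⟨e⟩ := (hU i).2
  have hsq' := isPullback_restrict f hsq (U i)
  refine (hUP _ _ _ hsq').mpr ?_
  haveI : IsProper (p ∣_ U i) := MorphismProperty.of_isPullback (P := @IsProper) hsq' inferInstance
  haveI : Flat (p ∣_ U i) := MorphismProperty.of_isPullback (P := @Flat) hsq' inferInstance
  haveI : LocallyOfFinitePresentation (p ∣_ U i) :=
    MorphismProperty.of_isPullback (P := @LocallyOfFinitePresentation) hsq' inferInstance
  exact forall_ptGood_of_iso_free (p ∣_ U i) (hfib_of_isPullback f h hsq') _ r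
    (((pullbackComp (p ⁻¹ᵁ U i).ι v).app E).symm ≪≫ (pullback (p ⁻¹ᵁ U i).ι).mapIso θ ≪≫
      pullbackRestrictFreeIso p N (U i) r e)

end Groth.Agent.Helper1.SS
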