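import Mathlib
import Groth.Agent.Helper1.FinCondTop

set_option autoImplicit false
universe u

namespace Groth.Agent.Helper1.SchemeTop

open TopologicalSpace Set CategoryTheory CategoryTheory.Limits AlgebraicGeometry

section Top
variable {Z : Type u} [TopologicalSpace Z]

/-- in a Noetherian quasi-sober space, a closed set stable under generalization is open -/
theorem isOpen_of_noetherian [NoetherianSpace Z] [QuasiSober Z] {W : Set Z} (hW : IsClosed W)
    (hgen : StableUnderGeneralization W) : IsOpen W := by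
  have hfin : (irreducibleComponents Z).Finite := NoetherianSpace.finite_irreducibleComponents
  have hcompl : Wᶜ = ⋃₀ {T ∈ irreducibleComponents Z | ¬ T ⊆ W} := by
    ext y
    simp only [mem_compl_iff, mem_sUnion, mem_ofPred_eq]
    constructor
    · intro hy
      exact ⟨irreducibleComponent y, ⟨irreducibleComponent_mem_irreducibleComponents y,
        fun hTW => hy (hTW mem_irreducibleComponent)⟩, mem_irreducibleComponent⟩
    · rintro ⟨T, ⟨hT, hTW⟩, hyT⟩ hyW
      apply hTW
      have hTc : IsClosed T := isClosed_of_mem_irreducibleComponents T hT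
      have hTi : IsIrreducible T := hT.1
      obtain ⟨η, hη⟩ := QuasiSober.sober hTi hTc
      have hspec : η ⤳ y := by
        rw [specializes_iff_mem_closure, hη.def]; exact hyT
      have hηW : η ∈ W := hgen hspec hyW
      rw [← hη.def]
      exact hW.closure_subset_iff.2 (singleton_subset_iff.2 hηW)
  rw [← isClosed_compl_iff, hcompl, sUnion_eq_biUnion]
  apply (hfin.subset (sep_subset _ _)).isClosed_biUnion
  intro T hT
  exact isClosed_of_mem_irreducibleComponents T hT.1

theorem isOpen_of_locallyNoetherian (hX : ∀ x : Z, ∃ U ∈ nhds x, NoetherianSpace U)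
    [QuasiSober Z] {W : Set Z} (hW : IsClosed W) (hgen : StableUnderGeneralization W) :
    IsOpen W := by
  rw [isOpen_iff_mem_nhds]
  intro x hx
  obtain ⟨V, hVo, hxV, -, hVn⟩ :=
    Groth.Agent.Helper1.FinCondTop.exists_open_noetherian_nhd hX x Filter.univ_mem
  have : QuasiSober V := hVo.isOpenEmbedding_subtypeVal.quasiSober
  have hop : IsOpen (Subtype.val ⁻¹' W : Set V) :=
    isOpen_of_noetherian (hW.preimage continuous_subtype_val)
      (hgen.preimage continuous_subtype_val)
  have hop' : IsOpen (Subtype.val '' (Subtype.val ⁻¹' W : Set V)) :=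
    hVo.isOpenEmbedding_subtypeVal.isOpenMap _ hop
  refine Filter.mem_of_superset (hop'.mem_nhds ⟨⟨x, hxV⟩, hx, rfl⟩) ?_
  rintro _ ⟨y, hy, rfl⟩
  exact hy

end Top

theorem nhds_noetherian (Y : Scheme.{u}) [IsLocallyNoetherian Y] (y : Y) :
    ∃ U ∈ nhds y, NoetherianSpace U := by
  obtain ⟨U, hU, hyU, -⟩ := exists_isAffineOpen_mem_and_subset (X := Y) (x := y)
    (U := ⊤) trivial
  have hN : IsNoetherianRing Γ(Y, U) := IsLocallyNoetherian.component_noetherian ⟨U, hU⟩
  exact ⟨U, U.2.mem_nhds hyU, noetherianSpace_of_isAffineOpen U hU⟩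

theorem exists_preimage_of_isPullback {A X Y Z : Scheme.{u}} {fst : A ⟶ X} {snd : A ⟶ Y}
    {f : X ⟶ Z} {g : Y ⟶ Z} (h : IsPullback fst snd f g) (x : X) (y : Y)
    (hxy : f.base x = g.base y) : ∃ a : A, fst.base a = x ∧ snd.base a = y := by
  have := h.hasPullback
  obtain ⟨z, hz1, hz2⟩ := Scheme.Pullback.exists_preimage_pullback x y hxy
  refine ⟨h.isoPullback.inv.base z, ?_, ?_⟩
  · rw [← hz1, ← Scheme.Hom.comp_apply, h.isoPullback_inv_fst]
  · rw [← hz2, ← Scheme.Hom.comp_apply, h.isoPullback_inv_snd]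

end Groth.Agent.Helper1.SchemeTop
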