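import Groth.Agent.Helper1.SS5
import Groth.Agent.Helper1.SchemeTop

set_option autoImplicit false
set_option linter.style.haveILetI false
set_option linter.unusedSectionVars false
set_option linter.unusedVariables false

/-!
# A module which comes from the base: the direct image and the counit
-/

namespace Groth.Agent.Helper1.SS

open CategoryTheory AlgebraicGeometry AlgebraicGeometry.Scheme.Modules TopologicalSpace
open Groth.Agent.Helper1.UGC Groth.Agent.Helper4 Groth.Agent.Helper4.FinLocFree

universe u

theorem isFinLocFree_of_rank {T : Scheme.{u}} {r : ℕ} {N : T.Modules}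
    (hN : FlatMod.IsFinLocFreeOfRank r N) : FlatMod.IsFinLocFree N := fun x => by
  obtain ⟨U, hx, hU⟩ := hN x
  exact ⟨U, r, hx, hU⟩

variable {X S : Scheme.{u}} (f : X ⟶ S) [IsProper f] [Flat f] [LocallyOfFinitePresentation f]
  (h : ∀ s : S, IsIso (f.fiberToSpecResidueField s).appTop)
  (E : X.Modules) (hE : FlatMod.IsFinLocFree E)

include h hE in
/-- **a module which comes from a locally free module of rank `r` on the base**: its direct
image is locally free of rank `r` and the counit is an isomorphism -/
theorem desc_consequences {Y T : Scheme.{u}} {g : T ⟶ S} {p : Y ⟶ T} {v : Y ⟶ X}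
    (hsq : IsPullback v p f g) (r : ℕ) (N : T.Modules) (hN : FlatMod.IsFinLocFreeOfRank r N)
    (θ : (pullback v).obj E ≅ (pullback p).obj N) :
    FlatMod.IsFinLocFreeOfRank r ((pushforward p).obj ((pullback v).obj E)) ∧
      IsIso ((pullbackPushforwardAdjunction p).counit.app ((pullback v).obj E)) := by
  haveI : IsProper p := MorphismProperty.of_isPullback (P := @IsProper) hsq inferInstance
  haveI : Flat p := MorphismProperty.of_isPullback (P := @Flat) hsq inferInstance
  haveI : LocallyOfFinitePresentation p :=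
    MorphismProperty.of_isPullback (P := @LocallyOfFinitePresentation) hsq inferInstance
  set F := (pullback v).obj E with hF
  have hFlf : FlatMod.IsFinLocFree F := Groth.Agent.Lead.LocLift.isFinLocFree_pullback v hE
  obtain ⟨hq, hFP, hfl⟩ := conditions_of_isFinLocFree p F hFlf
  haveI : Coh.IsQCoh F := hq
  have hpt : ∀ t, PtGood p F r t := forall_ptGood_of_desc f h E hE hsq r N hN θ
  have hpush : FlatMod.IsFinLocFreeOfRank r ((pushforward p).obj F) :=
    ((univ_locFree_iff p F hFP hfl r).mpr hpt).1
  refine ⟨hpush, ?_⟩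
  -- the counit is an epimorphism
  have hN2 := hN
  choose U hU using hN2
  haveI : Epi ((pullbackPushforwardAdjunction p).counit.app F) := by
    apply Groth.Agent.Helper4.CounitGG.epi_counit_of_cover p F U (fun y => ⟨p y, (hU (p y)).1⟩)
    intro i
    obtain ⟨e⟩ := (hU i).2
    let ψ : F.restrict (p ⁻¹ᵁ U i).ι ≅ FlatMod.freeMod ((p ⁻¹ᵁ U i : Y.Opens) : Scheme.{u}) r :=
      (restrictFunctorIsoPullback (p ⁻¹ᵁ U i).ι).app F ≪≫
        (pullback (p ⁻¹ᵁ U i).ι).mapIso θ ≪≫ pullbackRestrictFreeIso p N (U i) r e
    exact Groth.Agent.Helper4.IdealModProps.isGloballyGenerated_of_epi_freeMod r ψ.inv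
  apply isIso_of_epi_of_sameRank
    (Groth.Agent.Lead.LocLift.isFinLocFree_pullback p (isFinLocFree_of_rank hpush)) hFlf
  intro y
  exact ⟨r, mem_rankOpen_of_isFinLocFreeOfRank
      (Groth.Agent.Helper2.FinLocFreeLim.isFinLocFreeOfRank_pullback p hpush) y,
    mem_rankOpen_of_iso θ.symm r y (mem_rankOpen_of_isFinLocFreeOfRank
      (Groth.Agent.Helper2.FinLocFreeLim.isFinLocFreeOfRank_pullback p hN) y)⟩

end Groth.Agent.Helper1.SS
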