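import Groth.Agent.Helper1.SS6
import Groth.Agent.S0020

set_option autoImplicit false
set_option linter.style.haveILetI false
set_option linter.unusedSectionVars false
set_option linter.unusedVariables false

/-!
# The locus over which a finite locally free module comes from a module of rank `r` on the base
-/

namespace Groth.Agent.Helper1.SS

open CategoryTheory AlgebraicGeometry AlgebraicGeometry.Scheme.Modules TopologicalSpace
open Groth.Agent.Helper1.UGC Groth.Agent.Helper4 Groth.Agent.Helper4.FinLocFree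

universe u

variable {X S : Scheme.{u}} (f : X ⟶ S) [IsProper f]

/-- the open locus of the base over which `E` has rank `r` on the whole fibre -/
def baseRank (E : X.Modules) (r : ℕ) : S.Opens :=
  ⟨(f '' ((rankOpen E r : Set X)ᶜ))ᶜ,
    (f.isClosedMap _ (rankOpen E r).isOpen.isClosed_compl).isOpen_compl⟩

theorem mem_baseRank_iff (E : X.Modules) (r : ℕ) (s : S) :
    s ∈ baseRank f E r ↔ ∀ x : X, f x = s → x ∈ rankOpen E r := by
  change s ∈ (f '' ((rankOpen E r : Set X)ᶜ))ᶜ ↔ _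
  simp only [Set.mem_compl_iff, Set.mem_image, SetLike.mem_coe, not_exists, not_and]
  constructor
  · intro h x hx
    by_contra hc
    exact h x hc hx
  · intro h x hc hx
    exact hc (h x hx)

variable [Flat f] [LocallyOfFinitePresentation f]
  (h : ∀ s : S, IsIso (f.fiberToSpecResidueField s).appTop)
  (E : X.Modules) (hE : FlatMod.IsFinLocFree E)

include h hE in
set_option maxHeartbeats 1600000 in
/-- **the rank `r` part of the locus** -/
theorem exists_rank_immersion (r : ℕ) :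
    ∃ (Z₁ : Scheme.{u}) (ι₁ : Z₁ ⟶ S) (W : Z₁.Opens), IsImmersion ι₁ ∧
      LocallyOfFinitePresentation ι₁ ∧ QuasiCompact ι₁ ∧
      (W : Set Z₁) = ((Limits.pullback.snd f ι₁) '' CohB1.support (Limits.cokernel
          ((pullbackPushforwardAdjunction (Limits.pullback.snd f ι₁)).counit.app
            ((pullback (Limits.pullback.fst f ι₁)).obj E))))ᶜ ∩ ι₁ ⁻¹' (baseRank f E r) ∧
      ∀ {Y T : Scheme.{u}} (g : T ⟶ S) (p : Y ⟶ T) (v : Y ⟶ X) (_ : IsPullback v p f g),
        (∃ u : T ⟶ (W : Scheme.{u}), u ≫ W.ι ≫ ι₁ = g) ↔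
          ∃ N : T.Modules, FlatMod.IsFinLocFreeOfRank r N ∧
            Nonempty ((pullback v).obj E ≅ (pullback p).obj N) := by
  obtain ⟨hq, hFP, hfl⟩ := conditions_of_isFinLocFree f E hE
  haveI : Coh.IsQCoh E := hq
  obtain ⟨Z₁, ι₁, himm, hlfp, hqc, hUP, -⟩ := exists_universal_immersion' f E hFP hfl r
  set v₁ := Limits.pullback.fst f ι₁ with hv₁
  set p₁ := Limits.pullback.snd f ι₁ with hp₁
  have sq₁ : IsPullback v₁ p₁ f ι₁ := IsPullback.of_hasPullback f ι₁
  haveI : IsProper p₁ := MorphismProperty.of_isPullback (P := @IsProper) sq₁ inferInstance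
  haveI : Flat p₁ := MorphismProperty.of_isPullback (P := @Flat) sq₁ inferInstance
  haveI : LocallyOfFinitePresentation p₁ :=
    MorphismProperty.of_isPullback (P := @LocallyOfFinitePresentation) sq₁ inferInstance
  set E₁ := (pullback v₁).obj E with hE₁def
  have hE₁ : FlatMod.IsFinLocFree E₁ := Groth.Agent.Lead.LocLift.isFinLocFree_pullback v₁ hE
  obtain ⟨hq₁, hFP₁, hfl₁⟩ := conditions_of_isFinLocFree p₁ E₁ hE₁
  haveI : Coh.IsQCoh E₁ := hq₁
  have hgood₁ : ∀ z, PtGood p₁ E₁ r z := (hUP ι₁ p₁ v₁ sq₁).mp ⟨𝟙 _, Category.id_comp _⟩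
  obtain ⟨hpush₁, hbc₁⟩ := (univ_locFree_iff p₁ E₁ hFP₁ hfl₁ r).mpr hgood₁
  set ε₁ := (pullbackPushforwardAdjunction p₁).counit.app E₁ with hε₁
  have hA₁ : FlatMod.IsFinLocFree ((pullback p₁).obj ((pushforward p₁).obj E₁)) :=
    Groth.Agent.Lead.LocLift.isFinLocFree_pullback p₁ (isFinLocFree_of_rank hpush₁)
  obtain ⟨hqA₁, hFPA₁, -⟩ := conditions_of_isFinLocFree p₁ _ hA₁
  haveI := hqA₁
  have h₁ : ∀ z, IsIso (p₁.fiberToSpecResidueField z).appTop := hfib_of_isPullback f h sq₁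
  set B := CohB1.support (Limits.cokernel ε₁) with hB
  have hBcl : IsClosed B := by
    have hC : CohB1.IsFP (Limits.cokernel ε₁) :=
      Groth.Agent.Helper2.FibReg.isFP_cokernel hFPA₁ hFP₁ ε₁
    exact Groth.Agent.S0020.result _ _ (FinLocFree2.isFiniteType_of_isFinitePresentation _ hC)
  let W : Z₁.Opens := ⟨(p₁ '' B)ᶜ ∩ ι₁ ⁻¹' (baseRank f E r),
    IsOpen.inter (p₁.isClosedMap _ hBcl).isOpen_compl
      ((baseRank f E r).isOpen.preimage ι₁.continuous)⟩
  refine ⟨Z₁, ι₁, W, himm, hlfp, hqc, rfl, ?_⟩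
  intro Y T g p v hsq
  haveI : IsProper p := MorphismProperty.of_isPullback (P := @IsProper) hsq inferInstance
  haveI : Flat p := MorphismProperty.of_isPullback (P := @Flat) hsq inferInstance
  haveI : LocallyOfFinitePresentation p :=
    MorphismProperty.of_isPullback (P := @LocallyOfFinitePresentation) hsq inferInstance
  set F := (pullback v).obj E with hF
  have hFlf : FlatMod.IsFinLocFree F := Groth.Agent.Lead.LocLift.isFinLocFree_pullback v hE
  obtain ⟨hqF, hFPF, hflF⟩ := conditions_of_isFinLocFree p F hFlf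
  haveI : Coh.IsQCoh F := hqF
  -- the comparison with the family over `Z₁`
  have key : ∀ (u₁ : T ⟶ Z₁) (hu₁ : u₁ ≫ ι₁ = g), ∃ (v' : Y ⟶ Limits.pullback f ι₁),
      v' ≫ v₁ = v ∧ v' ≫ p₁ = p ≫ u₁ ∧ IsPullback v' p p₁ u₁ := by
    intro u₁ hu₁
    have hw : v ≫ f = (p ≫ u₁) ≫ ι₁ := by rw [hsq.w, Category.assoc, hu₁]
    refine ⟨sq₁.lift v (p ≫ u₁) hw, sq₁.lift_fst _ _ _, sq₁.lift_snd _ _ _, ?_⟩
    refine IsPullback.of_right ?_ (sq₁.lift_snd _ _ _) sq₁
    rw [sq₁.lift_fst, hu₁]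
    exact hsq
  constructor
  · rintro ⟨u, hu⟩
    set u₁ := u ≫ W.ι with hu₁def
    have hu₁ : u₁ ≫ ι₁ = g := by rw [hu₁def, Category.assoc]; exact hu
    have hpt : ∀ t, PtGood p F r t := (hUP g p v hsq).mp ⟨u₁, hu₁⟩
    have hN : FlatMod.IsFinLocFreeOfRank r ((pushforward p).obj F) :=
      ((univ_locFree_iff p F hFPF hflF r).mpr hpt).1
    obtain ⟨v', hv'1, hv'2, sq'⟩ := key u₁ hu₁
    have hmemW : ∀ t : T, u₁ t ∈ W := fun t => (u t).2
    have hmiss : ∀ y : Y, v' y ∉ B := by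
      intro y hy
      have h2 : p₁ (v' y) = u₁ (p y) := by
        rw [← Scheme.Hom.comp_apply, hv'2, Scheme.Hom.comp_apply]
      exact (hmemW (p y)).1 ⟨v' y, hy, h2⟩
    have hepi' : Epi ((pullback v').map ε₁) := (epi_pullback_map_iff v' hFPA₁ hFP₁ ε₁).mpr hmiss
    haveI := hbc₁ v' p u₁ sq'
    have hepi'' := (epi_counit_pullback_iff p₁ u₁ p v' sq'.w E₁).mp hepi'
    let e : (pullback v').obj E₁ ≅ F := (pullbackComp v' v₁).app E ≪≫ (pullbackCongr hv'1).app E
    haveI hepiF : Epi ((pullbackPushforwardAdjunction p).counit.app F) :=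
      @epi_counit_of_iso _ _ p _ _ e hepi''
    haveI : IsIso ((pullbackPushforwardAdjunction p).counit.app F) := by
      apply isIso_of_epi_of_sameRank
        (Groth.Agent.Lead.LocLift.isFinLocFree_pullback p (isFinLocFree_of_rank hN)) hFlf
      intro y
      refine ⟨r, mem_rankOpen_of_isFinLocFreeOfRank
        (Groth.Agent.Helper2.FinLocFreeLim.isFinLocFreeOfRank_pullback p hN) y, ?_⟩
      apply mem_rankOpen_pullback v E r y
      have h3 : ι₁ (u₁ (p y)) ∈ baseRank f E r := (hmemW (p y)).2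
      rw [← Scheme.Hom.comp_apply, hu₁] at h3
      refine (mem_baseRank_iff f E r _).mp h3 (v y) ?_
      rw [← Scheme.Hom.comp_apply, hsq.w, Scheme.Hom.comp_apply]
    exact ⟨_, hN, ⟨(asIso ((pullbackPushforwardAdjunction p).counit.app F)).symm⟩⟩
  · rintro ⟨N, hN, ⟨θ⟩⟩
    have hpt : ∀ t, PtGood p F r t := forall_ptGood_of_desc f h E hE hsq r N hN θ
    obtain ⟨u₁, hu₁⟩ := (hUP g p v hsq).mpr hpt
    obtain ⟨v', hv'1, hv'2, sq'⟩ := key u₁ hu₁
    let e : (pullback v').obj E₁ ≅ F := (pullbackComp v' v₁).app E ≪≫ (pullbackCongr hv'1).app E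
    haveI hiso := (desc_consequences p₁ h₁ E₁ hE₁ sq' r N hN (e ≪≫ θ)).2
    haveI := hbc₁ v' p u₁ sq'
    have hepi' : Epi ((pullback v').map ε₁) :=
      (epi_counit_pullback_iff p₁ u₁ p v' sq'.w E₁).mpr inferInstance
    have hmiss : ∀ y : Y, v' y ∉ B := (epi_pullback_map_iff v' hFPA₁ hFP₁ ε₁).mp hepi'
    have hW : ∀ t : T, u₁ t ∈ W := by
      intro t
      constructor
      · rintro ⟨x₁, hx₁, hx₁t⟩
        obtain ⟨y, hy1, hy2⟩ :=
          Groth.Agent.Helper1.SchemeTop.exists_preimage_of_isPullback sq' x₁ t hx₁t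
        apply hmiss y
        have : v' y = x₁ := hy1
        rw [this]
        exact hx₁
      · show ι₁ (u₁ t) ∈ baseRank f E r
        rw [← Scheme.Hom.comp_apply, hu₁, mem_baseRank_iff]
        intro x hx
        obtain ⟨y, hy1, hy2⟩ :=
          Groth.Agent.Helper1.SchemeTop.exists_preimage_of_isPullback hsq x t hx
        obtain ⟨n, hn⟩ := exists_mem_rankOpen E hE x
        have hvy : v y = x := hy1
        have h1 : y ∈ rankOpen F n := mem_rankOpen_pullback v E n y (by rw [hvy]; exact hn)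
        have h2 : y ∈ rankOpen F r := mem_rankOpen_of_iso θ.symm r y
          (mem_rankOpen_of_isFinLocFreeOfRank
            (Groth.Agent.Helper2.FinLocFreeLim.isFinLocFreeOfRank_pullback p hN) y)
        haveI : F.IsQuasicoherent := hqF
        have := rank_eq_of_mem_rankOpen F h1 h2
        subst this
        exact hn
    have hrange : Set.range u₁ ⊆ Set.range W.ι := by
      rintro _ ⟨t, rfl⟩
      rw [Scheme.Opens.range_ι]
      exact hW t
    refine ⟨IsOpenImmersion.lift W.ι u₁ hrange, ?_⟩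
    rw [← Category.assoc, IsOpenImmersion.lift_fac]
    exact hu₁

end Groth.Agent.Helper1.SS
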