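import Groth.Agent.Helper1.SS1
import Groth.Agent.Helper4.OpenBC

set_option autoImplicit false
set_option linter.style.haveILetI false
set_option linter.unusedSectionVars false
set_option linter.unusedVariables false

/-!
# The degree zero base change map along an open immersion is an isomorphism
-/

namespace Groth.Agent.Helper1.SS

open CategoryTheory AlgebraicGeometry AlgebraicGeometry.Scheme.Modules TopologicalSpace

universe u

variable {Y T : Scheme.{u}} (p : Y ⟶ T) (U : T.Opens) (F : Y.Modules)

/-- **base change along an open immersion** -/
theorem isIso_bc0_open :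
    IsIso (CohBC.bc0 p U.ι (p ∣_ U) (p ⁻¹ᵁ U).ι (morphismRestrict_ι p U).symm F) := by
  set j := U.ι with hj
  set j' := (p ⁻¹ᵁ U).ι with hj'
  set p' := p ∣_ U with hp'
  have w : j' ≫ p = p' ≫ j := (morphismRestrict_ι p U).symm
  let iJ := restrictFunctorIsoPullback j
  let iJ' := restrictFunctorIsoPullback j'
  have hη : (pullbackPushforwardAdjunction j').unit.app F =
      (restrictAdjunction j').unit.app F ≫ (pushforward j').map (iJ'.hom.app F) :=
    (Adjunction.unit_leftAdjointUniq_hom_app (restrictAdjunction j')
      (pullbackPushforwardAdjunction j') F).symm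
  have hε : ∀ M, iJ.hom.app ((pushforward j).obj M) ≫
      (pullbackPushforwardAdjunction j).counit.app M = (restrictAdjunction j).counit.app M :=
    fun M => Adjunction.leftAdjointUniq_hom_app_counit _ _ M
  -- the composition isomorphism
  let c : ∀ M : (↑(p ⁻¹ᵁ U) : Scheme.{u}).Modules,
      (pushforward p).obj ((pushforward j').obj M) ⟶ (pushforward j).obj ((pushforward p').obj M) :=
    fun M => (pushforwardComp j' p).hom.app M ≫ (pushforwardCongr w).hom.app M ≫
      (pushforwardComp p' j).inv.app M
  have hc : ∀ {M M' : (↑(p ⁻¹ᵁ U) : Scheme.{u}).Modules} (φ : M ⟶ M'),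
      (pushforward p).map ((pushforward j').map φ) ≫ c M' =
        c M ≫ (pushforward j).map ((pushforward p').map φ) := by
    intro M M' φ
    have h2 := (pushforwardComp j' p).hom.naturality φ
    have h3 := (pushforwardCongr w).hom.naturality φ
    have h4 := (pushforwardComp p' j).inv.naturality φ
    simp only [Functor.comp_map] at h2 h4
    simp only [c, Category.assoc]
    rw [reassoc_of% h2, reassoc_of% h3, h4]
  have hAdj : CohBC.bc0Adj p j p' j' w F =
      (pushforward p).map ((restrictAdjunction j').unit.app F) ≫ c (F.restrict j') ≫
        (pushforward j).map ((pushforward p').map (iJ'.hom.app F)) := by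
    unfold CohBC.bc0Adj
    rw [hη, Functor.map_comp, Category.assoc]
    congr 1
    exact hc (iJ'.hom.app F)
  have key : iJ.hom.app ((pushforward p).obj F) ≫ CohBC.bc0 p j p' j' w F =
      (restrictFunctor j).map ((pushforward p).map ((restrictAdjunction j').unit.app F)) ≫
        (restrictFunctor j).map (c (F.restrict j')) ≫
        (restrictAdjunction j).counit.app ((pushforward p').obj (F.restrict j')) ≫
        (pushforward p').map (iJ'.hom.app F) := by
    unfold CohBC.bc0
    rw [Adjunction.homEquiv_counit]
    have h1 := iJ.hom.naturality (CohBC.bc0Adj p j p' j' w F)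
    rw [← Category.assoc, ← h1, Category.assoc, hε, hAdj, Functor.map_comp, Functor.map_comp,
      Category.assoc, Category.assoc]
    congr 2
    exact (restrictAdjunction j).counit.naturality ((pushforward p').map (iJ'.hom.app F))
  haveI h1 : IsIso ((restrictFunctor j).map
      ((pushforward p).map ((restrictAdjunction j').unit.app F))) :=
    Groth.Agent.Helper4.OpenBC.isIso_τ_app p U F
  haveI h2 : IsIso (c (F.restrict j')) := by
    dsimp only [c]
    infer_instance
  have h3 : IsIso (iJ.hom.app ((pushforward p).obj F) ≫ CohBC.bc0 p j p' j' w F) := by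
    rw [key]
    infer_instance
  exact IsIso.of_isIso_comp_left (iJ.hom.app ((pushforward p).obj F)) _

end Groth.Agent.Helper1.SS
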