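import Groth.Agent.Helper1.SS7
import Groth.Agent.Helper1.SS8
import Groth.Agent.Helper4.AffineIso
import Groth.Agent.Helper1.SCV16

set_option autoImplicit false
set_option linter.style.haveILetI false
set_option linter.unusedSectionVars false
set_option linter.unusedVariables false

/-!
# "The direct image is finite locally free and the counit is an isomorphism" is local on the base
-/

namespace Groth.Agent.Helper1.SS

open CategoryTheory AlgebraicGeometry AlgebraicGeometry.Scheme.Modules TopologicalSpace
open Groth.Agent.Helper1.UGC Groth.Agent.Helper4 Groth.Agent.Helper4.FinLocFree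

universe u

variable {Y T : Scheme.{u}} (p : Y ⟶ T) (F : Y.Modules)

/-- the condition is local on the base -/
theorem desc_of_local {I : Type*} (U : I → T.Opens) (hU : IsOpenCover U)
    (h : ∀ i, FlatMod.IsFinLocFree
        ((pushforward (p ∣_ U i)).obj ((pullback (p ⁻¹ᵁ U i).ι).obj F)) ∧
      IsIso ((pullbackPushforwardAdjunction (p ∣_ U i)).counit.app
        ((pullback (p ⁻¹ᵁ U i).ι).obj F))) :
    FlatMod.IsFinLocFree ((pushforward p).obj F) ∧
      IsIso ((pullbackPushforwardAdjunction p).counit.app F) := by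
  have hcov : ∀ t : T, ∃ i, t ∈ U i := by
    intro t
    have : t ∈ (⨆ i, U i : T.Opens) := by rw [hU.iSup_eq_top]; trivial
    exact Opens.mem_iSup.mp this
  constructor
  · apply Groth.Agent.Helper1.SCV.isFinLocFree_of_local_restrict
    intro t
    obtain ⟨i, hi⟩ := hcov t
    refine ⟨U i, hi, ?_⟩
    refine FinLocFree2.isFinLocFree_of_iso ?_ (h i).1
    exact ((Groth.Agent.Helper4.OpenBC.iso p (U i)).app F ≪≫
      (pushforward (p ∣_ U i)).mapIso ((restrictFunctorIsoPullback (p ⁻¹ᵁ U i).ι).app F)).symm
  · apply Groth.Agent.Helper4.AffineIso.isIso_of_isIso_restrict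
    intro y
    obtain ⟨i, hi⟩ := hcov (p y)
    refine ⟨p ⁻¹ᵁ U i, hi, ?_⟩
    rw [NatIso.isIso_map_iff (restrictFunctorIsoPullback (p ⁻¹ᵁ U i).ι)]
    have hc := counit_compat p (U i).ι (p ∣_ U i) (p ⁻¹ᵁ U i).ι (morphismRestrict_ι p (U i)).symm F
    haveI := isIso_bc0_open p (U i) F
    haveI := (h i).2
    have h3 : IsIso (((pullbackComp (p ∣_ U i) (U i).ι).hom.app ((pushforward p).obj F) ≫
        (pullbackCongr (morphismRestrict_ι p (U i)).symm).inv.app ((pushforward p).obj F) ≫
        (pullbackComp (p ⁻¹ᵁ U i).ι p).inv.app ((pushforward p).obj F)) ≫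
        (pullback (p ⁻¹ᵁ U i).ι).map ((pullbackPushforwardAdjunction p).counit.app F)) := by
      rw [hc]
      infer_instance
    exact IsIso.of_isIso_comp_left ((pullbackComp (p ∣_ U i) (U i).ι).hom.app
      ((pushforward p).obj F) ≫
        (pullbackCongr (morphismRestrict_ι p (U i)).symm).inv.app ((pushforward p).obj F) ≫
        (pullbackComp (p ⁻¹ᵁ U i).ι p).inv.app ((pushforward p).obj F)) _

end Groth.Agent.Helper1.SS
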