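import Groth.Agent.Helper1.SCV13

set_option autoImplicit false
set_option linter.unusedVariables false
universe u
open CategoryTheory CategoryTheory.Limits MonoidalCategory TensorProduct

/-!
# Where the homology of the fibre vanishes in degree `p`, the opcycles `Z'_p` are free
-/

noncomputable section

namespace Groth.Agent.Helper1.HMap

open Groth.Agent.Helper1.FlatCx Groth.Agent.Helper1.BCFlatCoh Groth.Agent.Helper1

section general

variable {A : Type u} [CommRing A] {M N : Type u} [AddCommGroup M] [Module A M]
  [AddCommGroup N] [Module A N]

/-- a finite module with a map to a finite free module which is injective modulo the prime `x` is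
free at `x` -/
theorem mem_freeLocus_of_lTensor_injective (l : M →ₗ[A] N)
    [Module.Finite A M] [Module.Finite A N] [Module.Free A N] (x : PrimeSpectrum A)
    (hinj : Function.Injective (l.lTensor x.asIdeal.ResidueField)) :
    x ∈ Module.freeLocus A M := by
  let R := Localization.AtPrime x.asIdeal
  rw [Module.mem_freeLocus_iff_tensor x R]
  let k := IsLocalRing.ResidueField R
  let eM : k ⊗[R] (R ⊗[A] M) ≃ₗ[R] k ⊗[A] M :=
    TensorProduct.AlgebraTensorModule.cancelBaseChange A R R k M
  let eN : k ⊗[R] (R ⊗[A] N) ≃ₗ[R] k ⊗[A] N :=
    TensorProduct.AlgebraTensorModule.cancelBaseChange A R R k N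
  have hnat : ∀ z, eN ((l.baseChange R).lTensor k z) = l.lTensor k (eM z) := by
    intro z
    induction z using TensorProduct.induction_on with
    | zero => simp
    | tmul c y =>
      induction y using TensorProduct.induction_on with
      | zero => simp
      | tmul r m =>
        simp only [LinearMap.lTensor_tmul, LinearMap.baseChange_tmul, eN, eM,
          TensorProduct.AlgebraTensorModule.cancelBaseChange_tmul]
      | add a b ha hb =>
        rw [TensorProduct.tmul_add, map_add, map_add, ha, hb, map_add, map_add]
    | add a b ha hb => rw [map_add, map_add, ha, hb, map_add, map_add]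
  have hk : Function.Injective ((l.baseChange R).lTensor k) := by
    intro z1 z2 h12
    apply eM.injective
    apply hinj
    rw [← hnat, ← hnat, h12]
  obtain ⟨l', hl'⟩ :=
    (IsLocalRing.split_injective_iff_lTensor_residueField_injective (l.baseChange R)).mpr hk
  haveI : Module.Projective R (R ⊗[A] M) := Module.Projective.of_split (l.baseChange R) l' hl'
  exact Module.free_of_flat_of_isLocalRing

end general

variable {A : Type u} [CommRing A] (K : ChainComplex (ModuleCat.{u} A) ℤ)
  (hK : ∀ i, Module.Finite A (K.X i) ∧ Module.Free A (K.X i))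

include hK in
/-- at a point where the homology of the fibre vanishes in degree `p`, `Z'_p` is free (so that
`T_{p+1}` is right exact there) -/
theorem mem_freeLocus_opcycles_self_of_dRank_zero (p : ℤ) (x : PrimeSpectrum A)
    (h : CohIII.dRank K p x = 0) : x ∈ Module.freeLocus A (K.opcycles p) := by
  haveI := (hK p).1
  haveI := (hK (p - 1)).1
  haveI := (hK (p - 1)).2
  let κ := x.asIdeal.ResidueField
  haveI : Module.Finite κ ((CohIII.bcCx (algebraMap A κ) K).X p) := finite_bcCx_X K κ p
  haveI : Module.Finite κ ((CohIII.bcCx (algebraMap A κ) K).homology p) :=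
    finite_homology (CohIII.bcCx (algebraMap A κ) K) p
  have hsub : Subsingleton ((CohIII.bcCx (algebraMap A κ) K).homology p) :=
    Module.finrank_zero_iff.mp h
  -- `fromOpcycles` of the fibre is injective
  have hex := exact_homologyι_fromOpcycles (CohIII.bcCx (algebraMap A κ) K) p (p - 1)
    (next_down p)
  have hinj₁ : Function.Injective
      ((CohIII.bcCx (algebraMap A κ) K).fromOpcycles p (p - 1)).hom := by
    rw [← LinearMap.ker_eq_bot, LinearMap.ker_eq_bot']
    intro z hz
    obtain ⟨w, hw⟩ := (hex z).mp hz
    rw [← hw, hsub.elim w 0, map_zero]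
  -- transport to the base change of `fromOpcycles`
  have hinj₂ : Function.Injective
      ((ModuleCat.extendScalars (algebraMap A κ)).map (K.fromOpcycles p (p - 1))).hom := by
    have hc := bcOpcyclesIso_hom_fromOpcycles κ K p (p - 1)
    have hc' : (ModuleCat.extendScalars (algebraMap A κ)).map (K.fromOpcycles p (p - 1)) =
        (bcOpcyclesIso (algebraMap A κ) K p).inv ≫
          (CohIII.bcCx (algebraMap A κ) K).fromOpcycles p (p - 1) ≫ (bcXIso κ K (p - 1)).hom := by
      rw [← hc, Iso.inv_hom_id_assoc]
    rw [hc']
    have h1 : Function.Injective (bcOpcyclesIso (algebraMap A κ) K p).inv.hom :=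
      (ConcreteCategory.bijective_of_isIso (bcOpcyclesIso (algebraMap A κ) K p).inv).1
    have h2 : Function.Injective (bcXIso κ K (p - 1)).hom.hom :=
      (ConcreteCategory.bijective_of_isIso (bcXIso κ K (p - 1)).hom).1
    exact h2.comp (hinj₁.comp h1)
  have hinj₃ : Function.Injective ((K.fromOpcycles p (p - 1)).hom.lTensor κ) :=
    (extendScalars_injective_iff _).mp hinj₂
  haveI : Module.Finite A (K.opcycles p) :=
    Module.Finite.of_surjective (K.pOpcycles p).hom
      ((ModuleCat.epi_iff_surjective _).mp inferInstance)
  exact mem_freeLocus_of_lTensor_injective (K.fromOpcycles p (p - 1)).hom x hinj₃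

end Groth.Agent.Helper1.HMap

end
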