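import Groth.Agent.Helper1.UF5
import Groth.Agent.Helper1.PCH2

set_option autoImplicit false
set_option linter.style.haveILetI false
set_option linter.unusedSectionVars false
set_option linter.unusedVariables false

/-!
# A nonzero degree-zero base change map produces a section over an affine chart of the base
whose pullback does not vanish
-/

namespace Groth.Agent.Helper1.SW

open CategoryTheory AlgebraicGeometry Opposite TopologicalSpace
  AlgebraicGeometry.Scheme.Modules
open Groth.Agent.Helper1.UF

universe u

/-- naturally isomorphic functors kill the same morphisms -/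
lemma map_eq_zero_of_natIso {C D : Type*} [Category C] [Category D] [Limits.HasZeroMorphisms D]
    {F G : C ⥤ D} (e : F ≅ G) {A B : C} (φ : A ⟶ B) (h : G.map φ = 0) : F.map φ = 0 := by
  rw [← cancel_mono (e.hom.app B), e.hom.naturality, h, Limits.comp_zero, Limits.zero_comp]

variable {X S : Scheme.{u}} (f : X ⟶ S) [QuasiCompact f] [QuasiSeparated f]
  (N : X.Modules) [N.IsQuasicoherent] (W : S.Opens) [IsAffine (W : Scheme.{u})]
  {Z X' : Scheme.{u}} (g : Z ⟶ S) (f' : X' ⟶ Z) (g' : X' ⟶ X) (w : g' ≫ f = f' ≫ g)
  (g₁ : X' ⟶ ((f ⁻¹ᵁ W : X.Opens) : Scheme.{u})) (hg₁ : g₁ ≫ (f ⁻¹ᵁ W).ι = g')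

include hg₁ in
/-- if the degree-zero base change map of `N` along `g` does not vanish and `g'` factors through
the preimage of the affine open `W`, some section of `N` over `f⁻¹W` has a nonzero pullback -/
theorem exists_section_pullback_ne_zero (hbc : CohBC.bc0 f g f' g' w N ≠ 0) :
    ∃ s : Coh.structureModule ((f ⁻¹ᵁ W : X.Opens) : Scheme.{u}) ⟶
        (pullback (f ⁻¹ᵁ W).ι).obj N, (pullback g₁).map s ≠ 0 := by
  by_contra hall
  push Not at hall
  apply hbc
  subst hg₁
  set j := (f ⁻¹ᵁ W).ι with hj
  set M := (pullback j).obj N with hM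
  haveI qM : M.IsQuasicoherent := Groth.Agent.Lead.StalkPull.isQuasicoherent_pullbackObj j N
  -- step a: the unit of `g₁` vanishes on global sections
  have ha : ∀ m : Γ(M, ⊤), ((pullbackPushforwardAdjunction g₁).unit.app M).app ⊤ m = 0 := by
    intro m
    set s := Groth.Agent.Lead.LocLift.homOfTop M m with hs
    have hnat := (pullbackPushforwardAdjunction g₁).unit.naturality s
    simp only [Functor.id_map, Functor.comp_map] at hnat
    rw [hall s, Functor.map_zero, Limits.comp_zero] at hnat
    have h1 := congrArg (fun φ => φ.app ⊤ (1 : Γ(((f ⁻¹ᵁ W : X.Opens) : Scheme.{u}), ⊤))) hnat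
    have h2 := Groth.Agent.Lead.LocLift.homOfTop_app_one M m
    simp only [Scheme.Modules.Hom.comp_app] at h1
    rw [← h2]
    exact h1
  -- step b: its direct image to the affine chart vanishes
  haveI q1 : ((pushforward (f ∣_ W)).obj M).IsQuasicoherent :=
    Groth.Agent.Helper4.QcohGlue.isQuasicoherent_pushforward _ _
  haveI q2 : ((pushforward (f ∣_ W)).obj
      ((𝟭 (((f ⁻¹ᵁ W : X.Opens) : Scheme.{u}).Modules)).obj M)).IsQuasicoherent := q1
  have hb : (pushforward (f ∣_ W)).map ((pullbackPushforwardAdjunction g₁).unit.app M) = 0 := by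
    apply Groth.Agent.Helper1.AM.hom_ext_of_affine_cover _ 0 (fun V => V = ⊤)
    · rintro V rfl
      exact isAffineOpen_top _
    · intro x
      exact ⟨⊤, rfl, trivial⟩
    · rintro V rfl m
      exact ha m
  -- step c: transport along `f_* j_* ≅ (W.ι)_* (f|_W)_*`
  have hc : (pushforward f).map ((pushforward j).map
      ((pullbackPushforwardAdjunction g₁).unit.app M)) = 0 := by
    let Θ : pushforward j ⋙ pushforward f ≅ pushforward (f ∣_ W) ⋙ pushforward W.ι :=
      pushforwardComp j f ≪≫ pushforwardCongr (morphismRestrict_ι f W).symm ≪≫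
        (pushforwardComp (f ∣_ W) W.ι).symm
    have := map_eq_zero_of_natIso Θ ((pullbackPushforwardAdjunction g₁).unit.app M)
      (by
        show (pushforward W.ι).map ((pushforward (f ∣_ W)).map _) = 0
        rw [hb, Functor.map_zero])
    exact this
  -- step d: the unit of the composition
  have hd : (pushforward f).map ((pullbackPushforwardAdjunction (g₁ ≫ j)).unit.app N) = 0 := by
    rw [Groth.Agent.Helper1.PC.unit_comp g₁ j N]
    simp only [Functor.map_comp]
    rw [hc, Limits.zero_comp, Limits.comp_zero]
  -- step e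
  have he : CohBC.bc0Adj f g f' (g₁ ≫ j) w N = 0 := by
    unfold CohBC.bc0Adj
    rw [hd, Limits.zero_comp]
  unfold CohBC.bc0
  rw [he]
  apply ((pullbackPushforwardAdjunction g).homEquiv _ _).injective
  rw [Equiv.apply_symm_apply, homEquiv_zero]

end Groth.Agent.Helper1.SW
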