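import Groth.Agent.Helper1.SW5

set_option autoImplicit false
set_option linter.style.haveILetI false
set_option linter.unusedSectionVars false
set_option linter.unusedVariables false

/-!
# The degree-zero base change map of a module pulled back from the base
-/

namespace Groth.Agent.Helper1.SW

open CategoryTheory AlgebraicGeometry Opposite TopologicalSpace
  AlgebraicGeometry.Scheme.Modules
open Groth.Agent.Helper1.UF Groth.Agent.Helper4.PullUnit

universe u

section general

variable {X S X' S' : Scheme.{u}} (f : X ⟶ S) (g : S' ⟶ S) (f' : X' ⟶ S') (g' : X' ⟶ X)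
  (w : g' ≫ f = f' ≫ g)

/-- if the degree-zero base change map vanishes, so does the direct image of the unit -/
lemma pushforward_unit_eq_zero_of_bc0_eq_zero (N : X.Modules)
    (h0 : CohBC.bc0 f g f' g' w N = 0) :
    (pushforward f).map ((pullbackPushforwardAdjunction g').unit.app N) = 0 := by
  have h1 : CohBC.bc0Adj f g f' g' w N = 0 := by
    have h := congrArg ((pullbackPushforwardAdjunction g).homEquiv _ _) h0
    rw [homEquiv_zero] at h
    refine Eq.trans ?_ h
    exact (Equiv.apply_symm_apply _ _).symm
  unfold CohBC.bc0Adj at h1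
  rw [← cancel_mono ((pushforwardComp g' f).hom.app ((pullback g').obj N) ≫
    (pushforwardCongr w).hom.app ((pullback g').obj N) ≫
    (pushforwardComp f' g).inv.app ((pullback g').obj N)), Limits.zero_comp]
  exact h1

/-- the degree-zero base change map of a module coming from the base does not vanish when its
inverse image is nonzero -/
theorem bc0_ne_zero_of_iso_pullback (N : X.Modules) (M₀ : S.Modules)
    (θ : N ≅ (pullback f).obj M₀) (hne : 𝟙 ((pullback g').obj N) ≠ 0) :
    CohBC.bc0 f g f' g' w N ≠ 0 := by
  intro h0
  apply hne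
  have h2 := pushforward_unit_eq_zero_of_bc0_eq_zero f g f' g' w N h0
  -- the unit at `f^* M₀`
  have h3 : (pushforward f).map
      ((pullbackPushforwardAdjunction g').unit.app ((pullback f).obj M₀)) = 0 := by
    have hnat := (pullbackPushforwardAdjunction g').unit.naturality θ.hom
    simp only [Functor.id_map, Functor.comp_map] at hnat
    have : (pullbackPushforwardAdjunction g').unit.app ((pullback f).obj M₀) =
        θ.inv ≫ (pullbackPushforwardAdjunction g').unit.app N ≫
          (pushforward g').map ((pullback g').map θ.hom) := by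
      rw [← hnat, Iso.inv_hom_id_assoc]
    rw [this, Functor.map_comp, Functor.map_comp, h2, Limits.zero_comp, Limits.comp_zero]
  -- the unit of the composition
  have h4 : (pullbackPushforwardAdjunction (g' ≫ f)).unit.app M₀ = 0 := by
    rw [Groth.Agent.Helper1.PC.unit_comp g' f M₀, h3, Limits.zero_comp, Limits.comp_zero]
  have h5 : 𝟙 ((pullback (g' ≫ f)).obj M₀) = 0 := by
    apply ((pullbackPushforwardAdjunction (g' ≫ f)).homEquiv _ _).injective
    rw [homEquiv_zero, Adjunction.homEquiv_unit, CategoryTheory.Functor.map_id]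
    exact (Category.comp_id _).trans h4
  let ι : (pullback g').obj N ≅ (pullback (g' ≫ f)).obj M₀ :=
    (pullback g').mapIso θ ≪≫ (pullbackComp g' f).app M₀
  have : 𝟙 ((pullback g').obj N) = ι.hom ≫ 𝟙 _ ≫ ι.inv := by
    rw [Category.id_comp, Iso.hom_inv_id]
  rw [this, h5, Limits.zero_comp, Limits.comp_zero]

end general

variable {X S : Scheme.{u}} (f : X ⟶ S) [QuasiCompact f] [QuasiSeparated f]

/-- a nonvanishing degree-zero base change map to a fibre with `Γ(X_y, O) = κ(y)` on which the
module is trivial is an epimorphism -/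
theorem epi_bc0_fibre_of_ne_zero (N : X.Modules) [N.IsQuasicoherent] (y : S)
    (hy : IsIso (f.fiberToSpecResidueField y).appTop)
    (e₀ : CohIII.fiberMod f N y ≅ Coh.structureModule (f.fiber y))
    (hbc : CohBC.bc0 f (S.fromSpecResidueField y) (f.fiberToSpecResidueField y) (f.fiberι y)
      (f.fiber_fac y) N ≠ 0) :
    Epi (CohBC.bc0 f (S.fromSpecResidueField y) (f.fiberToSpecResidueField y) (f.fiberι y)
      (f.fiber_fac y) N) := by
  haveI := isQuasicoherent_unit (f.fiber y)
  haveI : QuasiCompact (f.fiberToSpecResidueField y) :=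
    MorphismProperty.pullback_snd (P := @QuasiCompact) f (S.fromSpecResidueField y) inferInstance
  haveI : QuasiSeparated (f.fiberToSpecResidueField y) :=
    MorphismProperty.pullback_snd (P := @QuasiSeparated) f (S.fromSpecResidueField y)
      inferInstance
  have hbij' : Function.Bijective ((f.fiberToSpecResidueField y).app ⊤).hom :=
    (ConcreteCategory.isIso_iff_bijective _).mp hy
  have hfield0 : IsField Γ(Spec (S.residueField y), ⊤) :=
    (Scheme.ΓSpecIso (S.residueField y)).commRingCatIsoToRingEquiv.toMulEquiv.isField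
      (Field.toIsField (S.residueField y))
  have hfield : IsField Γ(f.fiber y, ⊤) :=
    (RingEquiv.ofBijective _ hbij').symm.toMulEquiv.isField hfield0
  haveI : Nontrivial Γ(f.fiber y, ⊤) := hfield.nontrivial
  set bc := CohBC.bc0 f (S.fromSpecResidueField y) (f.fiberToSpecResidueField y) (f.fiberι y)
      (f.fiber_fac y) N with hbcdef
  let b : (pushforward (f.fiberToSpecResidueField y)).obj ((pullback (f.fiberι y)).obj N) ⟶
      (pushforward (f.fiberToSpecResidueField y)).obj (Coh.structureModule (f.fiber y)) :=
    (pushforward (f.fiberToSpecResidueField y)).map e₀.hom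
  haveI : IsIso b := by
    dsimp only [b]
    infer_instance
  haveI qP : ((pushforward f).obj N).IsQuasicoherent :=
    Groth.Agent.Helper4.QcohGlue.isQuasicoherent_pushforward _ _
  haveI qN : ((pullback (S.fromSpecResidueField y)).obj
      ((pushforward f).obj N)).IsQuasicoherent :=
    Groth.Agent.Lead.StalkPull.isQuasicoherent_pullbackObj _ _
  haveI qT : ((pushforward (f.fiberToSpecResidueField y)).obj
      (Coh.structureModule (f.fiber y))).IsQuasicoherent :=
    Groth.Agent.Helper4.QcohGlue.isQuasicoherent_pushforward _ _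
  set φ := bc ≫ b with hφdef
  have hφ : φ ≠ 0 := by
    intro h0
    apply hbc
    have : bc = φ ≫ inv b := by
      rw [hφdef]
      simp
    rw [this, h0]
    simp
  obtain ⟨n, hn⟩ : ∃ n, φ.app ⊤ n ≠ 0 := by
    by_contra hcon
    push Not at hcon
    apply hφ
    apply Groth.Agent.Helper1.AM.hom_ext_of_affine_cover φ 0 (fun V => V = ⊤)
    · rintro V rfl
      exact isAffineOpen_top _
    · intro x
      exact ⟨⊤, rfl, trivial⟩
    · rintro V rfl s
      rw [hcon s]
      rfl
  set c : Γ(f.fiber y, ⊤) := φ.app ⊤ n with hcdef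
  have hc : c ≠ 0 := hn
  obtain ⟨d, hd⟩ := hfield.mul_inv_cancel hc
  have hsurj : Function.Surjective (φ.app ⊤) := by
    intro m
    obtain ⟨r, hr⟩ := hbij'.2 ((show Γ(f.fiber y, ⊤) from m) * d)
    refine ⟨r • n, ?_⟩
    have h2 := Scheme.Modules.Hom.app_smul φ r n
    refine h2.trans ?_
    show (show Γ(f.fiber y, ⊤) from ((f.fiberToSpecResidueField y).app ⊤).hom r) * c = m
    rw [hr, mul_assoc, mul_comm d, hd, mul_one]
  haveI : Epi φ := by
    apply Groth.Agent.Helper4.QcohLocal.epi_of_app_surjective_of_affine_cover
    intro x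
    exact ⟨⊤, isAffineOpen_top _, trivial, hsurj⟩
  have : bc = φ ≫ inv b := by
    rw [hφdef]
    simp
  rw [this]
  infer_instance

end Groth.Agent.Helper1.SW
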