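import Groth.Agent.S11778
import Groth.Agent.S0056
import Groth.Agent.S3862
import Groth.Agent.Helper1.AZ5

/-!
# Algebraization of a flat proper formal scheme with projective closed fibre and `H² = 0`
-/

set_option autoImplicit false
set_option linter.style.haveILetI false
set_option linter.unusedSectionVars false
universe u
open CategoryTheory CategoryTheory.Limits AlgebraicGeometry Opposite

namespace Groth.Agent.Helper1.SZ

/-- two closed immersions with the same ideal are isomorphic over the target -/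
noncomputable def isoOfKerEq {X Y Z : Scheme.{u}} (f : X ⟶ Z) (g : Y ⟶ Z) [IsClosedImmersion f]
    [IsClosedImmersion g] (h : f.ker = g.ker) : Y ≅ X where
  hom := IsClosedImmersion.lift f g h.le
  inv := IsClosedImmersion.lift g f h.ge
  hom_inv_id := by
    rw [← cancel_mono g, Category.assoc, IsClosedImmersion.lift_fac, IsClosedImmersion.lift_fac,
      Category.id_comp]
  inv_hom_id := by
    rw [← cancel_mono f, Category.assoc, IsClosedImmersion.lift_fac, IsClosedImmersion.lift_fac,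
      Category.id_comp]

theorem isoOfKerEq_hom_comp {X Y Z : Scheme.{u}} (f : X ⟶ Z) (g : Y ⟶ Z) [IsClosedImmersion f]
    [IsClosedImmersion g] (h : f.ker = g.ker) : (isoOfKerEq f g h).hom ≫ f = g :=
  IsClosedImmersion.lift_fac _ _ _

/-- an isomorphism of systems from levelwise isomorphisms compatible with the transition maps -/
noncomputable def sysIso {𝔛 𝔜 : FSch.Sys.{u}} (ε : ∀ n, 𝔛.X n ≅ 𝔜.X n)
    (h : ∀ n, (ε n).hom ≫ 𝔜.ι n = 𝔛.ι n ≫ (ε (n + 1)).hom) : 𝔛 ≅ 𝔜 where
  hom := (⟨fun n => (ε n).hom, h⟩ : FSch.Hom 𝔛 𝔜)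
  inv := (⟨fun n => (ε n).inv, fun n => by
    rw [Iso.inv_comp_eq, ← Category.assoc, h, Category.assoc, Iso.hom_inv_id, Category.comp_id]⟩ :
      FSch.Hom 𝔜 𝔛)
  hom_inv_id := FSch.Hom.ext (funext fun n => (ε n).hom_inv_id)
  inv_hom_id := FSch.Hom.ext (funext fun n => (ε n).inv_hom_id)

theorem sysIso_hom_app {𝔛 𝔜 : FSch.Sys.{u}} (ε : ∀ n, 𝔛.X n ≅ 𝔜.X n)
    (h : ∀ n, (ε n).hom ≫ 𝔜.ι n = 𝔛.ι n ≫ (ε (n + 1)).hom) (n : ℕ) :
    ((sysIso ε h).hom : FSch.Hom 𝔛 𝔜).app n = (ε n).hom := rfl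

/-- **algebraization of a flat proper formal scheme over a complete local ring whose closed fibre is
projective with `H²(X₀, O) = 0`** -/
theorem exists_algebraization_of_h2 (A : Type u) [CommRing A] [IsLocalRing A]
    [IsNoetherianRing A] [IsAdicComplete (IsLocalRing.maximalIdeal A) A]
    (𝔛 : FSch.Sys.{u}) (f : 𝔛 ⟶ FSch.completionAlong (Spec (CommRingCat.of A))
      (FSch.idealSpec A (IsLocalRing.maximalIdeal A)))
    (hf : FSch.IsProperHom f) (hflat : ∀ n : ℕ, Flat ((f : FSch.Hom _ _).app n))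
    (hproj : ∃ L₀ : (𝔛.X 0).Modules, CohB1.IsAmple L₀)
    (hH2 : Subsingleton (Coh.HH (𝔛.X 0) (Coh.structureModule (𝔛.X 0)) 2)) :
    ∃ (X : Scheme.{u}) (g : X ⟶ (Spec (CommRingCat.of A))) (L : X.Modules), IsProper g ∧
      CohB1.IsAmple L ∧
      ∃ (h : FSch.PowCompat g ((FSch.idealSpec A (IsLocalRing.maximalIdeal A)).comap g)
          (FSch.idealSpec A (IsLocalRing.maximalIdeal A)))
        (e : 𝔛 ≅ FSch.completionAlong X
          ((FSch.idealSpec A (IsLocalRing.maximalIdeal A)).comap g)),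
        e.hom ≫ FSch.completionMap g ((FSch.idealSpec A (IsLocalRing.maximalIdeal A)).comap g)
          (FSch.idealSpec A (IsLocalRing.maximalIdeal A)) h = f := by
  obtain ⟨hadic, hprop⟩ := hf
  -- the levels of the base are the spectra of the quotients
  have hker : ∀ n, (CohB1.specQuot (IsLocalRing.maximalIdeal A) n).ker =
      ((FSch.idealSpec A (IsLocalRing.maximalIdeal A)) ^ (n + 1)).subschemeι.ker := by
    intro n
    rw [Scheme.IdealSheafData.ker_subschemeι, Groth.Agent.Helper1.AZ.idealSpec_pow]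
    rfl
  let σ : ∀ n, ((FSch.idealSpec A (IsLocalRing.maximalIdeal A)) ^ (n + 1)).subscheme ≅
      Spec (CommRingCat.of (A ⧸ IsLocalRing.maximalIdeal A ^ (n + 1))) := fun n =>
    isoOfKerEq (CohB1.specQuot (IsLocalRing.maximalIdeal A) n)
      ((FSch.idealSpec A (IsLocalRing.maximalIdeal A)) ^ (n + 1)).subschemeι (hker n)
  have hσ : ∀ n, (σ n).hom ≫ CohB1.specQuot (IsLocalRing.maximalIdeal A) n =
      ((FSch.idealSpec A (IsLocalRing.maximalIdeal A)) ^ (n + 1)).subschemeι :=
    fun n => isoOfKerEq_hom_comp _ _ _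
  let p : ∀ n, 𝔛.X n ⟶ Spec (CommRingCat.of (A ⧸ IsLocalRing.maximalIdeal A ^ (n + 1))) :=
    fun n => (f : FSch.Hom _ _).app n ≫ (σ n).hom
  have hσι : ∀ n, Scheme.IdealSheafData.inclusion (FSch.pow_succ_le (Spec (CommRingCat.of A))
      (FSch.idealSpec A (IsLocalRing.maximalIdeal A)) n) ≫ (σ (n + 1)).hom =
      (σ n).hom ≫ CohB1.specQuotTrans (IsLocalRing.maximalIdeal A) n := by
    intro n
    rw [← cancel_mono (CohB1.specQuot (IsLocalRing.maximalIdeal A) (n + 1))]
    simp only [Category.assoc]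
    rw [hσ, CohB1.specQuotTrans_specQuot, hσ]
    exact Scheme.IdealSheafData.inclusion_subschemeι _
  have hcart : ∀ n, IsPullback (𝔛.ι n) (p n) (p (n + 1))
      (CohB1.specQuotTrans (IsLocalRing.maximalIdeal A) n) := by
    intro n
    have hbot : IsPullback ((FSch.completionAlong (Spec (CommRingCat.of A))
        (FSch.idealSpec A (IsLocalRing.maximalIdeal A))).ι n) (σ n).hom (σ (n + 1)).hom
        (CohB1.specQuotTrans (IsLocalRing.maximalIdeal A) n) :=
      IsPullback.of_vert_isIso ⟨hσι n⟩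
    exact (hadic n).paste_vert hbot
  have hpflat : ∀ n, Flat (p n) := fun n => by
    haveI := hflat n
    infer_instance
  haveI hpprop : IsProper (p 0) := by
    haveI := hprop
    infer_instance
  haveI : (𝔛.X 0).IsSeparated := ⟨by rw [← terminal.comp_from (p 0)]; infer_instance⟩
  obtain ⟨L₀, hL₀⟩ := hproj
  obtain ⟨L, hLinv, ⟨e₀⟩, hLt⟩ := Groth.Agent.S11778.result A 𝔛.X p 𝔛.ι hcart hpflat hH2 L₀ hL₀.1
  obtain ⟨Y, g, M, e, hg, -, hMample, hsq, hcompat, -⟩ :=
    Groth.Agent.S0056.result A (IsLocalRing.maximalIdeal A) 𝔛.X p 𝔛.ι hcart hpprop L hLinv hLt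
      (Groth.Agent.Helper4.AmpleIso.isAmple_of_iso e₀.symm hL₀)
  have hpc : FSch.PowCompat g ((FSch.idealSpec A (IsLocalRing.maximalIdeal A)).comap g)
      (FSch.idealSpec A (IsLocalRing.maximalIdeal A)) :=
    fun n => (Groth.Agent.S3862.comap_pow_succ g _ n).le
  refine ⟨Y, g, M, hg, hMample, hpc, ?_⟩
  obtain ⟨hlev, -⟩ := Groth.Agent.S3862.result g (FSch.idealSpec A (IsLocalRing.maximalIdeal A)) hpc
  have hX : ∀ n, IsPullback (e n) ((f : FSch.Hom _ _).app n) g
      (FSch.completionToX (Spec (CommRingCat.of A))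
        (FSch.idealSpec A (IsLocalRing.maximalIdeal A)) n) := by
    intro n
    refine IsPullback.of_iso (hsq n) (Iso.refl _) (Iso.refl _) (σ n).symm (Iso.refl _) ?_ ?_ ?_ ?_
    · simp
    · simp [p]
    · simp
    · rw [Iso.refl_hom, Category.comp_id, Iso.symm_hom, Iso.eq_inv_comp]
      exact hσ n
  let ε : ∀ n, 𝔛.X n ≅ (FSch.completionAlong Y
      ((FSch.idealSpec A (IsLocalRing.maximalIdeal A)).comap g)).X n :=
    fun n => (hX n).isoIsPullback _ _ (hlev n)
  have hε1 : ∀ n, (ε n).hom ≫ FSch.completionToX Y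
      ((FSch.idealSpec A (IsLocalRing.maximalIdeal A)).comap g) n = e n :=
    fun n => IsPullback.isoIsPullback_hom_fst _ _ (hX n) (hlev n)
  have hε2 : ∀ n, (ε n).hom ≫ (FSch.completionMap g
      ((FSch.idealSpec A (IsLocalRing.maximalIdeal A)).comap g)
      (FSch.idealSpec A (IsLocalRing.maximalIdeal A)) hpc : FSch.Hom _ _).app n =
      (f : FSch.Hom _ _).app n :=
    fun n => IsPullback.isoIsPullback_hom_snd _ _ (hX n) (hlev n)
  have hει : ∀ n, (ε n).hom ≫ (FSch.completionAlong Y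
      ((FSch.idealSpec A (IsLocalRing.maximalIdeal A)).comap g)).ι n =
      𝔛.ι n ≫ (ε (n + 1)).hom := by
    intro n
    haveI : Mono (FSch.completionToX Y
        ((FSch.idealSpec A (IsLocalRing.maximalIdeal A)).comap g) (n + 1)) :=
      inferInstanceAs (Mono
        (((FSch.idealSpec A (IsLocalRing.maximalIdeal A)).comap g) ^ (n + 1 + 1)).subschemeι)
    rw [← cancel_mono (FSch.completionToX Y
      ((FSch.idealSpec A (IsLocalRing.maximalIdeal A)).comap g) (n + 1))]
    simp only [Category.assoc]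
    rw [hε1, ← hcompat]
    have e1 : (FSch.completionAlong Y
        ((FSch.idealSpec A (IsLocalRing.maximalIdeal A)).comap g)).ι n ≫
        FSch.completionToX Y ((FSch.idealSpec A (IsLocalRing.maximalIdeal A)).comap g) (n + 1) =
        FSch.completionToX Y ((FSch.idealSpec A (IsLocalRing.maximalIdeal A)).comap g) n :=
      Scheme.IdealSheafData.inclusion_subschemeι _
    rw [e1, hε1]
  refine ⟨sysIso ε hει, ?_⟩
  apply FSch.Hom.ext
  funext n
  exact hε2 n

end Groth.Agent.Helper1.SZ
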