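import Mathlib

/-!
# SchAff1: faithfully flat finite products and base change (pure algebra)
-/

set_option autoImplicit false
universe u
open TensorProduct

namespace Groth.Agent.Helper1.SchAff

section L1

variable {A : Type*} [CommRing A] {ι : Type*} (B : ι → Type*)
  [∀ i, AddCommGroup (B i)] [∀ i, Module A (B i)]
  {N₁ N₂ : Type*} [AddCommGroup N₁] [Module A N₁] [AddCommGroup N₂] [Module A N₂]

/-- the product of the maps `ψ ⊗ B i` -/
def piR (ψ : N₁ →ₗ[A] N₂) : (∀ i, N₁ ⊗[A] B i) →ₗ[A] (∀ i, N₂ ⊗[A] B i) :=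
  LinearMap.pi fun i => (ψ.rTensor (B i)) ∘ₗ
    (LinearMap.proj i : (∀ i, N₁ ⊗[A] B i) →ₗ[A] N₁ ⊗[A] B i)

theorem piR_apply (ψ : N₁ →ₗ[A] N₂) (x : ∀ i, N₁ ⊗[A] B i) (i : ι) :
    piR B ψ x i = ψ.rTensor (B i) (x i) := rfl

theorem piR_bijective (ψ : N₁ →ₗ[A] N₂) (h : ∀ i, Function.Bijective (ψ.rTensor (B i))) :
    Function.Bijective (piR B ψ) := by
  constructor
  · intro x y hxy
    funext i
    exact (h i).1 (congrFun hxy i)
  · intro y
    choose x hx using fun i => (h i).2 (y i)
    exact ⟨x, funext hx⟩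

/-- a linear map is bijective if it becomes bijective after tensoring with each factor of a
faithfully flat finite product -/
theorem bijective_of_forall_rTensor [Finite ι] [Module.FaithfullyFlat A (∀ i, B i)]
    (ψ : N₁ →ₗ[A] N₂)
    (h : ∀ i, Function.Bijective (ψ.rTensor (B i))) : Function.Bijective ψ := by
  classical
  haveI := Fintype.ofFinite ι
  rw [← Module.FaithfullyFlat.lTensor_bijective_iff_bijective A (∀ i, B i)]
  have key : ∀ z, (ψ.lTensor (∀ i, B i)) z =
      (TensorProduct.comm A N₂ (∀ i, B i))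
        ((TensorProduct.piRight A A N₂ B).symm
          (piR B ψ ((TensorProduct.piRight A A N₁ B)
            ((TensorProduct.comm A (∀ i, B i) N₁) z)))) := by
    intro z
    induction z using TensorProduct.induction_on with
    | zero => simp
    | add x y hx hy => simp only [map_add, hx, hy]
    | tmul b n =>
      rw [LinearMap.lTensor_tmul, TensorProduct.comm_tmul, TensorProduct.piRight_apply,
        TensorProduct.piRightHom_tmul]
      have : piR B ψ (fun j => n ⊗ₜ[A] b j) = fun j => ψ n ⊗ₜ[A] b j := by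
        funext j
        rw [piR_apply, LinearMap.rTensor_tmul]
      rw [this, TensorProduct.piRight_symm_apply, TensorProduct.comm_tmul]
  have e : ⇑(ψ.lTensor (∀ i, B i)) =
      (TensorProduct.comm A N₂ (∀ i, B i)) ∘ (TensorProduct.piRight A A N₂ B).symm ∘
        (piR B ψ) ∘ (TensorProduct.piRight A A N₁ B) ∘ (TensorProduct.comm A (∀ i, B i) N₁) :=
    funext key
  rw [e]
  exact (LinearEquiv.bijective _).comp ((LinearEquiv.bijective _).comp
    ((piR_bijective B ψ h).comp ((LinearEquiv.bijective _).comp (LinearEquiv.bijective _))))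

end L1

end Groth.Agent.Helper1.SchAff

namespace Groth.Agent.Helper1.SchAff

section L2

variable {R A : Type*} [CommRing R] [CommRing A] [Algebra R A] {ι : Type*} [Finite ι]
  (B : ι → Type*) [∀ i, CommRing (B i)] [∀ i, Algebra A (B i)] [∀ i, Algebra R (B i)]
  [∀ i, IsScalarTower R A (B i)]
  {M N : Type*} [AddCommGroup M] [Module R M] [AddCommGroup N] [Module A N] [Module R N]
  [IsScalarTower R A N]
  (P : ι → Type*) [∀ i, AddCommGroup (P i)] [∀ i, Module (B i) (P i)] [∀ i, Module A (P i)]
  [∀ i, Module R (P i)] [∀ i, IsScalarTower A (B i) (P i)] [∀ i, IsScalarTower R (B i) (P i)]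
  [∀ i, IsScalarTower R A (P i)]

/-- descent of base change along a faithfully flat finite product -/
theorem isBaseChange_of_forall [Module.FaithfullyFlat A (∀ i, B i)]
    (f : M →ₗ[R] N) (g : ∀ i, N →ₗ[A] P i)
    (hg : ∀ i, IsBaseChange (B i) (g i))
    (hgf : ∀ i, IsBaseChange (B i) (((g i).restrictScalars R) ∘ₗ f)) :
    IsBaseChange A f := by
  let ψ : A ⊗[R] M →ₗ[A] N := f.liftBaseChange A
  have hψ1 : ∀ (a : A) (m : M), ψ (a ⊗ₜ m) = a • f m := fun a m => by
    simp [ψ]
  suffices hψ : Function.Bijective ψ by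
    refine IsBaseChange.of_equiv (LinearEquiv.ofBijective ψ hψ) (fun x => ?_)
    show ψ (1 ⊗ₜ x) = f x
    rw [hψ1, one_smul]
  refine bijective_of_forall_rTensor B ψ (fun i => ?_)
  -- right chain
  let rc : N ⊗[A] B i ≃+ P i :=
    (TensorProduct.comm A N (B i)).toAddEquiv.trans (hg i).equiv.toAddEquiv
  -- left chain
  let lc : (A ⊗[R] M) ⊗[A] B i ≃+ P i :=
    (TensorProduct.comm A (A ⊗[R] M) (B i)).toAddEquiv.trans
      ((TensorProduct.AlgebraTensorModule.cancelBaseChange R A (B i) (B i) M).toAddEquiv.trans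
        (hgf i).equiv.toAddEquiv)
  have hcomm : ∀ z, rc (ψ.rTensor (B i) z) = lc z := by
    intro z
    induction z using TensorProduct.induction_on with
    | zero => simp
    | add x y hx hy => simp only [map_add, hx, hy]
    | tmul x b =>
      induction x using TensorProduct.induction_on with
      | zero => simp
      | add x y hx hy => simp only [TensorProduct.add_tmul, map_add, hx, hy]
      | tmul a m =>
        show (hg i).equiv ((TensorProduct.comm A N (B i)) (ψ (a ⊗ₜ m) ⊗ₜ b)) =
          (hgf i).equiv ((TensorProduct.AlgebraTensorModule.cancelBaseChange R A (B i) (B i) M)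
            ((TensorProduct.comm A (A ⊗[R] M) (B i)) ((a ⊗ₜ m) ⊗ₜ b)))
        rw [TensorProduct.comm_tmul, TensorProduct.comm_tmul, hψ1, IsBaseChange.equiv_tmul,
          TensorProduct.AlgebraTensorModule.cancelBaseChange_tmul, IsBaseChange.equiv_tmul]
        simp only [LinearMap.coe_comp, LinearMap.coe_restrictScalars, Function.comp_apply,
          map_smul]
        rw [smul_comm b a, smul_assoc]
  have e : ⇑(ψ.rTensor (B i)) = rc.symm ∘ lc := by
    funext z
    rw [Function.comp_apply, ← hcomm z, AddEquiv.symm_apply_apply]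
  rw [e]
  exact rc.symm.bijective.comp lc.bijective

end L2

end Groth.Agent.Helper1.SchAff
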