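import Mathlib
import Groth.Prelude.Def_SchFin2
import Groth.Agent.Helper1.SchAff1

/-!
# SchAff2: base change for quasi-coherent modules on affine up-sets of finite ringed posets
-/

set_option autoImplicit false
universe u
open TensorProduct SchFin

namespace Groth.Agent.Helper1.SchAff

/-- transfer of `IsBCAlong` along an isomorphism of the source ring and source module -/
theorem isBCAlong_transfer {R R' S : Type u} [CommRing R] [CommRing R'] [CommRing S]
    (α : R ≃+* R') (g : R →+* S) (g' : R' →+* S) (hg : ∀ r, g' (α r) = g r)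
    {M M' N : Type u} [AddCommGroup M] [AddCommGroup M'] [AddCommGroup N] [Module R M]
    [Module R' M'] [Module S N]
    (β : M ≃+ M') (hβ : ∀ (r : R) (m : M), β (r • m) = α r • β m)
    (f : M →ₛₗ[g] N) (f' : M' →ₛₗ[g'] N) (hf : ∀ m, f' (β m) = f m)
    (h : IsBCAlong g' f') : IsBCAlong g f := by
  unfold IsBCAlong at h ⊢
  letI iA : Algebra R S := g.toAlgebra
  letI iA' : Algebra R' S := g'.toAlgebra
  letI iN : Module R N := Module.compHom N g
  letI iN' : Module R' N := Module.compHom N g'
  haveI t1 : IsScalarTower R S N := IsScalarTower.of_algebraMap_smul fun _ _ => rfl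
  haveI t2 : IsScalarTower R' S N := IsScalarTower.of_algebraMap_smul fun _ _ => rfl
  apply IsBaseChange.of_lift_unique
  intro Q _ _ _ _ k
  letI : Module R' Q := Module.compHom Q (α.symm : R' →+* R)
  have hsm : ∀ (r' : R') (q : Q), r' • q = (α.symm r') • q := fun _ _ => rfl
  haveI : IsScalarTower R' S Q := ⟨fun r' s q => by
    have e1 : r' • s = (α.symm r') • s := by
      show g' r' * s = g (α.symm r') * s
      rw [← hg, RingEquiv.apply_symm_apply]
    rw [e1, hsm r' (s • q), smul_assoc]⟩
  have hβs : ∀ (r' : R') (m' : M'), β.symm (r' • m') = (α.symm r') • β.symm m' := by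
    intro r' m'
    apply β.injective
    rw [hβ, AddEquiv.apply_symm_apply, AddEquiv.apply_symm_apply, RingEquiv.apply_symm_apply]
  let k' : M' →ₗ[R'] Q :=
    { toFun := fun m' => k (β.symm m')
      map_add' := fun a b => by rw [map_add, map_add]
      map_smul' := fun r' m' => by
        rw [hβs, map_smul]
        rfl }
  refine ⟨h.lift k', ?_, ?_⟩
  · ext m
    show h.lift k' (f m) = k m
    rw [← hf m]
    refine (h.lift_eq k' (β m)).trans ?_
    show k (β.symm (β m)) = k m
    rw [AddEquiv.symm_apply_apply]
  · intro h'' hh''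
    refine h.algHom_ext' _ _ ?_
    ext m'
    have e2 := DFunLike.congr_fun hh'' (β.symm m')
    have e3 : h'' (f (β.symm m')) = k (β.symm m') := e2
    rw [← hf, AddEquiv.apply_symm_apply] at e3
    show h'' (f' m') = h.lift k' (f' m')
    rw [e3]
    exact (h.lift_eq k' m').symm

section Sections

variable (X : RSpace.{u}) (U : Set X.pt)

/-- sections of the rings over `U` are the global sections of the restriction to `U` -/
def secRingEquiv : X.sectRing U ≃+* (X.restrict U).sectRing Set.univ where
  toFun s := ⟨fun q => s.1 q.1, fun q q' h => s.2 q.1 q'.1 h⟩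
  invFun t := ⟨fun q => t.1 ⟨q, trivial⟩, fun q q' h => t.2 ⟨q, trivial⟩ ⟨q', trivial⟩ h⟩
  left_inv _ := rfl
  right_inv _ := rfl
  map_mul' _ _ := rfl
  map_add' _ _ := rfl

variable {X} (M : OMod X)

/-- sections of a module over `U` are the global sections of the restriction to `U` -/
def secModEquiv : M.sect U ≃+ (M.restrict U).sect Set.univ where
  toFun s := ⟨fun q => s.1 q.1, fun q q' h => s.2 q.1 q'.1 h⟩
  invFun t := ⟨fun q => t.1 ⟨q, trivial⟩, fun q q' h => t.2 ⟨q, trivial⟩ ⟨q', trivial⟩ h⟩
  left_inv _ := rfl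
  right_inv _ := rfl
  map_add' _ _ := rfl

theorem isQcoh_restrict (hM : M.IsQcoh) : (M.restrict U).IsQcoh :=
  fun p q h => hM p.1 q.1 h

/-- on an affine up-set, evaluation at a point is a base change -/
theorem isBCAlong_eval (hUa : (X.restrict U).IsAffine) (hM : M.IsQcoh) (q : U) :
    IsBCAlong (X.evalRing U q) (M.evalMod U q) := by
  have h := hUa.2.2.1 (M.restrict U) (isQcoh_restrict U M hM) q
  exact isBCAlong_transfer (secRingEquiv X U) (X.evalRing U q)
    ((X.restrict U).evalRing Set.univ ⟨q, trivial⟩) (fun r => rfl) (secModEquiv U M)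
    (fun r m => rfl) (M.evalMod U q) ((M.restrict U).evalMod Set.univ ⟨q, trivial⟩)
    (fun m => rfl) h

end Sections

end Groth.Agent.Helper1.SchAff
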