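import Mathlib
import Groth.Agent.Helper1.SchAff1

/-!
# SchAff3: descent of finiteness / flatness / étaleness along a faithfully flat finite product
-/

set_option autoImplicit false
set_option linter.style.haveILetI false
universe u
open TensorProduct

namespace Groth.Agent.Helper1.SchAff

section Prod

variable {O : Type*} [CommRing O] {ι : Type*} [Finite ι] (B : ι → Type*)
  [∀ i, CommRing (B i)] [∀ i, Algebra O (B i)]

/-- the `i`-th factor as an algebra over the product ring -/
abbrev projAlgebra (i : ι) : Algebra (∀ i, B i) (B i) := (Pi.evalRingHom B i).toAlgebra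

/-- a `B i`-module viewed as a module over the product ring through the `i`-th projection -/
abbrev projModule (i : ι) (W : Type*) [AddCommGroup W] [Module (B i) W] :
    Module (∀ i, B i) W :=
  Module.compHom W (Pi.evalRingHom B i)

theorem projModule_smul (i : ι) (W : Type*) [AddCommGroup W] [Module (B i) W]
    (t : ∀ i, B i) (w : W) :
    letI := projModule B i W
    t • w = t i • w := rfl

theorem projAlgebra_smul (i : ι) (t : ∀ i, B i) (b : B i) :
    letI := projAlgebra B i
    t • b = t i * b := rfl

/-- a factor of a finite product ring is a finite module over the product -/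
theorem finite_proj (i : ι) :
    letI := projAlgebra B i
    Module.Finite (∀ i, B i) (B i) := by
  classical
  letI := projAlgebra B i
  refine Module.Finite.of_surjective
    ({ toFun := fun t => t i
       map_add' := fun _ _ => rfl
       map_smul' := fun _ _ => rfl } : (∀ i, B i) →ₗ[∀ i, B i] B i) ?_
  intro b
  exact ⟨Pi.single i b, Pi.single_eq_same i b⟩

/-- a factor of a finite product ring is a flat module over the product -/
theorem flat_proj (i : ι) :
    letI := projAlgebra B i
    Module.Flat (∀ i, B i) (B i) := by
  classical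
  letI := projAlgebra B i
  refine Module.Flat.of_retract
    ({ toFun := fun b => Pi.single i b
       map_add' := fun a b => Pi.single_add i a b
       map_smul' := fun t b => by
        funext j
        by_cases h : j = i
        · subst h
          simp [projAlgebra_smul]
        · simp [Pi.single_eq_of_ne h] } : B i →ₗ[∀ i, B i] (∀ i, B i))
    ({ toFun := fun t => t i
       map_add' := fun _ _ => rfl
       map_smul' := fun _ _ => rfl } : (∀ i, B i) →ₗ[∀ i, B i] B i) ?_
  ext b
  simp

theorem isScalarTower_proj (i : ι) (W : Type*) [AddCommGroup W] [Module (B i) W] :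
    letI := projAlgebra B i
    letI := projModule B i W
    IsScalarTower (∀ i, B i) (B i) W := by
  letI := projAlgebra B i
  letI := projModule B i W
  exact ⟨fun t b w => by
    show ((t i) * b) • w = t i • (b • w)
    exact mul_smul _ _ _⟩

variable (M : Type*) [AddCommGroup M] [Module O M]

/-- `(∏ B i) ⊗ M ≃ ∏ (B i ⊗ M)`, linear over the product ring -/
theorem exists_prodTensorEquiv :
    letI : ∀ i, Module (∀ i, B i) (B i ⊗[O] M) := fun i => projModule B i _
    ∃ e : (∀ i, B i) ⊗[O] M ≃ₗ[∀ i, B i] (∀ i, B i ⊗[O] M),
      ∀ (t : ∀ i, B i) (m : M), e (t ⊗ₜ m) = fun i => t i ⊗ₜ m := by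
  classical
  haveI := Fintype.ofFinite ι
  letI : ∀ i, Module (∀ i, B i) (B i ⊗[O] M) := fun i => projModule B i _
  let base : (∀ i, B i) ⊗[O] M ≃ₗ[O] (∀ i, B i ⊗[O] M) :=
    ((TensorProduct.comm O (∀ i, B i) M).trans (TensorProduct.piRight O O M B)).trans
      (LinearEquiv.piCongrRight fun i => TensorProduct.comm O M (B i))
  have hbase : ∀ (t : ∀ i, B i) (m : M), base (t ⊗ₜ m) = fun i => t i ⊗ₜ m := by
    intro t m
    funext i
    simp [base]
  refine ⟨{ base with
    map_smul' := fun t' z => ?_ }, hbase⟩
  show base (t' • z) = t' • base z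
  induction z using TensorProduct.induction_on with
  | zero => simp
  | add x y hx hy => rw [smul_add, map_add, map_add, smul_add, hx, hy]
  | tmul t m =>
    rw [TensorProduct.smul_tmul', hbase, hbase]
    funext i
    show (t' • t) i ⊗ₜ[O] m = t' i • (t i ⊗ₜ[O] m)
    rw [TensorProduct.smul_tmul']
    rfl

/-- finiteness descends along a faithfully flat finite product -/
theorem finite_of_forall [Module.FaithfullyFlat O (∀ i, B i)]
    (h : ∀ i, Module.Finite (B i) (B i ⊗[O] M)) : Module.Finite O M := by
  letI iM : ∀ i, Module (∀ i, B i) (B i ⊗[O] M) := fun i => projModule B i _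
  obtain ⟨e, -⟩ := exists_prodTensorEquiv (O := O) B M
  have h1 : ∀ i, Module.Finite (∀ i, B i) (B i ⊗[O] M) := fun i => by
    letI := projAlgebra B i
    haveI := isScalarTower_proj B i (B i ⊗[O] M)
    haveI := finite_proj B i
    exact Module.Finite.trans (B i) _
  haveI : Module.Finite (∀ i, B i) (∀ i, B i ⊗[O] M) := Module.Finite.pi
  haveI : Module.Finite (∀ i, B i) ((∀ i, B i) ⊗[O] M) := Module.Finite.equiv e.symm
  exact Module.Finite.of_finite_tensorProduct_of_faithfullyFlat (∀ i, B i)

/-- a finite product of flat modules is flat -/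
theorem flat_pi {R : Type*} [CommRing R] {κ : Type*} [Finite κ] (W : κ → Type*)
    [∀ i, AddCommGroup (W i)] [∀ i, Module R (W i)] [∀ i, Module.Flat R (W i)] :
    Module.Flat R (∀ i, W i) := by
  classical
  haveI := Fintype.ofFinite κ
  exact Module.Flat.of_linearEquiv (DFinsupp.linearEquivFunOnFintype (R := R) (M := W)).symm

/-- flatness descends along a faithfully flat finite product -/
theorem flat_of_forall [Module.FaithfullyFlat O (∀ i, B i)]
    (h : ∀ i, Module.Flat (B i) (B i ⊗[O] M)) : Module.Flat O M := by
  letI iM : ∀ i, Module (∀ i, B i) (B i ⊗[O] M) := fun i => projModule B i _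
  obtain ⟨e, -⟩ := exists_prodTensorEquiv (O := O) B M
  have h1 : ∀ i, Module.Flat (∀ i, B i) (B i ⊗[O] M) := fun i => by
    letI := projAlgebra B i
    haveI := isScalarTower_proj B i (B i ⊗[O] M)
    haveI := flat_proj B i
    exact Module.Flat.trans (∀ i, B i) (B i) _
  haveI : Module.Flat (∀ i, B i) (∀ i, B i ⊗[O] M) := flat_pi _
  haveI : Module.Flat (∀ i, B i) ((∀ i, B i) ⊗[O] M) := Module.Flat.of_linearEquiv e
  exact Module.Flat.of_flat_tensorProduct O M (∀ i, B i)

end Prod

end Groth.Agent.Helper1.SchAff
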