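import Mathlib
import Groth.Prelude.Def_SchFin2
import Groth.Agent.Helper1.SchAff2
import Groth.Agent.Helper1.SchAff3

/-!
# SchAff4: quasi-coherent algebras on affine up-sets: pointwise values as base changes of sections
-/

set_option autoImplicit false
set_option linter.style.haveILetI false
universe u
open TensorProduct SchFin

namespace Groth.Agent.Helper1.SchAff

variable {X : RSpace.{u}} (A : Alg X) (U : Set X.pt)

/-- sections of the algebra as a module over the sections of the rings (via `sectMap`) are the
sections of the underlying module -/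
def secAlgLin :
    letI := (A.sectMap U).toAlgebra
    A.total.sectRing U ≃ₗ[X.sectRing U] A.toMod.sect U :=
  letI := (A.sectMap U).toAlgebra
  { toFun := fun s => ⟨s.1, s.2⟩
    invFun := fun s => ⟨s.1, s.2⟩
    left_inv := fun _ => rfl
    right_inv := fun _ => rfl
    map_add' := fun _ _ => rfl
    map_smul' := fun o s => by
      apply Subtype.ext
      funext q
      show algebraMap (X.ring q.1) (A.carrier q.1) (o.1 q) * @id (A.carrier q.1) (s.1 q) =
        o.1 q • @id (A.carrier q.1) (s.1 q)
      rw [Algebra.smul_def] }

/-- on an affine up-set, the value of a quasi-coherent algebra at a point is the base change of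
its ring of sections -/
theorem exists_bcEquiv (hUa : (X.restrict U).IsAffine) (hA : A.IsQcoh) (q : U) :
    letI := (A.sectMap U).toAlgebra
    letI := (X.evalRing U q).toAlgebra
    ∃ e : X.ring q.1 ⊗[X.sectRing U] A.total.sectRing U ≃ₗ[X.ring q.1] A.toMod.carrier q.1,
      ∀ (b : X.ring q.1) (s : A.total.sectRing U),
        e (b ⊗ₜ s) = b • @id (A.toMod.carrier q.1) (s.1 q) := by
  letI := (A.sectMap U).toAlgebra
  letI := (X.evalRing U q).toAlgebra
  have h := isBCAlong_eval U A.toMod hUa hA q
  unfold IsBCAlong at h
  letI : Module (X.sectRing U) (A.toMod.carrier q.1) :=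
    Module.compHom (A.toMod.carrier q.1) (X.evalRing U q)
  haveI : IsScalarTower (X.sectRing U) (X.ring q.1) (A.toMod.carrier q.1) :=
    IsScalarTower.of_algebraMap_smul fun _ _ => rfl
  refine ⟨(TensorProduct.AlgebraTensorModule.congr (LinearEquiv.refl (X.ring q.1) (X.ring q.1))
    (secAlgLin A U)).trans (IsBaseChange.equiv h), fun b s => ?_⟩
  rw [LinearEquiv.trans_apply, TensorProduct.AlgebraTensorModule.congr_tmul,
    IsBaseChange.equiv_tmul]
  rfl

end Groth.Agent.Helper1.SchAff
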