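import Mathlib
import Groth.Agent.Helper1.SchAff3

/-!
# SchAff5: descent of faithful flatness along a faithfully flat finite product
-/

set_option autoImplicit false
set_option linter.style.haveILetI false
universe u
open TensorProduct

namespace Groth.Agent.Helper1.SchAff

section Prod

variable {O : Type u} [CommRing O] {ι : Type*} [Finite ι] (B : ι → Type*)
  [∀ i, CommRing (B i)] [∀ i, Algebra O (B i)]
variable (M : Type u) [AddCommGroup M] [Module O M]

/-- faithful flatness descends along a faithfully flat finite product -/
theorem faithfullyFlat_of_forall [Module.FaithfullyFlat O (∀ i, B i)]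
    (h : ∀ i, Module.FaithfullyFlat (B i) (B i ⊗[O] M)) : Module.FaithfullyFlat O M := by
  rw [Module.FaithfullyFlat.iff_flat_and_rTensor_reflects_triviality]
  refine ⟨flat_of_forall B M (fun i => inferInstance), fun N _ _ hN => ?_⟩
  have h1 : ∀ i, Subsingleton (B i ⊗[O] N) := fun i => by
    have e := TensorProduct.AlgebraTensorModule.distribBaseChange O (B i) N M
    haveI : Subsingleton ((B i ⊗[O] N) ⊗[B i] (B i ⊗[O] M)) := e.symm.toEquiv.subsingleton
    exact Module.FaithfullyFlat.rTensor_reflects_triviality (B i) (B i ⊗[O] M) (B i ⊗[O] N)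
  letI iM : ∀ i, Module (∀ i, B i) (B i ⊗[O] N) := fun i => projModule B i _
  obtain ⟨e, -⟩ := exists_prodTensorEquiv (O := O) B N
  haveI : Subsingleton ((∀ i, B i) ⊗[O] N) := e.toEquiv.subsingleton
  exact Module.FaithfullyFlat.lTensor_reflects_triviality O (∀ i, B i) N

end Prod

end Groth.Agent.Helper1.SchAff
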