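import Mathlib
import Groth.Agent.Helper1.SchAff3

/-!
# SchAff6: descent of étaleness along a faithfully flat finite product
-/

set_option autoImplicit false
set_option linter.style.haveILetI false
universe u
open TensorProduct

namespace Groth.Agent.Helper1.SchAff

section Prod

variable {O : Type*} [CommRing O] {ι : Type*} [Finite ι] (B : ι → Type*)
  [∀ i, CommRing (B i)] [∀ i, Algebra O (B i)]
variable (S : Type*) [CommRing S] [Algebra O S]

/-- a factor of a finite product is étale over the product -/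
theorem etale_proj (i : ι) :
    letI := projAlgebra B i
    Algebra.Etale (∀ i, B i) (B i) := by
  classical
  letI := projAlgebra B i
  haveI : IsLocalization.Away (Pi.single i 1 : ∀ a, B a) (B i) := by
    refine IsLocalization.away_of_isIdempotentElem ?_ (RingHom.ker_evalRingHom _ _)
      ((Pi.evalRingHom B i).surjective)
    simp [IsIdempotentElem, ← Pi.single_mul_left]
  exact Algebra.Etale.of_isLocalizationAway (Pi.single i 1 : ∀ a, B a)

/-- the algebra structure of `B i ⊗ S` over the product ring -/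
abbrev projTensorAlgebra (i : ι) : Algebra (∀ i, B i) (B i ⊗[O] S) :=
  Algebra.compHom (B i ⊗[O] S) (Pi.evalRingHom B i)

/-- `(∏ B i) ⊗ S ≃ ∏ (B i ⊗ S)` as algebras over the product ring -/
theorem exists_prodTensorAlgEquiv :
    letI : ∀ i, Algebra (∀ i, B i) (B i ⊗[O] S) := fun i => projTensorAlgebra B S i
    Nonempty ((∀ i, B i) ⊗[O] S ≃ₐ[∀ i, B i] (∀ i, B i ⊗[O] S)) := by
  letI : ∀ i, Algebra (∀ i, B i) (B i ⊗[O] S) := fun i => projTensorAlgebra B S i
  obtain ⟨e, he⟩ := exists_prodTensorEquiv (O := O) B S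
  refine ⟨Algebra.TensorProduct.algEquivOfLinearEquivTensorProduct e ?_ ?_⟩
  · intro t₁ t₂ s₁ s₂
    rw [he, he, he]
    funext i
    show (t₁ i * t₂ i) ⊗ₜ[O] (s₁ * s₂) = (t₁ i ⊗ₜ[O] s₁) * (t₂ i ⊗ₜ[O] s₂)
    rw [Algebra.TensorProduct.tmul_mul_tmul]
  · rw [he]
    funext i
    rfl

/-- étaleness descends along a faithfully flat finite product -/
theorem etale_of_forall [Module.FaithfullyFlat O (∀ i, B i)]
    (h : ∀ i, Algebra.Etale (B i) (B i ⊗[O] S)) : Algebra.Etale O S := by
  letI : ∀ i, Algebra (∀ i, B i) (B i ⊗[O] S) := fun i => projTensorAlgebra B S i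
  obtain ⟨e⟩ := exists_prodTensorAlgEquiv (O := O) B S
  have h1 : ∀ i, Algebra.Etale (∀ i, B i) (B i ⊗[O] S) := fun i => by
    have hst : @IsScalarTower (∀ i, B i) (B i) (B i ⊗[O] S) (projAlgebra B i).toSMul _
        (projTensorAlgebra B S i).toSMul := by
      letI := projAlgebra B i
      exact ⟨fun t b w => by
        show ((t i) * b) • w = t i • (b • w)
        exact mul_smul _ _ _⟩
    exact @Algebra.Etale.comp _ _ _ _ _ (projAlgebra B i) _ (projTensorAlgebra B S i) _ hst
      (etale_proj B i) (h i)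
  haveI : Algebra.Etale (∀ i, B i) (∀ i, B i ⊗[O] S) :=
    @Algebra.FormallyEtale.instEtaleForallOfFinite _ _ (fun i => B i ⊗[O] S) _ _ _ _ h1
  haveI : Algebra.Etale (∀ i, B i) ((∀ i, B i) ⊗[O] S) := Algebra.Etale.of_equiv e.symm
  exact Algebra.Etale.of_etale_tensorProduct_of_faithfullyFlat (∀ i, B i)

end Prod

end Groth.Agent.Helper1.SchAff
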