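import Mathlib
import Groth.Prelude.Def_SchFin2
import Groth.Agent.Helper1.SchAff4

/-!
# SchAff7: the base change description of the values of a quasi-coherent algebra, as algebras
-/

set_option autoImplicit false
set_option linter.style.haveILetI false
universe u
open TensorProduct SchFin

namespace Groth.Agent.Helper1.SchAff

variable {X : RSpace.{u}} (A : Alg X) (U : Set X.pt)

/-- on an affine up-set, the value of a quasi-coherent algebra at a point is the base change of
its ring of sections, as an algebra -/
theorem exists_bcAlgEquiv (hUa : (X.restrict U).IsAffine) (hA : A.IsQcoh) (q : U) :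
    letI := (A.sectMap U).toAlgebra
    letI := (X.evalRing U q).toAlgebra
    Nonempty (X.ring q.1 ⊗[X.sectRing U] A.total.sectRing U ≃ₐ[X.ring q.1] A.carrier q.1) := by
  letI := (A.sectMap U).toAlgebra
  letI := (X.evalRing U q).toAlgebra
  obtain ⟨e, he⟩ := exists_bcEquiv A U hUa hA q
  let e' : X.ring q.1 ⊗[X.sectRing U] A.total.sectRing U ≃ₗ[X.ring q.1] A.carrier q.1 := e
  have he' : ∀ (b : X.ring q.1) (s : A.total.sectRing U), e' (b ⊗ₜ s) = b • @id (A.carrier q.1) (s.1 q) := he
  refine ⟨Algebra.TensorProduct.algEquivOfLinearEquivTensorProduct e' ?_ ?_⟩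
  · intro b₁ b₂ s₁ s₂
    rw [he', he', he']
    show (b₁ * b₂) • (@id (A.carrier q.1) (s₁.1 q) * @id (A.carrier q.1) (s₂.1 q)) = _
    rw [Algebra.smul_def, Algebra.smul_def, Algebra.smul_def, map_mul]
    ring
  · rw [he']
    show (1 : X.ring q.1) • (1 : A.carrier q.1) = 1
    rw [one_smul]

end Groth.Agent.Helper1.SchAff
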