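import Groth.Agent.Helper1.PicLoc4

set_option autoImplicit false
set_option linter.style.haveILetI false

/-!
# Seesaw, step 1: trivial on the closed fibre ⇒ trivial, when `M ↦ H⁰(X, N ⊗_A M)` is right exact
-/

namespace Groth.Agent.Helper1.Seesaw

open CategoryTheory Limits AlgebraicGeometry Opposite
open Groth.Agent.Helper1.Form Groth.Agent.Helper1.QuotPush Groth.Agent.Helper4
  Groth.Agent.Helper1.PicLoc Groth.Agent.Helper4.PullSec Groth.Agent.Helper4.PullUnit

universe u

variable (A : Type u) [CommRing A] [IsNoetherianRing A] [IsLocalRing A]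
  (X : Scheme.{u}) [X.Over (Spec (CommRingCat.of A))]
  [IsProper (X ↘ Spec (CommRingCat.of A))]
  {X₀ : Scheme.{u}} {i : X₀ ⟶ X}
  {f₀ : X₀ ⟶ Spec (CommRingCat.of (A ⧸ IsLocalRing.maximalIdeal A))}
  (hsq : IsPullback i f₀ (X ↘ Spec (CommRingCat.of A))
    (Spec.map (CommRingCat.ofHom (Ideal.Quotient.mk (IsLocalRing.maximalIdeal A)))))

/-- `Γ(X, N) → Γ(X, N/𝔪N)` is surjective when `M ↦ H⁰(X, N ⊗_A M)` preserves epimorphisms -/
theorem surjective_modPowπ_app_top (N : X.Modules) [N.IsQuasicoherent]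
    (hepi' : (CohIII.tensorAFunctor A N ⋙ CohIII.HAb X 0).PreservesEpimorphisms) :
    Function.Surjective ((Formal.modPowπ (IsLocalRing.maximalIdeal A) 1 N).app ⊤) := by
  obtain ⟨b, hb⟩ := Groth.Agent.Helper1.ModPowT.exists_iso_modPow N
    (IsLocalRing.maximalIdeal A) (0 + 1)
  have hs : Function.Surjective ((CohIII.tensorAFunctor A N ⋙ CohIII.HAb X 0).map
      (Groth.Agent.Helper1.ModPowT.π (IsLocalRing.maximalIdeal A ^ (0 + 1)))).hom :=
    (AddCommGrpCat.epi_iff_surjective _).1 (hepi'.preserves _)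
  rw [← surjective_HAb_map_iff]
  intro z
  obtain ⟨w, hw⟩ := hs (((CohIII.HAb X 0).map b.hom).hom z)
  refine ⟨((CohIII.HAb X 0).map (Groth.Agent.Helper1.ModPowT.isoA N).hom).hom w, ?_⟩
  have hinj : Function.Injective ((CohIII.HAb X 0).map b.hom).hom :=
    ((AddCommGrpCat.mono_iff_injective _).1 inferInstance)
  apply hinj
  rw [← hw]
  have h1 : (CohIII.HAb X 0).map (Groth.Agent.Helper1.ModPowT.isoA N).hom ≫
      (CohIII.HAb X 0).map (Formal.modPowπ (IsLocalRing.maximalIdeal A) (0 + 1) N) ≫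
      (CohIII.HAb X 0).map b.hom =
      (CohIII.tensorAFunctor A N ⋙ CohIII.HAb X 0).map
        (Groth.Agent.Helper1.ModPowT.π (IsLocalRing.maximalIdeal A ^ (0 + 1))) := by
    rw [← Functor.map_comp, ← Functor.map_comp, hb, Iso.hom_inv_id_assoc]
    rfl
  exact congrArg (fun k => k.hom w) h1

include hsq in
/-- sections of `i^* N` lift when `M ↦ H⁰(X, N ⊗_A M)` preserves epimorphisms -/
theorem surjective_unitN_app_top (N : X.Modules) [N.IsQuasicoherent]
    (hepi' : (CohIII.tensorAFunctor A N ⋙ CohIII.HAb X 0).PreservesEpimorphisms) :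
    Function.Surjective ((unitN i N).app ⊤) := by
  have h2 := surjective_modPowπ_app_top A X N hepi'
  have hq1 : Form.IsQuot (IsLocalRing.maximalIdeal A)
      (Formal.modPowπ (IsLocalRing.maximalIdeal A) 1 N) := by
    have := Form.isQuot_modPowπ (IsLocalRing.maximalIdeal A) 1 N
    rwa [pow_one] at this
  have hq2 := isQuot_unitN (IsLocalRing.maximalIdeal A) hsq N
  have e : unitN i N =
      Formal.modPowπ (IsLocalRing.maximalIdeal A) 1 N ≫ (hq1.iso hq2).hom :=
    (hq1.fac_iso_hom hq2).symm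
  rw [e]
  intro y
  obtain ⟨z, hz⟩ := h2 ((hq1.iso hq2).inv.app ⊤ y)
  refine ⟨z, ?_⟩
  change (hq1.iso hq2).hom.app ⊤ ((Formal.modPowπ (IsLocalRing.maximalIdeal A) 1 N).app ⊤ z) = y
  rw [hz]
  have h3 : (hq1.iso hq2).inv.app ⊤ ≫ (hq1.iso hq2).hom.app ⊤ = 𝟙 _ := by
    rw [← Scheme.Modules.Hom.comp_app, Iso.inv_hom_id]
    rfl
  exact congrArg (fun k => k.hom y) h3

include hsq in
/-- **an invertible module which is trivial on the closed fibre is trivial**, provided
`M ↦ H⁰(X, N ⊗_A M)` preserves epimorphisms -/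
theorem nonempty_iso_unit_of_fibre
    (N : X.Modules) (hN : PicF.IsInvertible N)
    (hepi' : (CohIII.tensorAFunctor A N ⋙ CohIII.HAb X 0).PreservesEpimorphisms)
    (e₀ : (Scheme.Modules.pullback i).obj N ≅ Coh.structureModule X₀) :
    Nonempty (N ≅ Coh.structureModule X) := by
  have hcoh : Coh.IsCoh N := Groth.Agent.Lead.Ref1K.isCoh_of_isInvertible N hN
  haveI : N.IsQuasicoherent := hcoh.1
  have hs := surjective_unitN_app_top A X hsq N hepi'
  obtain ⟨φ, hφ⟩ := exists_pullSec_eq i N hs e₀.inv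
  haveI : IsIso φ := isIso_of_isIso_pullSec A X hsq N hN φ (by rw [hφ]; infer_instance)
  exact ⟨(asIso φ).symm⟩

end Groth.Agent.Helper1.Seesaw
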