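import Groth.Agent.Helper1.FibDimVan3
import Groth.Agent.Helper1.BaseChart5
import Groth.Agent.Helper1.BaseChart1

set_option autoImplicit false
set_option linter.style.haveILetI false

/-!
# Seesaw, step 2: the fibres of the base change to the local ring `O_{Y,y}`
-/

namespace Groth.Agent.Helper1.Seesaw

open CategoryTheory Limits AlgebraicGeometry Opposite TopologicalSpace

universe u

variable {X Y : Scheme.{u}} (f : X ⟶ Y) (y : Y) {X₁ : Scheme.{u}}
  [X₁.Over (Spec (CommRingCat.of (Y.presheaf.stalk y)))] (g : X₁ ⟶ X)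
  (hsq : IsPullback g (X₁ ↘ Spec (CommRingCat.of (Y.presheaf.stalk y))) f (Y.fromSpecStalk y))
  {y' : Y} (h : y' ⤳ y)

/-- the `O_{Y,y}`-algebra structure of the residue field of a generisation `y'` of `y` -/
@[reducible] noncomputable def genAlgebra : Algebra (Y.presheaf.stalk y) (Y.residueField y') :=
  (Y.presheaf.stalkSpecializes h ≫ Y.residue y').hom.toAlgebra

lemma specMap_genAlgebra_fromSpecStalk :
    Spec.map (Y.presheaf.stalkSpecializes h ≫ Y.residue y') ≫ Y.fromSpecStalk y =
      Y.fromSpecResidueField y' := by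
  rw [Spec.map_comp, Category.assoc, Scheme.SpecMap_stalkSpecializes_fromSpecStalk]
  rfl

/-- the inclusion of the fibre of `f` at `y'` into `X₁` -/
noncomputable def jGen : f.fiber y' ⟶ X₁ :=
  hsq.lift (f.fiberι y') (f.fiberToSpecResidueField y' ≫
    Spec.map (Y.presheaf.stalkSpecializes h ≫ Y.residue y')) (by
    rw [Category.assoc, specMap_genAlgebra_fromSpecStalk]
    exact f.fiber_fac y')

lemma jGen_fst : jGen f y g hsq h ≫ g = f.fiberι y' := hsq.lift_fst _ _ _

lemma jGen_snd : jGen f y g hsq h ≫ (X₁ ↘ Spec (CommRingCat.of (Y.presheaf.stalk y))) =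
    f.fiberToSpecResidueField y' ≫ Spec.map (Y.presheaf.stalkSpecializes h ≫ Y.residue y') :=
  hsq.lift_snd _ _ _

lemma isPullback_jGen :
    letI := genAlgebra y h
    IsPullback (jGen f y g hsq h) (f.fiberToSpecResidueField y')
      (X₁ ↘ Spec (CommRingCat.of (Y.presheaf.stalk y)))
      (Spec.map (CommRingCat.ofHom (algebraMap (Y.presheaf.stalk y) (Y.residueField y')))) := by
  have h0 : IsPullback (f.fiberι y') (f.fiberToSpecResidueField y') f
      (Y.fromSpecResidueField y') := IsPullback.of_hasPullback _ _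
  have h1 : IsPullback (jGen f y g hsq h ≫ g) (f.fiberToSpecResidueField y') f
      (Spec.map (Y.presheaf.stalkSpecializes h ≫ Y.residue y') ≫ Y.fromSpecStalk y) := by
    rw [jGen_fst, specMap_genAlgebra_fromSpecStalk]
    exact h0
  exact IsPullback.of_right h1 (jGen_snd f y g hsq h) hsq

lemma comap_genAlgebra (x' : PrimeSpectrum (Y.residueField y')) (q : PrimeSpectrum (Y.presheaf.stalk y))
    (hq : (Y.fromSpecStalk y) q = y') :
    letI := genAlgebra y h
    PrimeSpectrum.comap (algebraMap (Y.presheaf.stalk y) (Y.residueField y')) x' = q := by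
  letI := genAlgebra y h
  apply (Y.fromSpecStalk y).isEmbedding.injective
  rw [hq]
  have h1 := congrArg (fun φ : Spec (Y.residueField y') ⟶ Y => φ x')
    (specMap_genAlgebra_fromSpecStalk y h)
  simp only [Scheme.Hom.comp_apply] at h1
  rw [Scheme.fromSpecResidueField_apply] at h1
  exact h1

end Groth.Agent.Helper1.Seesaw
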