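import Groth.Agent.Helper1.Seesaw1
import Groth.Agent.Helper1.Seesaw2
import Groth.Agent.Helper1.Seesaw3
import Groth.Agent.S2382

set_option autoImplicit false
set_option linter.style.haveILetI false

/-!
# Seesaw, step 4: local triviality over a reduced base
-/

namespace Groth.Agent.Helper1.Seesaw

open CategoryTheory Limits AlgebraicGeometry Opposite TopologicalSpace
open Groth.Agent.Helper4 Groth.Agent.Helper4.PullSec Groth.Agent.Helper4.PullUnit
  Groth.Agent.Helper1.BaseChart Groth.Agent.Helper1.StalkBC Groth.Agent.Helper1.FibDimVan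
  Groth.Agent.Helper1.PicSpread

universe u

variable {X Y : Scheme.{u}} (f : X ⟶ Y)

/-- **Key lemma (reduced base)**: an invertible module `N`, trivial on the fibre `X_y`, with
`h⁰(X_{y'}, N_{y'}) = 1` for all generisations `y'` of `y`, is trivial over a neighbourhood of `y`
(`f` proper and flat, `Y` locally Noetherian and reduced). -/
theorem exists_nhd_trivial' [IsProper f] [Flat f] [IsLocallyNoetherian Y] [IsReduced Y] (y : Y)
    (N : X.Modules) (hN : PicF.IsInvertible N)
    (hrk : ∀ y' : Y, y' ⤳ y → CohIII.fiberRank f N 0 y' = 1)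
    (e₀ : CohIII.fiberMod f N y ≅ Coh.structureModule (f.fiber y)) :
    ∃ U : Y.Opens, y ∈ U ∧
      Nonempty (N.restrict (f ⁻¹ᵁ U).ι ≅ Coh.structureModule ((f ⁻¹ᵁ U : X.Opens) : Scheme.{u})) := by
  obtain ⟨_, ⟨V, hV : IsAffineOpen V, rfl⟩, hy, -⟩ :=
    Y.isBasis_affineOpens.exists_subset_of_mem_open (Set.mem_univ y) isOpen_univ
  haveI : IsAffine (V : Scheme.{u}) := hV
  -- base change to the local ring
  let A : Type u := Y.presheaf.stalk y
  let X₁ : Scheme.{u} := pullback f (Y.fromSpecStalk y)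
  let g : X₁ ⟶ X := pullback.fst f (Y.fromSpecStalk y)
  let q : X₁ ⟶ Spec (Y.presheaf.stalk y) := pullback.snd f (Y.fromSpecStalk y)
  letI : X₁.Over (Spec (CommRingCat.of A)) := ⟨q⟩
  have hsq : IsPullback g (X₁ ↘ Spec (CommRingCat.of A)) f (Y.fromSpecStalk y) :=
    IsPullback.of_hasPullback _ _
  haveI : IsProper (X₁ ↘ Spec (CommRingCat.of A)) :=
    MorphismProperty.of_isPullback (P := @IsProper) hsq inferInstance
  haveI : Flat (X₁ ↘ Spec (CommRingCat.of A)) :=
    MorphismProperty.of_isPullback (P := @Flat) hsq inferInstance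
  haveI : IsNoetherianRing A := inferInstanceAs (IsNoetherianRing (Y.presheaf.stalk y))
  haveI : IsReduced A := inferInstanceAs (IsReduced (Y.presheaf.stalk y))
  -- the modules
  have hNV : PicF.IsInvertible (FV f V N) := QAffSec.isInvertible_restrict (f ⁻¹ᵁ V).ι hN
  haveI : (FV f V N).IsQuasicoherent :=
    (Groth.Agent.Lead.Ref1K.isCoh_of_isInvertible _ hNV).1
  set g₁ := gLift₁ f V y hy q g hsq with hg₁
  set N₁ := (Scheme.Modules.pullback g₁).obj (FV f V N) with hN₁def
  have hN₁ : PicF.IsInvertible N₁ := isInvertible_pullback g₁ hNV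
  -- triviality on the closed fibre
  let j := jFib f y g hsq
  have hsq' := isPullback_jFib f y g hsq
  let e₁ : (Scheme.Modules.pullback j).obj N₁ ≅ Coh.structureModule (f.fiber y) :=
    (Scheme.Modules.pullback j).mapIso (pullbackChartIso f V y hy q g hsq N) ≪≫
      (Scheme.Modules.pullbackComp j g).app N ≪≫
      (Scheme.Modules.pullbackCongr (jFib_fst f y g hsq)).app N ≪≫ e₀
  -- the complex computing the cohomology of `N₁` universally
  have hcoh : Coh.IsCoh N₁ := Groth.Agent.Lead.Ref1K.isCoh_of_isInvertible N₁ hN₁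
  have hfl := Groth.Agent.Helper1.PicLoc.isFlatOver_of_isInvertible
    (X₁ ↘ Spec (CommRingCat.of A)) N₁ hN₁
  obtain ⟨L, hLff, -, -, hbr, -, h6, -⟩ :=
    Groth.Agent.Helper1.Bridge.exists_complex'' A X₁ N₁ hcoh hfl
  have hQ : ∀ i, Module.Finite A (L.X i) ∧ Module.Flat A (L.X i) := fun i =>
    ⟨(hLff i).1, by haveI := (hLff i).2; infer_instance⟩
  have hr : ∀ q' : PrimeSpectrum A, CohIII.dRank L (-((0 : ℕ) : ℤ)) q' = 1 := by
    intro q'
    have hsp : (Y.fromSpecStalk y) q' ⤳ y := by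
      have : (Y.fromSpecStalk y) q' ∈ Set.range (Y.fromSpecStalk y) := ⟨q', rfl⟩
      rwa [Scheme.range_fromSpecStalk] at this
    generalize hy' : (Y.fromSpecStalk y) q' = y' at hsp
    letI := genAlgebra y hsp
    letI : (f.fiber y').Over (Spec (CommRingCat.of (Y.residueField y'))) :=
      ⟨f.fiberToSpecResidueField y'⟩
    obtain ⟨e⟩ := h6 (Y.residueField y') (f.fiber y') (jGen f y g hsq hsp)
      (isPullback_jGen f y g hsq hsp) 0
    have x' : PrimeSpectrum (Y.residueField y') := ⟨⊥, Ideal.isPrime_bot⟩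
    have h3 := Groth.Agent.Helper1.BaseChart.finrank_bcCx_field L (-((0 : ℕ) : ℤ)) x'
    rw [comap_genAlgebra y hsp x' q' hy'] at h3
    rw [← h3, e.finrank_eq]
    let θ : (Scheme.Modules.pullback (jGen f y g hsq hsp)).obj N₁ ≅ CohIII.fiberMod f N y' :=
      (Scheme.Modules.pullback (jGen f y g hsq hsp)).mapIso (pullbackChartIso f V y hy q g hsq N) ≪≫
        (Scheme.Modules.pullbackComp (jGen f y g hsq hsp) g).app N ≪≫
        (Scheme.Modules.pullbackCongr (jGen_fst f y g hsq hsp)).app N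
    rw [finrank_HH_congr (K := Y.residueField y') θ 0]
    exact hrk y' hsp
  have hex := (Groth.Agent.S2382.result L hQ (-((0 : ℕ) : ℤ))).2
    (fun q' _ => by rw [hr, hr])
  obtain ⟨e'⟩ := hbr 0
  have hepi' : (CohIII.tensorAFunctor A N₁ ⋙ CohIII.HAb X₁ 0).PreservesEpimorphisms :=
    (Groth.Agent.Helper1.Bridge.preservesEpi_iff e').2 hex.2
  obtain ⟨ε⟩ := nonempty_iso_unit_of_fibre A X₁ hsq' N₁ hN₁ hepi' e₁
  exact exists_nhd_of_iso f V y hy q g hsq N hN ε

end Groth.Agent.Helper1.Seesaw
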