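import Groth.Agent.Helper1.PDeg4
import Groth.Agent.Helper1.CurveFam5
import Groth.Agent.Helper1.NoethApx6
import Groth.Agent.Helper1.SW7
import Groth.Agent.Helper4.SN3
import Groth.Agent.Helper4.AmpleBasis
import Groth.Agent.Lead.IntNumBC

set_option autoImplicit false
set_option linter.style.haveILetI false
set_option linter.unusedSectionVars false
set_option linter.unusedVariables false

/-!
# Local constancy of intersection numbers on the fibres of a flat proper family
-/

namespace Groth.Agent.Helper1.SelfIntLC

open CategoryTheory AlgebraicGeometry AlgebraicGeometry.Scheme.Modules TopologicalSpace Topology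

universe u

variable {X Y : Scheme.{u}} (f : X ⟶ Y)

/-- the Euler characteristic of a fibre is the truncated sum when the cohomology vanishes above `d` -/
theorem eulerChar_eq_sum_range (F : X.Modules) (y : Y) (d : ℕ)
    (hv : ∀ p : ℕ, d < p → Subsingleton (PerfAux.fiberH f F y p)) :
    PerfAux.eulerChar f F y =
      (Finset.range (d + 1)).sum fun i => (-1 : ℤ) ^ i * (PerfAux.betti f F y i : ℤ) := by
  unfold PerfAux.eulerChar
  have hsupp : (Function.support fun p : ℕ => (-1 : ℤ) ^ p * (PerfAux.betti f F y p : ℤ)) ⊆
      ↑(Finset.range (d + 1)) := by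
    intro p hp
    rw [Function.mem_support] at hp
    rw [Finset.coe_range, Set.mem_Iio]
    by_contra hlt
    apply hp
    haveI := hv p (by omega)
    have : PerfAux.betti f F y p = 0 := Module.finrank_zero_of_subsingleton
    rw [this]
    simp
  rw [finsum_eq_sum_of_support_subset _ hsupp]

/-- the truncated Euler characteristic of a module on the fibre which is the restriction of a
module on the total space -/
theorem eulerCharLE_fiber_eq [LocallyOfFiniteType f] [QuasiCompact f] (G : X.Modules) (y : Y) (d : ℕ)
    (hd : topologicalKrullDim ↥(f.fiber y) ≤ d)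
    (G' : (f.fiber y).Modules) (e : G' ≅ (Scheme.Modules.pullback (f.fiberι y)).obj G) :
    @FGA.eulerCharLE ↥(Y.residueField y) _ (f.fiber y) ⟨f.fiberToSpecResidueField y⟩ G' d =
      PerfAux.eulerChar f G y := by
  letI : (f.fiber y).Over (Spec (CommRingCat.of ↥(Y.residueField y))) :=
    ⟨f.fiberToSpecResidueField y⟩
  rw [Groth.Agent.Helper1.PDeg.eulerCharLE_congr _ _ e d,
    eulerChar_eq_sum_range f G y d (fun p hp =>
      Groth.Agent.Helper1.CurveFam.subsingleton_fiberH_of_dim f y d hd G p hp)]
  rfl

end Groth.Agent.Helper1.SelfIntLC
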