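import Groth.Agent.Helper1.SelfIntLC1

set_option autoImplicit false
set_option linter.style.haveILetI false
set_option linter.unusedSectionVars false
set_option linter.unusedVariables false

/-!
# Local constancy of intersection numbers on the fibres of a flat proper family, II
-/

namespace Groth.Agent.Helper1.SelfIntLC

open CategoryTheory AlgebraicGeometry AlgebraicGeometry.Scheme.Modules TopologicalSpace Topology

universe u

variable {X Y : Scheme.{u}} (f : X ⟶ Y)

theorem isLocallyConstant_finset_sum {α ι : Type*} [TopologicalSpace α] (s : Finset ι)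
    (g : ι → α → ℤ) (hg : ∀ i ∈ s, IsLocallyConstant (g i)) :
    IsLocallyConstant (fun a => s.sum fun i => g i a) := by
  classical
  induction s using Finset.induction_on with
  | empty =>
    simp only [Finset.sum_empty]
    exact IsLocallyConstant.const (0 : ℤ)
  | insert i s hi ih =>
    have h1 := hg i (Finset.mem_insert_self i s)
    have h2 := ih (fun j hj => hg j (Finset.mem_insert_of_mem hj))
    have : (fun a => (insert i s).sum fun j => g j a) = fun a => g i a + s.sum fun j => g j a := by
      funext a
      rw [Finset.sum_insert hi]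
    rw [this]
    exact h1.add h2

variable [IsProper f] [Flat f] [LocallyOfFinitePresentation f]

/-- the module on the total space whose restriction to the fibres gives the `I`-th term of the
intersection number -/
noncomputable def termMod {r : ℕ} (M : Fin r → X.Modules) (I : Finset (Fin r)) : X.Modules :=
  CohB1.tensorMod (FGA.tensorList ((I.sort (· ≤ ·)).map M)) (Coh.structureModule X)

theorem isInvertible_termMod {r : ℕ} (M : Fin r → X.Modules) (hM : ∀ i, PicF.IsInvertible (M i))
    (I : Finset (Fin r)) : PicF.IsInvertible (termMod M I) :=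
  Groth.Agent.Helper4.TensorInv.isInvertible_tensorMod
    (Groth.Agent.Helper4.SN.isInvertible_tensorList _ (fun N hN => by
      obtain ⟨i, -, rfl⟩ := List.mem_map.1 hN
      exact hM i))
    Groth.Agent.Helper4.TensorInv.isInvertible_structureModule

/-- the restriction of `termMod` to a fibre -/
noncomputable def termModFiberIso {r : ℕ} (M : Fin r → X.Modules) (I : Finset (Fin r)) (y : Y) :
    CohB1.tensorMod (FGA.tensorList ((I.sort (· ≤ ·)).map
        fun i => (Scheme.Modules.pullback (f.fiberι y)).obj (M i)))
      (Coh.structureModule (f.fiber y)) ≅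
    (Scheme.Modules.pullback (f.fiberι y)).obj (termMod M I) :=
  (Groth.Agent.Lead.IntNumBC.pullTensorIso (f.fiberι y) _ _ ≪≫
    PicGrp.tensorModIso
      (Groth.Agent.Lead.IntNumBC.pullTensorListIso (f.fiberι y) ((I.sort (· ≤ ·)).map M) ≪≫
        eqToIso (by rw [List.map_map]; rfl))
      (Groth.Agent.Helper4.PullUnit.pullbackUnitIso (f.fiberι y))).symm

/-- **intersection numbers of invertible modules on the fibres are locally constant** -/
theorem intNum_fiber_eq {r : ℕ} (M : Fin r → X.Modules) (hM : ∀ i, PicF.IsInvertible (M i))
    (d : ℕ) (hdim : ∀ y : Y, topologicalKrullDim ↥(f.fiber y) ≤ d) (y : Y) :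
    @FGA.intNum ↥(Y.residueField y) _ (f.fiber y) ⟨f.fiberToSpecResidueField y⟩ d r
        (fun i => (Scheme.Modules.pullback (f.fiberι y)).obj (M i))
        (Coh.structureModule (f.fiber y)) =
      (Finset.univ : Finset (Finset (Fin r))).sum fun I =>
        (-1 : ℤ) ^ I.card * PerfAux.eulerChar f (termMod M I) y := by
  unfold FGA.intNum
  refine Finset.sum_congr rfl fun I _ => ?_
  rw [eulerCharLE_fiber_eq f (termMod M I) y d (hdim y) _ (termModFiberIso f M I y)]

theorem isLocallyConstant_intNum {r : ℕ} (M : Fin r → X.Modules)
    (hM : ∀ i, PicF.IsInvertible (M i)) :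
    IsLocallyConstant (fun y : Y => (Finset.univ : Finset (Finset (Fin r))).sum fun I =>
        (-1 : ℤ) ^ I.card * PerfAux.eulerChar f (termMod M I) y) := by
  apply isLocallyConstant_finset_sum
  intro I _
  obtain ⟨-, hFP, hfl⟩ := Groth.Agent.Helper1.PDeg.conditions_of_isInvertible' f (termMod M I)
    (isInvertible_termMod M hM I)
  have h := Groth.Agent.Helper1.NoethApx.isLocallyConstant_eulerChar f (termMod M I) hFP hfl
  exact (IsLocallyConstant.const ((-1 : ℤ) ^ I.card)).mul h

end Groth.Agent.Helper1.SelfIntLC
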