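import Mathlib

/-!
# Maximal ideals of the integral closure of a normal local domain in a finite separable extension
-/

namespace Groth.Agent.Helper1.SepCount

open IntermediateField IsLocalRing
open scoped Pointwise

set_option maxHeartbeats 800000 in
theorem card_maximalSpectrum_integralClosure_le {A K F : Type*} [CommRing A] [IsDomain A]
    [IsLocalRing A] [IsIntegrallyClosed A] [Field K] [Algebra A K] [IsFractionRing A K] [Field F]
    [Algebra K F] [Algebra A F] [IsScalarTower A K F] [FiniteDimensional K F]
    [Algebra.IsSeparable K F] :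
    Finite (MaximalSpectrum (integralClosure A F)) ∧
      Nat.card (MaximalSpectrum (integralClosure A F)) ≤ Module.finrank K F := by
  classical
  let Ω := AlgebraicClosure F
  haveI : Algebra.IsAlgebraic K Ω := Algebra.IsAlgebraic.trans K F Ω
  haveI : IsAlgClosure K Ω := ⟨inferInstance, inferInstance⟩
  haveI : Normal K Ω := IsAlgClosure.normal K Ω
  let N : IntermediateField K Ω := normalClosure K F Ω
  haveI : Normal K N := normalClosure.normal K F Ω
  haveI : FiniteDimensional K N := normalClosure.is_finiteDimensional K F Ω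
  haveI : Algebra.IsSeparable K N := by
    show Algebra.IsSeparable K ↥(normalClosure K F Ω)
    rw [normalClosure_def]
    haveI : ∀ f : F →ₐ[K] Ω, Algebra.IsSeparable K f.fieldRange := fun f =>
      AlgEquiv.Algebra.isSeparable (AlgEquiv.ofInjectiveField f)
    exact IntermediateField.isSeparable_iSup K Ω
  haveI : IsGalois K N := ⟨⟩
  letI : Algebra A N := ((algebraMap K N).comp (algebraMap A K)).toAlgebra
  haveI : IsScalarTower A K N := IsScalarTower.of_algebraMap_eq (fun _ => rfl)
  let B := integralClosure A N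
  haveI : IsFractionRing B N := integralClosure.isFractionRing_of_finite_extension K N
  letI act := IsIntegralClosure.MulSemiringAction A K N B
  haveI hinv : Algebra.IsInvariant A B Gal(N/K) := Algebra.isInvariant_of_isGalois A K N B
  have hsmul : ∀ (g : Gal(N/K)) (b : B), ((g • b : B) : N) = g (b : N) := fun g b =>
    algebraMap_galRestrict_apply A g b
  haveI : SMulCommClass Gal(N/K) A B := by
    refine ⟨fun g a b => ?_⟩
    apply Subtype.ext
    have h1 : ((g • (a • b) : B) : N) = g ((a • b : B) : N) := hsmul g (a • b)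
    have h2 : ((a • (g • b) : B) : N) = algebraMap A N a * ((g • b : B) : N) := by
      rw [Algebra.smul_def]; rfl
    have h3 : ((a • b : B) : N) = algebraMap A N a * (b : N) := by
      rw [Algebra.smul_def]; rfl
    rw [h1, h2, h3, map_mul, hsmul]
    congr 1
    show g (algebraMap K N (algebraMap A K a)) = algebraMap K N (algebraMap A K a)
    exact g.commutes _
  let D := integralClosure A F
  -- restriction of embeddings
  have hmem : ∀ (σ : F →ₐ[K] N) (x : D), σ (x : F) ∈ B := fun σ x =>
    IsIntegral.map σ x.2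
  let r : (F →ₐ[K] N) → (D →+* B) := fun σ =>
    ((σ : F →+* N).comp D.val.toRingHom).codRestrict B (hmem σ)
  have hr : ∀ σ (x : D), ((r σ x : B) : N) = σ (x : F) := fun σ x => rfl
  have hrint : ∀ σ, (r σ).IsIntegral := by
    intro σ
    have h1 : (r σ).comp (algebraMap A D) = algebraMap A B := by
      apply RingHom.ext
      intro a
      apply Subtype.ext
      show σ (algebraMap A F a) = algebraMap A N a
      exact (σ.restrictScalars A).commutes a
    refine RingHom.IsIntegral.tower_top (algebraMap A D) (r σ) ?_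
    rw [h1]
    exact algebraMap_isIntegral_iff.mpr inferInstance
  obtain ⟨𝔐, h𝔐⟩ := Ideal.exists_maximal B
  haveI := h𝔐
  let Φ : (F →ₐ[K] N) → MaximalSpectrum D := fun σ =>
    ⟨𝔐.comap (r σ), Ideal.isMaximal_comap_of_isIntegral_of_isMaximal' (r σ) (hrint σ) 𝔐⟩
  let σ₀ : F →ₐ[K] N := (IsScalarTower.toAlgHom K F Ω).codRestrict N.toSubalgebra
    (fun x => AlgHom.fieldRange_le_normalClosure (IsScalarTower.toAlgHom K F Ω) ⟨x, rfl⟩)
  have hunder : ∀ P : Ideal B, P.IsMaximal → P.under A = maximalIdeal A := by
    intro P hP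
    haveI := hP
    exact IsLocalRing.eq_maximalIdeal
      (Ideal.isMaximal_comap_of_isIntegral_of_isMaximal (R := A) P)
  have hΦ : Function.Surjective Φ := by
    intro M
    have hinj : Function.Injective (r σ₀) := by
      intro x y hxy
      apply Subtype.ext
      apply σ₀.injective
      exact congrArg (fun b : B => (b : N)) hxy
    letI : Algebra D B := (r σ₀).toAlgebra
    haveI : Algebra.IsIntegral D B := ⟨hrint σ₀⟩
    haveI := M.isMaximal
    obtain ⟨𝔐', h𝔐'max, h𝔐'comap⟩ := Ideal.exists_ideal_over_maximal_of_isIntegral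
      (S := B) M.asIdeal (by
        have : RingHom.ker (algebraMap D B) = ⊥ := (RingHom.injective_iff_ker_eq_bot _).mp hinj
        rw [this]; exact bot_le)
    haveI := h𝔐'max
    obtain ⟨g, hg⟩ := Algebra.IsInvariant.exists_smul_of_under_eq A B Gal(N/K) 𝔐 𝔐'
      ((hunder 𝔐 h𝔐).trans (hunder 𝔐' h𝔐'max).symm)
    refine ⟨((g⁻¹ : Gal(N/K)) : N →ₐ[K] N).comp σ₀, ?_⟩
    apply MaximalSpectrum.ext
    show 𝔐.comap (r (((g⁻¹ : Gal(N/K)) : N →ₐ[K] N).comp σ₀)) = M.asIdeal
    rw [← h𝔐'comap, hg]
    ext d
    rw [Ideal.mem_comap, Ideal.mem_comap, Ideal.mem_pointwise_smul_iff_inv_smul_mem]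
    have : r (((g⁻¹ : Gal(N/K)) : N →ₐ[K] N).comp σ₀) d = g⁻¹ • (algebraMap D B d) := by
      apply Subtype.ext
      rw [hsmul]
      rfl
    rw [this]
  haveI : Finite (F →ₐ[K] N) := inferInstance
  refine ⟨Finite.of_surjective Φ hΦ, ?_⟩
  exact (Nat.card_le_card_of_surjective Φ hΦ).trans (card_algHom_le_finrank K F N)
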