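import Mathlib
import Groth.Prelude.Def_CAlg2

/-!
# Integral closure of a unibranch local domain in a "purely inseparable" extension is local
-/

universe u

namespace Groth.Agent.Helper1.UniLocal

open IsLocalRing

theorem isLocalRing_integralClosure {O : Type u} [CommRing O] [IsDomain O] [IsLocalRing O]
    (hU : CAlg2.IsUnibranch O) {K L : Type*} [Field K] [Field L] [Algebra O K]
    [IsFractionRing O K] [Algebra K L] [Algebra O L] [IsScalarTower O K L]
    (hrad : ∀ x : L, IsAlgebraic K x →
      ∃ e : ℕ, x ^ (ringExpChar L ^ e) ∈ Set.range (algebraMap K L)) :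
    IsLocalRing (integralClosure O L) := by
  classical
  obtain ⟨hdom, hloc⟩ := hU
  haveI := hdom
  haveI := hloc
  let π : O →+* CAlg2.red O := Ideal.Quotient.mk _
  have hπbij : Function.Bijective π := by
    refine ⟨?_, Ideal.Quotient.mk_surjective⟩
    rw [injective_iff_map_eq_zero]
    intro a ha
    rw [Ideal.Quotient.eq_zero_iff_mem, nilradical_eq_zero] at ha
    exact ha
  let e₀ : O ≃+* CAlg2.red O := RingEquiv.ofBijective π hπbij
  let F := FractionRing (CAlg2.red O)
  let ε : F ≃+* K := IsFractionRing.ringEquivOfRingEquiv e₀.symm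
  have hε : ∀ r : CAlg2.red O, ε (algebraMap (CAlg2.red O) F r) = algebraMap O K (e₀.symm r) :=
    fun r => IsFractionRing.ringEquivOfRingEquiv_algebraMap e₀.symm r
  let θ₀ : F →+* L := (algebraMap K L).comp (ε : F →+* K)
  have hθ₀int : ∀ t : CAlg2.normRed O, IsIntegral O (θ₀ t.1) := by
    intro t
    refine IsIntegral.map_of_comp_eq (e₀.symm : CAlg2.red O →+* O) θ₀ ?_ t.2
    ext r
    simp only [RingHom.comp_apply]
    show algebraMap O L (e₀.symm r) = algebraMap K L (ε (algebraMap (CAlg2.red O) F r))
    rw [hε, ← IsScalarTower.algebraMap_apply]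
  let θ : CAlg2.normRed O →+* integralClosure O L :=
    (θ₀.comp (integralClosure (CAlg2.red O) F).val.toRingHom).codRestrict
      (integralClosure O L) hθ₀int
  let ι : O →+* CAlg2.normRed O := (algebraMap (CAlg2.red O) (CAlg2.normRed O)).comp π
  have hθι : θ.comp ι = algebraMap O (integralClosure O L) := by
    ext a
    show algebraMap K L (ε (algebraMap (CAlg2.red O) F (π a))) = algebraMap O L a
    rw [hε]
    have : e₀.symm (π a) = a := e₀.symm_apply_apply a
    rw [this, ← IsScalarTower.algebraMap_apply]
  have hθint : θ.IsIntegral := by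
    refine RingHom.IsIntegral.tower_top ι θ ?_
    rw [hθι]
    exact algebraMap_isIntegral_iff.mpr inferInstance
  have hcomap : ∀ M : Ideal (integralClosure O L), M.IsMaximal →
      M.comap θ = maximalIdeal (CAlg2.normRed O) := by
    intro M hM
    haveI := hM
    exact IsLocalRing.eq_maximalIdeal
      (Ideal.isMaximal_comap_of_isIntegral_of_isMaximal' θ hθint M)
  -- the key pointwise description
  have hkey : ∀ x : integralClosure O L, ∃ (n : ℕ) (t : CAlg2.normRed O), 0 < n ∧ θ t = x ^ n := by
    intro x
    have hxint : IsIntegral O (x : L) := x.2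
    have hxalg : IsAlgebraic K (x : L) := (hxint.tower_top (A := K)).isAlgebraic
    obtain ⟨e, t, ht⟩ := hrad x hxalg
    have htint : IsIntegral O t := by
      have h1 : IsIntegral O (algebraMap K L t) := by
        rw [ht]; exact hxint.pow _
      exact (isIntegral_algHom_iff (IsScalarTower.toAlgHom O K L)
        (algebraMap K L).injective).mp h1
    have ht'int : IsIntegral (CAlg2.red O) (ε.symm t) := by
      refine IsIntegral.map_of_comp_eq (e₀ : O →+* CAlg2.red O) (ε.symm : K →+* F) ?_ htint
      ext a
      simp only [RingHom.comp_apply]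
      apply ε.injective
      show ε (algebraMap (CAlg2.red O) F (e₀ a)) = ε (ε.symm (algebraMap O K a))
      rw [hε, ε.apply_symm_apply, e₀.symm_apply_apply]
    refine ⟨ringExpChar L ^ e, ⟨ε.symm t, ht'int⟩, ?_, ?_⟩
    · exact pow_pos (expChar_pos L (ringExpChar L)) e
    · apply Subtype.ext
      show algebraMap K L (ε (ε.symm t)) = ((x ^ (ringExpChar L ^ e) : integralClosure O L) : L)
      rw [ε.apply_symm_apply, ht]
      rfl
  have huniq : ∀ M M' : Ideal (integralClosure O L), M.IsMaximal → M'.IsMaximal → M ≤ M' := by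
    intro M M' hM hM' x hx
    obtain ⟨n, t, hn, ht⟩ := hkey x
    have h1 : x ^ n ∈ M := Ideal.pow_mem_of_mem M hx n hn
    rw [← ht, ← Ideal.mem_comap, hcomap M hM, ← hcomap M' hM', Ideal.mem_comap, ht] at h1
    exact hM'.isPrime.mem_of_pow_mem n h1
  haveI : Nontrivial (integralClosure O L) := inferInstance
  obtain ⟨M₀, hM₀⟩ := Ideal.exists_maximal (integralClosure O L)
  exact IsLocalRing.of_unique_max_ideal
    ⟨M₀, hM₀, fun M hM => le_antisymm (huniq M M₀ hM hM₀) (huniq M₀ M hM₀ hM)⟩

end Groth.Agent.Helper1.UniLocal
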