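import Mathlib
import Groth.Prelude.Def_CAlg2
import Groth.Agent.Helper1.UniLocal1
import Groth.Agent.Helper1.SepCount1

/-!
# Number of maximal ideals of the integral closure of a unibranch local domain in a field extension
whose algebraic part has finite separable degree
-/

universe u

namespace Groth.Agent.Helper1.SepCount

open IntermediateField IsLocalRing Polynomial

/-- Some `q`-power of an algebraic element is separable. -/
theorem exists_pow_isSeparable {K L : Type*} [Field K] [Field L] [Algebra K L] (q : ℕ)
    [ExpChar K q] (x : L) (hx : IsIntegral K x) : ∃ e : ℕ, IsSeparable K (x ^ q ^ e) := by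
  obtain ⟨g, h1, n, h2⟩ := (minpoly.irreducible hx).hasSeparableContraction q
  exact ⟨n, h1.of_dvd <| minpoly.dvd K _ <| by
    simpa only [expand_aeval, minpoly.aeval] using congr_arg (aeval x) h2⟩

set_option maxHeartbeats 800000 in
theorem card_maximalSpectrum_le_finSepDegree {O : Type u} [CommRing O] [IsDomain O]
    [IsLocalRing O] (hU : CAlg2.IsUnibranch O) {K L : Type u} [Field K] [Field L] [Algebra O K]
    [IsFractionRing O K] [Algebra K L] [Algebra O L] [IsScalarTower O K L]
    (n : ℕ) (hn0 : 0 < n) (hn : Field.finSepDegree K ↥(algebraicClosure K L) = n) :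
    Finite (MaximalSpectrum (integralClosure O L)) ∧
      Nat.card (MaximalSpectrum (integralClosure O L)) ≤ n := by
  classical
  let C := integralClosure O L
  let A := integralClosure O K
  haveI hAloc : IsLocalRing A :=
    Groth.Agent.Helper1.UniLocal.isLocalRing_integralClosure hU (K := K) (L := K)
      (fun x _ => ⟨0, x, by simp⟩)
  haveI : IsFractionRing A K := integralClosure.isFractionRing_of_finite_extension K K
  haveI : IsIntegrallyClosed A := integralClosure.isIntegrallyClosedOfFiniteExtension K
  haveI : IsScalarTower A K L := inferInstance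
  have hAint : ∀ a : A, IsIntegral O (algebraMap A L a) := by
    intro a
    have : IsIntegral O (a : K) := a.2
    exact this.map (IsScalarTower.toAlgHom O K L)
  set q := ringExpChar K with hq
  haveI : ExpChar K q := ringExpChar.expChar K
  let Ea := algebraicClosure K L
  -- key: every finite set of maximal ideals has at most `n` elements
  have key : ∀ S : Finset (MaximalSpectrum C), S.card ≤ n := by
    intro S
    -- separating elements
    have hsep : ∀ p : MaximalSpectrum C × MaximalSpectrum C, p.1 ≠ p.2 →
        ∃ y : C, y ∈ p.1.asIdeal ∧ y ∉ p.2.asIdeal ∧ IsSeparable K (y : L) := by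
      rintro ⟨i, j⟩ hij
      have hnle : ¬ i.asIdeal ≤ j.asIdeal := by
        intro hle
        apply hij
        apply MaximalSpectrum.ext
        exact i.isMaximal.eq_of_le j.isMaximal.ne_top hle
      obtain ⟨x, hxi, hxj⟩ := Set.not_subset.mp hnle
      have hxint : IsIntegral K (x : L) := (x.2 : IsIntegral O (x : L)).tower_top
      obtain ⟨e, he⟩ := exists_pow_isSeparable q (x : L) hxint
      refine ⟨x ^ q ^ e, Ideal.pow_mem_of_mem _ hxi _ (pow_pos (expChar_pos K q) e), ?_, he⟩
      intro h
      exact hxj (j.isMaximal.isPrime.mem_of_pow_mem _ h)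
    choose! y hy1 hy2 hy3 using hsep
    let T : Finset L := S.offDiag.image (fun p => ((y p : C) : L))
    have hTsep : ∀ t ∈ (T : Set L), IsSeparable K t := by
      intro t ht
      obtain ⟨p, hp, rfl⟩ := Finset.mem_image.mp ht
      exact hy3 p (Finset.mem_offDiag.mp hp).2.2
    let F : IntermediateField K L := adjoin K (T : Set L)
    haveI : FiniteDimensional K F :=
      finiteDimensional_adjoin (fun t ht => (hTsep t ht).isIntegral)
    haveI : Algebra.IsSeparable K F := (isSeparable_adjoin_iff_isSeparable K L).mpr hTsep
    -- degree bound
    have hFle : F ≤ Ea := by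
      intro t ht
      have : IsAlgebraic K (⟨t, ht⟩ : F) := Algebra.IsAlgebraic.isAlgebraic _
      exact (mem_algebraicClosure_iff).mpr
        ((isAlgebraic_algebraMap_iff (algebraMap F L).injective).mpr this)
    have hdeg : Module.finrank K F ≤ n := by
      letI : Algebra F Ea := (IntermediateField.inclusion hFle).toRingHom.toAlgebra
      haveI : IsScalarTower K F Ea := IsScalarTower.of_algebraMap_eq
        (fun x => ((IntermediateField.inclusion hFle).commutes x).symm)
      haveI : Algebra.IsAlgebraic K Ea := inferInstance
      haveI : Algebra.IsAlgebraic F Ea := Algebra.IsAlgebraic.tower_top (K := K) F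
      have h1 := Field.finSepDegree_mul_finSepDegree_of_isAlgebraic K F Ea
      rw [hn, Field.finSepDegree_eq_finrank_of_isSeparable] at h1
      exact Nat.le_of_dvd hn0 (Dvd.intro _ h1)
    -- the integral closure of `A` in `F`
    haveI : IsScalarTower A K F := inferInstance
    obtain ⟨hfin, hcard⟩ := card_maximalSpectrum_integralClosure_le (A := A) (K := K) (F := F)
    let CF := integralClosure A F
    have hιmem : ∀ x : CF, ((x : F) : L) ∈ C := by
      intro x
      have h1 : IsIntegral A ((x : F) : L) := by
        have := (x.2 : IsIntegral A (x : F))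
        have h2 := this.map (IsScalarTower.toAlgHom A F L)
        exact h2
      haveI : Algebra.IsIntegral O A := inferInstance
      exact isIntegral_trans _ h1
    let ι : CF →+* C := ((algebraMap F L).comp CF.val.toRingHom).codRestrict C hιmem
    have hιint : ι.IsIntegral := by
      let j : O →+* CF := (algebraMap A CF).comp (algebraMap O A)
      have h1 : ι.comp j = algebraMap O C := by
        apply RingHom.ext
        intro o
        apply Subtype.ext
        show algebraMap F L (algebraMap A F (algebraMap O A o)) = algebraMap O L o
        rw [← IsScalarTower.algebraMap_apply A F L, IsScalarTower.algebraMap_apply A K L,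
          IsScalarTower.algebraMap_apply O K L]
        rfl
      refine RingHom.IsIntegral.tower_top j ι ?_
      rw [h1]
      exact algebraMap_isIntegral_iff.mpr inferInstance
    let g : S → MaximalSpectrum CF := fun i =>
      ⟨i.1.asIdeal.comap ι,
        haveI := i.1.isMaximal
        Ideal.isMaximal_comap_of_isIntegral_of_isMaximal' ι hιint _⟩
    have hg : Function.Injective g := by
      intro i j hij
      by_contra hne
      have hne' : i.1 ≠ j.1 := fun h => hne (Subtype.ext h)
      have hp : (i.1, j.1) ∈ S.offDiag := Finset.mem_offDiag.mpr ⟨i.2, j.2, hne'⟩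
      have hyT : ((y (i.1, j.1) : C) : L) ∈ (T : Set L) :=
        Finset.mem_coe.mpr (Finset.mem_image_of_mem _ hp)
      have hyF : ((y (i.1, j.1) : C) : L) ∈ F := subset_adjoin K _ hyT
      have hyint : IsIntegral A (⟨_, hyF⟩ : F) := by
        have h0 : IsIntegral O ((y (i.1, j.1) : C) : L) := (y (i.1, j.1)).2
        have h1 : IsIntegral A ((y (i.1, j.1) : C) : L) := h0.tower_top
        exact (isIntegral_algHom_iff (IsScalarTower.toAlgHom A F L)
          (algebraMap F L).injective).mp h1
      let yy : CF := ⟨⟨_, hyF⟩, hyint⟩
      have hιy : ι yy = y (i.1, j.1) := Subtype.ext rfl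
      have h1 : yy ∈ (g i).asIdeal := by
        show ι yy ∈ i.1.asIdeal
        rw [hιy]; exact hy1 (i.1, j.1) hne'
      have h2 : yy ∉ (g j).asIdeal := by
        show ι yy ∉ j.1.asIdeal
        rw [hιy]; exact hy2 (i.1, j.1) hne'
      rw [hij] at h1
      exact h2 h1
    have h3 : S.card ≤ Nat.card (MaximalSpectrum CF) := by
      haveI := hfin
      have h4 := Nat.card_le_card_of_injective g hg
      rwa [Nat.card_eq_fintype_card, Fintype.card_coe] at h4
    exact h3.trans (hcard.trans hdeg)
  haveI hfinite : Finite (MaximalSpectrum C) := by
    by_contra h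
    rw [not_finite_iff_infinite] at h
    obtain ⟨s, hs⟩ := Infinite.exists_subset_card_eq (MaximalSpectrum C) (n + 1)
    have := key s
    omega
  refine ⟨hfinite, ?_⟩
  haveI := Fintype.ofFinite (MaximalSpectrum C)
  rw [Nat.card_eq_fintype_card, ← Finset.card_univ]
  exact key _

end Groth.Agent.Helper1.SepCount
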