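import Groth.Agent.Helper1.CechTop

/-!
# Čech acyclicity from a partition of unity

An abstract version of the classical argument: if a commutative ring `Γ` acts on a presheaf `P`
(over the opens below `T`), the members `V i` of a finite family behave like "basic opens" of
elements `g i : Γ` with respect to `P` (sections over `V i ⊓ W` are the localization of sections over
`W` at `g i`, in the weak elementwise sense), and the powers of the `g i` generate the unit ideal
(in the sense that some combination acts bijectively), then the Čech complex of `P` with respect to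
`V` is exact in positive degrees.
-/

set_option autoImplicit false

namespace Groth.Agent.Helper1.Serre

open CategoryTheory Limits Opposite TopologicalSpace
open Groth.Agent.Helper1.Cech Groth.Agent.Helper1.CechTop

universe u v

variable {X : TopCat.{u}} (P : (Opens X)ᵒᵖ ⥤ AddCommGrpCat.{u})

/-- restriction of sections -/
noncomputable def res {W W' : Opens X} (h : W' ≤ W) (s : P.obj (op W)) : P.obj (op W') :=
  P.map (homOfLE h).op s

variable {P}

lemma res_res {W W' W'' : Opens X} (h : W' ≤ W) (h' : W'' ≤ W') (s : P.obj (op W)) :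
    res P h' (res P h s) = res P (h'.trans h) s := by
  unfold res
  rw [← ConcreteCategory.comp_apply, ← P.map_comp]
  rfl

lemma res_add {W W' : Opens X} (h : W' ≤ W) (s t : P.obj (op W)) :
    res P h (s + t) = res P h s + res P h t := map_add _ _ _

lemma res_sub {W W' : Opens X} (h : W' ≤ W) (s t : P.obj (op W)) :
    res P h (s - t) = res P h s - res P h t := map_sub _ _ _

lemma res_zero {W W' : Opens X} (h : W' ≤ W) : res P h (0 : P.obj (op W)) = 0 := map_zero _

lemma res_zsmul {W W' : Opens X} (h : W' ≤ W) (k : ℤ) (s : P.obj (op W)) :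
    res P h (k • s) = k • res P h s := map_zsmul _ _ _

lemma res_sum {κ : Type*} (S : Finset κ) {W W' : Opens X} (h : W' ≤ W)
    (f : κ → P.obj (op W)) : res P h (∑ k ∈ S, f k) = ∑ k ∈ S, res P h (f k) := map_sum _ _ _

lemma rc_eq_res {ι : Type u} (V : ι → Opens X) {n : ℕ} (c : (cx V P).X n)
    (x : Fin (n + 1) → ι) (W : Opens X) (h : W ≤ prodU V x) :
    rc V P c x W h = res P h (comp V P n x c) := rfl

variable (P)

/-- an action of a commutative ring on the sections of a presheaf over the opens below `T` -/
structure PAct (Γ : Type v) [CommRing Γ] (T : Opens X) where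
  /-- the action -/
  act : Γ → ∀ W : Opens X, W ≤ T → P.obj (op W) → P.obj (op W)
  act_one : ∀ W h s, act 1 W h s = s
  act_mul : ∀ a b W h s, act (a * b) W h s = act a W h (act b W h s)
  act_add : ∀ a b W h s, act (a + b) W h s = act a W h s + act b W h s
  map_add : ∀ a W h s t, act a W h (s + t) = act a W h s + act a W h t
  act_res : ∀ a (W W' : Opens X) (h : W ≤ T) (h' : W' ≤ W) s,
    res P h' (act a W h s) = act a W' (h'.trans h) (res P h' s)

namespace PAct

variable {P} {Γ : Type v} [CommRing Γ] {T : Opens X} (A : PAct P Γ T)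

lemma map_zero (a : Γ) (W : Opens X) (h : W ≤ T) : A.act a W h 0 = 0 := by
  have := A.map_add a W h 0 0
  rw [add_zero] at this
  exact left_eq_add.mp this

lemma act_zero (W : Opens X) (h : W ≤ T) (s : P.obj (op W)) : A.act 0 W h s = 0 := by
  have := A.act_add 0 0 W h s
  rw [add_zero] at this
  exact left_eq_add.mp this

lemma map_neg (a : Γ) (W : Opens X) (h : W ≤ T) (s : P.obj (op W)) :
    A.act a W h (-s) = -A.act a W h s := by
  have := A.map_add a W h s (-s)
  rw [add_neg_cancel, A.map_zero] at this
  exact (neg_eq_of_add_eq_zero_right this.symm).symm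

lemma map_sub (a : Γ) (W : Opens X) (h : W ≤ T) (s t : P.obj (op W)) :
    A.act a W h (s - t) = A.act a W h s - A.act a W h t := by
  rw [sub_eq_add_neg, A.map_add, A.map_neg, ← sub_eq_add_neg]

lemma map_sum {κ : Type*} (S : Finset κ) (a : Γ) (W : Opens X) (h : W ≤ T)
    (f : κ → P.obj (op W)) : A.act a W h (∑ k ∈ S, f k) = ∑ k ∈ S, A.act a W h (f k) := by
  classical
  induction S using Finset.induction_on with
  | empty => simp [A.map_zero]
  | insert k S hk ih => rw [Finset.sum_insert hk, Finset.sum_insert hk, A.map_add, ih]

lemma map_zsmul (a : Γ) (W : Opens X) (h : W ≤ T) (k : ℤ) (s : P.obj (op W)) :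
    A.act a W h (k • s) = k • A.act a W h s := by
  induction k using Int.induction_on with
  | zero => simp [A.map_zero]
  | succ k ih => rw [add_zsmul, add_zsmul, A.map_add, ih, one_zsmul, one_zsmul]
  | pred k ih =>
    rw [sub_zsmul, sub_zsmul, A.map_add, A.map_neg, ih, one_zsmul, one_zsmul]

lemma act_sum {κ : Type*} (S : Finset κ) (a : κ → Γ) (W : Opens X) (h : W ≤ T)
    (s : P.obj (op W)) : A.act (∑ k ∈ S, a k) W h s = ∑ k ∈ S, A.act (a k) W h s := by
  classical
  induction S using Finset.induction_on with
  | empty => simp [A.act_zero]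
  | insert k S hk ih => rw [Finset.sum_insert hk, Finset.sum_insert hk, A.act_add, ih]

lemma act_comm (a b : Γ) (W : Opens X) (h : W ≤ T) (s : P.obj (op W)) :
    A.act a W h (A.act b W h s) = A.act b W h (A.act a W h s) := by
  rw [← A.act_mul, ← A.act_mul, mul_comm]

end PAct

end Groth.Agent.Helper1.Serre
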