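import Groth.Agent.Helper1.SerreA

/-!
# Čech acyclicity from a partition of unity: the main argument
-/

set_option autoImplicit false

namespace Groth.Agent.Helper1.Serre

open CategoryTheory Limits Opposite TopologicalSpace
open Groth.Agent.Helper1.Cech Groth.Agent.Helper1.CechTop

universe u v

variable {X : TopCat.{u}} {P : (Opens X)ᵒᵖ ⥤ AddCommGrpCat.{u}} {ι : Type u}
  (V : ι → Opens X)

lemma inf_le_prodU_cons {m : ℕ} (i : ι) (x : Fin (m + 1) → ι) :
    V i ⊓ prodU V x ≤ prodU V (Fin.cons i x : Fin (m + 2) → ι) := by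
  apply le_prodU
  intro k
  refine Fin.cases ?_ (fun j => ?_) k
  · rw [Fin.cons_zero]
    exact inf_le_left
  · rw [Fin.cons_succ]
    exact inf_le_right.trans (prodU_le V x j)

lemma cons_comp_succAbove_zero {m : ℕ} (i : ι) (y : Fin (m + 1) → ι) :
    (Fin.cons i y : Fin (m + 2) → ι) ∘ (0 : Fin (m + 2)).succAbove = y := by
  funext k
  simp [Fin.succAbove_zero]

lemma cons_comp_succAbove_succ {m : ℕ} (i : ι) (y : Fin (m + 2) → ι) (j : Fin (m + 2)) :
    (Fin.cons i y : Fin (m + 3) → ι) ∘ (j.succ).succAbove =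
      (Fin.cons i (y ∘ j.succAbove) : Fin (m + 2) → ι) := by
  funext k
  refine Fin.cases ?_ (fun k' => ?_) k
  · simp
  · simp

variable [Fintype ι] {Γ : Type v} [CommRing Γ] (A : PAct P Γ (iSup V)) (g : ι → Γ)

/-- the members of the family behave like basic opens of the `g i`, and the powers of the `g i`
generate the unit ideal -/
structure IsLoc : Prop where
  surj : ∀ (m : ℕ) (i : ι) (z : Fin (m + 1) → ι) (s : P.obj (op (V i ⊓ prodU V z))),
    ∃ (N : ℕ) (t : P.obj (op (prodU V z))),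
      res P inf_le_right t = A.act (g i ^ N) _ (inf_le_right.trans (prodU_le_iSup V z)) s
  zero : ∀ (m : ℕ) (i : ι) (z : Fin (m + 1) → ι) (t : P.obj (op (prodU V z))),
    res P (inf_le_right : V i ⊓ prodU V z ≤ prodU V z) t = 0 →
      ∃ K : ℕ, A.act (g i ^ K) _ (prodU_le_iSup V z) t = 0
  pu : ∀ N : ℕ, ∃ a : ι → Γ, ∀ (W : Opens X) (h : W ≤ iSup V),
    Function.Bijective (A.act (∑ i, a i * g i ^ N) W h)

variable {V A g}

theorem exists_cobound (hL : IsLoc V A g) (n : ℕ) (c : (cx V P).X (n + 1))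
    (hc : (cx V P).d (n + 1) (n + 1 + 1) c = 0) :
    ∃ b : (cx V P).X n, (cx V P).d n (n + 1) b = c := by
  classical
  -- the components `c_{i,x}`
  let cc : ∀ (i : ι) (x : Fin (n + 1) → ι), P.obj (op (V i ⊓ prodU V x)) := fun i x =>
    rc V P c (Fin.cons i x) _ (inf_le_prodU_cons V i x)
  -- Step 1: lifts with a uniform exponent
  have h1 : ∀ q : ι × (Fin (n + 1) → ι), ∃ (N : ℕ) (t : P.obj (op (prodU V q.2))),
      res P inf_le_right t =
        A.act (g q.1 ^ N) _ (inf_le_right.trans (prodU_le_iSup V q.2)) (cc q.1 q.2) :=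
    fun q => hL.surj n q.1 q.2 _
  choose N₀ t₀ ht₀ using h1
  let N := Finset.univ.sup N₀
  have h2 : ∀ (i : ι) (x : Fin (n + 1) → ι), ∃ t : P.obj (op (prodU V x)),
      res P inf_le_right t =
        A.act (g i ^ N) _ (inf_le_right.trans (prodU_le_iSup V x)) (cc i x) := by
    intro i x
    refine ⟨A.act (g i ^ (N - N₀ (i, x))) _ (prodU_le_iSup V x) (t₀ (i, x)), ?_⟩
    rw [A.act_res, ht₀, ← A.act_mul, ← pow_add,
      Nat.sub_add_cancel (Finset.le_sup (f := N₀) (Finset.mem_univ (i, x)))]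
  choose t ht using h2
  -- Step 2: the error terms
  let e : ∀ (i : ι) (y : Fin (n + 2) → ι), P.obj (op (prodU V y)) := fun i y =>
    (∑ j : Fin (n + 2), (-1 : ℤ) ^ (j : ℕ) •
      res P (prodU_face_le V j y) (t i (y ∘ j.succAbove))) -
      A.act (g i ^ N) _ (prodU_le_iSup V y) (comp V P (n + 1) y c)
  have he : ∀ (i : ι) (y : Fin (n + 2) → ι),
      res P (inf_le_right : V i ⊓ prodU V y ≤ prodU V y) (e i y) = 0 := by
    intro i y
    have hW : V i ⊓ prodU V y ≤ iSup V := inf_le_right.trans (prodU_le_iSup V y)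
    -- the cocycle condition
    have hcoc := rc_d c (Fin.cons i y : Fin (n + 3) → ι) (V i ⊓ prodU V y)
      (inf_le_prodU_cons V i y)
    rw [hc, rc_zero, Fin.sum_univ_succ] at hcoc
    have hinner : (∑ j : Fin (n + 2), (-1 : ℤ) ^ (j : ℕ) •
        rc V P c (Fin.cons i (y ∘ j.succAbove)) (V i ⊓ prodU V y)
          ((inf_le_inf_left _ (prodU_face_le V j y)).trans
            (inf_le_prodU_cons V i (y ∘ j.succAbove)))) -
        rc V P c y (V i ⊓ prodU V y) inf_le_right = 0 := by
      have e0 : rc V P c ((Fin.cons i y : Fin (n + 3) → ι) ∘ (0 : Fin (n + 3)).succAbove)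
          (V i ⊓ prodU V y) ((inf_le_prodU_cons V i y).trans (prodU_face_le V 0 _)) =
          rc V P c y (V i ⊓ prodU V y) inf_le_right :=
        rc_congr c (cons_comp_succAbove_zero i y) _ _ _
      have es : ∀ j : Fin (n + 2),
          rc V P c ((Fin.cons i y : Fin (n + 3) → ι) ∘ (j.succ).succAbove)
            (V i ⊓ prodU V y) ((inf_le_prodU_cons V i y).trans (prodU_face_le V j.succ _)) =
          rc V P c (Fin.cons i (y ∘ j.succAbove)) (V i ⊓ prodU V y)
            ((inf_le_inf_left _ (prodU_face_le V j y)).trans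
              (inf_le_prodU_cons V i (y ∘ j.succAbove))) :=
        fun j => rc_congr c (cons_comp_succAbove_succ i y j) _ _ _
      rw [e0] at hcoc
      simp only [es, Fin.val_zero, pow_zero, one_smul, Fin.val_succ, pow_succ, mul_neg, mul_one,
        neg_smul, Finset.sum_neg_distrib] at hcoc
      rw [sub_eq_zero]
      have := hcoc.symm
      rw [← sub_eq_add_neg, sub_eq_zero] at this
      exact this.symm
    show res P _ ((∑ j : Fin (n + 2), (-1 : ℤ) ^ (j : ℕ) •
      res P (prodU_face_le V j y) (t i (y ∘ j.succAbove))) -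
      A.act (g i ^ N) _ (prodU_le_iSup V y) (comp V P (n + 1) y c)) = 0
    rw [res_sub, res_sum, A.act_res]
    have hterm : ∀ j : Fin (n + 2),
        res P (inf_le_right : V i ⊓ prodU V y ≤ prodU V y)
          ((-1 : ℤ) ^ (j : ℕ) • res P (prodU_face_le V j y) (t i (y ∘ j.succAbove))) =
        A.act (g i ^ N) _ hW ((-1 : ℤ) ^ (j : ℕ) •
          rc V P c (Fin.cons i (y ∘ j.succAbove)) (V i ⊓ prodU V y)
            ((inf_le_inf_left _ (prodU_face_le V j y)).trans
              (inf_le_prodU_cons V i (y ∘ j.succAbove)))) := by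
      intro j
      rw [res_zsmul, A.map_zsmul, res_res]
      congr 1
      have h3 : res P (inf_le_right.trans (prodU_face_le V j y) :
          V i ⊓ prodU V y ≤ prodU V (y ∘ j.succAbove)) (t i (y ∘ j.succAbove)) =
          res P (inf_le_inf_left _ (prodU_face_le V j y) :
            V i ⊓ prodU V y ≤ V i ⊓ prodU V (y ∘ j.succAbove))
            (res P inf_le_right (t i (y ∘ j.succAbove))) := by
        rw [res_res]
      rw [h3, ht, A.act_res]
      congr 1
      show res P _ (rc V P c (Fin.cons i (y ∘ j.succAbove)) _ _) = _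
      rw [rc_eq_res, res_res]
      rfl
    rw [Finset.sum_congr rfl (fun j _ => hterm j), ← A.map_sum, ← A.map_sub]
    have : res P (inf_le_right : V i ⊓ prodU V y ≤ prodU V y) (comp V P (n + 1) y c) =
        rc V P c y (V i ⊓ prodU V y) inf_le_right := rfl
    rw [this, hinner, A.map_zero]
  -- Step 3: a uniform exponent killing the error terms
  have h3 : ∀ q : ι × (Fin (n + 2) → ι), ∃ K : ℕ,
      A.act (g q.1 ^ K) _ (prodU_le_iSup V q.2) (e q.1 q.2) = 0 :=
    fun q => hL.zero (n + 1) q.1 q.2 _ (he q.1 q.2)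
  choose K₀ hK₀ using h3
  let K := Finset.univ.sup K₀
  have hK : ∀ (i : ι) (y : Fin (n + 2) → ι),
      A.act (g i ^ K) _ (prodU_le_iSup V y) (e i y) = 0 := by
    intro i y
    have : K = (K - K₀ (i, y)) + K₀ (i, y) :=
      (Nat.sub_add_cancel (Finset.le_sup (f := K₀) (Finset.mem_univ (i, y)))).symm
    rw [this, pow_add, A.act_mul, hK₀ (i, y), A.map_zero]
  -- Step 4: the partition of unity
  obtain ⟨a, ha⟩ := hL.pu (N + K)
  let s : ∀ x : Fin (n + 1) → ι, P.obj (op (prodU V x)) := fun x =>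
    ∑ i, A.act (a i * g i ^ K) _ (prodU_le_iSup V x) (t i x)
  have hb : ∀ x : Fin (n + 1) → ι, ∃ b : P.obj (op (prodU V x)),
      A.act (∑ i, a i * g i ^ (N + K)) _ (prodU_le_iSup V x) b = s x :=
    fun x => (ha _ (prodU_le_iSup V x)).2 (s x)
  choose b hb using hb
  refine ⟨mk b, ?_⟩
  apply Cech.ext
  intro y
  apply (ha _ (prodU_le_iSup V y)).1
  rw [← rc_self ((cx V P).d n (n + 1) (mk b)) y, rc_d]
  have hterm : ∀ j : Fin (n + 2),
      A.act (∑ i, a i * g i ^ (N + K)) _ (prodU_le_iSup V y)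
        ((-1 : ℤ) ^ (j : ℕ) • rc V P (mk b) (y ∘ j.succAbove) (prodU V y)
          ((le_refl _).trans (prodU_face_le V j y))) =
      ∑ i, A.act (a i * g i ^ K) _ (prodU_le_iSup V y)
        ((-1 : ℤ) ^ (j : ℕ) • res P (prodU_face_le V j y) (t i (y ∘ j.succAbove))) := by
    intro j
    rw [A.map_zsmul, rc_eq_res, comp_mk, ← A.act_res _ _ _ (prodU_le_iSup V (y ∘ j.succAbove)),
      hb, res_sum, Finset.smul_sum]
    refine Finset.sum_congr rfl (fun i _ => ?_)
    rw [A.act_res, A.map_zsmul]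
  rw [A.map_sum, Finset.sum_congr rfl (fun j _ => hterm j), Finset.sum_comm]
  rw [A.act_sum]
  refine Finset.sum_congr rfl (fun i _ => ?_)
  rw [← A.map_sum]
  have hsum : (∑ j : Fin (n + 2), (-1 : ℤ) ^ (j : ℕ) •
      res P (prodU_face_le V j y) (t i (y ∘ j.succAbove))) =
      e i y + A.act (g i ^ N) _ (prodU_le_iSup V y) (comp V P (n + 1) y c) := by
    show _ = (_ - _) + _
    rw [sub_add_cancel]
  rw [hsum, A.map_add, A.act_mul (a i) (g i ^ K), hK, A.map_zero, zero_add]
  simp only [← A.act_mul]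
  rw [mul_assoc, ← pow_add, add_comm K N]

end Groth.Agent.Helper1.Serre
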