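import Groth.Agent.Helper1.SerreB
import Groth.Agent.Helper4.QcqsMod
import Groth.Prelude.Def_Coh

/-!
# Čech acyclicity of quasi-coherent modules for standard coverings of affine opens
-/

set_option autoImplicit false

namespace Groth.Agent.Helper1.Serre

open CategoryTheory Limits Opposite TopologicalSpace AlgebraicGeometry
open Groth.Agent.Helper1.Cech Groth.Agent.Helper1.CechTop
open Groth.Agent.Helper4.StalkDict

universe u

section general

variable {T : TopCat.{u}} {P : (Opens T)ᵒᵖ ⥤ AddCommGrpCat.{u}}

lemma res_refl {W : Opens T} (s : P.obj (op W)) : res P (le_refl W) s = s := by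
  unfold res
  have : (homOfLE (le_refl W)).op = 𝟙 (op W) := rfl
  rw [this, P.map_id]
  rfl

lemma res_injective_of_eq {W W' : Opens T} (h : W' = W) :
    Function.Injective (res P h.le : P.obj (op W) → P.obj (op W')) := by
  subst h
  intro s t hst
  rwa [res_refl, res_refl] at hst

end general

variable {X : Scheme.{u}} (M : X.Modules)

/-- the action of `Γ(X, U)` on the sections of `M` over the opens below `T ≤ U` -/
noncomputable def sectAct (U : X.Opens) (T : X.Opens) (hT : T ≤ U) :
    PAct M.presheaf Γ(X, U) T where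
  act a W h s := (X.presheaf.map (homOfLE (h.trans hT)).op a) • (s : Γ(M, W))
  act_one W h s := by
    rw [map_one, one_smul]
  act_mul a b W h s := by
    rw [map_mul, mul_smul]
  act_add a b W h s := by
    rw [map_add, add_smul]
  map_add a W h s t := smul_add _ _ _
  act_res a W W' h h' s := by
    unfold res
    rw [Scheme.Modules.map_smul]
    congr 1
    rw [← ConcreteCategory.comp_apply, ← Functor.map_comp]
    rfl

lemma sectAct_act (U T : X.Opens) (hT : T ≤ U) (a : Γ(X, U)) (W : X.Opens) (h : W ≤ T)
    (s : Γ(M, W)) :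
    (sectAct M U T hT).act a W h s = (X.presheaf.map (homOfLE (h.trans hT)).op a) • s := rfl

variable {U : X.Opens} (hU : IsAffineOpen U)

include hU in
lemma basicOpen_finset_prod {κ : Type*} (s : Finset κ) (f : κ → Γ(X, U)) :
    X.basicOpen (∏ k ∈ s, f k) = U ⊓ s.inf (fun k => X.basicOpen (f k)) := by
  classical
  induction s using Finset.induction_on with
  | empty =>
    rw [Finset.prod_empty, Finset.inf_empty, inf_top_eq]
    exact X.basicOpen_of_isUnit isUnit_one
  | insert k s hk ih =>
    rw [Finset.prod_insert hk, Scheme.basicOpen_mul, ih, Finset.inf_insert]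
    rw [← inf_assoc, inf_comm (X.basicOpen (f k)) U, inf_assoc]

include hU in
lemma isAffineOpen_iInf_basicOpen {m : ℕ} (f : Fin (m + 1) → Γ(X, U)) :
    IsAffineOpen (⨅ k, X.basicOpen (f k)) := by
  have h := basicOpen_finset_prod hU Finset.univ f
  rw [Finset.inf_univ_eq_iInf] at h
  have h2 : U ⊓ ⨅ k, X.basicOpen (f k) = ⨅ k, X.basicOpen (f k) :=
    inf_eq_right.2 ((iInf_le _ 0).trans (X.basicOpen_le _))
  rw [h2] at h
  rw [← h]
  exact hU.basicOpen _

variable {ι : Type u} (g : ι → Γ(X, U))

/-- the family of basic opens -/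
abbrev bV (i : ι) : X.Opens := X.basicOpen (g i)

lemma iSup_bV_le : iSup (bV g) ≤ U := iSup_le (fun _ => X.basicOpen_le _)

include hU in
lemma isAffineOpen_prodU {m : ℕ} (z : Fin (m + 1) → ι) : IsAffineOpen (prodU (bV g) z) := by
  rw [prodU_eq]
  exact isAffineOpen_iInf_basicOpen hU (fun k => g (z k))

lemma prodU_le_U {m : ℕ} (z : Fin (m + 1) → ι) : prodU (bV g) z ≤ U :=
  (prodU_le_iSup (bV g) z).trans (iSup_bV_le g)

variable [Fintype ι] [M.IsQuasicoherent]

include hU in
theorem isLoc (hg : Ideal.span (Set.range g) = ⊤) :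
    IsLoc (bV g) (sectAct M U (iSup (bV g)) (iSup_bV_le g)) g := by
  constructor
  · -- surj
    intro m i z s
    have hW := isAffineOpen_prodU hU g z
    have hWU : prodU (bV g) z ≤ U := prodU_le_U g z
    obtain ⟨f', hf'⟩ : ∃ f' : Γ(X, prodU (bV g) z),
      f' = X.presheaf.map (homOfLE hWU).op (g i) := ⟨_, rfl⟩
    have hEq : X.basicOpen f' = bV g i ⊓ prodU (bV g) z := by
      rw [hf', Scheme.basicOpen_res, inf_comm]
    obtain ⟨n, t, hnt⟩ := exists_pow_smul_eq_res hW M f' (res M.presheaf hEq.le s)
    refine ⟨n, t, ?_⟩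
    apply res_injective_of_eq hEq
    rw [res_res, (sectAct M U (iSup (bV g)) (iSup_bV_le g)).act_res, sectAct_act]
    refine Eq.trans ?_ (Eq.trans hnt.symm ?_)
    · rfl
    · congr 1
      have h5 : f' ^ n = X.presheaf.map (homOfLE hWU).op (g i ^ n) := by
        rw [hf', map_pow]
      rw [h5, ← ConcreteCategory.comp_apply, ← Functor.map_comp]
      rfl
  · -- zero
    intro m i z t ht
    have hW := isAffineOpen_prodU hU g z
    have hWU : prodU (bV g) z ≤ U := prodU_le_U g z
    obtain ⟨f', hf'⟩ : ∃ f' : Γ(X, prodU (bV g) z),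
      f' = X.presheaf.map (homOfLE hWU).op (g i) := ⟨_, rfl⟩
    have hEq : X.basicOpen f' = bV g i ⊓ prodU (bV g) z := by
      rw [hf', Scheme.basicOpen_res, inf_comm]
    have h0 : M.presheaf.map (homOfLE (X.basicOpen_le f')).op t = 0 := by
      have := congrArg (res M.presheaf hEq.le) ht
      rw [res_res, res_zero] at this
      exact this
    obtain ⟨n, hn⟩ := exists_pow_smul_eq_zero hW M f' t h0
    refine ⟨n, ?_⟩
    rw [sectAct_act, map_pow, ← hf']
    exact hn
  · -- partition of unity
    intro N
    have h1 : Ideal.span (Set.range (fun i => g i ^ N)) = ⊤ := by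
      have := Ideal.span_pow_eq_top _ hg N
      rwa [← Set.range_comp] at this
    have h2 : (1 : Γ(X, U)) ∈ Ideal.span (Set.range (fun i => g i ^ N)) := by
      rw [h1]
      exact Submodule.mem_top
    obtain ⟨a, ha⟩ := (Ideal.mem_span_range_iff_exists_fun).1 h2
    refine ⟨a, fun W h => ?_⟩
    rw [ha]
    have : (sectAct M U (iSup (bV g)) (iSup_bV_le g)).act 1 W h = id := by
      funext s
      exact (sectAct M U (iSup (bV g)) (iSup_bV_le g)).act_one W h s
    rw [this]
    exact Function.bijective_id

include hU in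
/-- **Čech acyclicity** of a quasi-coherent module for a standard covering of an affine open -/
theorem isZero_cechH (hg : Ideal.span (Set.range g) = ⊤) (p : ℕ) :
    IsZero (CohTop.cechH (Coh.toAb M).obj (bV g) (p + 1)) := by
  apply isZero_homology_of_exists
  intro c hc
  exact exists_cobound (isLoc M hU g hg) p c hc

end Groth.Agent.Helper1.Serre
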