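import Groth.Agent.Helper1.IdealMod
import Groth.Agent.Helper1.MVSurj
import Groth.Agent.Helper4.StalkExact

/-!
# Serre's criterion, step 1: separating a closed point from the complement of a neighbourhood
-/

set_option autoImplicit false

namespace Groth.Agent.Helper1.SerreCrit

open CategoryTheory Limits Opposite TopologicalSpace AlgebraicGeometry
open Groth.Agent.Helper1.IdealMod Groth.Agent.Helper1.CohTopFun

universe u

variable {X : Scheme.{u}}

/-- gluing two functions which agree on the intersection -/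
lemma glueFun (U V : X.Opens) (s : Γ(X, U)) (t : Γ(X, V))
    (h : X.presheaf.map (homOfLE (inf_le_left : U ⊓ V ≤ U)).op s =
      X.presheaf.map (homOfLE (inf_le_right : U ⊓ V ≤ V)).op t) :
    ∃ r : Γ(X, U ⊔ V), X.presheaf.map (homOfLE (le_sup_left : U ≤ U ⊔ V)).op r = s ∧
      X.presheaf.map (homOfLE (le_sup_right : V ≤ U ⊔ V)).op r = t := by
  let fam : Bool → X.Opens := fun b => if b then U else V
  let sf : ∀ b : Bool, Γ(X, fam b) := fun b =>
    match b with
    | true => s
    | false => t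
  have hfamle : ∀ b, fam b ≤ U ⊔ V := by
    intro b
    cases b
    · exact le_sup_right
    · exact le_sup_left
  have hcompat : TopCat.Presheaf.IsCompatible X.presheaf fam sf := by
    intro b b'
    cases b <;> cases b'
    · rfl
    · show X.presheaf.map (homOfLE (inf_le_left : V ⊓ U ≤ V)).op t =
        X.presheaf.map (homOfLE (inf_le_right : V ⊓ U ≤ U)).op s
      have e : V ⊓ U ≤ U ⊓ V := by rw [inf_comm]
      have := congrArg (X.presheaf.map (homOfLE e).op) h
      rw [← ConcreteCategory.comp_apply, ← X.presheaf.map_comp, ← ConcreteCategory.comp_apply,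
        ← X.presheaf.map_comp] at this
      exact this.symm
    · exact h
    · rfl
  obtain ⟨r, hr, -⟩ := TopCat.Sheaf.existsUnique_gluing' X.sheaf fam (U ⊔ V)
    (fun b => homOfLE (hfamle b)) (sup_le (le_iSup fam true) (le_iSup fam false)) sf hcompat
  exact ⟨r, hr true, hr false⟩

/-- a function killed by `ι` vanishes at the points of the image of `ι` -/
lemma not_mem_basicOpen_of_app_eq_zero {Z : Scheme.{u}} (ι : Z ⟶ X) {W : X.Opens} (r : Γ(X, W))
    (h : ι.app W r = 0) (y : X) (hy : y ∈ Set.range ι) : y ∉ X.basicOpen r := by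
  rintro hyr
  obtain ⟨z, rfl⟩ := hy
  have h1 : z ∈ ι ⁻¹ᵁ X.basicOpen r := hyr
  rw [Scheme.preimage_basicOpen, h, Scheme.basicOpen_zero] at h1
  exact h1

/-- Mayer–Vietoris surjectivity for modules -/
lemma exists_sub_mod (M : X.Modules) (U V : X.Opens) (hUV : U ⊔ V = ⊤)
    (hH : Subsingleton (Coh.HH X M 1)) (c : Γ(M, U ⊓ V)) :
    ∃ (a : Γ(M, U)) (b : Γ(M, V)),
      c = M.presheaf.map (homOfLE (inf_le_left : U ⊓ V ≤ U)).op a -
        M.presheaf.map (homOfLE (inf_le_right : U ⊓ V ≤ V)).op b :=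
  MVSurj.exists_sub_of_H1 (Coh.toAb M) U V hUV
    (@AddCommGrpCat.isZero_of_subsingleton _ hH) c

/-- **Step 1 of Serre's criterion** -/
theorem exists_basicOpen_of_closedPoint
    (h : ∀ (I : X.Modules) (i : I ⟶ Coh.structureModule X), Mono i →
      Coh.IsQCoh I → Subsingleton (Coh.HH X I 1))
    (x : X) (hx : IsClosed ({x} : Set X)) (U : X.Opens) (hxU : x ∈ U) :
    ∃ f : Γ(X, ⊤), x ∈ X.basicOpen f ∧ X.basicOpen f ≤ U := by
  let Z' : Closeds X := ⟨(U : Set X)ᶜ ∪ {x}, U.2.isClosed_compl.union hx⟩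
  let 𝓘 := Scheme.IdealSheafData.vanishingIdeal Z'
  let ι := 𝓘.subschemeι
  have hrange : Set.range ι = (U : Set X)ᶜ ∪ {x} := by
    rw [Scheme.IdealSheafData.range_subschemeι, Scheme.IdealSheafData.coe_support_vanishingIdeal]
    rfl
  let V : X.Opens := ⟨{x}ᶜ, hx.isOpen_compl⟩
  have hUV : U ⊔ V = ⊤ := by
    apply le_antisymm le_top
    intro y _
    by_cases hy : y = x
    · exact Or.inl (hy ▸ hxU)
    · exact Or.inr hy
  have hempty : ι ⁻¹ᵁ (U ⊓ V) = ⊥ := by
    apply le_antisymm _ bot_le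
    intro z hz
    have hz1 : ι z ∈ Set.range ι := ⟨z, rfl⟩
    rw [hrange] at hz1
    rcases hz1 with h1 | h1
    · exact (h1 hz.1).elim
    · exact (hz.2 h1).elim
  have h1 : ι.app (U ⊓ V) 1 = 0 := by
    have : Subsingleton Γ(𝓘.subscheme, ι ⁻¹ᵁ (U ⊓ V)) := by
      rw [hempty]
      infer_instance
    exact Subsingleton.elim _ _
  obtain ⟨c, hc⟩ := exists_of_app_eq_zero ι (U ⊓ V) 1 h1
  obtain ⟨a, b, hab⟩ := exists_sub_mod (ideal ι) U V hUV
    (h (ideal ι) (idealι ι) inferInstance inferInstance) c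
  obtain ⟨α, hα⟩ : ∃ α : Γ(X, U), α = fn ((idealι ι).app U a) := ⟨_, rfl⟩
  obtain ⟨β, hβ⟩ : ∃ β : Γ(X, V), β = fn ((idealι ι).app V b) := ⟨_, rfl⟩
  have hα0 : ι.app U α = 0 := hα ▸ app_idealι ι U a
  have hβ0 : ι.app V β = 0 := hβ ▸ app_idealι ι V b
  have hαβ : (1 : Γ(X, U ⊓ V)) = X.presheaf.map (homOfLE (inf_le_left : U ⊓ V ≤ U)).op α -
      X.presheaf.map (homOfLE (inf_le_right : U ⊓ V ≤ V)).op β := by
    have h5 := congrArg (fun s => fn ((idealι ι).app (U ⊓ V) s)) hab
    simp only at h5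
    rw [hc, map_sub, fn_sub, Groth.Agent.Helper4.StalkExact.app_res,
      Groth.Agent.Helper4.StalkExact.app_res, fn_res, fn_res, ← hα, ← hβ] at h5
    exact h5
  obtain ⟨r, hrU, hrV⟩ := glueFun U V (1 - α) (-β) (by
    rw [map_sub, map_one, map_neg, hαβ]
    abel)
  have hxr : x ∈ Set.range ι := by rw [hrange]; exact Or.inr rfl
  refine ⟨X.presheaf.map (homOfLE hUV.ge).op r, ?_, ?_⟩
  · -- `x ∈ X_f`
    have hfU : X.presheaf.map (homOfLE (le_top : U ≤ ⊤)).op
        (X.presheaf.map (homOfLE hUV.ge).op r) = 1 - α := by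
      rw [← ConcreteCategory.comp_apply, ← X.presheaf.map_comp]
      exact hrU
    have h2 : x ∈ X.basicOpen (1 - α) := by
      rw [Scheme.mem_basicOpen X (1 - α) x hxU, map_sub, map_one]
      apply IsLocalRing.isUnit_one_sub_self_of_mem_nonunits
      intro hunit
      exact not_mem_basicOpen_of_app_eq_zero ι α hα0 x hxr
        ((Scheme.mem_basicOpen X α x hxU).2 hunit)
    rw [← hfU, Scheme.basicOpen_res] at h2
    exact h2.2
  · -- `X_f ≤ U`
    intro y hy
    by_contra hyU
    have hyx : y ≠ x := fun e => hyU (e ▸ hxU)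
    have hyV : y ∈ V := hyx
    have hyr : y ∈ Set.range ι := by rw [hrange]; exact Or.inl hyU
    have hfV : X.presheaf.map (homOfLE (le_top : V ≤ ⊤)).op
        (X.presheaf.map (homOfLE hUV.ge).op r) = -β := by
      rw [← ConcreteCategory.comp_apply, ← X.presheaf.map_comp]
      exact hrV
    have h3 : y ∈ X.basicOpen (-β) := by
      rw [← hfV, Scheme.basicOpen_res]
      exact ⟨hyV, hy⟩
    have h4 : ι.app V (-β) = 0 := by rw [map_neg, hβ0, neg_zero]
    exact not_mem_basicOpen_of_app_eq_zero ι (-β) h4 y hyr h3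

end Groth.Agent.Helper1.SerreCrit
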