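import Groth.Agent.Helper1.SerreCritA

/-!
# Serre's criterion, step 2: a finite cover by affine basic opens
-/

set_option autoImplicit false

namespace Groth.Agent.Helper1.SerreCrit

open CategoryTheory Limits Opposite TopologicalSpace AlgebraicGeometry
open Groth.Agent.Helper1.IdealMod Groth.Agent.Helper1.CohTopFun

universe u

variable {X : Scheme.{u}}

lemma isAffineOpen_basicOpen_of_le {U : X.Opens} (hU : IsAffineOpen U) (f : Γ(X, ⊤))
    (hf : X.basicOpen f ≤ U) : IsAffineOpen (X.basicOpen f) := by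
  have h := hU.basicOpen (X.presheaf.map (homOfLE (le_top : U ≤ ⊤)).op f)
  rwa [Scheme.basicOpen_res, inf_eq_right.2 hf] at h

theorem exists_finset_affine_basicOpen [CompactSpace X]
    (h : ∀ (I : X.Modules) (i : I ⟶ Coh.structureModule X), Mono i →
      Coh.IsQCoh I → Subsingleton (Coh.HH X I 1)) :
    ∃ s : Finset Γ(X, ⊤), (∀ f ∈ s, IsAffineOpen (X.basicOpen f)) ∧
      ∀ x : X, ∃ f ∈ s, x ∈ X.basicOpen f := by
  classical
  let W : X.Opens := ⨆ f : {f : Γ(X, ⊤) // IsAffineOpen (X.basicOpen f)}, X.basicOpen f.1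
  have hW : W = ⊤ := by
    by_contra hne
    have hC : ((W : Set X)ᶜ).Nonempty := by
      rw [Set.nonempty_compl]
      intro e
      exact hne (Opens.ext e)
    obtain ⟨x, hxC, hx⟩ := W.2.isClosed_compl.exists_closed_singleton hC
    obtain ⟨_, ⟨U, hU : IsAffineOpen U, rfl⟩, hxU, -⟩ :=
      X.isBasis_affineOpens.exists_subset_of_mem_open (Set.mem_univ x) isOpen_univ
    obtain ⟨f, hxf, hfU⟩ := exists_basicOpen_of_closedPoint h x hx U hxU
    have hf : IsAffineOpen (X.basicOpen f) := isAffineOpen_basicOpen_of_le hU f hfU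
    exact hxC (Opens.mem_iSup.2 ⟨⟨f, hf⟩, hxf⟩)
  obtain ⟨t, ht⟩ := isCompact_univ.elim_finite_subcover
    (fun f : {f : Γ(X, ⊤) // IsAffineOpen (X.basicOpen f)} => (X.basicOpen f.1 : Set X))
    (fun f => (X.basicOpen f.1).2) (by
      intro x _
      have hx : x ∈ W := by rw [hW]; trivial
      obtain ⟨f, hf⟩ := Opens.mem_iSup.1 hx
      exact Set.mem_iUnion.2 ⟨f, hf⟩)
  refine ⟨t.image Subtype.val, ?_, ?_⟩
  · intro f hf
    obtain ⟨g, -, rfl⟩ := Finset.mem_image.1 hf
    exact g.2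
  · intro x
    obtain ⟨g, hg⟩ := Set.mem_iUnion.1 (ht (Set.mem_univ x))
    obtain ⟨hgt, hxg⟩ := Set.mem_iUnion.1 hg
    exact ⟨g.1, Finset.mem_image_of_mem _ hgt, hxg⟩

end Groth.Agent.Helper1.SerreCrit
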