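import Mathlib

set_option autoImplicit false
set_option linter.unusedSectionVars false

namespace Groth.Agent.Helper1.SerreFF
open CategoryTheory Limits

universe v u

variable {A A' : Type u} [Category.{v} A] [Abelian A] [Category.{v} A'] [Abelian A']
    (i : A' ⥤ A) [i.Full] [i.Faithful] [PreservesFiniteLimits i] [PreservesFiniteColimits i]

instance additive_of_exact : i.Additive := Functor.additive_of_preserves_binary_products _

/-- essential image closed under kernels -/
lemma essImage_kernel {X Y : A} (f : X ⟶ Y) (hX : i.essImage X) (hY : i.essImage Y) :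
    i.essImage (kernel f) := by
  obtain ⟨X₀, ⟨a⟩⟩ := hX
  obtain ⟨Y₀, ⟨b⟩⟩ := hY
  let f₀ : X₀ ⟶ Y₀ := i.preimage (a.hom ≫ f ≫ b.inv)
  refine ⟨kernel f₀, ⟨PreservesKernel.iso i f₀ ≪≫ kernel.mapIso _ _ a b ?_⟩⟩
  simp [f₀]

/-- essential image closed under cokernels -/
lemma essImage_cokernel {X Y : A} (f : X ⟶ Y) (hX : i.essImage X) (hY : i.essImage Y) :
    i.essImage (cokernel f) := by
  obtain ⟨X₀, ⟨a⟩⟩ := hX
  obtain ⟨Y₀, ⟨b⟩⟩ := hY
  let f₀ : X₀ ⟶ Y₀ := i.preimage (a.hom ≫ f ≫ b.inv)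
  refine ⟨cokernel f₀, ⟨PreservesCokernel.iso i f₀ ≪≫ cokernel.mapIso _ _ a b ?_⟩⟩
  simp [f₀]

variable (J : ObjectProperty A) [J.IsSerreClass] [(J.inverseImage i).IsSerreClass]

lemma isoModSerre_inverseImage_iff {X Y : A'} (g : X ⟶ Y) :
    (J.inverseImage i).isoModSerre g ↔ J.isoModSerre (i.map g) := by
  rw [ObjectProperty.isoModSerre_iff, ObjectProperty.isoModSerre_iff,
    ObjectProperty.monoModSerre_iff, ObjectProperty.monoModSerre_iff,
    ObjectProperty.epiModSerre_iff, ObjectProperty.epiModSerre_iff,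
    ObjectProperty.prop_inverseImage_iff, ObjectProperty.prop_inverseImage_iff,
    J.prop_iff_of_iso (PreservesKernel.iso i g), J.prop_iff_of_iso (PreservesCokernel.iso i g)]

omit [i.Full] [i.Faithful] [PreservesFiniteLimits i] [PreservesFiniteColimits i]
  [(J.inverseImage i).IsSerreClass] in
lemma factorThruImage_comp_coimageIsoImage_inv {X Y : A} (f : X ⟶ Y) :
    Abelian.factorThruImage f ≫ (Abelian.coimageIsoImage f).inv = cokernel.π (kernel.ι f) := by
  rw [Iso.comp_inv_eq, ← cancel_mono (Abelian.image.ι f), Abelian.image.fac, Category.assoc]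
  exact (Abelian.coimage_image_factorisation f).symm

/-- the zigzag lemma -/
lemma zigzag
    (hsub : ∀ (M : A') (N : A) (f : N ⟶ i.obj M), Mono f → J N → i.essImage N)
    (hquot : ∀ (M : A') (N : A) (p : i.obj M ⟶ N), Epi p → J N → i.essImage N)
    {M₁ N₁ : A'} {Z : A} (s : Z ⟶ i.obj M₁) (hs : J.isoModSerre s) (f : Z ⟶ i.obj N₁) :
    ∃ (M₀ P₀ : A') (m₀ : M₀ ⟶ M₁) (q₀ : N₁ ⟶ P₀) (f₀ : M₀ ⟶ P₀) (s' : Z ⟶ i.obj M₀),
      J.isoModSerre (i.map m₀) ∧ J.isoModSerre (i.map q₀) ∧ s' ≫ i.map m₀ = s ∧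
        s' ≫ i.map f₀ = f ≫ i.map q₀ := by
  have hM' : i.essImage (Abelian.image s) :=
    essImage_kernel i (cokernel.π s) ⟨M₁, ⟨Iso.refl _⟩⟩
      (hquot M₁ _ (cokernel.π s) inferInstance hs.2)
  let k := kernel.ι s
  let n := Abelian.image.ι (k ≫ f)
  have hJN' : J (Abelian.image (k ≫ f)) := J.prop_of_epi (Abelian.factorThruImage (k ≫ f)) hs.1
  have hN' : i.essImage (Abelian.image (k ≫ f)) := hsub N₁ _ n inferInstance hJN'
  have hP' : i.essImage (cokernel n) := essImage_cokernel i n hN' ⟨N₁, ⟨Iso.refl _⟩⟩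
  let q := cokernel.π n
  have hk : k ≫ f ≫ q = 0 := by
    calc k ≫ f ≫ q = (Abelian.factorThruImage (k ≫ f) ≫ n) ≫ q := by
          rw [Abelian.image.fac, Category.assoc]
      _ = 0 := by rw [Category.assoc, cokernel.condition, comp_zero]
  let fbar : Abelian.image s ⟶ cokernel n :=
    (Abelian.coimageIsoImage s).inv ≫ cokernel.desc k (f ≫ q) hk
  have hfbar : Abelian.factorThruImage s ≫ fbar = f ≫ q := by
    dsimp only [fbar]
    rw [← Category.assoc, factorThruImage_comp_coimageIsoImage_inv, cokernel.π_desc]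
  have hWm : J.isoModSerre (Abelian.image.ι s) :=
    ObjectProperty.epiModSerre.isoModSerre_image_ι hs.2
  have hWq : J.isoModSerre q := by
    rw [ObjectProperty.isoModSerre_iff_of_epi, ObjectProperty.monoModSerre_iff]
    exact J.prop_of_iso (asIso (Abelian.factorThruImage n)) hJN'
  obtain ⟨M₀, ⟨α⟩⟩ := hM'
  obtain ⟨P₀, ⟨β⟩⟩ := hP'
  refine ⟨M₀, P₀, i.preimage (α.hom ≫ Abelian.image.ι s), i.preimage (q ≫ β.inv),
    i.preimage (α.hom ≫ fbar ≫ β.inv), Abelian.factorThruImage s ≫ α.inv, ?_, ?_, ?_, ?_⟩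
  · rw [i.map_preimage]
    exact J.isoModSerre.comp_mem _ _ (J.isoModSerre_of_isIso _) hWm
  · rw [i.map_preimage]
    exact J.isoModSerre.comp_mem _ _ hWq (J.isoModSerre_of_isIso _)
  · rw [i.map_preimage, Category.assoc, Iso.inv_hom_id_assoc, Abelian.image.fac]
  · rw [i.map_preimage, i.map_preimage, Category.assoc, Iso.inv_hom_id_assoc,
      ← Category.assoc, hfbar, Category.assoc]

universe v' u' v'' u''

variable {Q : Type u'} [Category.{v'} Q] (L : A ⥤ Q) [L.IsLocalization J.isoModSerre]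
    {Q' : Type u''} [Category.{v''} Q'] (L' : A' ⥤ Q') [L'.IsLocalization (J.inverseImage i).isoModSerre]
    (Φ : Q' ⥤ Q) (e : L' ⋙ Φ ≅ i ⋙ L)

include e in
lemma map_map_eq {X₁ X₂ : A'} (f : X₁ ⟶ X₂) :
    Φ.map (L'.map f) = e.hom.app X₁ ≫ L.map (i.map f) ≫ e.inv.app X₂ := by
  have := e.hom.naturality f
  dsimp at this
  rw [← cancel_mono (e.hom.app X₂), Category.assoc, Category.assoc, Iso.inv_hom_id_app]
  dsimp
  rw [Category.comp_id]
  exact this

include i J L L' e in
lemma faithful : Φ.Faithful := by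
  refine Functor.faithful_of_comp_of_hasLeftCalculusOfFractions L'
    (J.inverseImage i).isoModSerre Φ ?_
  intro X₁ X₂ f g hfg
  rw [map_map_eq i L L' Φ e, map_map_eq i L L' Φ e] at hfg
  have hfg' : L.map (i.map f) = L.map (i.map g) := by
    have := congrArg (fun x => e.inv.app X₁ ≫ x ≫ e.hom.app X₂) hfg
    simpa using this
  rw [MorphismProperty.map_eq_iff_postcomp L J.isoModSerre] at hfg'
  obtain ⟨Z, s, hs, fac⟩ := hfg'
  rw [MorphismProperty.map_eq_iff_postcomp L' (J.inverseImage i).isoModSerre]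
  have hd : i.map (f - g) ≫ s = 0 := by
    rw [Functor.map_sub, Preadditive.sub_comp, fac, sub_self]
  have hd' : i.map (Abelian.image.ι (f - g)) ≫ s = 0 := by
    have : Epi (i.map (Abelian.factorThruImage (f - g))) := inferInstance
    rw [← cancel_epi (i.map (Abelian.factorThruImage (f - g))), ← Category.assoc, ← i.map_comp,
      Abelian.image.fac, hd, comp_zero]
  have hJ : J (i.obj (Abelian.image (f - g))) := by
    have : Mono (kernel.lift s _ hd') := mono_of_mono_fac (kernel.lift_ι s _ hd')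
    exact J.prop_of_mono (kernel.lift s _ hd') hs.1
  refine ⟨_, cokernel.π (Abelian.image.ι (f - g)), ?_, ?_⟩
  · rw [ObjectProperty.isoModSerre_iff_of_epi, ObjectProperty.monoModSerre_iff,
      ObjectProperty.prop_inverseImage_iff]
    exact J.prop_of_iso (i.mapIso (asIso (Abelian.factorThruImage (Abelian.image.ι (f - g))))) hJ
  · have : (f - g) ≫ cokernel.π (Abelian.image.ι (f - g)) = 0 := by
      have h1 := Abelian.image.fac (f - g)
      calc (f - g) ≫ cokernel.π (Abelian.image.ι (f - g))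
          = (Abelian.factorThruImage (f - g) ≫ Abelian.image.ι (f - g)) ≫
              cokernel.π (Abelian.image.ι (f - g)) := by rw [h1]
        _ = 0 := by rw [Category.assoc, cokernel.condition, comp_zero]
    rwa [Preadditive.sub_comp, sub_eq_zero] at this

include i J L L' e in
lemma full
    (hsub : ∀ (M : A') (N : A) (f : N ⟶ i.obj M), Mono f → J N → i.essImage N)
    (hquot : ∀ (M : A') (N : A) (p : i.obj M ⟶ N), Epi p → J N → i.essImage N) : Φ.Full := by
  have : L'.EssSurj := Localization.essSurj L' (J.inverseImage i).isoModSerre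
  refine Φ.full_of_comp_essSurj L' (fun X₁ X₂ φ => ?_)
  obtain ⟨φ', hφ'⟩ : ∃ φ' : L.obj (i.obj X₁) ⟶ L.obj (i.obj X₂),
      φ = e.hom.app X₁ ≫ φ' ≫ e.inv.app X₂ :=
    ⟨e.inv.app X₁ ≫ φ ≫ e.hom.app X₂, by simp⟩
  obtain ⟨ρ, hρ⟩ := Localization.exists_rightFraction L J.isoModSerre φ'
  have hρ' : L.map ρ.s ≫ φ' = L.map ρ.f := by
    rw [hρ, MorphismProperty.RightFraction.map_s_comp_map]
  obtain ⟨M₀, P₀, m₀, q₀, f₀, s', hm₀, hq₀, hs', hf₀⟩ :=
    zigzag i J hsub hquot ρ.s ρ.hs ρ.f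
  have hm₀' := Localization.inverts L' _ m₀ ((isoModSerre_inverseImage_iff i J m₀).2 hm₀)
  have hq₀' := Localization.inverts L' _ q₀ ((isoModSerre_inverseImage_iff i J q₀).2 hq₀)
  have hm₀'' := Localization.inverts L _ _ hm₀
  have hq₀'' := Localization.inverts L _ _ hq₀
  have hρs := Localization.inverts L _ _ ρ.hs
  have hs'iso : IsIso (L.map s') := by
    have : L.map s' = L.map ρ.s ≫ inv (L.map (i.map m₀)) := by
      rw [← hs', L.map_comp, Category.assoc, IsIso.hom_inv_id, Category.comp_id]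
    rw [this]; infer_instance
  have key : L.map (i.map m₀) ≫ φ' ≫ L.map (i.map q₀) = L.map (i.map f₀) := by
    rw [← cancel_epi (L.map s'), ← L.map_comp s' (i.map f₀), hf₀, L.map_comp, ← hρ',
      ← hs', L.map_comp]
    simp only [Category.assoc]
  refine ⟨inv (L'.map m₀) ≫ L'.map f₀ ≫ inv (L'.map q₀), ?_⟩
  rw [Functor.map_comp, Functor.map_comp, Functor.map_inv, Functor.map_inv,
    IsIso.inv_comp_eq, hφ']
  rw [← cancel_mono (Φ.map (L'.map q₀))]
  simp only [Category.assoc, IsIso.inv_hom_id, Category.comp_id]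
  rw [map_map_eq i L L' Φ e, map_map_eq i L L' Φ e, map_map_eq i L L' Φ e]
  simp only [Category.assoc, Iso.inv_hom_id_app_assoc]
  rw [← key]
  simp only [Category.assoc]

include i J L L' e in
theorem full_and_faithful
    (hsub : ∀ (M : A') (N : A) (f : N ⟶ i.obj M), Mono f → J N → i.essImage N)
    (hquot : ∀ (M : A') (N : A) (p : i.obj M ⟶ N), Epi p → J N → i.essImage N) :
    Φ.Full ∧ Φ.Faithful :=
  ⟨full i J L L' Φ e hsub hquot, faithful i J L L' Φ e⟩

end Groth.Agent.Helper1.SerreFF
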