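import Mathlib
import Groth.Prelude.Def_CohSite
import Groth.Agent.Helper1.DeltaCmp
import Groth.Agent.Helper1.ExtLES

set_option autoImplicit false

/-!
# Cohomology presheaves of abelian sheaves on a small site: `H⁰`, long exact sequence
-/

namespace Groth.Agent.Helper1.SiteCoh
open CategoryTheory Opposite Limits Abelian Groth.Agent.Helper1.DeltaCmp

universe u
variable {C : Type u} [SmallCategory C] (J : GrothendieckTopology C)

/-- abelian sheaves -/
abbrev Ab := Sheaf J AddCommGrpCat.{u}

/-- free-sheafify functor on presheaves of sets -/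
noncomputable abbrev LF : (Cᵒᵖ ⥤ Type u) ⥤ Ab J :=
  (Functor.whiskeringRight Cᵒᵖ _ _).obj AddCommGrpCat.free.{u} ⋙
      presheafToSheaf J AddCommGrpCat.{u}

/-- forgetful functor to presheaves of sets -/
noncomputable abbrev RF : Ab J ⥤ (Cᵒᵖ ⥤ Type u) :=
  sheafToPresheaf J AddCommGrpCat.{u} ⋙
      (Functor.whiskeringRight Cᵒᵖ _ _).obj (forget AddCommGrpCat.{u})

/-- the adjunction free-sheafify ⊣ forget -/
noncomputable def adjF : LF J ⊣ RF J :=
  (Adjunction.whiskerRight _ AddCommGrpCat.adj).comp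
    (sheafificationAdjunction J AddCommGrpCat.{u})

/-- `ℤ_U` -/
noncomputable abbrev freeY (U : C) : Ab J := (LF J).obj (yoneda.obj U)

/-- `ℤ_V → ℤ_U` -/
noncomputable abbrev freeMap {U V : C} (i : V ⟶ U) : freeY J V ⟶ freeY J U :=
  (LF J).map (yoneda.map i)

variable {J}

/-- `Hom(ℤ_U, G) ≃ G(U)` -/
noncomputable def homEquiv (U : C) (G : Ab J) :
    (freeY J U ⟶ G) ≃ G.obj.obj (op U) :=
  ((adjF J).homEquiv (yoneda.obj U) G).trans yonedaEquiv

lemma homEquiv_comp (U : C) {G G' : Ab J} (φ : freeY J U ⟶ G) (g : G ⟶ G') :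
    homEquiv U G' (φ ≫ g) = g.hom.app (op U) (homEquiv U G φ) := by
  unfold homEquiv
  simp only [Equiv.trans_apply]
  rw [Adjunction.homEquiv_naturality_right, yonedaEquiv_comp]
  rfl

lemma homEquiv_map {U V : C} (i : V ⟶ U) {G : Ab J} (φ : freeY J U ⟶ G) :
    homEquiv V G (freeMap J i ≫ φ) = G.obj.map i.op (homEquiv U G φ) := by
  unfold homEquiv
  simp only [Equiv.trans_apply]
  rw [Adjunction.homEquiv_naturality_left]
  exact (yonedaEquiv_naturality _ _).symm

/-- the universal section of `ℤ_T` over `T` -/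
noncomputable def univ (T : C) : (freeY J T).obj.obj (op T) := homEquiv T (freeY J T) (𝟙 _)

lemma homEquiv_eq (T : C) (G : Ab J) (φ : freeY J T ⟶ G) :
    homEquiv T G φ = φ.hom.app (op T) (univ T) := by
  have := homEquiv_comp T (𝟙 (freeY J T)) φ
  rw [Category.id_comp] at this
  exact this

/-- `Hom(ℤ_T, G) ≃+ G(T)` -/
noncomputable def homAddEquiv (T : C) (G : Ab J) :
    (freeY J T ⟶ G) ≃+ G.obj.obj (op T) :=
  { homEquiv T G with
    map_add' := by
      intro φ ψ
      show homEquiv T G (φ + ψ) = homEquiv T G φ + homEquiv T G ψ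
      rw [homEquiv_eq, homEquiv_eq, homEquiv_eq]
      rfl }

lemma homAddEquiv_apply (T : C) (G : Ab J) (φ : freeY J T ⟶ G) :
    homAddEquiv T G φ = homEquiv T G φ := rfl

/-- `H⁰(U, F) ≅ F(U)` as presheaves -/
noncomputable def coh0IsoApp (F : Ab J) :
    Sheaf.cohomologyPresheaf.{u} F 0 ≅ F.obj :=
  NatIso.ofComponents (fun U =>
    (Ext.addEquiv₀.trans (homAddEquiv U.unop F)).toAddCommGrpIso)
    (by
      intro U V g
      apply AddCommGrpCat.hom_ext
      apply AddMonoidHom.ext
      intro x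
      show homEquiv V.unop F (Ext.addEquiv₀ ((Ext.mk₀ (freeMap J g.unop)).comp x (zero_add 0))) =
        F.obj.map g (homEquiv U.unop F (Ext.addEquiv₀ x))
      have h := homEquiv_map g.unop (Ext.addEquiv₀ x)
      rw [show g.unop.op = g from rfl] at h
      rw [← h]
      congr 1
      apply (Ext.mk₀_bijective _ _).1
      rw [Ext.mk₀_addEquiv₀_apply, ← Ext.mk₀_comp_mk₀, Ext.mk₀_addEquiv₀_apply])

/-- `H⁰(-, F) ≅ F`, naturally in `F` -/
noncomputable def coh0Iso :
    Sheaf.cohomologyPresheafFunctor.{u} J 0 ≅ sheafToPresheaf J AddCommGrpCat.{u} :=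
  NatIso.ofComponents (fun F => coh0IsoApp F)
    (by
      intro F G φ
      ext U : 2
      apply AddCommGrpCat.hom_ext
      apply AddMonoidHom.ext
      intro x
      show homEquiv U.unop G (Ext.addEquiv₀ (x.comp (Ext.mk₀ φ) (add_zero 0))) =
        φ.hom.app U (homEquiv U.unop F (Ext.addEquiv₀ x))
      rw [← homEquiv_comp]
      congr 1
      apply (Ext.mk₀_bijective _ _).1
      rw [Ext.mk₀_addEquiv₀_apply, ← Ext.mk₀_comp_mk₀, Ext.mk₀_addEquiv₀_apply])

lemma exact_of_evaluation {K : Type*} [Category K] {A : Type*} [Category A] [Abelian A]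
    (S : ShortComplex (K ⥤ A))
    (h : ∀ q, (S.map ((evaluation K A).obj q)).Exact) : S.Exact := by
  simp only [ShortComplex.exact_iff_isZero_homology] at h ⊢
  rw [Functor.isZero_iff]
  intro q
  exact IsZero.of_iso (h q) (S.mapHomologyIso ((evaluation K A).obj q)).symm

/-- connecting morphism of cohomology presheaves -/
noncomputable def δP {S : ShortComplex (Ab J)} (hS : S.ShortExact) (n : ℕ) :
    (Sheaf.cohomologyPresheafFunctor.{u} J n).obj S.X₃ ⟶
      (Sheaf.cohomologyPresheafFunctor.{u} J (n + 1)).obj S.X₁ where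
  app U := AddCommGrpCat.ofHom (hS.extClass.postcomp (freeY J U.unop) rfl)
  naturality U V g := by
    apply AddCommGrpCat.hom_ext
    apply AddMonoidHom.ext
    intro x
    show ((Ext.mk₀ (freeMap J g.unop)).comp x (zero_add n)).comp hS.extClass rfl =
      (Ext.mk₀ (freeMap J g.unop)).comp (x.comp hS.extClass rfl) (zero_add (n + 1))
    rw [Ext.comp_assoc]
    omega

/-- the long exact sequence of cohomology presheaves -/
theorem hasLES_cohomologyPresheaf (S : ShortComplex (Ab J)) (hS : S.ShortExact) :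
    HasLES (fun n => Sheaf.cohomologyPresheafFunctor.{u} J n) S := by
  intro n
  have w₁ : (Sheaf.cohomologyPresheafFunctor.{u} J n).map S.g ≫ δP hS n = 0 := by
    ext U : 2
    obtain ⟨w, -⟩ := exists_of_exact
      (Ext.covariant_sequence_exact₃' (freeY J U.unop) hS n (n + 1) rfl)
    exact w
  have w₂ : δP hS n ≫ (Sheaf.cohomologyPresheafFunctor.{u} J (n + 1)).map S.f = 0 := by
    ext U : 2
    obtain ⟨w, -⟩ := exists_of_exact
      (Ext.covariant_sequence_exact₁' (freeY J U.unop) hS n (n + 1) rfl)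
    exact w
  refine ⟨δP hS n, w₁, w₂, ?_, ?_⟩
  · apply exact_of_evaluation
    intro U
    exact Ext.covariant_sequence_exact₃' (freeY J U.unop) hS n (n + 1) rfl
  · apply exact_of_evaluation
    intro U
    exact Ext.covariant_sequence_exact₁' (freeY J U.unop) hS n (n + 1) rfl

lemma isZero_cohomologyPresheaf_of_injective (I : Ab J) [Injective I] (n : ℕ) :
    IsZero ((Sheaf.cohomologyPresheafFunctor.{u} J (n + 1)).obj I) := by
  rw [Functor.isZero_iff]
  intro U
  have : Subsingleton (((Sheaf.cohomologyPresheafFunctor.{u} J (n + 1)).obj I).obj U) :=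
    subsingleton_of_forall_eq 0 fun (x : Ext.{u} (freeY J U.unop) I (n + 1)) =>
      Ext.eq_zero_of_injective x
  exact AddCommGrpCat.isZero_of_subsingleton _

end Groth.Agent.Helper1.SiteCoh
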