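import Groth.Agent.Helper1.SitePush
import Groth.Agent.Helper1.ExtPre

set_option autoImplicit false

/-!
# `Rⁿ f_*` is naturally the sheafified cohomology presheaf
-/

namespace Groth.Agent.Helper1.SiteCoh
open CategoryTheory Opposite Limits Abelian Groth.Agent.Helper1.DeltaCmp
open Groth.Agent.Helper1.DeltaFun Groth.Agent.Helper1.ExtPre

universe u
variable {C D : Type u} [SmallCategory C] [SmallCategory D]
  (J : GrothendieckTopology C) (K : GrothendieckTopology D) (v : D ⥤ C) [v.IsContinuous K J]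

/-- `U ↦ ℤ_U` -/
noncomputable def freeFunctor : C ⥤ Ab J :=
  yoneda ⋙ (Functor.whiskeringRight _ _ _).obj AddCommGrpCat.free ⋙ presheafToSheaf _ _

/-- the cohomology presheaf functor (with opaque `freeFunctor`) -/
noncomputable abbrev cohPre (n : ℕ) : Ab J ⥤ (Cᵒᵖ ⥤ AddCommGrpCat.{u}) :=
  extPre.{u} (freeFunctor J) n

lemma cohPre_eq (n : ℕ) : cohPre J n = Sheaf.cohomologyPresheafFunctor.{u} J n := rfl

/-- the δ-functor `F ↦` sheafification of `V ↦ Hⁿ(v(V), F)` -/
noncomputable def TDelta : DeltaFunctor (Ab J) (Ab K) :=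
  (extPreDelta.{u} (freeFunctor J)).postcomp (Φ K v)

lemma TDelta_effaceable : (TDelta J K v).Effaceable :=
  fun I _ n => Functor.map_isZero (Φ K v) (isZero_extPre_of_injective (freeFunctor J) I n)

/-- `F ↦` sheafification of `V ↦ Hⁿ(v(V), F)` -/
noncomputable abbrev TSeq' (n : ℕ) : Ab J ⥤ Ab K := cohPre J n ⋙ Φ K v

lemma TSeq'_eq (n : ℕ) : TSeq' J K v n = TSeq J K v n := rfl

/-- `Rⁿ f_*` is the sheafification of `V ↦ Hⁿ(v(V), -)`, naturally -/
noncomputable def RpushIso (n : ℕ) : CohSite.Rpush J K v n ≅ TSeq' J K v n :=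
  isoOfEffaceable (T := rightDerivedDelta (CohSite.push J K v)) (T' := TDelta J K v)
    (rightDerivedDelta_effaceable _) (TDelta_effaceable J K v)
    (push0Iso J K v ≪≫ eqToIso (TSeq'_eq J K v 0).symm) n

end Groth.Agent.Helper1.SiteCoh
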