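import Groth.Agent.Helper1.FlatTw1
import Groth.Agent.Helper2.FPExt3
import Groth.Agent.Helper4.TwistLocal
import Groth.Agent.Helper4.QAffSec
import Groth.Agent.Lead.QcohTensor

set_option autoImplicit false
set_option linter.style.haveILetI false
set_option linter.unusedSectionVars false
set_option linter.unusedVariables false

/-!
# Tensoring a finitely presented module with an invertible module
-/

namespace Groth.Agent.Helper1.SnapLC

open CategoryTheory AlgebraicGeometry TopologicalSpace Topology

universe u

variable {X : Scheme.{u}}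

/-- the components of an isomorphism of modules are bijective -/
theorem bijective_app_of_iso {H H' : X.Modules} (e : H' ≅ H) (T : X.Opens) :
    Function.Bijective (e.hom.app T) := by
  refine Function.bijective_iff_has_inverse.mpr ⟨e.inv.app T, fun a => ?_, fun b => ?_⟩
  · have h := congr(($(e.hom_inv_id)).app T a)
    exact h
  · have h := congr(($(e.inv_hom_id)).app T b)
    exact h

/-- **a finitely presented quasi-coherent module tensored with an invertible module is finitely
presented** -/
theorem isFP_tensorMod_of_isInvertible (G M : X.Modules) [G.IsQuasicoherent]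
    (hG : CohB1.IsFP G) (hM : PicF.IsInvertible M) : CohB1.IsFP (CohB1.tensorMod G M) := by
  haveI : M.IsQuasicoherent := Groth.Agent.Helper4.QAffSec.isQuasicoherent_of_isInvertible M hM
  haveI : (CohB1.tensorMod G M).IsQuasicoherent :=
    Groth.Agent.Lead.QcohTensor.isQuasicoherent_tensorMod G M
  apply Groth.Agent.Helper4.FPGlue.isFinitePresentation_of_fp_sections
  intro x
  obtain ⟨W, hxW, hW, ⟨ε⟩⟩ := Groth.Agent.Helper4.TwistLocal.exists_affine_triv M hM x
  refine ⟨W, hW, hxW, ?_⟩
  haveI : IsAffine (W : Scheme.{u}) := hW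
  let e : (CohB1.tensorMod G M).restrict W.ι ≅ G.restrict W.ι :=
    (Groth.Agent.Helper4.TensorRes.resIso W.ι G M).symm ≪≫
      PicGrp.tensorModIso (Iso.refl _) ε ≪≫ SecTwist.unitorR (G.restrict W.ι)
  have h1 : CohB1.IsFP (G.restrict W.ι) := Groth.Agent.Helper4.FTRestrict.isFP_restrict W.ι G hG
  have h2 := Groth.Agent.Helper2.FPExt.fpOn_top_of_isFP _ h1
  have h3 := Groth.Agent.Helper2.FPExt.FPOn.of_bijective e.hom
    (fun T _ => bijective_app_of_iso e T) h2
  have h4 := h3 ⊤ (isAffineOpen_top _) le_rfl
  rw [Groth.Agent.Helper2.FPExt.fp_restrict_iff] at h4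
  have hT : W.ι ''ᵁ ⊤ = W := Scheme.Opens.ι_image_top W
  rw [hT] at h4
  exact h4

end Groth.Agent.Helper1.SnapLC
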