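import Groth.Agent.Helper1.SnapLC1
import Groth.Agent.Helper1.PDeg1
import Groth.Agent.Helper4.SN9
import Groth.Agent.Helper4.PullTensor
import Groth.Agent.Helper5.KLem7
import Groth.Agent.Helper5.FibDim6
import Groth.Agent.Lead.IntNumBC
import Groth.Prelude.Def_Curv2

set_option autoImplicit false
set_option linter.style.haveILetI false
set_option linter.unusedSectionVars false
set_option linter.unusedVariables false

/-!
# The Snapper polynomials of the fibres of a flat family are locally constant
-/

namespace Groth.Agent.Helper1.SnapLC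

open CategoryTheory AlgebraicGeometry TopologicalSpace Topology
open Groth.Agent.Helper4.TensorInv

universe u

section conditions

variable {X S : Scheme.{u}} (f : X ⟶ S)

/-- the twists of a flat finitely presented module are flat and finitely presented -/
theorem conditions_tensorPows (F : X.Modules) (hF : CohB1.IsFP F)
    (hfl : FlatMod.IsFlatOver f F) :
    ∀ (t : ℕ) (L : Fin t → X.Modules) (hL : ∀ i, PicF.IsInvertible (L i)) (n : Fin t → ℕ),
      (Curv2.tensorPows F t L n).IsQuasicoherent ∧ CohB1.IsFP (Curv2.tensorPows F t L n) ∧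
        FlatMod.IsFlatOver f (Curv2.tensorPows F t L n)
  | 0, _, _, _ =>
    ⟨Groth.Agent.Helper4.FinLocFree2.isQuasicoherent_of_isFinitePresentation F hF, hF, hfl⟩
  | t + 1, L, hL, n => by
    obtain ⟨h1, h2, h3⟩ := conditions_tensorPows F hF hfl t (fun i => L i.castSucc)
      (fun i => hL _) (fun i => n i.castSucc)
    haveI := h1
    have hM := isInvertible_tensorPow (hL (Fin.last t)) (n (Fin.last t))
    haveI : (CohB1.tensorPow (L (Fin.last t)) (n (Fin.last t))).IsQuasicoherent :=
      Groth.Agent.Helper4.QAffSec.isQuasicoherent_of_isInvertible _ hM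
    exact ⟨Groth.Agent.Lead.QcohTensor.isQuasicoherent_tensorMod _ _,
      isFP_tensorMod_of_isInvertible _ _ h2 hM,
      (Groth.Agent.Helper1.FlatTw.isFlatOver_tensor_iff f _ _ hM).mpr h3⟩

end conditions

section pull

variable {X Y : Scheme.{u}} (g : Y ⟶ X)

/-- pullback commutes with the twists -/
noncomputable def pullTensorPowsIso (F : X.Modules) :
    ∀ (t : ℕ) (L : Fin t → X.Modules) (hL : ∀ i, PicF.IsInvertible (L i)) (n : Fin t → ℕ),
      (Scheme.Modules.pullback g).obj (Curv2.tensorPows F t L n) ≅
        Curv2.tensorPows ((Scheme.Modules.pullback g).obj F) t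
          (fun i => (Scheme.Modules.pullback g).obj (L i)) n
  | 0, _, _, _ => Iso.refl _
  | t + 1, L, hL, n =>
    Groth.Agent.Lead.IntNumBC.pullTensorIso g _ _ ≪≫
      PicGrp.tensorModIso
        (pullTensorPowsIso F t (fun i => L i.castSucc) (fun i => hL _) (fun i => n i.castSucc))
        (Groth.Agent.Helper4.PullTensor.pullPowIso g (hL (Fin.last t)) (n (Fin.last t)))

end pull

/-- the Euler characteristic only depends on the isomorphism class -/
theorem euler_congr (k : Type u) [Field k] (Y : Scheme.{u})
    [Y.Over (Spec (CommRingCat.of k))] {F G : Y.Modules} (e : F ≅ G) :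
    Curv2.euler k Y F = Curv2.euler k Y G := by
  unfold Curv2.euler
  congr 1
  funext i
  rw [(Groth.Agent.Helper1.ProjTop.HHlinEquiv k e i).finrank_eq]

/-- polynomials of total degree at most `N` which agree on the grid `{0, …, N}^t` agree
everywhere -/
theorem eval_eq_of_grid {t : ℕ} (P Q : MvPolynomial (Fin t) ℚ) (N : ℕ)
    (hP : P.totalDegree ≤ N) (hQ : Q.totalDegree ≤ N)
    (h : ∀ n : Fin t → ℕ, (∀ i, n i ≤ N) →
      MvPolynomial.eval (fun i => (n i : ℚ)) P = MvPolynomial.eval (fun i => (n i : ℚ)) Q) :
    P = Q := by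
  rw [← sub_eq_zero]
  let Sg : Fin t → Finset ℚ := fun _ => (Finset.range (N + 1)).image (fun j : ℕ => (j : ℚ))
  have hcard : ∀ i, (Sg i).card = N + 1 := fun i => by
    rw [Finset.card_image_of_injective _ Nat.cast_injective, Finset.card_range]
  apply MvPolynomial.eq_zero_of_eval_zero_at_prod_finset (P - Q) Sg
  · intro i
    rw [hcard i]
    refine lt_of_le_of_lt (MvPolynomial.degreeOf_le_totalDegree _ i) ?_
    refine lt_of_le_of_lt (MvPolynomial.totalDegree_sub _ _) ?_
    exact Nat.lt_succ_of_le (max_le hP hQ)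
  · intro x hx
    have hx' : ∀ i, ∃ j : ℕ, j ≤ N ∧ (j : ℚ) = x i := fun i => by
      obtain ⟨j, hj, hjx⟩ := Finset.mem_image.mp (hx i)
      exact ⟨j, Nat.lt_succ_iff.mp (Finset.mem_range.mp hj), hjx⟩
    choose n hn hnx using hx'
    have hxe : x = fun i => (n i : ℚ) := funext fun i => (hnx i).symm
    rw [map_sub, hxe, h n hn, sub_self]

end Groth.Agent.Helper1.SnapLC
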