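import Groth.Agent.Helper1.SnapLC2
import Groth.Agent.Helper1.NoethApx6
import Groth.Agent.S0403
import Groth.Agent.S1528

set_option autoImplicit false
set_option linter.style.haveILetI false
set_option linter.unusedSectionVars false
set_option linter.unusedVariables false

/-!
# The Snapper polynomials of the fibres of a flat family are locally constant: main theorem
-/

namespace Groth.Agent.Helper1.SnapLC

open CategoryTheory AlgebraicGeometry TopologicalSpace Topology
open Groth.Agent.Helper4.TensorInv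

universe u

theorem exists_nat_le (x : WithBot ℕ∞) (h : x ≠ ⊤) : ∃ N : ℕ, x ≤ (N : WithBot ℕ∞) := by
  induction x using WithBot.recBotCoe with
  | bot => exact ⟨0, bot_le⟩
  | coe m =>
    induction m using ENat.recTopCoe with
    | top => exact absurd rfl h
    | coe k => exact ⟨k, le_rfl⟩

variable {X S : Scheme.{u}} (f : X ⟶ S) [IsProper f] [LocallyOfFinitePresentation f]

/-- the Euler characteristic of the restriction to a fibre, as in the statement -/
theorem euler_fiber_eq (G : X.Modules) (s : S) :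
    @Curv2.euler (S.residueField s) _ (f.fiber s) ⟨f.fiberToSpecResidueField s⟩
      ((Scheme.Modules.pullback (f.fiberι s)).obj G) = PerfAux.eulerChar f G s := rfl

/-- the Snapper polynomial of a fibre -/
theorem exists_snapper_fiber (F : X.Modules) (hF : CohB1.IsFP F)
    (t : ℕ) (L : Fin t → X.Modules) (hL : ∀ i, PicF.IsInvertible (L i)) (s : S) (N : ℕ)
    (hN : topologicalKrullDim ↥(f.fiber s) ≤ N) :
    ∃ P : MvPolynomial (Fin t) ℚ, P.totalDegree ≤ N ∧ ∀ n : Fin t → ℕ,
      (PerfAux.eulerChar f (Curv2.tensorPows F t L n) s : ℚ) =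
        MvPolynomial.eval (fun i => (n i : ℚ)) P := by
  letI : (f.fiber s).Over (Spec (CommRingCat.of (S.residueField s))) :=
    ⟨f.fiberToSpecResidueField s⟩
  haveI : IsProper (f.fiber s ↘ Spec (CommRingCat.of (S.residueField s))) :=
    inferInstanceAs (IsProper (Limits.pullback.snd f (S.fromSpecResidueField s)))
  have hFs : CohB1.IsFP ((Scheme.Modules.pullback (f.fiberι s)).obj F) :=
    Groth.Agent.Lead.LimPres.isFP_pullback (f.fiberι s) F hF
  have hcoh : Coh.IsCoh ((Scheme.Modules.pullback (f.fiberι s)).obj F) :=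
    ⟨Groth.Agent.Helper4.FinLocFree2.isQuasicoherent_of_isFinitePresentation _ hFs,
      Groth.Agent.Helper4.FinLocFree2.isFiniteType_of_isFinitePresentation _ hFs⟩
  have hsupp : topologicalKrullDim (CohB1.support
      ((Scheme.Modules.pullback (f.fiberι s)).obj F)) ≤ N :=
    (IsInducing.topologicalKrullDim_le Topology.IsInducing.subtypeVal).trans hN
  obtain ⟨P, hP, hPe⟩ := Groth.Agent.S1528.result (S.residueField s) (f.fiber s) _ hcoh N hsupp t
    (fun i => (Scheme.Modules.pullback (f.fiberι s)).obj (L i))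
    (fun i => Groth.Agent.Helper4.PullSec.isInvertible_pullback _ (hL i))
  refine ⟨P, hP, fun n => ?_⟩
  rw [← hPe n, ← euler_fiber_eq f _ s,
    euler_congr (S.residueField s) (f.fiber s) (pullTensorPowsIso (f.fiberι s) F t L hL n)]

/-- **S7761** -/
theorem main (F : X.Modules) (hF : CohB1.IsFP F) (hfl : FlatMod.IsFlatOver f F)
    (t : ℕ) (L : Fin t → X.Modules) (hL : ∀ i, PicF.IsInvertible (L i)) (s : S) :
    ∃ U : S.Opens, s ∈ U ∧ ∀ s' : S, s' ∈ U → ∀ n : Fin t → ℕ,
      PerfAux.eulerChar f (Curv2.tensorPows F t L n) s' =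
        PerfAux.eulerChar f (Curv2.tensorPows F t L n) s := by
  have hne : topologicalKrullDim ↥(f.fiber s) ≠ ⊤ := by
    rw [Groth.Agent.Helper5.KLem.dim_fiber_eq_preimage]
    exact Groth.Agent.Helper5.KLem.dim_fibre_ne_top f s
  obtain ⟨N, hN⟩ := exists_nat_le _ hne
  have hU₀ : IsOpen {s' : S | topologicalKrullDim ↥(f.fiber s') ≤ (N : WithBot ℕ∞)} :=
    Groth.Agent.S0403.result f N
  let G : Finset (Fin t → ℕ) := Fintype.piFinset fun _ => Finset.range (N + 1)
  have hlc : ∀ n : Fin t → ℕ, IsOpen {s' : S | PerfAux.eulerChar f (Curv2.tensorPows F t L n) s' =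
      PerfAux.eulerChar f (Curv2.tensorPows F t L n) s} := fun n => by
    obtain ⟨-, h2, h3⟩ := conditions_tensorPows f F hF hfl t L hL n
    exact (Groth.Agent.Helper1.NoethApx.isLocallyConstant_eulerChar f _ h2 h3).isOpen_fiber _
  let U : S.Opens := ⟨{s' : S | topologicalKrullDim ↥(f.fiber s') ≤ (N : WithBot ℕ∞)} ∩
    ⋂ n ∈ G, {s' : S | PerfAux.eulerChar f (Curv2.tensorPows F t L n) s' =
      PerfAux.eulerChar f (Curv2.tensorPows F t L n) s},
    hU₀.inter (isOpen_biInter_finset fun n _ => hlc n)⟩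
  refine ⟨U, ⟨hN, Set.mem_iInter₂.mpr fun n _ => rfl⟩, fun s' hs' n => ?_⟩
  obtain ⟨hs'N, hs'G⟩ := hs'
  obtain ⟨P, hP, hPe⟩ := exists_snapper_fiber f F hF t L hL s N hN
  obtain ⟨P', hP', hPe'⟩ := exists_snapper_fiber f F hF t L hL s' N hs'N
  have hPP : P' = P := by
    refine eval_eq_of_grid P' P N hP' hP fun m hm => ?_
    rw [← hPe' m, ← hPe m]
    have hmG : m ∈ G := Fintype.mem_piFinset.mpr fun i =>
      Finset.mem_range.mpr (Nat.lt_succ_of_le (hm i))
    have := Set.mem_iInter₂.mp hs'G m hmG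
    exact_mod_cast this
  have h1 := hPe' n
  rw [hPP, ← hPe n] at h1
  exact_mod_cast h1

end Groth.Agent.Helper1.SnapLC
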