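import Groth.Agent.Helper1.Cocone
import Groth.Agent.Helper1.Cofree
import Groth.Agent.Helper1.ResCx

set_option autoImplicit false
set_option linter.unusedSectionVars false

/-! Special inverse systems of right resolutions of the truncations `τ_{≥ -n} K` of a complex by
bounded below complexes with terms in a class `I`. -/

namespace Groth.Agent.Helper1.SpecialInv
open CategoryTheory Limits HomologicalComplex

universe v u

variable {A : Type u} [Category.{v} A] [Abelian A]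

/-- kernel of a split epimorphism with a given complement -/
lemma kernel_iso_of_complement {X B C : A} (p : X ⟶ B) (s : B ⟶ X) (c : C ⟶ X) (r : X ⟶ C)
    (hcp : c ≫ p = 0) (hcr : c ≫ r = 𝟙 C) (htot : p ≫ s + r ≫ c = 𝟙 X) :
    Nonempty (kernel p ≅ C) := by
  refine ⟨⟨kernel.ι p ≫ r, kernel.lift p c hcp, ?_, ?_⟩⟩
  · rw [← cancel_mono (kernel.ι p), Category.assoc, Category.assoc, kernel.lift_ι, Category.id_comp]
    have := kernel.ι p ≫= htot
    rw [Preadditive.comp_add, kernel.condition_assoc, zero_comp, zero_add, Category.comp_id] at this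
    exact this
  · rw [kernel.lift_ι_assoc, hcr]

lemma isZero_biprod_X (Q E : CochainComplex A ℤ) (k : ℤ) (h1 : IsZero (Q.X k))
    (h2 : IsZero (E.X k)) : IsZero ((Q ⊞ E).X k) := by
  rw [IsZero.iff_id_eq_zero, ← biprod_total_f, h1.eq_of_tgt ((biprod.fst : Q ⊞ E ⟶ Q).f k) 0,
    h2.eq_of_tgt ((biprod.snd : Q ⊞ E ⟶ E).f k) 0, zero_comp, zero_comp, add_zero]

section
variable (I : ObjectProperty A) [I.IsClosedUnderIsomorphisms]
  (hI0 : ∃ Z : A, IsZero Z ∧ I Z) (hIprod : ∀ X Y : A, I X → I Y → I (X ⊞ Y))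
  (hI : ∀ X : A, ∃ (Y : A) (ι : X ⟶ Y), I Y ∧ Mono ι)

/-- an embedding of an object into an object of the class -/
structure ObjEmb (X : A) where
  /-- the target -/
  Y : A
  /-- the embedding -/
  ι : X ⟶ Y
  hY : I Y
  mono : Mono ι

include hI0 hIprod hI in
lemma exists_cofree_emb (M : CochainComplex A ℤ) (a : ℤ) [M.IsStrictlyGE a] :
    ∃ (E : CochainComplex A ℤ) (e : M ⟶ E), E.IsStrictlyGE (a - 1) ∧ (∀ k, I (E.X k)) ∧
      ∀ k, Mono (e.f k) := by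
  obtain ⟨Z, hZ, hIZ⟩ := hI0
  let oe : ∀ k, ObjEmb I (M.X k) := fun k =>
    if h : a ≤ k then
      ⟨(hI (M.X k)).choose, (hI (M.X k)).choose_spec.choose,
        (hI (M.X k)).choose_spec.choose_spec.1, (hI (M.X k)).choose_spec.choose_spec.2⟩
    else ⟨Z, 0, hIZ, ⟨fun g g' _ => (M.isZero_of_isStrictlyGE a k (by omega)).eq_of_tgt g g'⟩⟩
  have hoe : ∀ k, k < a → IsZero (oe k).Y := by
    intro k hk
    have : oe k = ⟨Z, 0, hIZ,
        ⟨fun g g' _ => (M.isZero_of_isStrictlyGE a k (by omega)).eq_of_tgt g g'⟩⟩ :=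
      dif_neg (by omega)
    rw [this]
    exact hZ
  refine ⟨Cofree.cof (fun k => (oe k).Y), Cofree.toCof M _ (fun k => (oe k).ι), ?_, ?_, ?_⟩
  · rw [CochainComplex.isStrictlyGE_iff]
    intro k hk
    exact Cofree.isZero_X _ k (hoe k (by omega)) (hoe (k + 1) (by omega))
  · intro k
    exact hIprod _ _ (oe k).hY (oe (k + 1)).hY
  · intro k
    have := (oe k).mono
    exact Cofree.mono_toCof_f M _ _ k

include hI0 hIprod hI in
lemma step_generic (M Q : CochainComplex A ℤ) (a : ℤ) [M.IsStrictlyGE a] [Q.IsStrictlyGE a]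
    (hQ : ∀ i, I (Q.X i)) (α : M ⟶ Q) :
    ∃ (Q' : CochainComplex A ℤ) (p : Q' ⟶ Q) (π' : M ⟶ Q'), QuasiIso π' ∧ (∀ i, Mono (π'.f i)) ∧
      (∃ c, Q'.IsStrictlyGE c) ∧ (∀ i, I (Q'.X i)) ∧
      (∀ i, (∃ s : Q.X i ⟶ Q'.X i, s ≫ p.f i = 𝟙 _) ∧ I (kernel (p.f i))) ∧ π' ≫ p = α := by
  obtain ⟨E, e, hE, hIE, hme⟩ := exists_cofree_emb I hI0 hIprod hI M a
  have hQ' : Q.IsStrictlyGE (a - 1) := Q.isStrictlyGE_of_ge (a - 1) a (by omega)
  -- the sum
  obtain ⟨β, hβ⟩ : ∃ β : M ⟶ Q ⊞ E, β = biprod.lift α e := ⟨_, rfl⟩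
  have hβ1 : β ≫ biprod.fst = α := by rw [hβ, biprod.lift_fst]
  have hβ2 : β ≫ biprod.snd = e := by rw [hβ, biprod.lift_snd]
  have hmβ : ∀ k, Mono (β.f k) := fun k => by
    have : Mono (β.f k ≫ (biprod.snd : Q ⊞ E ⟶ E).f k) := by
      rw [← comp_f, hβ2]
      exact hme k
    exact mono_of_mono _ ((biprod.snd : Q ⊞ E ⟶ E).f k)
  have hB : (Q ⊞ E).IsStrictlyGE (a - 1) := by
    rw [CochainComplex.isStrictlyGE_iff]
    intro k hk
    exact isZero_biprod_X Q E k (Q.isZero_of_isStrictlyGE (a - 1) k hk)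
      (E.isZero_of_isStrictlyGE (a - 1) k hk)
  have hIB : ∀ k, I ((Q ⊞ E).X k) := fun k =>
    I.prop_of_iso (biprodXIso Q E k).symm (hIprod _ _ (hQ k) (hIE k))
  -- the short exact sequence
  have hmono : Mono β := mono_of_mono_f _ hmβ
  let S : ShortComplex (CochainComplex A ℤ) :=
    ShortComplex.mk β (cokernel.π β) (cokernel.condition β)
  have hS : S.ShortExact :=
    { exact := ShortComplex.exact_cokernel _
      mono_f := hmono
      epi_g := inferInstanceAs (Epi (cokernel.π β)) }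
  have hY : (cokernel β).IsStrictlyGE (a - 1) := by
    rw [CochainComplex.isStrictlyGE_iff]
    intro k hk
    have := Cocone.epi_g S hS k
    exact IsZero.of_epi (S.g.f k) ((Q ⊞ E).isZero_of_isStrictlyGE (a - 1) k hk)
  obtain ⟨J, γ, hJ, hIJ, -, hγ⟩ := ResCx.exists_int I hI0 hI (cokernel β) (a - 1)
  have hJ' : J.IsStrictlyGE (a - 1 - 1) := J.isStrictlyGE_of_ge (a - 1 - 1) (a - 1) (by omega)
  obtain ⟨φ, hφ⟩ : ∃ φ : Q ⊞ E ⟶ J, φ = cokernel.π β ≫ γ := ⟨_, rfl⟩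
  have h0 : β ≫ φ = 0 := by rw [hφ, cokernel.condition_assoc, zero_comp]
  refine ⟨Cocone.cc φ, Cocone.fst φ ≫ biprod.fst, Cocone.lift φ β h0, ?_, ?_, ?_, ?_, ?_, ?_⟩
  · exact @Cocone.quasiIso_lift A _ _ S hS J γ hγ φ hφ.symm h0
  · intro i
    have := hmβ i
    exact Cocone.lift_f_mono φ β h0 i
  · exact ⟨a - 1, Cocone.isStrictlyGE φ (a - 1)⟩
  · intro i
    exact hIprod _ _ (hIB i) (hIJ (i - 1))
  · intro i
    refine ⟨⟨(biprod.inl : Q ⟶ Q ⊞ E).f i ≫ Cocone.inlX φ i, ?_⟩, ?_⟩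
    · rw [comp_f, Cocone.fst_f, Category.assoc, Cocone.inlX_fstX_assoc, biprod_inl_fst_f]
    · have hcp : biprod.desc ((biprod.inr : E ⟶ Q ⊞ E).f i ≫ Cocone.inlX φ i)
          (Cocone.inrX φ i (i - 1) (by omega)) ≫
            (Cocone.fst φ ≫ biprod.fst : Cocone.cc φ ⟶ Q).f i = 0 := by
        apply biprod.hom_ext'
        · simp
        · simp
      have hcr : biprod.desc ((biprod.inr : E ⟶ Q ⊞ E).f i ≫ Cocone.inlX φ i)
          (Cocone.inrX φ i (i - 1) (by omega)) ≫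
            biprod.lift (Cocone.fstX φ i ≫ (biprod.snd : Q ⊞ E ⟶ E).f i)
              (Cocone.sndX φ i (i - 1) (by omega)) = 𝟙 _ := by
        apply biprod.hom_ext' <;> apply biprod.hom_ext <;> simp
      have htot : (Cocone.fst φ ≫ biprod.fst : Cocone.cc φ ⟶ Q).f i ≫
          ((biprod.inl : Q ⟶ Q ⊞ E).f i ≫ Cocone.inlX φ i) +
          biprod.lift (Cocone.fstX φ i ≫ (biprod.snd : Q ⊞ E ⟶ E).f i)
              (Cocone.sndX φ i (i - 1) (by omega)) ≫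
            biprod.desc ((biprod.inr : E ⟶ Q ⊞ E).f i ≫ Cocone.inlX φ i)
              (Cocone.inrX φ i (i - 1) (by omega)) = 𝟙 _ := by
        apply Cocone.hom_ext_from φ i (i - 1) (by omega)
        · simp only [comp_f, Cocone.fst_f, Category.assoc, Preadditive.comp_add,
            Cocone.inlX_fstX_assoc, biprod.lift_desc, Cocone.inlX_sndX_assoc, zero_comp, add_zero,
            Category.comp_id]
          rw [← Category.assoc, ← Category.assoc, ← Preadditive.add_comp, biprod_total_f,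
            Category.id_comp]
        · simp
      obtain ⟨iso⟩ := kernel_iso_of_complement _ _ _ _ hcp hcr htot
      exact I.prop_of_iso iso.symm (hIprod _ _ (hIE i) (hIJ (i - 1)))
  · rw [Cocone.lift_fst_assoc, hβ1]

end

section system
variable (I : ObjectProperty A) [I.IsClosedUnderIsomorphisms]
  (hI0 : ∃ Z : A, IsZero Z ∧ I Z) (hIprod : ∀ X Y : A, I X → I Y → I (X ⊞ Y))
  (hI : ∀ X : A, ∃ (Y : A) (ι : X ⟶ Y), I Y ∧ Mono ι) (K : CochainComplex A ℤ)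

/-- a right resolution of `τ_{≥ -n} K` -/
structure Stage (n : ℕ) where
  /-- the resolution -/
  Q : CochainComplex A ℤ
  /-- the resolving map -/
  π : K.truncGE (-(n : ℤ)) ⟶ Q
  qis : QuasiIso π
  mono : ∀ i, Mono (π.f i)
  bdd : ∃ a : ℤ, Q.IsStrictlyGE a
  hI : ∀ i, I (Q.X i)

include hI0 hI in
lemma exists_stage_zero : Nonempty (Stage I K 0) := by
  obtain ⟨L, α, hL, hIL, hm, hq⟩ :=
    ResCx.exists_int I hI0 hI (K.truncGE (-((0 : ℕ) : ℤ))) (-((0 : ℕ) : ℤ))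
  exact ⟨⟨L, α, hq, hm, ⟨_, hL⟩, hIL⟩⟩

lemma isStrictlyGE_truncGE_succ (n : ℕ) :
    (K.truncGE (-(n : ℤ))).IsStrictlyGE (-((n + 1 : ℕ) : ℤ)) :=
  (K.truncGE (-(n : ℤ))).isStrictlyGE_of_ge _ (-(n : ℤ)) (by push_cast; omega)

/-- the transition map between truncations -/
noncomputable def tmap (n : ℕ) : K.truncGE (-((n + 1 : ℕ) : ℤ)) ⟶ K.truncGE (-(n : ℤ)) :=
  haveI := isStrictlyGE_truncGE_succ K n
  CochainComplex.truncGEMap (K.πTruncGE (-(n : ℤ))) (-((n + 1 : ℕ) : ℤ)) ≫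
    inv ((K.truncGE (-(n : ℤ))).πTruncGE (-((n + 1 : ℕ) : ℤ)))

@[reassoc]
lemma π_tmap (n : ℕ) : K.πTruncGE (-((n + 1 : ℕ) : ℤ)) ≫ tmap K n = K.πTruncGE (-(n : ℤ)) := by
  haveI := isStrictlyGE_truncGE_succ K n
  rw [tmap, CochainComplex.πTruncGE_naturality_assoc, IsIso.hom_inv_id, Category.comp_id]

include hI0 hIprod hI in
lemma step (n : ℕ) (S : Stage I K n) : ∃ (S' : Stage I K (n + 1)) (p : S'.Q ⟶ S.Q),
    (∀ i, (∃ s : S.Q.X i ⟶ S'.Q.X i, s ≫ p.f i = 𝟙 _) ∧ I (kernel (p.f i))) ∧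
    K.πTruncGE (-((n + 1 : ℕ) : ℤ)) ≫ S'.π ≫ p = K.πTruncGE (-(n : ℤ)) ≫ S.π := by
  obtain ⟨b, hb⟩ := S.bdd
  have h1 : (K.truncGE (-((n + 1 : ℕ) : ℤ))).IsStrictlyGE (min b (-((n + 1 : ℕ) : ℤ))) :=
    (K.truncGE (-((n + 1 : ℕ) : ℤ))).isStrictlyGE_of_ge _ (-((n + 1 : ℕ) : ℤ)) (min_le_right _ _)
  have h2 : S.Q.IsStrictlyGE (min b (-((n + 1 : ℕ) : ℤ))) :=
    S.Q.isStrictlyGE_of_ge _ b (min_le_left _ _)
  obtain ⟨Q', p, π', hq, hm, hb', hI', hp, hc⟩ := step_generic I hI0 hIprod hI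
    (K.truncGE (-((n + 1 : ℕ) : ℤ))) S.Q (min b (-((n + 1 : ℕ) : ℤ))) S.hI (tmap K n ≫ S.π)
  exact ⟨⟨Q', π', hq, hm, hb', hI'⟩, p, hp, by rw [hc, π_tmap_assoc]⟩

/-- the sequence of stages -/
noncomputable def stage (S0 : Stage I K 0) : ∀ n, Stage I K n
  | 0 => S0
  | n + 1 => (step I hI0 hIprod hI K n (stage S0 n)).choose

include hI0 hIprod hI in
theorem main :
    ∃ (Q : ℕ → CochainComplex A ℤ) (p : ∀ n, Q (n + 1) ⟶ Q n)
      (π : ∀ n : ℕ, K.truncGE (-(n : ℤ)) ⟶ Q n),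
      (∀ n, QuasiIso (π n) ∧ ∀ i, Mono ((π n).f i)) ∧
      (∀ n, ∃ a : ℤ, (Q n).IsStrictlyGE a) ∧ (∀ n i, I ((Q n).X i)) ∧
      (∀ n i, (∃ s : (Q n).X i ⟶ (Q (n + 1)).X i, s ≫ (p n).f i = 𝟙 _) ∧
        I (kernel ((p n).f i))) ∧
      (∀ n : ℕ, K.πTruncGE (-((n + 1 : ℕ) : ℤ)) ≫ π (n + 1) ≫ p n =
        K.πTruncGE (-(n : ℤ)) ≫ π n) := by
  obtain ⟨S0⟩ := exists_stage_zero I hI0 hI K
  refine ⟨fun n => (stage I hI0 hIprod hI K S0 n).Q,
    fun n => (step I hI0 hIprod hI K n (stage I hI0 hIprod hI K S0 n)).choose_spec.choose,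
    fun n => (stage I hI0 hIprod hI K S0 n).π, ?_, ?_, ?_, ?_, ?_⟩
  · exact fun n => ⟨(stage I hI0 hIprod hI K S0 n).qis, (stage I hI0 hIprod hI K S0 n).mono⟩
  · exact fun n => (stage I hI0 hIprod hI K S0 n).bdd
  · exact fun n => (stage I hI0 hIprod hI K S0 n).hI
  · exact fun n =>
      (step I hI0 hIprod hI K n (stage I hI0 hIprod hI K S0 n)).choose_spec.choose_spec.1
  · exact fun n =>
      (step I hI0 hIprod hI K n (stage I hI0 hIprod hI K S0 n)).choose_spec.choose_spec.2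

end system

end Groth.Agent.Helper1.SpecialInv
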