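import Mathlib

/-!
# Split injectivity can be tested modulo powers of an ideal in the radical
-/

namespace Groth.Agent.Helper1.SplitPowers

variable {R : Type*} [CommRing R]

/-- Submodules of finite modules are closed for the `I`-adic topology when `I ≤ rad R`. -/
theorem mem_of_forall_mem_sup {P : Type*} [AddCommGroup P] [Module R P] [IsNoetherianRing R]
    [Module.Finite R P] (I : Ideal R) (hI : I ≤ (⊥ : Ideal R).jacobson) (K : Submodule R P) (t : P)
    (h : ∀ n : ℕ, t ∈ K ⊔ (I ^ n • ⊤ : Submodule R P)) : t ∈ K := by
  have h1 : K.mkQ t ∈ (⨅ i : ℕ, I ^ i • ⊤ : Submodule R (P ⧸ K)) := by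
    rw [Submodule.mem_iInf]
    intro n
    obtain ⟨k, hk, z, hz, rfl⟩ := Submodule.mem_sup.mp (h n)
    have hk0 : K.mkQ k = 0 := by simpa using hk
    rw [map_add, hk0, zero_add]
    have h2 : K.mkQ z ∈ Submodule.map K.mkQ (I ^ n • ⊤) := Submodule.mem_map_of_mem hz
    rw [Submodule.map_smul''] at h2
    exact Submodule.smul_mono le_rfl le_top h2
  rw [Ideal.iInf_pow_smul_eq_bot_of_le_jacobson I hI] at h1
  simpa using h1

theorem pi_mem_smul_top {N : Type*} [AddCommGroup N] [Module R N] {r : ℕ} (J : Ideal R)
    (z : Fin r → N) (hz : ∀ k, z k ∈ (J • ⊤ : Submodule R N)) :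
    z ∈ (J • ⊤ : Submodule R (Fin r → N)) := by
  have h1 : z = ∑ k, LinearMap.single R (fun _ : Fin r => N) k (z k) := by
    simp [LinearMap.single_apply, Finset.univ_sum_single]
  rw [h1]
  refine Submodule.sum_mem _ fun k _ => ?_
  have h2 : LinearMap.single R (fun _ : Fin r => N) k (z k) ∈
      Submodule.map (LinearMap.single R (fun _ : Fin r => N) k) (J • ⊤) :=
    Submodule.mem_map_of_mem (hz k)
  rw [Submodule.map_smul''] at h2
  exact Submodule.smul_mono le_rfl le_top h2

theorem apply_mem_smul_top {N : Type*} [AddCommGroup N] [Module R N] {r : ℕ} (J : Ideal R)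
    (z : Fin r → N) (hz : z ∈ (J • ⊤ : Submodule R (Fin r → N))) (k : Fin r) :
    z k ∈ (J • ⊤ : Submodule R N) := by
  have h2 : LinearMap.proj (R := R) (φ := fun _ : Fin r => N) k z ∈
      Submodule.map (LinearMap.proj (R := R) (φ := fun _ : Fin r => N) k) (J • ⊤) :=
    Submodule.mem_map_of_mem hz
  rw [Submodule.map_smul''] at h2
  exact Submodule.smul_mono le_rfl le_top h2

/-- A linear map out of a module with given generators can be defined by prescribing the images of
the generators compatibly with all relations. -/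
theorem exists_linearMap_of_relations {M N : Type*} [AddCommGroup M] [Module R M]
    [AddCommGroup N] [Module R N] {b : ℕ} (m : Fin b → M)
    (hm : Submodule.span R (Set.range m) = ⊤) (y : Fin b → N)
    (hy : ∀ ρ : Fin b → R, ∑ i, ρ i • m i = 0 → ∑ i, ρ i • y i = 0) :
    ∃ s : M →ₗ[R] N, ∀ i, s (m i) = y i := by
  have hπ : Function.Surjective (Fintype.linearCombination R m) := by
    rw [← LinearMap.range_eq_top, Fintype.range_linearCombination, hm]
  have hker : LinearMap.ker (Fintype.linearCombination R m) ≤
      LinearMap.ker (Fintype.linearCombination R y) := fun ρ hρ => by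
    rw [LinearMap.mem_ker, Fintype.linearCombination_apply] at hρ ⊢
    exact hy ρ hρ
  refine ⟨((LinearMap.ker (Fintype.linearCombination R m)).liftQ
    (Fintype.linearCombination R y) hker).comp
    ((Fintype.linearCombination R m).quotKerEquivOfSurjective hπ).symm.toLinearMap, fun i => ?_⟩
  have h1 : m i = (Fintype.linearCombination R m).quotKerEquivOfSurjective hπ
      (Submodule.Quotient.mk (Pi.single i 1)) := by
    rw [LinearMap.quotKerEquivOfSurjective_apply_mk, Fintype.linearCombination_apply_single, one_smul]
  rw [LinearMap.comp_apply, h1]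
  simp only [LinearEquiv.coe_coe, LinearEquiv.symm_apply_apply]
  rw [Submodule.liftQ_apply, Fintype.linearCombination_apply_single, one_smul]

end Groth.Agent.Helper1.SplitPowers
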