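import Mathlib

/-!
# Spreading out algebra maps from finitely presented algebras into localizations
-/

set_option autoImplicit false

namespace Groth.Agent.Helper1.SpreadOut

open MvPolynomial

variable {R S T : Type*} [CommRing R] [CommRing S] [CommRing T] [Algebra R S] [Algebra R T]

/-- A map from a finitely presented algebra into a localization `L = M⁻¹T` factors through a
localization away from a single element of `M`. -/
theorem exists_lift_away [Algebra.FinitePresentation R S] (M : Submonoid T)
    (L : Type*) [CommRing L] [Algebra T L] [IsLocalization M L] [Algebra R L] [IsScalarTower R T L]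
    (φ : S →ₐ[R] L) :
    ∃ t ∈ M, ∃ φ' : S →ₐ[R] Localization.Away t,
      ∀ g : Localization.Away t →+* L, g.comp (algebraMap T _) = algebraMap T L →
        ∀ x, g (φ' x) = φ x := by
  classical
  obtain ⟨n, f, hfsurj, hfker⟩ := Algebra.FinitePresentation.out (R := R) (A := S)
  obtain ⟨G, hG⟩ := hfker
  -- denominators for the images of the variables
  choose am ham using fun i : Fin n => IsLocalization.surj M (φ (f (X i)))
  let m : T := ∏ i, ((am i).2 : T)
  have hmM : m ∈ M := prod_mem fun i _ => (am i).2.2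
  let Tm := Localization.Away m
  have hunit_i : ∀ i, IsUnit (algebraMap T Tm ((am i).2 : T)) := fun i =>
    IsLocalization.Away.isUnit_of_dvd m (Finset.dvd_prod_of_mem _ (Finset.mem_univ i))
  let y : Fin n → Tm := fun i => algebraMap T Tm (am i).1 * ((hunit_i i).unit⁻¹ : Tmˣ)
  let φ₀ : MvPolynomial (Fin n) R →ₐ[R] Tm := aeval y
  have hmL : IsUnit ((IsScalarTower.toAlgHom R T L) m) :=
    IsLocalization.map_units L (⟨m, hmM⟩ : M)
  let canm : Tm →ₐ[R] L := IsLocalization.Away.liftAlgHom m hmL
  have hcanm : ∀ a : T, canm (algebraMap T Tm a) = algebraMap T L a := fun a => by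
    simp [canm, IsLocalization.Away.liftAlgHom_apply]
  have hcomp : canm.comp φ₀ = φ.comp f := by
    apply MvPolynomial.algHom_ext
    intro i
    simp only [AlgHom.comp_apply, φ₀, aeval_X, y]
    rw [map_mul, hcanm]
    have h1 := ham i
    have h2 : canm (((hunit_i i).unit⁻¹ : Tmˣ) : Tm) * algebraMap T L ((am i).2 : T) = 1 := by
      rw [← hcanm, ← map_mul]
      have : (((hunit_i i).unit⁻¹ : Tmˣ) : Tm) * algebraMap T Tm ((am i).2 : T) = 1 := by
        have := (hunit_i i).unit.inv_mul
        simpa using this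
      rw [this, map_one]
    calc algebraMap T L (am i).1 * canm (((hunit_i i).unit⁻¹ : Tmˣ) : Tm)
        = φ (f (X i)) * algebraMap T L ((am i).2 : T) * canm (((hunit_i i).unit⁻¹ : Tmˣ) : Tm) := by
          rw [h1]
      _ = φ (f (X i)) * (canm (((hunit_i i).unit⁻¹ : Tmˣ) : Tm) * algebraMap T L ((am i).2 : T)) := by
          ring
      _ = φ (f (X i)) := by rw [h2, mul_one]
  -- each generator of the kernel dies after inverting one more element
  have hgen : ∀ g ∈ G, ∃ u ∈ M, ∃ (b : T) (k : ℕ),
      φ₀ g * algebraMap T Tm (m ^ k) = algebraMap T Tm b ∧ u * b = 0 := by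
    intro g hg
    obtain ⟨⟨b, ⟨_, k, rfl⟩⟩, hb⟩ := IsLocalization.surj (Submonoid.powers m) (φ₀ g)
    have h0 : canm (φ₀ g) = 0 := by
      have := congr($hcomp g)
      simp only [AlgHom.comp_apply] at this
      rw [this]
      have hgk : f g = 0 := by
        have : g ∈ RingHom.ker f.toRingHom := by rw [← hG]; exact Ideal.subset_span hg
        exact this
      rw [hgk, map_zero]
    have h1 : algebraMap T L b = 0 := by
      have := congr(canm $hb)
      rw [map_mul, h0, zero_mul, hcanm] at this
      exact this.symm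
    obtain ⟨u, hu⟩ := (IsLocalization.map_eq_zero_iff M L b).1 h1
    exact ⟨u, u.2, b, k, hb, hu⟩
  choose! u huM b k hbk hub using hgen
  let t : T := m * ∏ g ∈ G, u g
  have htM : t ∈ M := mul_mem hmM (prod_mem fun g hg => huM g hg)
  let Tt := Localization.Away t
  have hmt : IsUnit ((IsScalarTower.toAlgHom R T Tt) m) :=
    IsLocalization.Away.isUnit_of_dvd t (Dvd.intro _ rfl)
  let canmt : Tm →ₐ[R] Tt := IsLocalization.Away.liftAlgHom m hmt
  have hcanmt : ∀ a : T, canmt (algebraMap T Tm a) = algebraMap T Tt a := fun a => by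
    simp [canmt, IsLocalization.Away.liftAlgHom_apply]
  let φ₁ : MvPolynomial (Fin n) R →ₐ[R] Tt := canmt.comp φ₀
  have hφ₁ : ∀ g ∈ G, φ₁ g = 0 := by
    intro g hg
    have hug : IsUnit (algebraMap T Tt (u g)) :=
      IsLocalization.Away.isUnit_of_dvd t
        (Dvd.dvd.mul_left (Finset.dvd_prod_of_mem _ hg) m)
    have hb0 : algebraMap T Tt (b g) = 0 := by
      have := congr(algebraMap T Tt $(hub g hg))
      rw [map_mul, map_zero] at this
      exact (hug.mul_right_eq_zero).1 this
    have h1 := congr(canmt $(hbk g hg))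
    rw [map_mul, hcanmt, hcanmt, hb0] at h1
    have hmk : IsUnit (algebraMap T Tt (m ^ k g)) := by
      rw [map_pow]; exact hmt.pow _
    exact (hmk.mul_left_eq_zero).1 h1
  have hker : ∀ a ∈ RingHom.ker f, φ₁ a = 0 := by
    intro a ha
    have ha' : a ∈ Ideal.span (G : Set (MvPolynomial (Fin n) R)) := by rw [hG]; exact ha
    have : Ideal.span (G : Set (MvPolynomial (Fin n) R)) ≤ RingHom.ker φ₁ := by
      rw [Ideal.span_le]
      intro g hg
      exact hφ₁ g hg
    exact this ha'
  let e := Ideal.quotientKerAlgEquivOfSurjective hfsurj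
  have he : ∀ a, e (Ideal.Quotient.mk _ a) = f a := fun a => rfl
  let φ' : S →ₐ[R] Tt :=
    (Ideal.Quotient.liftₐ (RingHom.ker f) φ₁ hker).comp e.symm.toAlgHom
  have hφ' : ∀ a, φ' (f a) = φ₁ a := by
    intro a
    have : e.symm (f a) = Ideal.Quotient.mk _ a := by
      rw [← he, e.symm_apply_apply]
    show (Ideal.Quotient.liftₐ (RingHom.ker f) φ₁ hker) (e.symm (f a)) = φ₁ a
    rw [this]
    rfl
  refine ⟨t, htM, φ', ?_⟩
  intro g hg x
  obtain ⟨a, rfl⟩ := hfsurj x
  rw [hφ']
  have h1 : (g.comp canmt.toRingHom) = canm.toRingHom := by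
    apply IsLocalization.ringHom_ext (Submonoid.powers m)
    ext a
    simp only [RingHom.comp_apply, AlgHom.toRingHom_eq_coe, RingHom.coe_coe]
    rw [hcanmt, hcanm]
    exact congr($hg a)
  have h2 := congr($h1 (φ₀ a))
  simp only [RingHom.comp_apply, AlgHom.toRingHom_eq_coe, RingHom.coe_coe] at h2
  show g (canmt (φ₀ a)) = φ (f a)
  rw [h2]
  exact congr($hcomp a)

end Groth.Agent.Helper1.SpreadOut
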