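import Groth.Agent.Helper1.SpreadOut

/-!
# Local isomorphisms of finitely presented algebras split off a factor
-/

set_option autoImplicit false
universe u

namespace Groth.Agent.Helper1.SpreadOut

/-- If `π : S → R` is a retraction of `R → S` whose (finitely generated) kernel is killed by an
element `s` with `π s` a unit, then `S ≅ R × C`. -/
theorem exists_prod_of_retraction {R S : Type u} [CommRing R] [CommRing S] [Algebra R S]
    (π : S →ₐ[R] R) (hJ : (RingHom.ker π).FG) (s : S) (hs : IsUnit (π s))
    (hkill : ∀ x ∈ RingHom.ker π, s * x = 0) :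
    ∃ (C : Type u) (_ : CommRing C) (_ : Algebra R C), Nonempty (S ≃ₐ[R] (R × C)) := by
  set J := RingHom.ker π with hJdef
  have hπalg : ∀ r : R, π (algebraMap R S r) = r := fun r => by simp
  -- J = J²
  have hidem : IsIdempotentElem J := by
    apply le_antisymm
    · exact Ideal.mul_le_right
    · intro x hx
      obtain ⟨u, hu⟩ := hs
      have hj : s - algebraMap R S (π s) ∈ J := by
        rw [hJdef, RingHom.mem_ker, map_sub, hπalg, sub_self]
      have h1 : algebraMap R S (π s) * x = -((s - algebraMap R S (π s)) * x) := by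
        have := hkill x hx
        linear_combination this
      have h2 : x = algebraMap R S ((u⁻¹ : Rˣ) : R) * (algebraMap R S (π s) * x) := by
        rw [← mul_assoc, ← map_mul, ← hu, Units.inv_mul, map_one, one_mul]
      rw [h2, h1]
      apply Ideal.mul_mem_left
      exact neg_mem (Ideal.mul_mem_mul hj hx)
  obtain ⟨e, he, hJe⟩ := (Ideal.isIdempotentElem_iff_of_fg J hJ).1 hidem
  have heJ : e ∈ J := by rw [hJe]; exact Ideal.mem_span_singleton_self e
  have hπe : π e = 0 := heJ
  let C := S ⧸ Ideal.span {1 - e}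
  let Φ : S →ₐ[R] (R × C) := AlgHom.prod π (Ideal.Quotient.mkₐ R (Ideal.span {1 - e}))
  refine ⟨C, inferInstance, inferInstance, ⟨AlgEquiv.ofBijective Φ ⟨?_, ?_⟩⟩⟩
  · rw [injective_iff_map_eq_zero]
    intro x hx
    have h1 : π x = 0 := congr($hx.1)
    have h2 : Ideal.Quotient.mk (Ideal.span {1 - e}) x = 0 := congr($hx.2)
    have hxJ : x ∈ Ideal.span {e} := by
      have : x ∈ J := h1
      rw [hJe] at this
      exact this
    obtain ⟨y, rfl⟩ := Ideal.mem_span_singleton'.1 hxJ
    rw [Ideal.Quotient.eq_zero_iff_mem] at h2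
    obtain ⟨z, hz⟩ := Ideal.mem_span_singleton'.1 h2
    have he' : e * e = e := he
    calc y * e = y * e * e := by rw [mul_assoc, he']
      _ = z * (1 - e) * e := by rw [hz]
      _ = z * (e - e * e) := by ring
      _ = 0 := by rw [he', sub_self, mul_zero]
  · rintro ⟨r, c⟩
    obtain ⟨y, rfl⟩ := Ideal.Quotient.mk_surjective c
    refine ⟨algebraMap R S r * (1 - e) + y * e, ?_⟩
    apply Prod.ext
    · show π (algebraMap R S r * (1 - e) + y * e) = r
      rw [map_add, map_mul, map_mul, map_sub, map_one, hπe, hπalg]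
      ring
    · show Ideal.Quotient.mk (Ideal.span {1 - e}) (algebraMap R S r * (1 - e) + y * e) =
        Ideal.Quotient.mk _ y
      rw [Ideal.Quotient.eq, Ideal.mem_span_singleton']
      exact ⟨algebraMap R S r - y, by ring⟩

end Groth.Agent.Helper1.SpreadOut
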