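import Groth.Agent.Helper1.SpreadOut2

/-!
# S2146: a finitely presented algebra which is a local isomorphism at a prime splits off a factor
-/

set_option autoImplicit false
universe u

namespace Groth.Agent.Helper1.SpreadOut

/-- The abstract final step. Data: `π₁ : S → R_{f₁}`, generators `X₀` of `S`, and an element `s`
killing the differences `f₁^N x - b` where `π₁ x = b / f₁^N`, with `π₁ s = c / f₁^M`.
Conclusion: over any localization away from `f = f₁ c`, `S_f ≅ R_f × C`. -/
theorem final_step {R S : Type u} [CommRing R] [CommRing S] [Algebra R S]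
    (f₁ c : R) (π₁ : S →ₐ[R] Localization.Away f₁) (X₀ : Finset S)
    (hX₀ : Algebra.adjoin R (X₀ : Set S) = ⊤) (s : S)
    (N : S → ℕ) (b : S → R)
    (hb : ∀ x ∈ X₀, π₁ x * algebraMap R (Localization.Away f₁) (f₁ ^ N x) =
      algebraMap R (Localization.Away f₁) (b x))
    (hs : ∀ x ∈ X₀, s * (x * algebraMap R S (f₁ ^ N x) - algebraMap R S (b x)) = 0)
    (M : ℕ) (hc : π₁ s * algebraMap R (Localization.Away f₁) (f₁ ^ M) =
      algebraMap R (Localization.Away f₁) c)
    (Rf Sf : Type u) [CommRing Rf] [CommRing Sf] [Algebra R Rf] [IsLocalization.Away (f₁ * c) Rf]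
    [Algebra S Sf] [IsLocalization.Away (algebraMap R S (f₁ * c)) Sf] [Algebra Rf Sf] [Algebra R Sf]
    [IsScalarTower R S Sf] [IsScalarTower R Rf Sf] :
    ∃ (C : Type u) (_ : CommRing C) (_ : Algebra Rf C), Nonempty (Sf ≃ₐ[Rf] (Rf × C)) := by
  classical
  set f := f₁ * c with hf
  -- units in Rf
  have hf₁u : IsUnit (algebraMap R Rf f₁) :=
    IsLocalization.Away.isUnit_of_dvd f (Dvd.intro _ rfl)
  have hcu : IsUnit (algebraMap R Rf c) :=
    IsLocalization.Away.isUnit_of_dvd f (Dvd.intro_left _ rfl)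
  have hfu : IsUnit (algebraMap R Rf f) := IsLocalization.Away.algebraMap_isUnit f
  let can₂ : Localization.Away f₁ →ₐ[R] Rf :=
    IsLocalization.Away.liftAlgHom (f := Algebra.ofId R Rf) f₁ hf₁u
  have hcan₂ : ∀ a : R, can₂ (algebraMap R _ a) = algebraMap R Rf a := fun a => by simp
  let π₀ : S →ₐ[R] Rf := can₂.comp π₁
  have hπ₀f : IsUnit (π₀.toRingHom (algebraMap R S f)) := by
    simp only [AlgHom.toRingHom_eq_coe, RingHom.coe_coe, AlgHom.commutes]
    exact hfu
  let πr : Sf →+* Rf := IsLocalization.Away.lift (algebraMap R S f) hπ₀f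
  have hπr : ∀ y : S, πr (algebraMap S Sf y) = π₀ y := fun y => by
    simp [πr, IsLocalization.Away.lift_eq]
  have hρ : ∀ a : R, algebraMap Rf Sf (algebraMap R Rf a) = algebraMap S Sf (algebraMap R S a) := by
    intro a
    rw [← IsScalarTower.algebraMap_apply R Rf Sf, ← IsScalarTower.algebraMap_apply R S Sf]
  have hcomm : ∀ r : Rf, πr (algebraMap Rf Sf r) = r := by
    have : (πr.comp (algebraMap Rf Sf)) = RingHom.id Rf := by
      apply IsLocalization.ringHom_ext (Submonoid.powers f)
      ext a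
      simp only [RingHom.comp_apply, RingHom.id_apply]
      rw [hρ, hπr, AlgHom.commutes]
    intro r
    exact congr($this r)
  let π : Sf →ₐ[Rf] Rf := { πr with commutes' := hcomm }
  have hπ : ∀ z, π z = πr z := fun z => rfl
  let ρ := algebraMap Rf Sf
  let D : Sf → Sf := fun z => z - ρ (π z)
  have hDadd : ∀ z w, D (z + w) = D z + D w := fun z w => by
    simp only [D, map_add]; ring
  have hDmul : ∀ z w, D (z * w) = z * D w + D z * ρ (π w) := fun z w => by
    simp only [D, map_mul]; ring
  have hDalg : ∀ r, D (ρ r) = 0 := fun r => by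
    simp only [D, ρ, AlgHom.commutes, Algebra.algebraMap_self_apply, sub_self]
  let s' : Sf := algebraMap S Sf s
  let J₀ : Ideal Sf := Ideal.span ((fun x => D (algebraMap S Sf x)) '' (X₀ : Set S))
  -- the subalgebra of good elements
  let E : Subalgebra Rf Sf :=
    { carrier := {z | s' * D z = 0 ∧ D z ∈ J₀}
      mul_mem' := by
        rintro z w ⟨hz1, hz2⟩ ⟨hw1, hw2⟩
        refine ⟨?_, ?_⟩
        · rw [hDmul]
          linear_combination z * hw1 + ρ (π w) * hz1
        · rw [hDmul]
          exact J₀.add_mem (J₀.mul_mem_left _ hw2) (J₀.mul_mem_right _ hz2)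
      add_mem' := by
        rintro z w ⟨hz1, hz2⟩ ⟨hw1, hw2⟩
        refine ⟨?_, ?_⟩
        · rw [hDadd, mul_add, hz1, hw1, add_zero]
        · rw [hDadd]; exact J₀.add_mem hz2 hw2
      algebraMap_mem' := by
        intro r
        show s' * D (ρ r) = 0 ∧ D (ρ r) ∈ J₀
        rw [hDalg]
        exact ⟨mul_zero _, J₀.zero_mem⟩ }
  have hF₁ : IsUnit (algebraMap S Sf (algebraMap R S f₁)) := by
    rw [← hρ]; exact hf₁u.map _
  have hgen : ∀ x ∈ X₀, algebraMap S Sf x ∈ E := by
    intro x hx
    refine ⟨?_, Ideal.subset_span ⟨x, hx, rfl⟩⟩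
    have h1 : π₀ x * algebraMap R Rf (f₁ ^ N x) = algebraMap R Rf (b x) := by
      have := congr(can₂ $(hb x hx))
      rw [map_mul, hcan₂, hcan₂] at this
      exact this
    have h2 : ρ (π (algebraMap S Sf x)) * algebraMap S Sf (algebraMap R S (f₁ ^ N x)) =
        algebraMap S Sf (algebraMap R S (b x)) := by
      rw [hπ, hπr, ← hρ, ← hρ, ← map_mul, h1]
    have hu : IsUnit (algebraMap S Sf (algebraMap R S (f₁ ^ N x))) := by
      rw [map_pow, map_pow]; exact hF₁.pow _
    have h3 : s' * D (algebraMap S Sf x) * algebraMap S Sf (algebraMap R S (f₁ ^ N x)) = 0 := by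
      have h4 := congr(algebraMap S Sf $(hs x hx))
      rw [map_mul, map_sub, map_mul, map_zero] at h4
      simp only [D, s']
      rw [← h4]
      linear_combination (-(algebraMap S Sf s)) * h2
    exact (hu.mul_left_eq_zero).1 h3
  have hS : ∀ y : S, algebraMap S Sf y ∈ E := by
    intro y
    have hy : y ∈ Algebra.adjoin R (X₀ : Set S) := by rw [hX₀]; trivial
    induction hy using Algebra.adjoin_induction with
    | mem x hx => exact hgen x hx
    | algebraMap r =>
      rw [← hρ]
      exact E.algebraMap_mem _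
    | add x y _ _ hx hy => rw [map_add]; exact E.add_mem hx hy
    | mul x y _ _ hx hy => rw [map_mul]; exact E.mul_mem hx hy
  have hall : ∀ z : Sf, z ∈ E := by
    intro z
    obtain ⟨⟨y, ⟨_, k, rfl⟩⟩, hy⟩ := IsLocalization.surj (Submonoid.powers (algebraMap R S f)) z
    simp only at hy
    obtain ⟨u, hu⟩ := hfu
    have h1 : z = algebraMap S Sf y * ρ (((u⁻¹ : Rfˣ) : Rf) ^ k) := by
      have h2 : algebraMap S Sf ((algebraMap R S f) ^ k) * ρ (((u⁻¹ : Rfˣ) : Rf) ^ k) = 1 := by
        rw [map_pow, ← hρ, ← hu, ← map_pow, ← map_mul, ← mul_pow, Units.mul_inv, one_pow, map_one]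
      rw [← hy, mul_assoc, h2, mul_one]
    rw [h1]
    exact E.mul_mem (hS y) (E.algebraMap_mem _)
  -- kernel of π
  have hJ₀le : J₀ ≤ RingHom.ker π := by
    rw [Ideal.span_le]
    rintro _ ⟨x, _, rfl⟩
    show π (D (algebraMap S Sf x)) = 0
    simp only [D, map_sub, ρ, AlgHom.commutes, Algebra.algebraMap_self_apply, sub_self]
  have hDker : ∀ z ∈ RingHom.ker π, D z = z := by
    intro z hz
    have : π z = 0 := hz
    simp only [D, this, map_zero, sub_zero]
  have hker : RingHom.ker π = J₀ := by
    apply le_antisymm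
    · intro z hz
      have := (hall z).2
      rwa [hDker z hz] at this
    · exact hJ₀le
  have hfg : (RingHom.ker π).FG := by
    rw [hker]
    exact ⟨X₀.image (fun x => D (algebraMap S Sf x)), by simp [J₀]⟩
  have hkill : ∀ z ∈ RingHom.ker π, s' * z = 0 := by
    intro z hz
    have := (hall z).1
    rwa [hDker z hz] at this
  have hsu : IsUnit (π s') := by
    rw [hπ, hπr]
    have h1 : π₀ s * algebraMap R Rf (f₁ ^ M) = algebraMap R Rf c := by
      have := congr(can₂ $hc)
      rw [map_mul, hcan₂, hcan₂] at this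
      exact this
    have h2 : IsUnit (π₀ s * algebraMap R Rf (f₁ ^ M)) := by rw [h1]; exact hcu
    exact isUnit_of_mul_isUnit_left h2
  exact exists_prod_of_retraction π hfg s' hsu hkill

end Groth.Agent.Helper1.SpreadOut
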