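import Mathlib
import Groth.Agent.Helper1.SpreadOut

/-!
# Spreading out: canonical maps between localizations, uniqueness of lifts
-/

set_option autoImplicit false

namespace Groth.Agent.Helper1.SpreadOut

variable (R : Type*) {T : Type*} [CommRing R] [CommRing T] [Algebra R T] (M : Submonoid T)
  (L : Type*) [CommRing L] [Algebra T L] [IsLocalization M L] [Algebra R L] [IsScalarTower R T L]

/-- The canonical map `T_t → M⁻¹T` for `t ∈ M`. -/
noncomputable def can (t : T) (ht : t ∈ M) : Localization.Away t →ₐ[R] L :=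
  IsLocalization.Away.liftAlgHom t (f := IsScalarTower.toAlgHom R T L)
    (IsLocalization.map_units L (⟨t, ht⟩ : M))

@[simp]
theorem can_algebraMap (t : T) (ht : t ∈ M) (a : T) :
    can R M L t ht (algebraMap T _ a) = algebraMap T L a := by
  simp [can, IsLocalization.Away.liftAlgHom_apply]

/-- The transition map `T_t → T_t'` for `t ∣ t'`. -/
noncomputable def tr (t t' : T) (h : t ∣ t') : Localization.Away t →ₐ[R] Localization.Away t' :=
  IsLocalization.Away.liftAlgHom t (f := IsScalarTower.toAlgHom R T (Localization.Away t'))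
    (IsLocalization.Away.isUnit_of_dvd t' h)

@[simp]
theorem tr_algebraMap (t t' : T) (h : t ∣ t') (a : T) :
    tr R t t' h (algebraMap T _ a) = algebraMap T _ a := by
  simp [tr, IsLocalization.Away.liftAlgHom_apply]

variable {R}

theorem algHom_ext_away {P : Type*} [CommRing P] [Algebra R P] (t : T)
    {f g : Localization.Away t →ₐ[R] P}
    (h : ∀ a : T, f (algebraMap T _ a) = g (algebraMap T _ a)) : f = g := by
  have : f.toRingHom = g.toRingHom :=
    IsLocalization.ringHom_ext (Submonoid.powers t) (RingHom.ext fun a => h a)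
  exact AlgHom.ext fun x => congr($this x)

variable (R)

theorem can_tr (t t' : T) (h : t ∣ t') (ht' : t' ∈ M) (ht : t ∈ M) :
    (can R M L t' ht').comp (tr R t t' h) = can R M L t ht := by
  apply algHom_ext_away
  intro a
  simp

theorem can_tr_apply (t t' : T) (h : t ∣ t') (ht' : t' ∈ M) (ht : t ∈ M) (x) :
    can R M L t' ht' (tr R t t' h x) = can R M L t ht x :=
  congr($(can_tr R M L t t' h ht' ht) x)

theorem tr_tr (t t' t'' : T) (h : t ∣ t') (h' : t' ∣ t'') :
    (tr R t' t'' h').comp (tr R t t' h) = tr R t t'' (h.trans h') := by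
  apply algHom_ext_away
  intro a
  simp

theorem tr_tr_apply (t t' t'' : T) (h : t ∣ t') (h' : t' ∣ t'') (x) :
    tr R t' t'' h' (tr R t t' h x) = tr R t t'' (h.trans h') x :=
  congr($(tr_tr R t t' t'' h h') x)

variable {R}

/-- Lemma A: existence of lifts. -/
theorem exists_lift {S : Type*} [CommRing S] [Algebra R S] [Algebra.FinitePresentation R S]
    (φ : S →ₐ[R] L) (t₀ : T) (ht₀ : t₀ ∈ M) :
    ∃ (t : T) (ht : t ∈ M), t₀ ∣ t ∧ ∃ φ' : S →ₐ[R] Localization.Away t,
      (can R M L t ht).comp φ' = φ := by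
  obtain ⟨t, ht, φ', h⟩ := exists_lift_away M L φ
  refine ⟨t * t₀, mul_mem ht ht₀, dvd_mul_left _ _,
    (tr R t (t * t₀) (dvd_mul_right _ _)).comp φ', ?_⟩
  ext x
  simp only [AlgHom.comp_apply]
  rw [can_tr_apply R M L t (t * t₀) _ _ ht]
  apply h (can R M L t ht).toRingHom
  ext a
  simp

/-- An element of `T_t` dying in `M⁻¹T` is killed by an element of `M`. -/
theorem exists_mul_eq_zero (t : T) (ht : t ∈ M) (d : Localization.Away t)
    (hd : can R M L t ht d = 0) :
    ∃ m ∈ M, algebraMap T (Localization.Away t) m * d = 0 := by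
  obtain ⟨⟨a, ⟨_, n, rfl⟩⟩, ha⟩ := IsLocalization.surj (Submonoid.powers t) d
  simp only at ha
  have h1 : algebraMap T L a = 0 := by
    have := congr(can R M L t ht $ha)
    rw [map_mul, hd, zero_mul, can_algebraMap] at this
    exact this.symm
  obtain ⟨m, hm⟩ := (IsLocalization.map_eq_zero_iff M L a).1 h1
  refine ⟨m, m.2, ?_⟩
  have hu : IsUnit (algebraMap T (Localization.Away t) (t ^ n)) := by
    rw [map_pow]
    exact (IsLocalization.Away.algebraMap_isUnit t).pow n
  apply (hu.mul_left_eq_zero).1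
  rw [mul_assoc, ha, ← map_mul, hm, map_zero]

/-- Lemma B: uniqueness of lifts, up to further localization. -/
theorem exists_tr_eq {S : Type*} [CommRing S] [Algebra R S] [Algebra.FiniteType R S]
    (t : T) (ht : t ∈ M) (α β : S →ₐ[R] Localization.Away t)
    (h : (can R M L t ht).comp α = (can R M L t ht).comp β) :
    ∃ (t' : T) (_ : t' ∈ M) (hd : t ∣ t'), (tr R t t' hd).comp α = (tr R t t' hd).comp β := by
  classical
  obtain ⟨G, hG⟩ := (Algebra.FiniteType.out : (⊤ : Subalgebra R S).FG)
  have hgen : ∀ s ∈ G, ∃ m ∈ M, algebraMap T (Localization.Away t) m * (α s - β s) = 0 := by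
    intro s _
    apply exists_mul_eq_zero (R := R) M L t ht
    rw [map_sub, sub_eq_zero]
    exact congr($h s)
  choose! m hmM hm using hgen
  let t' : T := t * ∏ s ∈ G, m s
  have ht' : t' ∈ M := mul_mem ht (prod_mem fun s hs => hmM s hs)
  refine ⟨t', ht', dvd_mul_right _ _, ?_⟩
  apply AlgHom.ext_of_adjoin_eq_top hG
  intro s hs
  simp only [AlgHom.comp_apply]
  have hu : IsUnit (algebraMap T (Localization.Away t') (m s)) :=
    IsLocalization.Away.isUnit_of_dvd t' (Dvd.dvd.mul_left (Finset.dvd_prod_of_mem _ hs) t)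
  have := congr(tr R t t' (dvd_mul_right _ _) $(hm s hs))
  rw [map_mul, tr_algebraMap, map_zero] at this
  have h0 := (hu.mul_right_eq_zero).1 this
  rw [map_sub, sub_eq_zero] at h0
  exact h0

end Groth.Agent.Helper1.SpreadOut
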