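import Mathlib
import Groth.Agent.Helper1.SpreadOut4

/-!
# Spreading out an isomorphism of local rings: the final step
-/

set_option autoImplicit false

namespace Groth.Agent.Helper1.SpreadOut

variable {R S S' : Type*} [CommRing R] [CommRing S] [CommRing S'] [Algebra R S] [Algebra R S']

theorem final_iso (q : Ideal S) [q.IsPrime] (g₁ : S) (hg₁ : g₁ ∈ q.primeCompl)
    (h' k₁ : S') (hk : h' ∣ k₁)
    (φ : S →ₐ[R] Localization.Away h')
    (ψ₁ : Localization.Away h' →ₐ[R] Localization.Away g₁)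
    (φ₁ : Localization.Away g₁ →ₐ[R] Localization.Away k₁)
    (ha : ∀ x : S, ψ₁ (φ x) = algebraMap S _ x)
    (hc : ∀ z, φ₁ (ψ₁ z) = tr R h' k₁ hk z)
    (hb : IsUnit (can R q.primeCompl (Localization.AtPrime q) g₁ hg₁
      (ψ₁ (algebraMap S' _ k₁)))) :
    ∃ g : S, g ∉ q ∧ Nonempty (Localization.Away g ≃ₐ[R] Localization.Away k₁) := by
  set P := Localization.Away g₁ with hP
  set y : P := ψ₁ (algebraMap S' _ k₁) with hy
  obtain ⟨⟨u, ⟨_, n, rfl⟩⟩, hu⟩ := IsLocalization.surj (Submonoid.powers g₁) y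
  simp only at hu
  have hgu : IsUnit (algebraMap S P (g₁ ^ n)) := by
    rw [map_pow]
    exact (IsLocalization.Away.algebraMap_isUnit g₁).pow n
  have huq : u ∈ q.primeCompl := by
    rw [← IsLocalization.AtPrime.isUnit_to_map_iff (Localization.AtPrime q) q]
    have := congr(can R q.primeCompl (Localization.AtPrime q) g₁ hg₁ $hu)
    rw [map_mul, can_algebraMap, can_algebraMap] at this
    rw [← this]
    exact hb.mul (IsLocalization.map_units _ (⟨g₁ ^ n, pow_mem hg₁ n⟩ : q.primeCompl))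
  refine ⟨g₁ * u, fun hmem => ?_, ?_⟩
  · rcases (Ideal.IsPrime.mem_or_mem inferInstance hmem) with h | h
    · exact hg₁ h
    · exact huq h
  let B := Localization.Away y
  have hassoc : Associated y (algebraMap S P u) := ⟨hgu.unit, by simpa using hu⟩
  haveI : IsLocalization.Away (algebraMap S P u) B := IsLocalization.Away.of_associated hassoc
  haveI : IsLocalization.Away (g₁ * u) B := IsLocalization.Away.mul' (S := P) (T := B) g₁ u
  have hyB : IsUnit (algebraMap P B y) := IsLocalization.Away.algebraMap_isUnit y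
  have hφ₁y : IsUnit (φ₁ y) := by
    rw [hy, hc, tr_algebraMap]
    exact IsLocalization.Away.algebraMap_isUnit k₁
  let φ₂ : B →ₐ[R] Localization.Away k₁ := IsLocalization.Away.liftAlgHom y (f := φ₁) hφ₁y
  have hφ₂ : ∀ p : P, φ₂ (algebraMap P B p) = φ₁ p := fun p => by
    simp [φ₂, IsLocalization.Away.liftAlgHom_apply]
  let f₀ : S' →ₐ[R] B :=
    (IsScalarTower.toAlgHom R P B).comp (ψ₁.comp (IsScalarTower.toAlgHom R S' (Localization.Away h')))
  have hf₀ : ∀ a, f₀ a = algebraMap P B (ψ₁ (algebraMap S' _ a)) := fun a => rfl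
  have hf₀k : IsUnit (f₀ k₁) := by rw [hf₀]; exact hyB
  let ψ₂ : Localization.Away k₁ →ₐ[R] B := IsLocalization.Away.liftAlgHom k₁ (f := f₀) hf₀k
  have hψ₂ : ∀ a : S', ψ₂ (algebraMap S' _ a) = algebraMap P B (ψ₁ (algebraMap S' _ a)) :=
    fun a => by
      simp [ψ₂, IsLocalization.Away.liftAlgHom_apply, hf₀]
  have hψ₂tr : ∀ z, ψ₂ (tr R h' k₁ hk z) = algebraMap P B (ψ₁ z) := by
    have : ψ₂.comp (tr R h' k₁ hk) = (IsScalarTower.toAlgHom R P B).comp ψ₁ := by
      apply algHom_ext_away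
      intro a
      simp only [AlgHom.comp_apply, tr_algebraMap, hψ₂]
      rfl
    intro z
    exact congr($this z)
  have h1 : φ₂.comp ψ₂ = AlgHom.id R _ := by
    apply algHom_ext_away
    intro a
    simp only [AlgHom.comp_apply, hψ₂, hφ₂, hc, tr_algebraMap, AlgHom.id_apply]
  have h2 : ψ₂.comp φ₂ = AlgHom.id R _ := by
    apply algHom_ext_away
    intro p
    show ψ₂ (φ₂ (algebraMap P B p)) = algebraMap P B p
    rw [hφ₂]
    have : (ψ₂.comp φ₁) = IsScalarTower.toAlgHom R P B := by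
      apply algHom_ext_away
      intro x
      simp only [AlgHom.comp_apply]
      rw [← ha x, hc, hψ₂tr]
      rfl
    exact congr($this p)
  let E : B ≃ₐ[R] Localization.Away k₁ := AlgEquiv.ofAlgHom φ₂ ψ₂ h1 h2
  let E₀ : Localization.Away (g₁ * u) ≃ₐ[S] B :=
    IsLocalization.algEquiv (Submonoid.powers (g₁ * u)) _ _
  exact ⟨(E₀.restrictScalars R).trans E⟩

theorem main_iso [Algebra.FinitePresentation R S] [Algebra.FinitePresentation R S']
    (q : Ideal S) [q.IsPrime] (q' : Ideal S') [q'.IsPrime]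
    (e : Localization.AtPrime q ≃ₐ[R] Localization.AtPrime q') :
    ∃ (g : S) (g' : S'), g ∉ q ∧ g' ∉ q' ∧
      Nonempty (Localization.Away g ≃ₐ[R] Localization.Away g') := by
  set A := Localization.AtPrime q
  set A' := Localization.AtPrime q'
  set M := q.primeCompl
  set M' := q'.primeCompl
  -- Step 1
  obtain ⟨h', hh', -, φ, hφ⟩ := exists_lift M' A'
    (e.toAlgHom.comp (IsScalarTower.toAlgHom R S A)) 1 (one_mem _)
  have hφ' : ∀ x, can R M' A' h' hh' (φ x) = e (algebraMap S A x) := fun x => congr($hφ x)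
  -- Step 2
  obtain ⟨g₀, hg₀, -, ψ₀, hψ₀⟩ := exists_lift M A
    (e.symm.toAlgHom.comp (can R M' A' h' hh')) 1 (one_mem _)
  have hψ₀' : ∀ z, can R M A g₀ hg₀ (ψ₀ z) = e.symm (can R M' A' h' hh' z) :=
    fun z => congr($hψ₀ z)
  obtain ⟨g₁, hg₁, hd, hg₁eq⟩ := exists_tr_eq M A g₀ hg₀ (ψ₀.comp φ)
    (IsScalarTower.toAlgHom R S _) (by
      ext x
      simp only [AlgHom.comp_apply, hψ₀', hφ', IsScalarTower.coe_toAlgHom', can_algebraMap]
      simp)
  let ψ₁ := (tr R g₀ g₁ hd).comp ψ₀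
  have ha : ∀ x : S, ψ₁ (φ x) = algebraMap S _ x := fun x => by
    have := congr($hg₁eq x)
    simp only [AlgHom.comp_apply, IsScalarTower.coe_toAlgHom', tr_algebraMap] at this
    exact this
  have hb : ∀ z, can R M A g₁ hg₁ (ψ₁ z) = e.symm (can R M' A' h' hh' z) := fun z => by
    simp only [ψ₁, AlgHom.comp_apply]
    rw [can_tr_apply R M A g₀ g₁ hd hg₁ hg₀, hψ₀']
  -- Step 3
  obtain ⟨k₀, hk₀, hdk, φ₀, hφ₀⟩ := exists_lift M' A'
    (e.toAlgHom.comp (can R M A g₁ hg₁)) h' hh'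
  have hφ₀' : ∀ z, can R M' A' k₀ hk₀ (φ₀ z) = e (can R M A g₁ hg₁ z) :=
    fun z => congr($hφ₀ z)
  obtain ⟨k₁, hk₁, hd', hk₁eq⟩ := exists_tr_eq M' A' k₀ hk₀ (φ₀.comp ψ₁)
    (tr R h' k₀ hdk) (by
      ext z
      simp only [AlgHom.comp_apply, hφ₀', hb]
      rw [can_tr_apply R M' A' h' k₀ hdk hk₀ hh']
      simp)
  let φ₁ := (tr R k₀ k₁ hd').comp φ₀
  have hc : ∀ z, φ₁ (ψ₁ z) = tr R h' k₁ (hdk.trans hd') z := fun z => by
    have := congr($hk₁eq z)
    simp only [AlgHom.comp_apply] at this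
    rw [tr_tr_apply] at this
    exact this
  -- Step 4
  have hunit : IsUnit (can R M A g₁ hg₁ (ψ₁ (algebraMap S' _ k₁))) := by
    rw [hb, can_algebraMap]
    exact (IsLocalization.map_units A' (⟨k₁, hk₁⟩ : M')).map e.symm
  obtain ⟨g, hg, hE⟩ := final_iso q g₁ hg₁ h' k₁ (hdk.trans hd') φ ψ₁ φ₁ ha hc hunit
  exact ⟨g, k₁, hg, hk₁, hE⟩

end Groth.Agent.Helper1.SpreadOut
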