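import Groth.Agent.Helper1.StalkBC1
import Groth.Agent.Helper1.BaseChart11

set_option autoImplicit false

/-!
# Base change to the local ring of a point of the base: sections of `Rᵖ f_*` over an affine open
-/

namespace Groth.Agent.Helper1.StalkBC

open CategoryTheory Limits AlgebraicGeometry Opposite TopologicalSpace
open Groth.Agent.Helper1.BaseChart Groth.Agent.Helper4

universe u

variable {X Y : Scheme.{u}} (f : X ⟶ Y) (V : Y.Opens)

/-- the chart as a scheme over `Spec Γ(Y, V)` -/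
@[reducible] noncomputable def chartOverΓ : (XV f V).Over (Spec (CommRingCat.of Γ(Y, V))) :=
  ⟨chartHomΓ f V⟩

lemma toGlobal_chartHomΓ (r : Γ(Y, V)) :
    Coh.toGlobal (A := Γ(Y, V)) (chartHomΓ f V) r = (f ∣_ V).appTop.hom (V.topIso.inv.hom r) := by
  show ((chartHomΓ f V).appTop).hom ((Scheme.ΓSpecIso (CommRingCat.of Γ(Y, V))).inv.hom r) = _
  unfold chartHomΓ
  rw [Scheme.Hom.comp_appTop, Scheme.Opens.toSpecΓ_appTop]
  show (f ∣_ V).appTop.hom (V.topIso.inv.hom (((Scheme.ΓSpecIso Γ(Y, V)).inv ≫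
    (Scheme.ΓSpecIso Γ(Y, V)).hom).hom r)) = _
  rw [Iso.inv_hom_id]
  rfl

/-- sections over `⊤` of the restriction to `V`, mapped to sections over `V` -/
noncomputable def topToV (N : Y.Modules) : Γ(N.restrict V.ι, ⊤) →+ Γ(N, V) :=
  (N.presheaf.map (eqToHom V.ι_image_top.symm).op).hom

lemma topToV_bijective (N : Y.Modules) : Function.Bijective (topToV V N) := by
  have : IsIso (N.presheaf.map (eqToHom V.ι_image_top.symm).op) := inferInstance
  exact (ConcreteCategory.isIso_iff_bijective _).mp this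

lemma topToV_smul (N : Y.Modules) (r : Γ(Y, V)) (t : Γ(N.restrict V.ι, ⊤)) :
    topToV V N ((V.topIso.inv.hom r : Γ((V : Scheme.{u}), ⊤)) • t) = r • topToV V N t := by
  have h1 : ((V.topIso.inv.hom r : Γ((V : Scheme.{u}), ⊤)) • t : Γ(N.restrict V.ι, ⊤)) =
      (((V.ι.appIso ⊤).inv (V.topIso.inv.hom r) : Γ(Y, V.ι ''ᵁ ⊤)) •
        (show Γ(N, V.ι ''ᵁ ⊤) from t) : Γ(N, V.ι ''ᵁ ⊤)) := rfl
  unfold topToV
  rw [h1]
  erw [Scheme.Modules.map_smul]
  congr 1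
  rw [Scheme.Opens.ι_appIso]
  show (V.topIso.inv ≫ V.topIso.hom).hom r = r
  rw [Iso.inv_hom_id]
  rfl

/-- `Hᵖ(f⁻¹V, F) ≃ Γ(V, Rᵖ f_* F)`, linearly over `Γ(Y, V)` -/
theorem nonempty_linearEquiv_sectionsΓ [QuasiCompact f] [QuasiSeparated f]
    [IsAffine (V : Scheme.{u})] [HasInjectiveResolutions X.Modules]
    (F : X.Modules) [Coh.IsQCoh F] (p : ℕ) :
    letI := chartOverΓ f V
    Nonempty (Coh.HH (XV f V) (FV f V F) p ≃ₗ[Γ(Y, V)] Γ((Coh.Rpush f p).obj F, V)) := by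
  letI := chartOverΓ f V
  haveI := SchAdj.isGrothendieckAbelian_modules (f ⁻¹ᵁ V : Scheme.{u})
  haveI : HasInjectiveResolutions (f ⁻¹ᵁ V : Scheme.{u}).Modules := inferInstance
  haveI : Coh.IsQCoh (FV f V F) := inferInstance
  obtain ⟨ψ, hψ⟩ := Groth.Agent.Helper1.SecLin.exists_addEquiv_sections_Rpush (f ∣_ V)
    (FV f V F) p
  obtain ⟨i⟩ := Groth.Agent.Helper1.RpRestr.nonempty_iso f V p
  let j : ((Coh.Rpush f p).obj F).restrict V.ι ≅
      (Coh.Rpush (f ∣_ V) p).obj (FV f V F) := i.app F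
  let θ : Γ((Coh.Rpush (f ∣_ V) p).obj (FV f V F), ⊤) ≃+
      Γ(((Coh.Rpush f p).obj F).restrict V.ι, ⊤) :=
    (asIso (j.inv.app ⊤)).addCommGroupIsoToAddEquiv
  let τ : Γ(((Coh.Rpush f p).obj F).restrict V.ι, ⊤) ≃+ Γ((Coh.Rpush f p).obj F, V) :=
    AddEquiv.ofBijective (topToV V _) (topToV_bijective V _)
  refine ⟨{ (ψ.trans θ).trans τ with map_smul' := fun r x => ?_ }⟩
  have e : Coh.toGlobal (XV f V ↘ Spec (CommRingCat.of Γ(Y, V))) r =
      (f ∣_ V).appTop.hom (V.topIso.inv.hom r) := toGlobal_chartHomΓ f V r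
  have h := hψ (V.topIso.inv.hom r) x
  show τ (θ (ψ (Sheaf.H.map (Coh.smulAb (FV f V F)
    (Coh.toGlobal (XV f V ↘ Spec (CommRingCat.of Γ(Y, V))) r)) p x))) = r • τ (θ (ψ x))
  rw [e, h]
  have h2 : θ ((V.topIso.inv.hom r : Γ((V : Scheme.{u}), ⊤)) • (show
      Γ((Coh.Rpush (f ∣_ V) p).obj (FV f V F), ⊤) from ψ x)) =
      (V.topIso.inv.hom r : Γ((V : Scheme.{u}), ⊤)) • θ (ψ x) :=
    Scheme.Modules.Hom.app_smul j.inv _ _
  erw [h2]
  exact topToV_smul V _ r _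

end Groth.Agent.Helper1.StalkBC
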