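import Mathlib

set_option autoImplicit false
set_option linter.unusedSectionVars false

namespace Groth.Agent.Helper1.SubLoc
open CategoryTheory Limits

universe v₁ u₁ v₂ u₂ v₃ u₃

section
variable {C : Type u₁} [Category.{v₁} C] {D : Type u₂} [Category.{v₂} D] {E : Type u₃} [Category.{v₃} E]
  (L : C ⥤ D) (W : MorphismProperty C) [L.IsLocalization W]

lemma faithful_of_comp_of_hasRightCalculusOfFractions (F : D ⥤ E) [W.HasRightCalculusOfFractions]
    (h : ∀ ⦃X₁ X₂ : C⦄ (f g : X₁ ⟶ X₂), F.map (L.map f) = F.map (L.map g) → L.map f = L.map g) :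
    F.Faithful := by
  have : F.op.Faithful := by
    refine Functor.faithful_of_comp_of_hasLeftCalculusOfFractions L.op W.op F.op ?_
    intro X₁ X₂ f g hfg
    have := h f.unop g.unop (Quiver.Hom.op_inj hfg)
    exact Quiver.Hom.unop_inj this
  constructor
  intro X Y f g hfg
  have : F.op.map f.op = F.op.map g.op := by
    simp only [Functor.op_map, Quiver.Hom.unop_op, hfg]
  exact Quiver.Hom.op_inj (F.op.map_injective this)

end

section
variable {C : Type u₁} [Category.{v₁} C] (W : MorphismProperty C) [W.HasRightCalculusOfFractions]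
  (P : ObjectProperty C) (hP : ∀ X : C, ∃ (X' : C) (s : X' ⟶ X), P X' ∧ W s)

include hP in
lemma hasRightCalculusOfFractions_inverseImage :
    (W.inverseImage P.ι).HasRightCalculusOfFractions where
  exists_rightFraction {X Y} φ := by
    obtain ⟨ψ, hψ⟩ := (MorphismProperty.LeftFraction.mk (W := W) φ.f.hom φ.s.hom φ.hs).exists_rightFraction
    obtain ⟨Z', u, hZ', hu⟩ := hP ψ.X'
    refine ⟨⟨P.homMk (X := ⟨Z', hZ'⟩) (u ≫ ψ.s), W.comp_mem _ _ hu ψ.hs, P.homMk (X := ⟨Z', hZ'⟩) (u ≫ ψ.f)⟩, ?_⟩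
    ext
    dsimp at hψ ⊢
    simp only [Category.assoc, hψ]
  ext {X Y Y'} f₁ f₂ s hs h := by
    obtain ⟨Z, t, ht, fac⟩ := MorphismProperty.HasRightCalculusOfFractions.ext (W := W)
      f₁.hom f₂.hom s.hom hs (by simpa using congrArg (fun f => f.hom) h)
    obtain ⟨Z', u, hZ', hu⟩ := hP Z
    refine ⟨⟨Z', hZ'⟩, P.homMk (u ≫ t), W.comp_mem _ _ hu ht, ?_⟩
    ext
    simp [fac]


/-- the localizer morphism given by the inclusion of the full subcategory -/
@[instance_reducible]
def locMorph : LocalizerMorphism (W.inverseImage P.ι) W where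
  functor := P.ι
  map _ _ _ hf := hf

variable {D₁ : Type u₂} [Category.{v₂} D₁] {D₂ : Type u₃} [Category.{v₃} D₂]
  (L₁ : P.FullSubcategory ⥤ D₁) (L₂ : C ⥤ D₂)
  [L₁.IsLocalization (W.inverseImage P.ι)] [L₂.IsLocalization W]

include hP in
lemma full_localizedFunctor : ((locMorph W P).localizedFunctor L₁ L₂).Full := by
  let F := (locMorph W P).localizedFunctor L₁ L₂
  have : L₁.EssSurj := Localization.essSurj L₁ (W.inverseImage P.ι)
  let e : P.ι ⋙ L₂ ≅ L₁ ⋙ F := CatCommSq.iso (locMorph W P).functor L₁ L₂ F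
  refine F.full_of_comp_essSurj L₁ (fun X₁ X₂ φ ↦ ?_)
  obtain ⟨φ', hφ'⟩ : ∃ φ', φ = e.inv.app X₁ ≫ φ' ≫ e.hom.app X₂ :=
    ⟨e.hom.app X₁ ≫ φ ≫ e.inv.app X₂, by simp⟩
  obtain ⟨f, hf⟩ := Localization.exists_rightFraction L₂ W φ'
  obtain ⟨Z', u, hZ', hu⟩ := hP f.X'
  let g : (W.inverseImage P.ι).RightFraction X₁ X₂ :=
    { X' := ⟨Z', hZ'⟩
      s := P.homMk (u ≫ f.s)
      hs := W.comp_mem _ _ hu f.hs
      f := P.homMk (u ≫ f.f) }
  have := Localization.inverts L₁ _ _ g.hs
  refine ⟨g.map L₁ (Localization.inverts _ _), ?_⟩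
  rw [← cancel_epi (F.map (L₁.map g.s)), ← Functor.map_comp,
    MorphismProperty.RightFraction.map_s_comp_map]
  have h1 : F.map (L₁.map g.s) = e.inv.app _ ≫ L₂.map (u ≫ f.s) ≫ e.hom.app _ := by
    have := e.hom.naturality g.s
    dsimp at this ⊢
    rw [← Iso.app_hom, ← Iso.app_inv, Iso.eq_inv_comp]
    exact this.symm
  have h2 : F.map (L₁.map g.f) = e.inv.app _ ≫ L₂.map (u ≫ f.f) ≫ e.hom.app _ := by
    have := e.hom.naturality g.f
    dsimp at this ⊢
    rw [← Iso.app_hom, ← Iso.app_inv, Iso.eq_inv_comp]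
    exact this.symm
  rw [h1, h2, hφ', hf]
  simp only [Category.assoc, Iso.hom_inv_id_app_assoc, Functor.map_comp]
  congr 2
  rw [← Category.assoc (L₂.map f.s), MorphismProperty.RightFraction.map_s_comp_map]

include hP in
lemma faithful_localizedFunctor : ((locMorph W P).localizedFunctor L₁ L₂).Faithful := by
  let F := (locMorph W P).localizedFunctor L₁ L₂
  let e : P.ι ⋙ L₂ ≅ L₁ ⋙ F := CatCommSq.iso (locMorph W P).functor L₁ L₂ F
  have := hasRightCalculusOfFractions_inverseImage W P hP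
  refine faithful_of_comp_of_hasRightCalculusOfFractions L₁ (W.inverseImage P.ι) F ?_
  intro X₁ X₂ f g hfg
  have hfg' : L₂.map f.hom = L₂.map g.hom := by
    have h1 := e.hom.naturality f
    have h2 := e.hom.naturality g
    dsimp at h1 h2
    rw [← cancel_mono (e.hom.app X₂)]
    refine h1.trans (Eq.trans ?_ h2.symm)
    rw [hfg]
  rw [MorphismProperty.map_eq_iff_precomp L₂ W] at hfg'
  obtain ⟨Z, s, hs, fac⟩ := hfg'
  obtain ⟨Z', u, hZ', hu⟩ := hP Z
  let t : (⟨Z', hZ'⟩ : P.FullSubcategory) ⟶ X₁ := P.homMk (u ≫ s)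
  have := Localization.inverts L₁ (W.inverseImage P.ι) t (W.comp_mem _ _ hu hs)
  rw [← cancel_epi (L₁.map t), ← L₁.map_comp, ← L₁.map_comp]
  congr 1
  ext
  simp [t, fac]

include hP in
lemma essSurj_localizedFunctor : ((locMorph W P).localizedFunctor L₁ L₂).EssSurj := by
  let F := (locMorph W P).localizedFunctor L₁ L₂
  let e : P.ι ⋙ L₂ ≅ L₁ ⋙ F := CatCommSq.iso (locMorph W P).functor L₁ L₂ F
  have : L₂.EssSurj := Localization.essSurj L₂ W
  constructor
  intro Y
  obtain ⟨X', u, hX', hu⟩ := hP (L₂.objPreimage Y)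
  have := Localization.inverts L₂ W u hu
  exact ⟨L₁.obj ⟨X', hX'⟩, ⟨(e.app ⟨X', hX'⟩).symm ≪≫ asIso (L₂.map u) ≪≫ L₂.objObjPreimageIso Y⟩⟩

include hP in
theorem isLocalizedEquivalence : (locMorph W P).IsLocalizedEquivalence := by
  have := full_localizedFunctor W P hP (W.inverseImage P.ι).Q W.Q
  have := faithful_localizedFunctor W P hP (W.inverseImage P.ι).Q W.Q
  have := essSurj_localizedFunctor W P hP (W.inverseImage P.ι).Q W.Q
  have : ((locMorph W P).localizedFunctor (W.inverseImage P.ι).Q W.Q).IsEquivalence := { }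
  exact LocalizerMorphism.IsLocalizedEquivalence.mk' (locMorph W P) (W.inverseImage P.ι).Q W.Q
    ((locMorph W P).localizedFunctor (W.inverseImage P.ι).Q W.Q)

include hP in
theorem isLocalization_ι_comp : (P.ι ⋙ L₂).IsLocalization (W.inverseImage P.ι) := by
  have := isLocalizedEquivalence W P hP
  exact LocalizerMorphism.IsLocalizedEquivalence.isLocalization (locMorph W P) L₂

end

end Groth.Agent.Helper1.SubLoc
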