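import Mathlib

/-!
# Saturated ideals under flat base change (towards symbolic powers)
-/

open scoped TensorProduct

namespace Groth.Agent.Helper1.SymbPow

variable {R S : Type*} [CommRing R] [CommRing S] [Algebra R S]

theorem mem_map_iff (J : Ideal R) (y : S) :
    y ∈ J.map (algebraMap R S) ↔ y ∈ (J • ⊤ : Submodule R S) := by
  rw [Ideal.smul_top_eq_map]; rfl

/-- Elements of `JS` are finite sums `∑ β_l • w_l` with `β_l ∈ J`. -/
theorem exists_rep (J : Ideal R) (y : S) (hy : y ∈ J.map (algebraMap R S)) :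
    ∃ (m : ℕ) (β : Fin m → R) (w : Fin m → S), (∀ l, β l ∈ J) ∧ y = ∑ l, β l • w l := by
  rw [mem_map_iff] at hy
  refine Submodule.smul_induction_on hy ?_ ?_
  · intro r hr n _
    exact ⟨1, fun _ => r, fun _ => n, fun _ => hr, by simp⟩
  · rintro x y ⟨m₁, β₁, w₁, h₁, rfl⟩ ⟨m₂, β₂, w₂, h₂, rfl⟩
    refine ⟨m₁ + m₂, Fin.append β₁ β₂, Fin.append w₁ w₂, ?_, ?_⟩
    · intro l
      induction l using Fin.addCases with
      | left i => rw [Fin.append_left]; exact h₁ i
      | right i => rw [Fin.append_right]; exact h₂ i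
    · rw [Fin.sum_univ_add]
      simp only [Fin.append_left, Fin.append_right]

theorem sum_smul_mem (J : Ideal R) {m : ℕ} (β : Fin m → R) (w : Fin m → S) (h : ∀ l, β l ∈ J) :
    ∑ l, β l • w l ∈ J.map (algebraMap R S) := by
  refine Ideal.sum_mem _ fun l _ => ?_
  rw [Algebra.smul_def]
  exact Ideal.mul_mem_right _ _ (Ideal.mem_map_of_mem _ (h l))

/-- Flatness: if `t` is a nonzerodivisor modulo `J` then its image is a nonzerodivisor modulo `JS`. -/
theorem flat_regular [Module.Flat R S] (J : Ideal R) (t : R) (ht : ∀ x, t * x ∈ J → x ∈ J)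
    (y : S) (hy : algebraMap R S t * y ∈ J.map (algebraMap R S)) : y ∈ J.map (algebraMap R S) := by
  have h1 : IsSMulRegular (R ⧸ J) t := by
    rw [isSMulRegular_quotient_iff_mem_of_smul_mem]
    intro x hx
    exact ht x hx
  have h2 : IsSMulRegular (S ⊗[R] (R ⧸ J)) t := IsSMulRegular.lTensor (M := S) h1
  have h3 : IsSMulRegular (S ⧸ (J • ⊤ : Submodule R S)) t :=
    ((TensorProduct.tensorQuotEquivQuotSMul S J).isSMulRegular_congr t).mp h2
  rw [isSMulRegular_quotient_iff_mem_of_smul_mem] at h3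
  rw [mem_map_iff] at hy ⊢
  apply h3
  rw [Algebra.smul_def t y]
  exact hy

/-- Flatness: a relation `∑ α_i z_i ∈ JS` with the `α_i` independent modulo `(J, p)` forces
`z_i ∈ pS`. -/
theorem mem_of_independent [Module.Flat R S] (J p : Ideal R) {d : ℕ} (α : Fin d → R)
    (hind : ∀ c : Fin d → R, ∑ i, c i * α i ∈ J → ∀ i, c i ∈ p)
    (z : Fin d → S) (hz : ∑ i, α i • z i ∈ J.map (algebraMap R S)) (i : Fin d) :
    z i ∈ p.map (algebraMap R S) := by
  obtain ⟨m, β, w, hβ, hsum⟩ := exists_rep J _ hz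
  have hrel : ∑ k : Fin d ⊕ Fin m, (Sum.elim α (fun l => - β l) k) • (Sum.elim z w k) = 0 := by
    rw [Fintype.sum_sum_type]
    simp only [Sum.elim_inl, Sum.elim_inr, neg_smul, Finset.sum_neg_distrib]
    rw [hsum, add_neg_cancel]
  obtain ⟨k, A, v, hx, hA⟩ := Module.Flat.isTrivialRelation_of_sum_smul_eq_zero (R := R) (M := S)
    (f := Sum.elim α (fun l => - β l)) (x := Sum.elim z w) hrel
  have hAp : ∀ j i, A (Sum.inl i) j ∈ p := by
    intro j
    apply hind
    have h1 := hA j
    rw [Fintype.sum_sum_type] at h1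
    simp only [Sum.elim_inl, Sum.elim_inr, neg_mul, Finset.sum_neg_distrib] at h1
    have h2 : ∑ i, A (Sum.inl i) j * α i = ∑ l, β l * A (Sum.inr l) j := by
      rw [← sub_eq_zero, ← h1, sub_eq_add_neg]
      congr 1
      exact Finset.sum_congr rfl fun i _ => mul_comm _ _
    rw [h2]
    exact Ideal.sum_mem _ fun l _ => Ideal.mul_mem_right _ _ (hβ l)
  have h3 := hx (Sum.inl i)
  rw [Sum.elim_inl] at h3
  rw [h3]
  exact sum_smul_mem p _ _ (fun j => hAp j i)

theorem exists_smul_mem [Module.Flat R S] (J J' p : Ideal R) [p.IsPrime]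
    (hq : (p.map (algebraMap R S)).IsPrime)
    (hJ' : ∀ x ∈ J', ∀ c ∈ p, x * c ∈ J) :
    ∀ (d : ℕ) (α : Fin d → R) (z : Fin d → S) (s : S), (∀ i, α i ∈ J') →
      s ∉ p.map (algebraMap R S) →
      s * ∑ i, α i • z i ∈ J.map (algebraMap R S) →
      ∃ t, t ∉ p ∧ algebraMap R S t * ∑ i, α i • z i ∈ J.map (algebraMap R S) := by
  intro d
  induction d with
  | zero =>
    intro α z s _ _ _
    exact ⟨1, fun h => (Ideal.IsPrime.ne_top inferInstance) ((Ideal.eq_top_iff_one p).mpr h),
      by simp⟩
  | succ d ih =>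
    intro α z s hα hs hsum
    by_cases hind : ∀ c : Fin (d + 1) → R, ∑ i, c i * α i ∈ J → ∀ i, c i ∈ p
    · -- independent case
      refine ⟨1, fun h => (Ideal.IsPrime.ne_top inferInstance) ((Ideal.eq_top_iff_one p).mpr h), ?_⟩
      rw [map_one, one_mul]
      have h1 : ∑ i, α i • (s * z i) ∈ J.map (algebraMap R S) := by
        have : ∑ i, α i • (s * z i) = s * ∑ i, α i • z i := by
          rw [Finset.mul_sum]
          exact Finset.sum_congr rfl fun i _ => by rw [Algebra.smul_def, Algebra.smul_def]; ring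
        rw [this]; exact hsum
      refine Ideal.sum_mem _ fun i _ => ?_
      have h2 := mem_of_independent J p α hind _ h1 i
      have h3 : z i ∈ p.map (algebraMap R S) := (hq.mem_or_mem h2).resolve_left hs
      have h4 : algebraMap R S (α i) * z i ∈ (J' * p).map (algebraMap R S) := by
        rw [Ideal.map_mul]
        exact Ideal.mul_mem_mul (Ideal.mem_map_of_mem _ (hα i)) h3
      rw [Algebra.smul_def]
      refine Ideal.map_mono ?_ h4
      rw [Ideal.mul_le]
      exact hJ'
    · -- dependent case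
      push Not at hind
      obtain ⟨c, hc, i0, hi0⟩ := hind
      set y := ∑ i, α i • z i with hy
      set ρ := ∑ i, c i * α i with hρ
      let z' : Fin d → S := fun j => c i0 • z (i0.succAbove j) - c (i0.succAbove j) • z i0
      let α' : Fin d → R := fun j => α (i0.succAbove j)
      have hid : algebraMap R S (c i0) * y = ∑ j, α' j • z' j + algebraMap R S ρ * z i0 := by
        rw [hy, hρ, Fin.sum_univ_succAbove _ i0, map_sum, Fin.sum_univ_succAbove _ i0]
        have e1 : ∑ j, α' j • z' j = algebraMap R S (c i0) * ∑ j, α (i0.succAbove j) • z (i0.succAbove j)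
            - (∑ j, algebraMap R S (c (i0.succAbove j) * α (i0.succAbove j))) * z i0 := by
          rw [Finset.mul_sum, Finset.sum_mul, ← Finset.sum_sub_distrib]
          refine Finset.sum_congr rfl fun j _ => ?_
          simp only [α', z', Algebra.smul_def, map_mul]
          ring
        rw [e1, Algebra.smul_def, map_mul]
        ring
      have hρS : algebraMap R S ρ ∈ J.map (algebraMap R S) := Ideal.mem_map_of_mem _ hc
      have hw : s * ∑ j, α' j • z' j ∈ J.map (algebraMap R S) := by
        have : s * ∑ j, α' j • z' j = algebraMap R S (c i0) * (s * y) - s * z i0 * algebraMap R S ρ := by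
          have := hid
          linear_combination (-s) * this
        rw [this]
        exact Ideal.sub_mem _ (Ideal.mul_mem_left _ _ hsum) (Ideal.mul_mem_left _ _ hρS)
      obtain ⟨t', ht', hmem⟩ := ih α' z' s (fun j => hα _) hs hw
      refine ⟨t' * c i0, fun h => (Ideal.IsPrime.mem_or_mem inferInstance h).elim ht' hi0, ?_⟩
      have : algebraMap R S (t' * c i0) * y =
          algebraMap R S t' * ∑ j, α' j • z' j + algebraMap R S t' * z i0 * algebraMap R S ρ := by
        rw [map_mul, mul_assoc, hid]; ring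
      rw [this]
      exact Ideal.add_mem _ hmem (Ideal.mul_mem_left _ _ hρS)

/-- If `J` is `p`-saturated and contains a power of `p`, then `JS` is `pS`-saturated
(`R → S` flat, `pS` prime). -/
theorem saturated_map [Module.Flat R S] (p : Ideal R) [p.IsPrime]
    (hq : (p.map (algebraMap R S)).IsPrime) :
    ∀ (n : ℕ) (J : Ideal R), p ^ n ≤ J → (∀ t, t ∉ p → ∀ x, t * x ∈ J → x ∈ J) →
    ∀ s, s ∉ p.map (algebraMap R S) → ∀ y, s * y ∈ J.map (algebraMap R S) →
      y ∈ J.map (algebraMap R S) := by
  intro n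
  induction n with
  | zero =>
    intro J hJ _ s _ y _
    rw [pow_zero, Ideal.one_eq_top, top_le_iff] at hJ
    rw [hJ, Ideal.map_top]; trivial
  | succ n ih =>
    intro J hJ hsat s hs y hy
    let J' : Ideal R := (J : Submodule R R).colon (p : Set R)
    have hJ'mem : ∀ x, x ∈ J' ↔ ∀ c ∈ p, x * c ∈ J := fun x => Submodule.mem_colon
    have hJJ' : J ≤ J' := fun x hx => (hJ'mem x).mpr fun c _ => Ideal.mul_mem_right _ _ hx
    have hpJ' : p ^ n ≤ J' := by
      intro x hx
      rw [hJ'mem]
      intro c hc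
      apply hJ
      rw [pow_succ]
      exact Ideal.mul_mem_mul hx hc
    have hsat' : ∀ t, t ∉ p → ∀ x, t * x ∈ J' → x ∈ J' := by
      intro t ht x hx
      rw [hJ'mem] at hx ⊢
      intro c hc
      apply hsat t ht
      rw [← mul_assoc]
      exact hx c hc
    have hyJ' : y ∈ J'.map (algebraMap R S) :=
      ih J' hpJ' hsat' s hs y (Ideal.map_mono hJJ' hy)
    obtain ⟨d, α, z, hα, rfl⟩ := exists_rep J' y hyJ'
    obtain ⟨t, ht, hmem⟩ := exists_smul_mem J J' p hq (fun x hx => (hJ'mem x).mp hx) d α z s hα hs hy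
    exact flat_regular J t (hsat t ht) _ hmem

end Groth.Agent.Helper1.SymbPow
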