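import Mathlib
import Groth.Agent.Helper1.FlatCxCorep2
import Groth.Agent.Helper3.ML

set_option autoImplicit false

/-!
# `T_q = H_q(P ⊗ -)` commutes with products when `Z'_q` and `P_{q-1}` are finitely presented
-/

namespace Groth.Agent.Helper1.TFunProd

open CategoryTheory CategoryTheory.Limits MonoidalCategory TensorProduct Opposite

universe u

variable {A : Type u} [CommRing A]

section general

/-- a fan in `ModuleCat` whose comparison map to the concrete product is bijective is a limit -/
noncomputable def isLimitFanOfBijective {J : Type u} (Z : J → ModuleCat.{u} A) (c : Fan Z)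
    (h : Function.Bijective (LinearMap.pi fun α => (c.proj α).hom : c.pt →ₗ[A] ∀ α, Z α)) :
    IsLimit c := by
  let E : c.pt ≃ₗ[A] ∀ α, Z α := LinearEquiv.ofBijective _ h
  refine mkFanLimit c
    (fun s => ModuleCat.ofHom (E.symm.toLinearMap.comp (LinearMap.pi fun α => (s.proj α).hom)))
    ?_ ?_
  · intro s α
    ext x
    show (c.proj α).hom (E.symm (fun β => (s.proj β).hom x)) = (s.proj α).hom x
    have : E (E.symm (fun β => (s.proj β).hom x)) = fun β => (s.proj β).hom x :=
      E.apply_symm_apply _
    exact congrFun this α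
  · intro s m hm
    ext x
    show m.hom x = E.symm (fun β => (s.proj β).hom x)
    rw [LinearEquiv.eq_symm_apply]
    funext β
    have := congrArg (fun k => ModuleCat.Hom.hom k x) (hm β)
    exact this

/-- a functor commuting with concrete products preserves products -/
theorem preservesProducts_of_bijective (T : ModuleCat.{u} A ⥤ ModuleCat.{u} A) (J : Type u)
    (h : ∀ Z : J → ModuleCat.{u} A, Function.Bijective
      (LinearMap.pi fun α => (T.map (ModuleCat.ofHom
        (LinearMap.proj α : (∀ α, Z α) →ₗ[A] Z α))).hom :
        T.obj (ModuleCat.of A (∀ α, Z α)) →ₗ[A] ∀ α, T.obj (Z α))) :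
    PreservesLimitsOfShape (Discrete J) T := by
  constructor
  intro K
  let Z : J → ModuleCat.{u} A := fun j => K.obj ⟨j⟩
  have h1 : PreservesLimit (Discrete.functor Z) T := by
    apply preservesLimit_of_preserves_limit_cone (ModuleCat.productConeIsLimit Z)
    apply (isLimitMapConeFanMkEquiv T Z _).symm _
    exact isLimitFanOfBijective _ _ (h Z)
  haveI : PreservesLimit (Discrete.functor (K.obj ∘ Discrete.mk)) T := h1
  exact preservesLimit_of_iso_diagram T (Discrete.natIsoFunctor (F := K)).symm

end general

section TFun

variable {ι : Type} {c : ComplexShape ι} (P : HomologicalComplex (ModuleCat.{u} A) c) (q j : ι)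
  (hj : c.next q = j)

lemma piRightHom_apply (W : Type u) [AddCommGroup W] [Module A W] {J : Type u} (M : J → Type u)
    [∀ α, AddCommGroup (M α)] [∀ α, Module A (M α)] (z : W ⊗[A] (∀ α, M α)) (α : J) :
    TensorProduct.piRightHom A A W M z α =
      (LinearMap.proj α : (∀ α, M α) →ₗ[A] M α).lTensor W z := by
  induction z using TensorProduct.induction_on with
  | zero => simp
  | tmul w m => rfl
  | add x y hx hy => rw [map_add, map_add, Pi.add_apply, hx, hy]

variable [Module.FinitePresentation A (P.opcycles q)] [Module.FinitePresentation A (P.X j)]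

include hj in
theorem prodMap_bijective {J : Type u} (M : J → ModuleCat.{u} A) :
    Function.Bijective
      (LinearMap.pi fun α => ((CohIII.TFun P q).map (ModuleCat.ofHom
        (LinearMap.proj α : (∀ α, M α) →ₗ[A] M α))).hom :
        (CohIII.TFun P q).obj (ModuleCat.of A (∀ α, M α)) →ₗ[A] ∀ α, (CohIII.TFun P q).obj (M α)) := by
  let PiM : ModuleCat.{u} A := ModuleCat.of A (∀ α, M α)
  let π : ∀ α, PiM ⟶ M α := fun α => ModuleCat.ofHom (LinearMap.proj α)
  have hcW := Groth.Agent.Helper3.piRightHom_bijective_of_finitePresentation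
    (R := A) (fun α => (M α : Type u)) (P.opcycles q)
  have hcN := Groth.Agent.Helper3.piRightHom_bijective_of_finitePresentation
    (R := A) (fun α => (M α : Type u)) (P.X j)
  -- naturality of `phi`
  have hnat : ∀ (α : J) (t : (CohIII.TFun P q).obj PiM),
      (FlatCx.phi P q (M α)).hom (((CohIII.TFun P q).map (π α)).hom t) =
        TensorProduct.piRightHom A A (P.opcycles q) (fun α => (M α : Type u))
          ((FlatCx.phi P q PiM).hom t) α := by
    intro α t
    rw [piRightHom_apply]
    exact FlatCx.comp_apply_eq (FlatCx.phi_naturality P q (π α)) t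
  have hphi : ∀ N : ModuleCat.{u} A, Function.Injective (FlatCx.phi P q N).hom :=
    fun N => Corep.phiNat_injective P q N
  constructor
  · intro t t' h
    apply hphi PiM
    apply hcW.1
    funext α
    rw [← hnat, ← hnat]
    exact congrArg (FlatCx.phi P q (M α)).hom (congrFun h α)
  · intro s
    obtain ⟨w, hw⟩ := hcW.2 (fun α => (FlatCx.phi P q (M α)).hom (s α))
    have hw0 : (P.fromOpcycles q j ▷ PiM).hom w = 0 := by
      apply hcN.1
      rw [map_zero]
      have h1 := Groth.Agent.Helper3.piRightHom_rTensor (R := A) (fun α => (M α : Type u))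
        (P.fromOpcycles q j).hom w
      refine h1.trans ?_
      funext α
      rw [hw]
      exact FlatCx.comp_apply_eq₁ (FlatCx.phi_fromOpcycles P q j (M α)) (s α)
    obtain ⟨t, ht⟩ := FlatCx.exists_phi_eq P q j hj PiM w hw0
    refine ⟨t, ?_⟩
    funext α
    apply hphi (M α)
    show (FlatCx.phi P q (M α)).hom (((CohIII.TFun P q).map (π α)).hom t) = _
    rw [hnat, ht, hw]

end TFun

end Groth.Agent.Helper1.TFunProd
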