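import Mathlib
import Groth.Prelude.Def_RelProj3
import Groth.Agent.Helper1.TR9

/-!
# Exactness of `ℳ ↦ ℳ(n)~` on a relative Proj
-/

set_option autoImplicit false
set_option linter.style.haveILetI false

namespace Groth.Agent.Helper1.TRR

open CategoryTheory CategoryTheory.Limits AlgebraicGeometry TopologicalSpace Opposite RelProj
open scoped HomogeneousIdeal

universe u

variable {Y P : Scheme.{u}} {𝒮 : QCGrAlg Y} {p : P ⟶ Y}
  {chart : ∀ (U : Y.Opens) (hU : IsAffineOpen U),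
    (((p ⁻¹ᵁ U : P.Opens) : Scheme.{u}) ≅ Proj (𝒮.deg U hU))}

variable {ℳ₁ ℳ₂ ℳ₃ : GrModule 𝒮} {n : ℤ} {F₁ F₂ F₃ : P.Modules}
  {lam₁ : ∀ (U : Y.Opens) (hU : IsAffineOpen U),
    F₁ ⟶ (Scheme.Modules.pushforward (emb p chart U hU)).obj
      (GrMod.tilde (𝒮.deg U hU) (ℳ₁.deg U hU) n)}
  {lam₂ : ∀ (U : Y.Opens) (hU : IsAffineOpen U),
    F₂ ⟶ (Scheme.Modules.pushforward (emb p chart U hU)).obj
      (GrMod.tilde (𝒮.deg U hU) (ℳ₂.deg U hU) n)}
  {lam₃ : ∀ (U : Y.Opens) (hU : IsAffineOpen U),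
    F₃ ⟶ (Scheme.Modules.pushforward (emb p chart U hU)).obj
      (GrMod.tilde (𝒮.deg U hU) (ℳ₃.deg U hU) n)}
  (hF₁ : IsRelTilde 𝒮 p chart ℳ₁ n F₁ lam₁) (hF₂ : IsRelTilde 𝒮 p chart ℳ₂ n F₂ lam₂)
  (hF₃ : IsRelTilde 𝒮 p chart ℳ₃ n F₃ lam₃)
  (u : ℳ₁.mod ⟶ ℳ₂.mod) (hu : IsGrModHom u) (v : ℳ₂.mod ⟶ ℳ₃.mod) (hv : IsGrModHom v)
  (ut : F₁ ⟶ F₂) (vt : F₂ ⟶ F₃)

include hF₁ hF₂ hF₃ in
/-- **exactness of `ℳ ↦ ℳ(n)~` on a relative Proj** -/
theorem exact_of_exact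
    (hex : ∀ (U : Y.Opens) (_ : IsAffineOpen U),
      Function.Exact (u.val.app (op U)).hom (v.val.app (op U)).hom)
    (hut : ∀ (U : Y.Opens) (hU : IsAffineOpen U),
      ut ≫ lam₂ U hU = lam₁ U hU ≫ (Scheme.Modules.pushforward (emb p chart U hU)).map
        (GrMod.map (𝒮.deg U hU) (uAt u U) (hu U hU) n))
    (hvt : ∀ (U : Y.Opens) (hU : IsAffineOpen U),
      vt ≫ lam₃ U hU = lam₂ U hU ≫ (Scheme.Modules.pushforward (emb p chart U hU)).map
        (GrMod.map (𝒮.deg U hU) (uAt v U) (hv U hU) n))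
    (w : ut ≫ vt = 0) : (ShortComplex.mk ut vt w).Exact := by
  apply TR.exact_of_restrict
  intro x
  obtain ⟨U, hU, hx⟩ := exists_chart (chart := chart) x
  refine ⟨_, emb p chart U hU, inferInstance, hx, ?_⟩
  have hsq₁ := chart_square hF₁ hF₂ u hu ut hut U hU
  have hsq₂ := chart_square hF₂ hF₃ v hv vt hvt U hU
  set R := Scheme.Modules.restrictFunctor (emb p chart U hU) with hR
  set a := GrMod.map (𝒮.deg U hU) (uAt u U) (hu U hU) n with ha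
  set b := GrMod.map (𝒮.deg U hU) (uAt v U) (hv U hU) n with hb
  have wab : a ≫ b = 0 := by
    have h1 : (tildeChartIso hF₁ U hU).hom ≫ a ≫ b = 0 := by
      rw [← Category.assoc, ← hsq₁, Category.assoc, ← hsq₂, ← Category.assoc, ← Functor.map_comp,
        w, Functor.map_zero, zero_comp]
    exact (cancel_epi (tildeChartIso hF₁ U hU).hom).1 (h1.trans comp_zero.symm)
  have hE : (ShortComplex.mk a b wab).Exact :=
    GM.exact_map (𝒮.deg U hU) (uAt u U) (hu U hU) (uAt v U) (hv U hU) n (hex U hU) wab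
  refine ShortComplex.exact_of_iso ?_ hE
  refine (ShortComplex.isoMk (tildeChartIso hF₁ U hU) (tildeChartIso hF₂ U hU)
    (tildeChartIso hF₃ U hU) ?_ ?_).symm
  · exact hsq₁.symm
  · exact hsq₂.symm

end Groth.Agent.Helper1.TRR
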