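import Mathlib
import Groth.Prelude.Def_RelProj3
import Groth.Agent.Helper1.TR12

/-!
# Uniqueness of `ℳ(n)~` on a relative Proj
-/

set_option autoImplicit false
set_option linter.style.haveILetI false

namespace Groth.Agent.Helper1.TRG

open CategoryTheory CategoryTheory.Limits AlgebraicGeometry TopologicalSpace Opposite RelProj
open scoped HomogeneousIdeal

universe u

section alg

variable {A σ : Type u} [CommRing A] [SetLike σ A] [AddSubgroupClass σ A] (𝒜 : ℕ → σ) [GradedRing 𝒜]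
variable {M τ : Type u} [AddCommGroup M] [Module A M] [SetLike τ M] [AddSubgroupClass τ M] (ℳ : ℕ → τ)
  [SetLike.GradedSMul 𝒜 ℳ]

theorem map_id (n : ℤ) (h : ∀ (i : ℕ) (m : M), m ∈ ℳ i → (LinearMap.id : M →ₗ[A] M) m ∈ ℳ i) :
    GrMod.map 𝒜 (LinearMap.id : M →ₗ[A] M) h n = 𝟙 (GrMod.tilde 𝒜 ℳ n) := by
  apply Scheme.Modules.hom_ext
  intro V
  ext s
  apply GM.sect_ext
  intro y
  rw [GrMod.map_app_val]
  have key : ∀ q : GrMod.LocMod 𝒜 (M := M) y.1,
      GrMod.locMap (LinearMap.id : M →ₗ[A] M) y.1 q = q := by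
    intro q
    induction q using LocalizedModule.induction_on with
    | h m t => rw [GrMod.locMap_mk]; rfl
  exact key _

end alg

variable {Y P : Scheme.{u}} {𝒮 : QCGrAlg Y} {p : P ⟶ Y}
  {chart : ∀ (U : Y.Opens) (hU : IsAffineOpen U),
    (((p ⁻¹ᵁ U : P.Opens) : Scheme.{u}) ≅ Proj (𝒮.deg U hU))}

variable {ℳ : GrModule 𝒮} {n : ℤ} {F F' : P.Modules}
  {lam : ∀ (U : Y.Opens) (hU : IsAffineOpen U),
    F ⟶ (Scheme.Modules.pushforward (emb p chart U hU)).obj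
      (GrMod.tilde (𝒮.deg U hU) (ℳ.deg U hU) n)}
  {lam' : ∀ (U : Y.Opens) (hU : IsAffineOpen U),
    F' ⟶ (Scheme.Modules.pushforward (emb p chart U hU)).obj
      (GrMod.tilde (𝒮.deg U hU) (ℳ.deg U hU) n)}

lemma isGrModHom_id : IsGrModHom (𝟙 ℳ.mod) := fun _ _ _ _ hm => hm

/-- existence and uniqueness of the comparison between two realizations of `ℳ(n)~` -/
theorem existsUnique_comparison (hP : IsRelProj 𝒮 p chart)
    (hF : IsRelTilde 𝒮 p chart ℳ n F lam) (hF' : IsRelTilde 𝒮 p chart ℳ n F' lam') :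
    ∃! φ : F ⟶ F', ∀ (U : Y.Opens) (hU : IsAffineOpen U), φ ≫ lam' U hU = lam U hU := by
  have key : ∀ (U : Y.Opens) (hU : IsAffineOpen U),
      lam U hU ≫ (Scheme.Modules.pushforward (emb p chart U hU)).map
        (GrMod.map (𝒮.deg U hU) (TRR.uAt (𝟙 ℳ.mod) U) (isGrModHom_id U hU) n) = lam U hU := by
    intro U hU
    have : GrMod.map (𝒮.deg U hU) (TRR.uAt (𝟙 ℳ.mod) U) (isGrModHom_id U hU) n = 𝟙 _ :=
      map_id (𝒮.deg U hU) (ℳ.deg U hU) n _
    rw [this, CategoryTheory.Functor.map_id, Category.comp_id]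
  have h := existsUnique_map hP hF hF' (𝟙 ℳ.mod) isGrModHom_id
  simp only [key] at h
  exact h

/-- **uniqueness of `ℳ(n)~` up to unique isomorphism** -/
theorem unique_iso (hP : IsRelProj 𝒮 p chart)
    (hF : IsRelTilde 𝒮 p chart ℳ n F lam) (hF' : IsRelTilde 𝒮 p chart ℳ n F' lam') :
    (∃! φ : F ⟶ F', ∀ (U : Y.Opens) (hU : IsAffineOpen U), φ ≫ lam' U hU = lam U hU) ∧
      ∀ φ : F ⟶ F', (∀ (U : Y.Opens) (hU : IsAffineOpen U), φ ≫ lam' U hU = lam U hU) →
        IsIso φ := by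
  refine ⟨existsUnique_comparison hP hF hF', fun φ hφ => ?_⟩
  obtain ⟨ψ, hψ, -⟩ := existsUnique_comparison hP hF' hF
  obtain ⟨α, -, hα⟩ := existsUnique_comparison hP hF hF
  obtain ⟨β, -, hβ⟩ := existsUnique_comparison hP hF' hF'
  refine ⟨ψ, ?_, ?_⟩
  · rw [hα (φ ≫ ψ) (fun U hU => by rw [Category.assoc, hψ, hφ]),
      hα (𝟙 F) (fun U hU => Category.id_comp _)]
  · rw [hβ (ψ ≫ φ) (fun U hU => by rw [Category.assoc, hφ, hψ]),
      hβ (𝟙 F') (fun U hU => Category.id_comp _)]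

end Groth.Agent.Helper1.TRG
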