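import Mathlib
import Groth.Prelude.Def_RelProj3
import Groth.Agent.Helper1.TR7
import Groth.Agent.Helper1.TR8
import Groth.Agent.Helper1.GrT5
import Groth.Agent.Helper1.RP11

/-!
# (TF) and `M~ = 0` imply (TN)
-/

set_option autoImplicit false
set_option linter.style.haveILetI false

namespace Groth.Agent.Helper1.TRT

open CategoryTheory CategoryTheory.Limits AlgebraicGeometry TopologicalSpace Opposite
open Groth.Agent.Helper1.TRZ
open scoped HomogeneousIdeal

universe u

attribute [local instance] ULift.algebra'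

lemma isZero_restrict {X Z : Scheme.{u}} (j : Z ⟶ X) [IsOpenImmersion j] {G : X.Modules}
    (h : IsZero G) : IsZero (G.restrict j) :=
  isZero_of_sections_eq_zero fun V s => section_eq_zero_of_isZero h (j ''ᵁ V) s

section ring

variable {A : Type u} [CommRing A] (𝒜 : ℕ → AddSubgroup A) [GradedRing 𝒜]
variable {M τ : Type u} [AddCommGroup M] [Module A M] [SetLike τ M] [AddSubgroupClass τ M] (ℳ : ℕ → τ)
  [SetLike.GradedSMul 𝒜 ℳ] [DirectSum.Decomposition ℳ]

/-- the homogeneous components of `a • x`, `x` homogeneous -/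
lemma decompose_smul_of_mem {e : ℕ} {x : M} (hx : x ∈ ℳ e) (a : A) (d : ℕ) :
    ((DirectSum.decompose ℳ (a • x)) (d + e) : M) = ((DirectSum.decompose 𝒜 a d : A)) • x := by
  classical
  have hmem : ∀ d, ((DirectSum.decompose 𝒜 a d : A)) • x ∈ ℳ (d + e) := fun d =>
    SetLike.GradedSMul.smul_mem (DirectSum.decompose 𝒜 a d).2 hx
  have h1 : a • x = ∑ d ∈ (DirectSum.decompose 𝒜 a).support,
      ((DirectSum.decompose 𝒜 a d : A)) • x := by
    conv_lhs => rw [← DirectSum.sum_support_decompose 𝒜 a]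
    rw [Finset.sum_smul]
  rw [h1, DirectSum.decompose_sum, DFinsupp.finsetSum_apply, AddSubmonoidClass.coe_finsetSum]
  by_cases hd : d ∈ (DirectSum.decompose 𝒜 a).support
  · rw [Finset.sum_eq_single d]
    · exact DirectSum.decompose_of_mem_same ℳ (hmem d)
    · intro d' _ hne
      exact DirectSum.decompose_of_mem_ne ℳ (hmem d') (by omega)
    · intro h; exact absurd hd h
  · have : (DirectSum.decompose 𝒜 a d : A) = 0 := by
      rw [DFinsupp.notMem_support_iff] at hd
      rw [hd]; rfl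
    rw [this, zero_smul]
    refine Finset.sum_eq_zero fun d' hd' => ?_
    exact DirectSum.decompose_of_mem_ne ℳ (hmem d') (by
      intro h
      have : d' = d := by omega
      exact hd (this ▸ hd'))

variable (hgen : Subring.closure ((𝒜 0 : Set A) ∪ (𝒜 1 : Set A)) = ⊤)

include hgen in
/-- for a ring generated in degree one, `S_d ⊆ (S₊)^d` -/
lemma mem_irrelevant_pow (d : ℕ) (hd : 1 ≤ d) : ∀ x ∈ 𝒜 d, x ∈ (𝒜₊).toIdeal ^ d := by
  induction d, hd using Nat.le_induction with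
  | base =>
    intro x hx
    rw [pow_one]
    exact HomogeneousIdeal.mem_irrelevant_of_mem 𝒜 Nat.one_pos hx
  | succ k hk ih =>
    intro x hx
    have hxI : x ∈ Ideal.span (𝒜 1 : Set A) :=
      RP.irrelevant_le_span_one hgen
        (HomogeneousIdeal.mem_irrelevant_of_mem _ (Nat.succ_pos k) hx)
    obtain ⟨n, a, g, hsum⟩ := Submodule.mem_span_set'.1 hxI
    have hx' : x = ∑ i, ((DirectSum.decompose 𝒜 (a i)) k : A) * (g i : A) := by
      have h2 : ((DirectSum.decompose 𝒜 x) (k + 1) : A) = x :=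
        DirectSum.decompose_of_mem_same 𝒜 hx
      rw [← h2, ← hsum, DirectSum.decompose_sum, DFinsupp.finset_sum_apply,
        AddSubmonoidClass.coe_finset_sum]
      refine Finset.sum_congr rfl fun i _ => ?_
      rw [smul_eq_mul]
      exact DirectSum.coe_decompose_mul_add_of_right_mem 𝒜 (g i).2
    rw [hx', pow_succ]
    refine Ideal.sum_mem _ fun i _ => ?_
    exact Ideal.mul_mem_mul (ih _ (SetLike.coe_mem _))
      (HomogeneousIdeal.mem_irrelevant_of_mem 𝒜 Nat.one_pos (g i).2)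

include hgen in
/-- torsion from the vanishing of `M~` -/
lemma torsion_of_isZero (h0 : IsZero (GrMod.tilde 𝒜 ℳ 0)) (z : M) (f : A) (hf : f ∈ 𝒜 1) :
    ∃ k : ℕ, f ^ k • z = 0 := by
  have h1 : IsZero (GrTilde.tilde (zGr 𝒜) (zGrM ℳ) 0) :=
    IsZero.of_iso (isZero_restrict (eZ 𝒜) h0) (tildeRestrictIso 𝒜 ℳ 0).symm
  have hgen' : (HomogeneousIdeal.irrelevant (zGr 𝒜)).toIdeal =
      Ideal.span ((zGr 𝒜) 1 : Set A) := by
    rw [irrelevant_zGr]
    apply le_antisymm (RP.irrelevant_le_span_one hgen)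
    rw [Ideal.span_le]
    intro t ht
    exact HomogeneousIdeal.mem_irrelevant_of_mem 𝒜 Nat.one_pos ht
  exact Groth.Agent.Helper1.GrT.torsion_of_isZero_tilde (zGr 𝒜) (zGrM ℳ) hgen' h1 z 1 f
    Nat.one_pos hf

include hgen in
/-- **(TF) and `M~ = 0` imply (TN)** (ring level) -/
theorem tn_of_isZero_tilde (hfg : (𝒜₊).toIdeal.FG)
    (hTF : ∃ n : ℕ, (Submodule.span A (⋃ k ∈ Set.Ici n, (ℳ k : Set M))).FG)
    (h0 : IsZero (GrMod.tilde 𝒜 ℳ 0)) :
    ∃ n : ℕ, ∀ k : ℕ, n ≤ k → ∀ m ∈ ℳ k, m = 0 := by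
  classical
  obtain ⟨n₀, hN⟩ := hTF
  obtain ⟨G₀, hG₀, hspan⟩ := (Submodule.fg_span_iff_fg_span_finset_subset _).1 hN
  -- degrees of the generators
  have hdeg : ∀ x ∈ G₀, ∃ e : ℕ, n₀ ≤ e ∧ x ∈ ℳ e := by
    intro x hx
    have := hG₀ hx
    simp only [Set.mem_iUnion, Set.mem_Ici, SetLike.mem_coe] at this
    obtain ⟨e, he, hxe⟩ := this
    exact ⟨e, he, hxe⟩
  choose! e he hxe using hdeg
  -- the annihilator of the generators contains a power of the irrelevant ideal
  let J : Ideal A := ⨅ x ∈ G₀, LinearMap.ker (LinearMap.toSpanSingleton A M x)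
  have hJ : ∀ a : A, a ∈ J ↔ ∀ x ∈ G₀, a • x = 0 := by
    intro a
    simp only [J, Ideal.mem_iInf, LinearMap.mem_ker, LinearMap.toSpanSingleton_apply]
  have hrad : (𝒜₊).toIdeal ≤ J.radical := by
    refine (RP.irrelevant_le_span_one hgen).trans ?_
    rw [Ideal.span_le]
    intro g hg
    choose k hk using fun x : M => torsion_of_isZero 𝒜 ℳ hgen h0 x g hg
    refine ⟨G₀.sup k, (hJ _).2 fun x hx => ?_⟩
    have hle : k x ≤ G₀.sup k := Finset.le_sup hx
    obtain ⟨c, hc⟩ := Nat.exists_eq_add_of_le hle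
    rw [hc, pow_add, mul_comm, mul_smul, hk x, smul_zero]
  obtain ⟨D, hD⟩ := Ideal.exists_pow_le_of_le_radical_of_fg hrad hfg
  refine ⟨max n₀ (G₀.sup e) + D + 1, ?_⟩
  intro k hk m hm
  have hn₀k : n₀ ≤ k := by
    have := le_max_left n₀ (G₀.sup e)
    omega
  have hmN : m ∈ Submodule.span A (↑G₀ : Set M) := by
    rw [← hspan]
    exact Submodule.subset_span (Set.mem_iUnion₂.2 ⟨k, hn₀k, hm⟩)
  obtain ⟨a, -, hsum⟩ := Submodule.mem_span_finset.1 hmN
  have h2 : ((DirectSum.decompose ℳ m) k : M) = m := DirectSum.decompose_of_mem_same ℳ hm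
  rw [← h2, ← hsum, DirectSum.decompose_sum, DFinsupp.finset_sum_apply,
    AddSubmonoidClass.coe_finset_sum]
  refine Finset.sum_eq_zero fun x hx => ?_
  have hex : e x ≤ G₀.sup e := Finset.le_sup hx
  have hmax := le_max_right n₀ (G₀.sup e)
  obtain ⟨d, hd⟩ : ∃ d, k = d + e x := ⟨k - e x, by omega⟩
  rw [hd, decompose_smul_of_mem 𝒜 ℳ (hxe x hx) (a x) d]
  have hdD : D ≤ d := by omega
  have hd1 : 1 ≤ d := by omega
  have hmemJ : ((DirectSum.decompose 𝒜 (a x) d : A)) ∈ J :=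
    hD (Ideal.pow_le_pow_right hdD (mem_irrelevant_pow 𝒜 hgen d hd1 _ (SetLike.coe_mem _)))
  exact (hJ _).1 hmemJ x hx

end ring

end Groth.Agent.Helper1.TRT
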