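import Mathlib
import Groth.Prelude.Def_RelProj3
import Groth.Agent.Helper1.TR21
import Groth.Agent.Helper4.QcqsMod
import Groth.Agent.Helper4.TwistExt

/-!
# (TF) and `ℳ~ = 0` imply (TN) on a relative Proj over a quasi-compact base
-/

set_option autoImplicit false
set_option linter.style.haveILetI false

namespace Groth.Agent.Helper1.TRT

universe u

section

variable {M N σ τ : Type*} [AddCommGroup M] [AddCommGroup N] [SetLike σ M] [AddSubgroupClass σ M]
  [SetLike τ N] [AddSubgroupClass τ N] (ℳ : ℕ → σ) (𝒩 : ℕ → τ) [DirectSum.Decomposition ℳ]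
  [DirectSum.Decomposition 𝒩] (v : M →+ N) (hv : ∀ (i : ℕ) (m : M), m ∈ ℳ i → v m ∈ 𝒩 i)

include hv in
/-- a degree-preserving additive map commutes with taking homogeneous components -/
lemma addMonoidHom_map_decompose (m : M) (k : ℕ) :
    v ((DirectSum.decompose ℳ m k : ℳ k) : M) = ((DirectSum.decompose 𝒩 (v m) k : 𝒩 k) : N) := by
  classical
  conv_rhs => rw [← DirectSum.sum_support_decompose ℳ m, map_sum, DirectSum.decompose_sum,
    DFinsupp.finsetSum_apply, AddSubmonoidClass.coe_finsetSum]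
  by_cases hk : k ∈ (DirectSum.decompose ℳ m).support
  · rw [Finset.sum_eq_single k]
    · exact (DirectSum.decompose_of_mem_same 𝒩 (hv k _ (DirectSum.decompose ℳ m k).2)).symm
    · intro l _ hlk
      exact DirectSum.decompose_of_mem_ne 𝒩 (hv l _ (DirectSum.decompose ℳ m l).2) hlk
    · intro h; exact absurd hk h
  · have h0 : ((DirectSum.decompose ℳ m k : ℳ k) : M) = 0 := by
      rw [DFinsupp.notMem_support_iff] at hk
      rw [hk]; rfl
    rw [h0, map_zero]
    refine (Finset.sum_eq_zero fun l hl => ?_).symm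
    exact DirectSum.decompose_of_mem_ne 𝒩 (hv l _ (DirectSum.decompose ℳ m l).2)
      (fun h => hk (h ▸ hl))

end

end Groth.Agent.Helper1.TRT

namespace Groth.Agent.Helper1.TRR

open CategoryTheory CategoryTheory.Limits AlgebraicGeometry TopologicalSpace Opposite RelProj
open scoped HomogeneousIdeal

universe u

variable {Y : Scheme.{u}} {𝒮 : RelProj.QCGrAlg Y} (ℳ : RelProj.GrModule 𝒮)

/-- the vanishing of the degree-`k` piece of a quasi-coherent graded module passes to basic opens -/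
lemma deg_eq_zero_basicOpen (hℳ : Coh.IsQCoh ((AMod.toOS 𝒮.toQCAlg).obj ℳ.mod)) (U : Y.Opens)
    (hU : IsAffineOpen U) (r : Γ(Y, U)) (k : ℕ) (h : ∀ m ∈ ℳ.deg U hU k, m = 0) :
    ∀ m ∈ ℳ.deg (Y.basicOpen r) (hU.basicOpen r) k, m = 0 := by
  intro m hm
  let F : Y.Modules := (AMod.toOS 𝒮.toQCAlg).obj ℳ.mod
  haveI : F.IsQuasicoherent := hℳ
  have hloc := Groth.Agent.Helper4.QcqsMod.isLocalizingOn_of_isAffineOpen F hU
  let m' : Γ(F, Y.basicOpen r) := m
  obtain ⟨n, m'', hm''⟩ := hloc.surj r m'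
  set c : Γ(Y, Y.basicOpen r) := Y.presheaf.map (homOfLE (Y.basicOpen_le r)).op (r ^ n) with hc
  -- `c` is a unit
  have hcu : IsUnit c := by
    rw [hc, map_pow]
    exact (RingedSpace.isUnit_res_basicOpen Y.toRingedSpace r).pow n
  -- the degree-`k` component of both sides
  have h1 : (c • m' : Γ(F, Y.basicOpen r)) = 0 := by
    rw [hm'']
    -- the restriction of `m''` has zero degree-`k` component; but it is homogeneous of degree `k`
    have hck : (show ℳ.mod.val.obj (op (Y.basicOpen r)) from c • m') ∈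
        ℳ.deg (Y.basicOpen r) (hU.basicOpen r) k := by
      have h0 : ((𝒮.str.app (op (Y.basicOpen r))).hom c : 𝒮.presheaf.obj (op (Y.basicOpen r))) ∈
          𝒮.deg (Y.basicOpen r) (hU.basicOpen r) 0 := 𝒮.str_mem _ _ c
      have := SetLike.GradedSMul.smul_mem (A := 𝒮.deg (Y.basicOpen r) (hU.basicOpen r))
        (B := ℳ.deg (Y.basicOpen r) (hU.basicOpen r)) h0 hm
      rw [zero_vadd] at this
      exact this
    have hres : (show ℳ.mod.val.obj (op (Y.basicOpen r)) from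
        F.presheaf.map (homOfLE (Y.basicOpen_le r)).op m'') ∈
        ℳ.deg (Y.basicOpen r) (hU.basicOpen r) k := by
      rw [← hm'']; exact hck
    have hcomp := TRT.addMonoidHom_map_decompose (ℳ.deg U hU) (ℳ.deg (Y.basicOpen r) (hU.basicOpen r))
      ((ℳ.res hU (hU.basicOpen r) (Y.basicOpen_le r)).toAddMonoidHom)
      (fun i x hx => ℳ.res_mem hU (hU.basicOpen r) (Y.basicOpen_le r) i x hx) m'' k
    have hzero : ((DirectSum.decompose (ℳ.deg U hU) (show ℳ.mod.val.obj (op U) from m'') k :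
        ℳ.deg U hU k) : ℳ.mod.val.obj (op U)) = 0 := h _ (SetLike.coe_mem _)
    rw [hzero, map_zero] at hcomp
    have := DirectSum.decompose_of_mem_same (ℳ.deg (Y.basicOpen r) (hU.basicOpen r)) hres
    exact this.symm.trans hcomp.symm
  exact (hcu.smul_eq_zero (x := m')).1 h1

variable {P : Scheme.{u}} {p : P ⟶ Y}
  {chart : ∀ (U : Y.Opens) (hU : IsAffineOpen U),
    (((p ⁻¹ᵁ U : P.Opens) : Scheme.{u}) ≅ Proj (𝒮.deg U hU))}
  {ℳ} {F : P.Modules}
  {lam : ∀ (U : Y.Opens) (hU : IsAffineOpen U),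
    F ⟶ (Scheme.Modules.pushforward (emb p chart U hU)).obj
      (GrMod.tilde (𝒮.deg U hU) (ℳ.deg U hU) 0)}

/-- the chartwise bound -/
lemma exists_bound_of_isZero (hgen : 𝒮.IsGenDegOne) (hft : 𝒮.IsFTDeg 1) (hTF : ℳ.IsTF)
    (hF : IsRelTilde 𝒮 p chart ℳ 0 F lam) (h0 : IsZero F) (U : Y.Opens) (hU : IsAffineOpen U) :
    ∃ n : ℕ, ∀ k : ℕ, n ≤ k → ∀ m ∈ ℳ.deg U hU k, m = 0 := by
  obtain ⟨n₀, hn₀⟩ := hTF
  have hz : IsZero (GrMod.tilde (𝒮.deg U hU) (ℳ.deg U hU) 0) :=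
    IsZero.of_iso (TRT.isZero_restrict (emb p chart U hU) h0) (tildeChartIso hF U hU).symm
  exact TRT.tn_of_isZero_tilde (𝒮.deg U hU) (ℳ.deg U hU) (hgen U hU) (irrelevant_fg hgen hft U hU)
    ⟨n₀, hn₀ U hU⟩ hz

/-- **(TF) and `ℳ~ = 0` imply (TN)** over a quasi-compact base -/
theorem isTN_of_isZero_of_isTF [CompactSpace Y] (hgen : 𝒮.IsGenDegOne) (hft : 𝒮.IsFTDeg 1)
    (hℳ : Coh.IsQCoh ((AMod.toOS 𝒮.toQCAlg).obj ℳ.mod)) (hTF : ℳ.IsTF)
    (hF : IsRelTilde 𝒮 p chart ℳ 0 F lam) (h0 : IsZero F) : ℳ.IsTN := by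
  classical
  -- a finite affine cover
  have hex : ∀ x : Y, ∃ U : Y.Opens, IsAffineOpen U ∧ x ∈ U := fun x => by
    obtain ⟨U, hU, hxU, -⟩ := exists_isAffineOpen_mem_and_subset (X := Y) (x := x) (U := ⊤) trivial
    exact ⟨U, hU, hxU⟩
  choose U hU hxU using hex
  obtain ⟨t, ht⟩ := isCompact_univ.elim_finite_subcover (fun x : Y => ((U x : Y.Opens) : Set Y))
    (fun x => (U x).2) (fun x _ => Set.mem_iUnion.2 ⟨x, hxU x⟩)
  choose n hn using fun x : Y => exists_bound_of_isZero hgen hft hTF hF h0 (U x) (hU x)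
  refine ⟨t.sup n, ?_⟩
  intro V hV k hk m hm
  let G : Y.Modules := (AMod.toOS 𝒮.toQCAlg).obj ℳ.mod
  let m' : Γ(G, V) := m
  change m' = 0
  apply Groth.Agent.Helper4.TwistExt.eq_of_cover G V
  intro y hyV
  obtain ⟨x, hxt, hyx⟩ : ∃ x ∈ t, y ∈ U x := by
    have := ht (Set.mem_univ y)
    simp only [Set.mem_iUnion] at this
    obtain ⟨x, hx, hy⟩ := this
    exact ⟨x, hx, hy⟩
  obtain ⟨f, g, hfg, hyf⟩ := exists_basicOpen_le_affine_inter (hU x) hV y ⟨hyx, hyV⟩
  have hnk : n x ≤ k := (Finset.le_sup hxt).trans hk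
  have key : ∀ (W : Y.Opens) (hW : IsAffineOpen W), W = Y.basicOpen f →
      ∀ m ∈ ℳ.deg W hW k, m = 0 := by
    intro W hW h
    subst h
    exact deg_eq_zero_basicOpen ℳ hℳ (U x) (hU x) f k (hn x k hnk)
  refine ⟨Y.basicOpen g, Y.basicOpen_le g, hfg ▸ hyf, ?_⟩
  rw [map_zero]
  exact key (Y.basicOpen g) (hV.basicOpen g) hfg.symm _
    (ℳ.map_mem hV (hV.basicOpen g) (Y.basicOpen_le g) hm)

end Groth.Agent.Helper1.TRR
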