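import Mathlib
import Groth.Prelude.Def_RelProj3
import Groth.Agent.Helper1.TR27
import Groth.Agent.Helper4.TensorRes

/-!
# `O_X(n)|U ⊗ O_X(−n)|U ≅ O_U` on a quasi-compact open of a relative Proj, `n` a multiple of the
period
-/

set_option autoImplicit false
set_option linter.style.haveILetI false

namespace Groth.Agent.Helper1.TRM

open CategoryTheory CategoryTheory.Limits AlgebraicGeometry TopologicalSpace Opposite RelProj
open Groth.Agent.Helper1.RP
open scoped HomogeneousIdeal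

universe u

variable {Y X : Scheme.{u}} {𝒮 : QCGrAlg Y} {q : X ⟶ Y}
  {chart : ∀ (U : Y.Opens) (hU : IsAffineOpen U),
    (((q ⁻¹ᵁ U : X.Opens) : Scheme.{u}) ≅ Proj (𝒮.deg U hU))}

/-- a twisting sheaf of degree `k = 0` -/
lemma exists_relTwist_of_eq_zero (hX : IsRelProj 𝒮 q chart) (k : ℤ) (hk : k = 0) :
    ∃ (L'' : X.Modules) (lam'' : ∀ (V : Y.Opens) (hV : IsAffineOpen V),
      L'' ⟶ (Scheme.Modules.pushforward (emb q chart V hV)).obj (GrTwist.twist (𝒮.deg V hV) k)),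
      IsRelTwist 𝒮 q chart k L'' lam'' ∧ Nonempty (L'' ≅ Coh.structureModule X) := by
  subst hk
  exact ⟨_, lamZero q chart, isRelTwist_zero hX, ⟨Iso.refl _⟩⟩

theorem exists_period_inverse (hX : IsRelProj 𝒮 q chart) (U : X.Opens)
    (hU : IsCompact (U : Set X)) :
    ∃ d : ℕ, 0 < d ∧ ∀ (n : ℤ), (d : ℤ) ∣ n →
      ∀ (L : X.Modules)
        (lam : ∀ (V : Y.Opens) (hV : IsAffineOpen V),
          L ⟶ (Scheme.Modules.pushforward (emb q chart V hV)).obj (GrTwist.twist (𝒮.deg V hV) n)),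
        IsRelTwist 𝒮 q chart n L lam →
      ∀ (L' : X.Modules)
        (lam' : ∀ (V : Y.Opens) (hV : IsAffineOpen V),
          L' ⟶ (Scheme.Modules.pushforward (emb q chart V hV)).obj
            (GrTwist.twist (𝒮.deg V hV) (-n))),
        IsRelTwist 𝒮 q chart (-n) L' lam' →
          Nonempty (CohB1.tensorMod (L.restrict U.ι) (L'.restrict U.ι) ≅
            Coh.structureModule (U : Scheme.{u})) := by
  classical
  choose V hV d f hd hf hx using fun x : X => TRR.exists_jf (p := q) (chart := chart) x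
  obtain ⟨t, ht⟩ := hU.elim_finite_subcover
    (fun x : X => ((TRR.jf q chart (V x) (hV x) (f x)).opensRange : Set X))
    (fun x => (TRR.jf q chart (V x) (hV x) (f x)).opensRange.isOpen)
    (fun x _ => Set.mem_iUnion.2 ⟨x, hx x⟩)
  refine ⟨∏ x ∈ t, d x, Finset.prod_pos fun x _ => hd x, ?_⟩
  intro n hn L lam hL L' lam' hL'
  obtain ⟨L'', lam'', hL'', ⟨e₀⟩⟩ := exists_relTwist_of_eq_zero hX (n + -n) (add_neg_cancel n)
  set μ := mulHom hX hL hL' hL'' with hμ
  have hiso : IsIso ((Scheme.Modules.restrictFunctor U.ι).map μ) := by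
    apply BasisIso.isIso_of_bijective_on_basis _
      {W' : (U : Scheme.{u}).Opens | ∃ y ∈ t,
        U.ι ''ᵁ W' ≤ (TRR.jf q chart (V y) (hV y) (f y)).opensRange}
    · intro V' x hx'
      obtain ⟨y, hy⟩ := Set.mem_iUnion.1 (ht x.2)
      obtain ⟨hyt, hxy⟩ := Set.mem_iUnion.1 hy
      refine ⟨V' ⊓ U.ι ⁻¹ᵁ (TRR.jf q chart (V y) (hV y) (f y)).opensRange, ⟨y, hyt, ?_⟩,
        ⟨hx', hxy⟩, inf_le_left⟩
      rintro _ ⟨z, hz, rfl⟩
      exact hz.2
    · rintro W' ⟨y, hyt, hW'⟩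
      have hdvd : (d y : ℤ) ∣ n := by
        refine Dvd.dvd.trans ?_ hn
        exact_mod_cast Finset.dvd_prod_of_mem d hyt
      obtain ⟨k, hk⟩ := hdvd
      exact mulHom_app_bijective hX hL hL' hL'' (V y) (hV y) (f y) (hf y) (-k)
        (by rw [hk]; ring) (U.ι ''ᵁ W') hW'
  exact ⟨Groth.Agent.Helper4.TensorRes.resIso U.ι L L' ≪≫
    @asIso _ _ _ _ ((Scheme.Modules.restrictFunctor U.ι).map μ) hiso ≪≫
    (Scheme.Modules.restrictFunctor U.ι).mapIso e₀ ≪≫ Scheme.Modules.restrictUnitIso U.ι⟩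

end Groth.Agent.Helper1.TRM
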