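import Mathlib
import Groth.Prelude.Def_RelProj3
import Groth.Agent.Helper1.TR25
import Groth.Agent.Helper1.TR26
import Groth.Agent.Helper1.TR29
import Groth.Agent.Helper1.GM3
import Groth.Agent.Helper4.TensorLift

/-!
# The multiplication map `ℳ(m)~ ⊗ O_P(n) ⟶ ℳ(m + n)~` on a relative Proj
-/

set_option autoImplicit false
set_option linter.style.haveILetI false

namespace Groth.Agent.Helper1.TRMM

open CategoryTheory CategoryTheory.Limits AlgebraicGeometry TopologicalSpace Opposite RelProj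
open Groth.Agent.Helper1.RP
open scoped HomogeneousIdeal

universe u

variable {Y P : Scheme.{u}} {𝒮 : QCGrAlg Y} {p : P ⟶ Y}
  {chart : ∀ (U : Y.Opens) (hU : IsAffineOpen U),
    (((p ⁻¹ᵁ U : P.Opens) : Scheme.{u}) ≅ Proj (𝒮.deg U hU))}
  {ℳ : GrModule 𝒮} {m n k : ℤ} {F L F' : P.Modules}
  {lamF : ∀ (U : Y.Opens) (hU : IsAffineOpen U),
    F ⟶ (Scheme.Modules.pushforward (emb p chart U hU)).obj
      (GrMod.tilde (𝒮.deg U hU) (ℳ.deg U hU) m)}
  {lamL : ∀ (U : Y.Opens) (hU : IsAffineOpen U),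
    L ⟶ (Scheme.Modules.pushforward (emb p chart U hU)).obj (GrTwist.twist (𝒮.deg U hU) n)}
  {lamF' : ∀ (U : Y.Opens) (hU : IsAffineOpen U),
    F' ⟶ (Scheme.Modules.pushforward (emb p chart U hU)).obj
      (GrMod.tilde (𝒮.deg U hU) (ℳ.deg U hU) k)}

/-- the reading of a section in the chart over `U` -/
noncomputable def rdM {k : ℤ} {M : P.Modules}
    (μ : ∀ (U : Y.Opens) (hU : IsAffineOpen U),
      M ⟶ (Scheme.Modules.pushforward (emb p chart U hU)).obj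
        (GrMod.tilde (𝒮.deg U hU) (ℳ.deg U hU) k))
    (U : Y.Opens) (hU : IsAffineOpen U) (V : P.Opens) (s : Γ(M, V)) :
    Γ(GrMod.tilde (𝒮.deg U hU) (ℳ.deg U hU) k, emb p chart U hU ⁻¹ᵁ V) :=
  (μ U hU).app V s

lemma rdM_add {k : ℤ} {M : P.Modules}
    (μ : ∀ (U : Y.Opens) (hU : IsAffineOpen U),
      M ⟶ (Scheme.Modules.pushforward (emb p chart U hU)).obj
        (GrMod.tilde (𝒮.deg U hU) (ℳ.deg U hU) k))
    (U : Y.Opens) (hU : IsAffineOpen U) (V : P.Opens) (s t : Γ(M, V)) :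
    rdM μ U hU V (s + t) = rdM μ U hU V s + rdM μ U hU V t :=
  map_add ((μ U hU).app V).hom s t

lemma rdM_smul {k : ℤ} {M : P.Modules}
    (μ : ∀ (U : Y.Opens) (hU : IsAffineOpen U),
      M ⟶ (Scheme.Modules.pushforward (emb p chart U hU)).obj
        (GrMod.tilde (𝒮.deg U hU) (ℳ.deg U hU) k))
    (U : Y.Opens) (hU : IsAffineOpen U) (V : P.Opens) (r : Γ(P, V)) (s : Γ(M, V)) :
    rdM μ U hU V (r • s) = ((emb p chart U hU).app V r) • rdM μ U hU V s := by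
  unfold rdM
  rw [Scheme.Modules.Hom.app_smul]
  rfl

lemma rdM_res {k : ℤ} {M : P.Modules}
    (μ : ∀ (U : Y.Opens) (hU : IsAffineOpen U),
      M ⟶ (Scheme.Modules.pushforward (emb p chart U hU)).obj
        (GrMod.tilde (𝒮.deg U hU) (ℳ.deg U hU) k))
    (U : Y.Opens) (hU : IsAffineOpen U) {V V' : P.Opens} (i : V' ⟶ V) (s : Γ(M, V))
    (y : ProjectiveSpectrum (𝒮.deg U hU)) (hy : (emb p chart U hU).base y ∈ V') :
    GrMod.val (rdM μ U hU V' (M.presheaf.map i.op s)) ⟨y, hy⟩ =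
      GrMod.val (rdM μ U hU V s) ⟨y, i.le hy⟩ := by
  unfold rdM
  rw [Groth.Agent.Helper4.StalkExact.app_res]
  rfl

variable (lamF lamL) in
/-- the chartwise products of the readings -/
noncomputable def σM (hk : k = m + n) (V : P.Opens) (s : Γ(F, V)) (a : Γ(L, V)) (U : Y.Opens)
    (hU : IsAffineOpen U) :
    Γ(GrMod.tilde (𝒮.deg U hU) (ℳ.deg U hU) k, emb p chart U hU ⁻¹ᵁ V) :=
  GM.mulSect' m n k hk (emb p chart U hU ⁻¹ᵁ V) (rdM lamF U hU V s) (TRM.rd lamL U hU V a)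

lemma compat_σM (hk : k = m + n) (hF : IsRelTilde 𝒮 p chart ℳ m F lamF)
    (hL : IsRelTwist 𝒮 p chart n L lamL)
    (V : P.Opens) (s : Γ(F, V)) (a : Γ(L, V)) :
    TRSM.Compat (X' := V) (σM lamF lamL hk V s a) := by
  intro U hU r y hy hy'
  unfold σM
  rw [GM.val_mulSect', GM.val_mulSect', GrMod.locModMap_smul]
  congr 1
  · exact hL.compat U hU r V a y hy hy'
  · exact hF.compat U hU r V s y hy hy'

/-- a section of `ℳ(k)~` is determined by its readings -/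
lemma ext_of_rdM {k : ℤ} {M : P.Modules}
    {μ : ∀ (U : Y.Opens) (hU : IsAffineOpen U),
      M ⟶ (Scheme.Modules.pushforward (emb p chart U hU)).obj
        (GrMod.tilde (𝒮.deg U hU) (ℳ.deg U hU) k)}
    (hM : IsRelTilde 𝒮 p chart ℳ k M μ) (V : P.Opens) (t t' : Γ(M, V))
    (h : ∀ (U : Y.Opens) (hU : IsAffineOpen U) (y : ProjectiveSpectrum (𝒮.deg U hU))
      (hy : (emb p chart U hU).base y ∈ V),
      GrMod.val (rdM μ U hU V t) ⟨y, hy⟩ = GrMod.val (rdM μ U hU V t') ⟨y, hy⟩) : t = t' := by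
  apply Groth.Agent.Helper4.TwistExt.eq_of_cover M V
  intro x hx
  obtain ⟨_, ⟨U, hU : IsAffineOpen U, rfl⟩, hxU, -⟩ :=
    Y.isBasis_affineOpens.exists_subset_of_mem_open (Set.mem_univ (p x)) isOpen_univ
  refine ⟨V ⊓ p ⁻¹ᵁ U, inf_le_left, ⟨hx, hxU⟩, ?_⟩
  apply (hM.bijective U hU _ inf_le_right).1
  apply GM.sect_ext
  rintro ⟨y, hy⟩
  have h1 := rdM_res μ U hU (homOfLE (inf_le_left : V ⊓ p ⁻¹ᵁ U ≤ V)) t y hy
  have h2 := rdM_res μ U hU (homOfLE (inf_le_left : V ⊓ p ⁻¹ᵁ U ≤ V)) t' y hy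
  exact h1.trans ((h U hU y _).trans h2.symm)

variable (hk : k = m + n) (hP : IsRelProj 𝒮 p chart) (hF : IsRelTilde 𝒮 p chart ℳ m F lamF)
  (hL : IsRelTwist 𝒮 p chart n L lamL) (hF' : IsRelTilde 𝒮 p chart ℳ k F' lamF')

include hk hP hF hL hF' in
lemma exists_mulM (V : P.Opens) (s : Γ(F, V)) (a : Γ(L, V)) :
    ∃ t : Γ(F', V), ∀ (U : Y.Opens) (hU : IsAffineOpen U)
      (y : ProjectiveSpectrum (𝒮.deg U hU)) (hy : (emb p chart U hU).base y ∈ V),
      GrMod.val (rdM lamF' U hU V t) ⟨y, hy⟩ =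
        GrTwist.val (TRM.rd lamL U hU V a) ⟨y, hy⟩ • GrMod.val (rdM lamF U hU V s) ⟨y, hy⟩ := by
  obtain ⟨t, ht⟩ := TRSM.exists_section (σM lamF lamL hk V s a) hP hF'
    (compat_σM hk hF hL V s a)
  refine ⟨t, fun U hU y hy => (ht U hU y hy).trans ?_⟩
  unfold σM
  rw [GM.val_mulSect']

/-- the product of a section of `ℳ(m)~` and a section of `O_P(n)` -/
noncomputable def mulM (V : P.Opens) (s : Γ(F, V)) (a : Γ(L, V)) : Γ(F', V) :=
  Classical.choose (exists_mulM hk hP hF hL hF' V s a)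

lemma rdM_mulM (V : P.Opens) (s : Γ(F, V)) (a : Γ(L, V)) (U : Y.Opens) (hU : IsAffineOpen U)
    (y : ProjectiveSpectrum (𝒮.deg U hU)) (hy : (emb p chart U hU).base y ∈ V) :
    GrMod.val (rdM lamF' U hU V (mulM hk hP hF hL hF' V s a)) ⟨y, hy⟩ =
      GrTwist.val (TRM.rd lamL U hU V a) ⟨y, hy⟩ • GrMod.val (rdM lamF U hU V s) ⟨y, hy⟩ :=
  Classical.choose_spec (exists_mulM hk hP hF hL hF' V s a) U hU y hy

lemma mulM_add_left (V : P.Opens) (s s₁ : Γ(F, V)) (a : Γ(L, V)) :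
    mulM hk hP hF hL hF' V (s + s₁) a =
      mulM hk hP hF hL hF' V s a + mulM hk hP hF hL hF' V s₁ a := by
  apply ext_of_rdM hF' V
  intro U hU y hy
  rw [rdM_mulM hk hP hF hL hF' V (s + s₁) a U hU y hy, rdM_add, rdM_add, GM.val_add, GM.val_add,
    rdM_mulM hk hP hF hL hF' V s a U hU y hy, rdM_mulM hk hP hF hL hF' V s₁ a U hU y hy, smul_add]

lemma mulM_add_right (V : P.Opens) (s : Γ(F, V)) (a a₁ : Γ(L, V)) :
    mulM hk hP hF hL hF' V s (a + a₁) =
      mulM hk hP hF hL hF' V s a + mulM hk hP hF hL hF' V s a₁ := by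
  apply ext_of_rdM hF' V
  intro U hU y hy
  rw [rdM_mulM hk hP hF hL hF' V s (a + a₁) U hU y hy, TRM.rd_add, rdM_add, GT.val_add,
    GM.val_add, rdM_mulM hk hP hF hL hF' V s a U hU y hy,
    rdM_mulM hk hP hF hL hF' V s a₁ U hU y hy, add_smul]

lemma mulM_smul_left (V : P.Opens) (r : Γ(P, V)) (s : Γ(F, V)) (a : Γ(L, V)) :
    mulM hk hP hF hL hF' V (r • s) a = r • mulM hk hP hF hL hF' V s a := by
  apply ext_of_rdM hF' V
  intro U hU y hy
  rw [rdM_mulM hk hP hF hL hF' V (r • s) a U hU y hy, rdM_smul, rdM_smul, GM.val_smul,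
    GM.val_smul, rdM_mulM hk hP hF hL hF' V s a U hU y hy, smul_comm]

lemma mulM_smul_right (V : P.Opens) (r : Γ(P, V)) (s : Γ(F, V)) (a : Γ(L, V)) :
    mulM hk hP hF hL hF' V s (r • a) = r • mulM hk hP hF hL hF' V s a := by
  apply ext_of_rdM hF' V
  intro U hU y hy
  rw [rdM_mulM hk hP hF hL hF' V s (r • a) U hU y hy, TRM.rd_smul, rdM_smul, TRS.val_smul,
    GM.val_smul, rdM_mulM hk hP hF hL hF' V s a U hU y hy, mul_smul]

lemma mulM_map {V V' : P.Opens} (i : V' ⟶ V) (s : Γ(F, V)) (a : Γ(L, V)) :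
    F'.presheaf.map i.op (mulM hk hP hF hL hF' V s a) =
      mulM hk hP hF hL hF' V' (F.presheaf.map i.op s) (L.presheaf.map i.op a) := by
  apply ext_of_rdM hF' V'
  intro U hU y hy
  rw [rdM_res lamF' U hU i _ y hy, rdM_mulM hk hP hF hL hF' V s a U hU y (i.le hy),
    rdM_mulM hk hP hF hL hF' V' _ _ U hU y hy, rdM_res lamF U hU i s y hy,
    TRM.rd_res lamL U hU i a y hy]

open Groth.Agent.Helper4.TensorLift in
/-- the bilinear family of products -/
noncomputable def bilM : Bil F L F' where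
  f V s a := mulM hk hP hF hL hF' V s a
  add_left V s s₁ a := mulM_add_left hk hP hF hL hF' V s s₁ a
  add_right V s a a₁ := mulM_add_right hk hP hF hL hF' V s a a₁
  smul_left V r s a := mulM_smul_left hk hP hF hL hF' V r s a
  smul_right V r s a := mulM_smul_right hk hP hF hL hF' V r s a
  map {V V'} i s a := mulM_map hk hP hF hL hF' i s a

/-- the multiplication map -/
noncomputable def mulHomM : CohB1.tensorMod F L ⟶ F' :=
  (bilM hk hP hF hL hF').lift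

lemma mulHomM_tmul (V : P.Opens) (s : Γ(F, V)) (a : Γ(L, V)) :
    (mulHomM hk hP hF hL hF').app V (SecTwist.tmul F L V s a) =
      mulM hk hP hF hL hF' V s a :=
  (bilM hk hP hF hL hF').lift_tmul V s a

end Groth.Agent.Helper1.TRMM

namespace Groth.Agent.Helper1.TRMM

open CategoryTheory CategoryTheory.Limits AlgebraicGeometry TopologicalSpace Opposite RelProj
open Groth.Agent.Helper1.RP Groth.Agent.Helper4.TensorInv
open scoped HomogeneousIdeal

universe u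

variable {Y P : Scheme.{u}} {𝒮 : QCGrAlg Y} {p : P ⟶ Y}
  {chart : ∀ (U : Y.Opens) (hU : IsAffineOpen U),
    (((p ⁻¹ᵁ U : P.Opens) : Scheme.{u}) ≅ Proj (𝒮.deg U hU))}
  {ℳ : GrModule 𝒮} {m n k : ℤ} {F L F' : P.Modules}
  {lamF : ∀ (U : Y.Opens) (hU : IsAffineOpen U),
    F ⟶ (Scheme.Modules.pushforward (emb p chart U hU)).obj
      (GrMod.tilde (𝒮.deg U hU) (ℳ.deg U hU) m)}
  {lamL : ∀ (U : Y.Opens) (hU : IsAffineOpen U),
    L ⟶ (Scheme.Modules.pushforward (emb p chart U hU)).obj (GrTwist.twist (𝒮.deg U hU) n)}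
  {lamF' : ∀ (U : Y.Opens) (hU : IsAffineOpen U),
    F' ⟶ (Scheme.Modules.pushforward (emb p chart U hU)).obj
      (GrMod.tilde (𝒮.deg U hU) (ℳ.deg U hU) k)}
  (hk : k = m + n) (hP : IsRelProj 𝒮 p chart) (hF : IsRelTilde 𝒮 p chart ℳ m F lamF)
  (hL : IsRelTwist 𝒮 p chart n L lamL) (hF' : IsRelTilde 𝒮 p chart ℳ k F' lamF')

/-- **the multiplication map is bijective on the small opens where `O(n)` is generated by a power
of a homogeneous element** -/
theorem mulHomM_app_bijective (U : Y.Opens) (hU : IsAffineOpen U) {d : ℕ}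
    (f : 𝒮.presheaf.obj (op U)) (hf : f ∈ 𝒮.deg U hU d) (j : ℤ) (hn : n = j * d) (W : P.Opens)
    (hW : W ≤ (TRR.jf p chart U hU f).opensRange) :
    Function.Bijective ((mulHomM hk hP hF hL hF').app W) := by
  obtain ⟨hWU, hWf⟩ := TRM.of_le_opensRange_jf U hU f W hW
  obtain ⟨ε'⟩ := Groth.Agent.Helper4.AmpleLocal.IsTrivAlong.opensRange' _
    (TRR.isTrivAlong_of_isRelTwist hL U hU f hf j hn)
  have ha : f ^ j.toNat ∈ 𝒮.deg U hU (j.toNat * d) := GT.pow_mem_mul hf _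
  have hb : f ^ (-j).toNat ∈ 𝒮.deg U hU ((-j).toNat * d) := GT.pow_mem_mul hf _
  have hij : ((j.toNat * d : ℕ) : ℤ) = ((-j).toNat * d : ℕ) + n := by
    have h1 : (j.toNat : ℤ) = ((-j).toNat : ℤ) + j := by omega
    rw [hn]
    push_cast
    rw [h1]
    ring
  have hij' : (((-j).toNat * d : ℕ) : ℤ) = (j.toNat * d : ℕ) + (-n) := by
    rw [hij]; ring
  have hWp : ∀ (i : ℕ) (z : ProjectiveSpectrum.top (𝒮.deg U hU)),
      z ∈ emb p chart U hU ⁻¹ᵁ W → f ^ i ∉ z.asHomogeneousIdeal :=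
    fun i z hz hmem => hWf z hz (z.isPrime.mem_of_pow_mem _ hmem)
  obtain ⟨t', ht'⟩ := (hL.bijective U hU W hWU).2
    (GT.fracSect n _ ha _ hb hij (emb p chart U hU ⁻¹ᵁ W) (hWp _))
  have hgen' := TRS.smul_bijective_of_fracSect hL U hU W hWU _ ha _ hb hij (hWp _) (hWp _) t' ht'
  have hrd' : ∀ (y : ProjectiveSpectrum (𝒮.deg U hU)) (hy : (emb p chart U hU).base y ∈ W),
      GrTwist.val (TRM.rd lamL U hU W t') ⟨y, hy⟩ =
        Localization.mk (f ^ j.toNat) ⟨f ^ (-j).toNat, hWp _ y hy⟩ := by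
    intro y hy
    unfold TRM.rd
    rw [ht']
    rfl
  constructor
  · intro x x' hxx'
    obtain ⟨s, rfl⟩ := TensGen.exists_tmul_gen F L _ ε' hW t' hgen'.2 x
    obtain ⟨s₁, rfl⟩ := TensGen.exists_tmul_gen F L _ ε' hW t' hgen'.2 x'
    rw [mulHomM_tmul, mulHomM_tmul] at hxx'
    have hss : s = s₁ := by
      apply (hF.bijective U hU W hWU).1
      apply GM.sect_ext
      rintro ⟨y, hy⟩
      have h1 := rdM_mulM hk hP hF hL hF' W s t' U hU y hy
      have h2 := rdM_mulM hk hP hF hL hF' W s₁ t' U hU y hy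
      rw [hxx'] at h1
      have h3 : GrTwist.val (TRM.rd lamL U hU W t') ⟨y, hy⟩ •
            GrMod.val (rdM lamF U hU W s) ⟨y, hy⟩ =
          GrTwist.val (TRM.rd lamL U hU W t') ⟨y, hy⟩ • GrMod.val (rdM lamF U hU W s₁) ⟨y, hy⟩ :=
        h1.symm.trans h2
      rw [hrd' y hy] at h3
      have h4 := congrArg ((Localization.mk (f ^ (-j).toNat) ⟨f ^ j.toNat, hWp _ y hy⟩ :
        GrTwist.Loc (𝒮.deg U hU) y) • ·) h3
      simp only [smul_smul] at h4
      rw [mul_comm, GT.mk_mul_mk_swap y _ _ (hWp _ y hy) (hWp _ y hy), one_smul, one_smul] at h4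
      exact h4
    rw [hss]
  · intro s''
    obtain ⟨s, hs⟩ := (hF.bijective U hU W hWU).2
      (GM.mulSect' k (-n) m (by omega) _ (rdM lamF' U hU W s'')
        (GT.fracSect (-n) _ hb _ ha hij' (emb p chart U hU ⁻¹ᵁ W) (hWp _)))
    refine ⟨SecTwist.tmul F L W s t', ?_⟩
    rw [mulHomM_tmul]
    apply (hF'.bijective U hU W hWU).1
    apply GM.sect_ext
    rintro ⟨y, hy⟩
    refine (rdM_mulM hk hP hF hL hF' W s t' U hU y hy).trans ?_
    have hs' : rdM lamF U hU W s = _ := hs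
    rw [hs', GM.val_mulSect', hrd' y hy, GT.val_fracSect, smul_smul,
      GT.mk_mul_mk_swap y _ _ (hWp _ y hy) (hWp _ y hy), one_smul]
    rfl

include hk hP hF hL hF' in
/-- **`ℳ(m)~ ⊗ O_P(n) ≅ ℳ(m + n)~`** for an algebra generated in degree one -/
theorem isIso_mulHomM (hgen : 𝒮.IsGenDegOne) : IsIso (mulHomM hk hP hF hL hF') := by
  apply BasisIso.isIso_of_bijective_on_basis _
    {W : P.Opens | ∃ (U : Y.Opens) (hU : IsAffineOpen U) (f : 𝒮.presheaf.obj (op U)),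
      f ∈ 𝒮.deg U hU 1 ∧ W ≤ (TRR.jf p chart U hU f).opensRange}
  · intro V x hx
    obtain ⟨U, hU, f, hf, hxf⟩ := TRM.exists_jf_one (p := p) (chart := chart) hgen x
    exact ⟨V ⊓ (TRR.jf p chart U hU f).opensRange, ⟨U, hU, f, hf, inf_le_right⟩, ⟨hx, hxf⟩,
      inf_le_left⟩
  · rintro W ⟨U, hU, f, hf, hW⟩
    exact mulHomM_app_bijective hk hP hF hL hF' U hU f hf n (by simp) W hW

end Groth.Agent.Helper1.TRMM
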