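import Mathlib
import Groth.Prelude.Def_RelProj3
import Groth.Agent.Helper1.TR31
import Groth.Agent.Helper1.TR22
import Groth.Agent.Helper1.GM1

/-!
# The modules `M(n)~` along a localization at a degree zero element: injectivity of the maps of
localized modules and descent of sections
-/

set_option autoImplicit false
set_option linter.style.haveILetI false

namespace Groth.Agent.Helper1.GMD

open CategoryTheory AlgebraicGeometry TopologicalSpace Opposite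
open Groth.Agent.Helper1.RP
open scoped HomogeneousIdeal

universe u

variable {A σ : Type u} [CommRing A] [SetLike σ A] [AddSubgroupClass σ A] {𝒜 : ℕ → σ} [GradedRing 𝒜]
variable {M τ : Type u} [AddCommGroup M] [Module A M] [SetLike τ M] [AddSubgroupClass τ M] {ℳ : ℕ → τ}
  [SetLike.GradedSMul 𝒜 ℳ]
variable {B σ' : Type u} [CommRing B] [SetLike σ' B] [AddSubgroupClass σ' B] {ℬ : ℕ → σ'} [GradedRing ℬ]
variable {N τ' : Type u} [AddCommGroup N] [Module B N] [SetLike τ' N] [AddSubgroupClass τ' N] {𝒩 : ℕ → τ'}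
  [SetLike.GradedSMul ℬ 𝒩]
variable {ψ : 𝒜 →+*ᵍ ℬ} {c : A} (h : IsLocAway ψ c) (hirr : ℬ₊ ≤ (𝒜₊).map ψ)
  (v : M →ₛₗ[ψ.toRingHom] N)

/-- the data of a localization of modules away from `c`, unbundled -/
structure IsLocAwayMod (ψ : 𝒜 →+*ᵍ ℬ) (c : A) (v : M →ₛₗ[ψ.toRingHom] N) : Prop where
  surj : ∀ n' : N, ∃ (m : M) (k : ℕ), ψ c ^ k • n' = v m
  ker : ∀ m : M, v m = 0 → ∃ k : ℕ, c ^ k • m = 0

variable {v} (hvl : IsLocAwayMod ψ c v)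

lemma v_smul (a : A) (m : M) : v (a • m) = ψ a • v m := v.map_smulₛₗ a m

include hvl in
theorem IsLocAwayMod.surj_homog [DirectSum.Decomposition ℳ] [DirectSum.Decomposition 𝒩]
    (hv : ∀ (i : ℕ) (m : M), m ∈ ℳ i → v m ∈ 𝒩 i) (hc : c ∈ 𝒜 0) {i : ℕ} {n' : N}
    (hn' : n' ∈ 𝒩 i) : ∃ m ∈ ℳ i, ∃ k : ℕ, ψ c ^ k • n' = v m := by
  obtain ⟨m, k, hmk⟩ := hvl.surj n'
  refine ⟨DirectSum.decompose ℳ m i, SetLike.coe_mem _, k, ?_⟩
  have h0 : ψ c ^ k ∈ ℬ 0 := by simpa using SetLike.pow_mem_graded k (ψ.map_mem hc)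
  have hmem : ψ c ^ k • n' ∈ 𝒩 i := by
    have := SetLike.GradedSMul.smul_mem (A := ℬ) (B := 𝒩) h0 hn'
    rwa [zero_vadd] at this
  have h1 := TRT.addMonoidHom_map_decompose ℳ 𝒩 v.toAddMonoidHom hv m i
  have h2 : ((DirectSum.decompose 𝒩 (v m) i : 𝒩 i) : N) = v m := by
    rw [← hmk]; exact DirectSum.decompose_of_mem_same 𝒩 hmem
  rw [hmk, ← h2]
  exact h1.symm

include h hvl in
/-- equality of fractions downstairs comes from an equation upstairs -/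
lemma exists_smul_eq_of_mk_eq (z : ProjectiveSpectrum ℬ) (m m' : M) (s s' : A)
    (hs : ψ s ∉ z.asHomogeneousIdeal) (hs' : ψ s' ∉ z.asHomogeneousIdeal)
    (heq : (LocalizedModule.mk (v m) ⟨ψ s, hs⟩ : GrMod.LocMod ℬ (M := N) z) =
      LocalizedModule.mk (v m') ⟨ψ s', hs'⟩) :
    ∃ t : A, ψ t ∉ z.asHomogeneousIdeal ∧ t • (s' • m) = t • (s • m') := by
  rw [LocalizedModule.mk_eq] at heq
  obtain ⟨u, hu⟩ := heq
  obtain ⟨t₀, k, ht₀⟩ := h.surj (u : B)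
  have hu' : (u : B) • (ψ s' • v m) = (u : B) • (ψ s • v m') := hu
  have h0 : v (t₀ • (s' • m - s • m')) = 0 := by
    rw [v_smul, ← ht₀, map_sub, v_smul, v_smul, mul_comm, mul_smul, smul_sub, hu', sub_self,
      smul_zero]
  obtain ⟨j, hj⟩ := hvl.ker _ h0
  refine ⟨c ^ j * t₀, ?_, ?_⟩
  · rw [map_mul, ← ht₀, map_pow]
    intro hmem
    rcases z.isPrime.mem_or_mem hmem with h1 | h1
    · exact GTD.psi_c_pow_notMem h z j h1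
    · exact GTD.mul_psi_c_pow_notMem h z k u.2 h1
  · have : (c ^ j * t₀) • (s' • m) - (c ^ j * t₀) • (s • m') = 0 := by
      rw [← smul_sub, mul_smul]; exact hj
    exact sub_eq_zero.1 this

include h hvl in
/-- the maps of localized modules are injective -/
lemma locModMap_injective (z : ProjectiveSpectrum ℬ) :
    Function.Injective (GrMod.locModMap ψ hirr v z) := by
  intro q q' hqq
  induction q using LocalizedModule.induction_on with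
  | h m s =>
    induction q' using LocalizedModule.induction_on with
    | h m' s' =>
      rw [GrMod.locModMap_mk, GrMod.locModMap_mk] at hqq
      obtain ⟨t, ht, hteq⟩ := exists_smul_eq_of_mk_eq h hvl z m m' s s' s.2 s'.2 hqq
      rw [LocalizedModule.mk_eq]
      exact ⟨⟨t, ht⟩, hteq⟩


lemma pow_smul_mem (hc : c ∈ 𝒜 0) (l : ℕ) {i : ℕ} {m : M} (hm : m ∈ ℳ i) : c ^ l • m ∈ ℳ i := by
  have h0 : c ^ l ∈ 𝒜 0 := by simpa using SetLike.pow_mem_graded l hc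
  have := SetLike.GradedSMul.smul_mem (A := 𝒜) (B := ℳ) h0 hm
  rwa [zero_vadd] at this

include h hvl in
/-- the local data of the descended section -/
lemma exists_data [DirectSum.Decomposition ℳ] [DirectSum.Decomposition 𝒩]
    (hv : ∀ (i : ℕ) (m : M), m ∈ ℳ i → v m ∈ 𝒩 i) (hc : c ∈ 𝒜 0) (n : ℤ)
    (V : (Proj 𝒜).Opens) (V'' : (Proj ℬ).Opens)
    (hsurj : ∀ x : ProjectiveSpectrum.top 𝒜, x ∈ V →
      ∃ z : ProjectiveSpectrum.top ℬ, z ∈ V'' ∧ ProjectiveSpectrum.comap ψ hirr z = x)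
    (τ'' : Γ(GrMod.tilde ℬ 𝒩 n, V'')) (x : V) :
    ∃ (i j : ℕ) (m₁ : M) (b₁ : A), m₁ ∈ ℳ i ∧ b₁ ∈ 𝒜 j ∧ ((i : ℤ) = j + n ∨ m₁ = 0) ∧
      b₁ ∉ x.1.asHomogeneousIdeal ∧
      ∀ (z : ProjectiveSpectrum.top ℬ), z ∈ V'' → ProjectiveSpectrum.comap ψ hirr z = x.1 →
        ∃ N'' : (Proj ℬ).Opens, z ∈ N'' ∧ ∀ (w : ProjectiveSpectrum.top ℬ), w ∈ N'' →
          ∃ (hwV : w ∈ V'') (hb : ψ b₁ ∉ w.asHomogeneousIdeal),
            GrMod.val τ'' ⟨w, hwV⟩ = LocalizedModule.mk (v m₁) ⟨ψ b₁, hb⟩ := by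
  obtain ⟨z₀, hz₀, hz₀x⟩ := hsurj x.1 x.2
  obtain ⟨N₀, hzN, iN, i, j, m', b', nin, hij, hfrac⟩ :=
    (τ'' : GrMod.sect ℬ 𝒩 n (op V'')).2 ⟨z₀, hz₀⟩
  replace hij : (i : ℤ) = j + n ∨ (m' : N) = 0 := hij
  obtain ⟨m, hm, k, hmk⟩ := hvl.surj_homog hv hc m'.2
  obtain ⟨b, hb, l, hbl⟩ := h.surj_homog hc b'.2
  have hb₁ : ∀ w : ProjectiveSpectrum.top ℬ, w ∈ N₀ → ψ (c ^ k * b) ∉ w.asHomogeneousIdeal := by
    intro w hw hmem
    rw [map_mul, map_pow, ← hbl] at hmem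
    rcases w.isPrime.mem_or_mem hmem with h1 | h1
    · exact GTD.psi_c_pow_notMem h w k h1
    · exact GTD.mul_psi_c_pow_notMem h w l (nin ⟨w, hw⟩) h1
  have hb₁x : c ^ k * b ∉ x.1.asHomogeneousIdeal := by
    intro hmem
    rw [← hz₀x] at hmem
    exact hb₁ z₀ hzN hmem
  rcases hij with hij | hm0
  · refine ⟨i, j, c ^ l • m, c ^ k * b, pow_smul_mem hc l hm, GTD.pow_mul_mem h hc k hb,
      Or.inl hij, hb₁x, ?_⟩
    intro z hz hzx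
    obtain rfl : z = z₀ := GTD.comap_injective h hirr (hzx.trans hz₀x.symm)
    refine ⟨N₀, hzN, fun w hw => ⟨(leOfHom iN) hw, hb₁ w hw, ?_⟩⟩
    refine (hfrac ⟨w, hw⟩).trans ?_
    rw [LocalizedModule.mk_eq]
    refine ⟨1, ?_⟩
    rw [one_smul, one_smul]
    show ψ (c ^ k * b) • (m' : N) = (b' : B) • v (c ^ l • m)
    rw [v_smul, ← hmk, map_mul, map_pow, map_pow, ← hbl, smul_smul, smul_smul]
    congr 1
    ring
  · refine ⟨i, j, 0, c ^ k * b, zero_mem _, GTD.pow_mul_mem h hc k hb, Or.inr rfl, hb₁x, ?_⟩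
    intro z hz hzx
    obtain rfl : z = z₀ := GTD.comap_injective h hirr (hzx.trans hz₀x.symm)
    refine ⟨N₀, hzN, fun w hw => ⟨(leOfHom iN) hw, hb₁ w hw, ?_⟩⟩
    refine (hfrac ⟨w, hw⟩).trans ?_
    rw [hm0, map_zero, LocalizedModule.zero_mk, LocalizedModule.zero_mk]

include h hvl in
/-- **descent of sections of `M(n)~` along a localization at a degree zero element** -/
theorem exists_descent [DirectSum.Decomposition ℳ] [DirectSum.Decomposition 𝒩]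
    (hv : ∀ (i : ℕ) (m : M), m ∈ ℳ i → v m ∈ 𝒩 i) (hc : c ∈ 𝒜 0) (n : ℤ)
    (V : (Proj 𝒜).Opens) (V'' : (Proj ℬ).Opens)
    (hV : ∀ z : ProjectiveSpectrum.top ℬ, z ∈ V'' → ProjectiveSpectrum.comap ψ hirr z ∈ V)
    (hsurj : ∀ x : ProjectiveSpectrum.top 𝒜, x ∈ V →
      ∃ z : ProjectiveSpectrum.top ℬ, z ∈ V'' ∧ ProjectiveSpectrum.comap ψ hirr z = x)
    (τ'' : Γ(GrMod.tilde ℬ 𝒩 n, V'')) :
    ∃ τ : Γ(GrMod.tilde 𝒜 ℳ n, V), ∀ (z : ProjectiveSpectrum.top ℬ) (hz : z ∈ V''),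
      GrMod.val τ'' ⟨z, hz⟩ = GrMod.locModMap ψ hirr v z (GrMod.val τ ⟨_, hV z hz⟩) := by
  haveI := h.isOpenImmersion_map hc hirr
  choose i j m₁ b₁ hm₁ hb₁ hij hbx hdata using
    exists_data h hirr hvl hv hc n V V'' hsurj τ''
  have hcmp : ∀ (x x₀ : V) (w : ProjectiveSpectrum.top ℬ)
      (hxw : ProjectiveSpectrum.comap ψ hirr w = x.1)
      (hb : ψ (b₁ x) ∉ w.asHomogeneousIdeal) (hb₀ : ψ (b₁ x₀) ∉ w.asHomogeneousIdeal)
      (_ : (LocalizedModule.mk (v (m₁ x)) ⟨ψ (b₁ x), hb⟩ : GrMod.LocMod ℬ (M := N) w) =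
        LocalizedModule.mk (v (m₁ x₀)) ⟨ψ (b₁ x₀), hb₀⟩)
      (hb₀x : b₁ x₀ ∉ x.1.asHomogeneousIdeal),
      (LocalizedModule.mk (m₁ x) ⟨b₁ x, hbx x⟩ : GrMod.LocMod 𝒜 (M := M) x.1) =
        LocalizedModule.mk (m₁ x₀) ⟨b₁ x₀, hb₀x⟩ := by
    intro x x₀ w hxw hb hb₀ heq hb₀x
    obtain ⟨t, ht, hteq⟩ := exists_smul_eq_of_mk_eq h hvl w _ _ _ _ hb hb₀ heq
    rw [LocalizedModule.mk_eq]
    refine ⟨⟨t, ?_⟩, hteq⟩
    intro hmem
    rw [← hxw] at hmem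
    exact ht hmem
  refine ⟨(⟨fun x => ⟨LocalizedModule.mk (m₁ x) ⟨b₁ x, hbx x⟩, ?_⟩, ?_⟩ :
    GrMod.sect 𝒜 ℳ n (op V)), ?_⟩
  · rcases hij x with hx | hx
    · exact Submodule.subset_span ⟨i x, j x, ⟨m₁ x, hm₁ x⟩, ⟨b₁ x, hb₁ x⟩, hbx x, hx, rfl⟩
    · rw [hx, LocalizedModule.zero_mk]; exact zero_mem _
  · intro x₀
    obtain ⟨z₀, hz₀, hz₀x⟩ := hsurj x₀.1 x₀.2
    obtain ⟨N'', hzN, hN⟩ := hdata x₀ z₀ hz₀ hz₀x
    have hnin : ∀ x : ((Proj.map ψ hirr ''ᵁ N'' ⊓ V : (Proj 𝒜).Opens)),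
        b₁ x₀ ∉ x.1.asHomogeneousIdeal := by
      rintro ⟨x, ⟨w, hw, rfl⟩, hxV⟩
      obtain ⟨-, hb, -⟩ := hN w hw
      exact hb
    refine ⟨Proj.map ψ hirr ''ᵁ N'' ⊓ V, ⟨⟨z₀, hzN, hz₀x⟩, x₀.2⟩, homOfLE inf_le_right,
      i x₀, j x₀, ⟨m₁ x₀, hm₁ x₀⟩, ⟨b₁ x₀, hb₁ x₀⟩, hnin, hij x₀, ?_⟩
    rintro ⟨x, ⟨w, hw, hwx⟩, hxV⟩
    have hwx' : ProjectiveSpectrum.comap ψ hirr w = x := hwx
    obtain ⟨hwV, hb₀, hval₀⟩ := hN w hw
    obtain ⟨Nx, hwNx, hNx⟩ := hdata ⟨x, hxV⟩ w hwV hwx'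
    obtain ⟨hwV', hb, hval⟩ := hNx w hwNx
    exact hcmp ⟨x, hxV⟩ x₀ w hwx' hb hb₀ (hval.symm.trans hval₀) _
  · intro z hz
    obtain ⟨Nz, hzNz, hNz⟩ := hdata ⟨_, hV z hz⟩ z hz rfl
    obtain ⟨hwV, hb, hval⟩ := hNz z hzNz
    refine hval.trans ?_
    exact (GrMod.locModMap_mk ψ hirr v z (m₁ ⟨_, hV z hz⟩)
      ⟨b₁ ⟨_, hV z hz⟩, hbx ⟨_, hV z hz⟩⟩).symm

end Groth.Agent.Helper1.GMD
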