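import Mathlib
import Groth.Prelude.Def_RelProj3
import Groth.Agent.Helper1.TR32
import Groth.Agent.Helper1.TR35
import Groth.Agent.Helper4.QcqsMod

/-!
# Chart transitions of the modules `ℳ(n)~` of a relative Proj along the small affine Zariski site
-/

set_option autoImplicit false
set_option linter.style.haveILetI false

namespace Groth.Agent.Helper1.TRE

open CategoryTheory CategoryTheory.Limits AlgebraicGeometry TopologicalSpace Opposite RelProj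
open Groth.Agent.Helper1.RP
open scoped HomogeneousIdeal

universe u

variable {Y : Scheme.{u}} {𝒮 : QCGrAlg Y} (ℳ : GrModule 𝒮)

/-- the restriction map of the graded module for a pair of the affine site -/
noncomputable def ρM {U V : Y.AffineZariskiSite} (h : V ≤ U) :
    ℳ.mod.val.obj (op U.1) →ₛₗ[(ρ 𝒮 h).toRingHom] ℳ.mod.val.obj (op V.1) :=
  ℳ.res U.2 V.2 (Scheme.AffineZariskiSite.toOpens_mono h)

lemma ρM_mem {U V : Y.AffineZariskiSite} (h : V ≤ U) (i : ℕ) (m : ℳ.mod.val.obj (op U.1))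
    (hm : m ∈ ℳ.deg U.1 U.2 i) : ρM ℳ h m ∈ ℳ.deg V.1 V.2 i :=
  ℳ.res_mem U.2 V.2 (Scheme.AffineZariskiSite.toOpens_mono h) i m hm

lemma ρM_comp {U V W : Y.AffineZariskiSite} (h₁ : V ≤ U) (h₂ : W ≤ V)
    (m : ℳ.mod.val.obj (op U.1)) : ρM ℳ h₂ (ρM ℳ h₁ m) = ρM ℳ (h₂.trans h₁) m := by
  show (ℳ.mod.val.map (homOfLE (Scheme.AffineZariskiSite.toOpens_mono h₂)).op).hom
      ((ℳ.mod.val.map (homOfLE (Scheme.AffineZariskiSite.toOpens_mono h₁)).op).hom m) =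
    (ℳ.mod.val.map (homOfLE (Scheme.AffineZariskiSite.toOpens_mono (h₂.trans h₁))).op).hom m
  have h3 : (homOfLE (Scheme.AffineZariskiSite.toOpens_mono (h₂.trans h₁))).op =
      (homOfLE (Scheme.AffineZariskiSite.toOpens_mono h₁)).op ≫
        (homOfLE (Scheme.AffineZariskiSite.toOpens_mono h₂)).op := rfl
  rw [h3, ℳ.mod.val.map_comp]
  rfl

lemma isLocAwayMod_res (hℳ : Coh.IsQCoh ((AMod.toOS 𝒮.toQCAlg).obj ℳ.mod)) (U : Y.Opens)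
    (hU : IsAffineOpen U) (r : Γ(Y, U)) :
    GMD.IsLocAwayMod (𝒮.res hU (hU.basicOpen r) (Y.basicOpen_le r)) ((𝒮.str.app (op U)).hom r)
      (ℳ.res hU (hU.basicOpen r) (Y.basicOpen_le r)) := by
  let F : Y.Modules := (AMod.toOS 𝒮.toQCAlg).obj ℳ.mod
  haveI : F.IsQuasicoherent := hℳ
  have hloc := Groth.Agent.Helper4.QcqsMod.isLocalizingOn_of_isAffineOpen F hU
  have hstr : ∀ k : ℕ, (𝒮.str.app (op (Y.basicOpen r))).hom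
      (Y.presheaf.map (homOfLE (Y.basicOpen_le r)).op (r ^ k)) =
      (𝒮.res hU (hU.basicOpen r) (Y.basicOpen_le r)) ((𝒮.str.app (op U)).hom r) ^ k := by
    intro k
    have := congrArg (fun t => t.hom (r ^ k)) (𝒮.str.naturality (homOfLE (Y.basicOpen_le r)).op)
    rw [← map_pow, ← map_pow]
    simp only [CommRingCat.hom_comp, RingHom.comp_apply] at this
    exact this
  constructor
  · intro m'
    obtain ⟨k, m'', hm''⟩ := hloc.surj r (show Γ(F, Y.basicOpen r) from m')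
    refine ⟨m'', k, ?_⟩
    rw [← hstr k]
    exact hm''
  · intro m hm
    obtain ⟨k, hk⟩ := hloc.zero r (show Γ(F, U) from m) hm
    refine ⟨k, ?_⟩
    rw [← map_pow]
    exact hk

lemma isLocAway_ρM (hℳ : Coh.IsQCoh ((AMod.toOS 𝒮.toQCAlg).obj ℳ.mod))
    {U V : Y.AffineZariskiSite} (h : V ≤ U) :
    ∃ c, c ∈ 𝒮.deg U.1 U.2 0 ∧ IsLocAway (ρ 𝒮 h) c ∧ GMD.IsLocAwayMod (ρ 𝒮 h) c (ρM ℳ h) := by
  refine pair_cases (motive := fun U V h => ∃ c, c ∈ 𝒮.deg U.1 U.2 0 ∧ IsLocAway (ρ 𝒮 h) c ∧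
    GMD.IsLocAwayMod (ρ 𝒮 h) c (ρM ℳ h)) ?_ h
  intro U r
  exact ⟨_, 𝒮.str_mem U.1 U.2 r, isLocAway_res 𝒮 U.1 U.2 r, isLocAwayMod_res ℳ hℳ U.1 U.2 r⟩

lemma locModMap_injective_ρ (hℳ : Coh.IsQCoh ((AMod.toOS 𝒮.toQCAlg).obj ℳ.mod))
    {U V : Y.AffineZariskiSite} (h : V ≤ U) (z : ProjectiveSpectrum (𝒮.deg V.1 V.2)) :
    Function.Injective (GrMod.locModMap (ρ 𝒮 h) (irr 𝒮 h) (ρM ℳ h) z) := by
  obtain ⟨c, -, hc, hcm⟩ := isLocAway_ρM ℳ hℳ h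
  exact GMD.locModMap_injective hc (irr 𝒮 h) hcm z


section ring

variable {A σA : Type u} [CommRing A] [SetLike σA A] [AddSubgroupClass σA A] {𝒜 : ℕ → σA}
  [GradedRing 𝒜]
variable {B σB : Type u} [CommRing B] [SetLike σB B] [AddSubgroupClass σB B] {ℬ : ℕ → σB}
  [GradedRing ℬ]
variable {C σC : Type u} [CommRing C] [SetLike σC C] [AddSubgroupClass σC C] {𝒞 : ℕ → σC}
  [GradedRing 𝒞]
variable {M τM : Type u} [AddCommGroup M] [Module A M] [SetLike τM M] [AddSubgroupClass τM M]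
  {ℳ₁ : ℕ → τM} [SetLike.GradedSMul 𝒜 ℳ₁]
variable {N τN : Type u} [AddCommGroup N] [Module B N] [SetLike τN N] [AddSubgroupClass τN N]
  {𝒩₁ : ℕ → τN} [SetLike.GradedSMul ℬ 𝒩₁]
variable {K τK : Type u} [AddCommGroup K] [Module C K] [SetLike τK K] [AddSubgroupClass τK K]
  {𝒦₁ : ℕ → τK} [SetLike.GradedSMul 𝒞 𝒦₁]
variable (ψ : 𝒜 →+*ᵍ ℬ) (hψ : ℬ₊ ≤ (𝒜₊).map ψ) (φ : ℬ →+*ᵍ 𝒞) (hφ : 𝒞₊ ≤ (ℬ₊).map φ)
  (χ : 𝒜 →+*ᵍ 𝒞) (hχ : 𝒞₊ ≤ (𝒜₊).map χ) (hcomm : ∀ a : A, φ (ψ a) = χ a)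
  (v : M →ₛₗ[ψ.toRingHom] N) (w : N →ₛₗ[φ.toRingHom] K) (x : M →ₛₗ[χ.toRingHom] K)
  (hvw : ∀ m : M, w (v m) = x m)

include hcomm hvw in
/-- the two ways around a commutative triangle agree on the values of a section -/
lemma locModMap_triangle {n : ℤ} {O : (Proj 𝒜).Opens} (F : Γ(GrMod.tilde 𝒜 ℳ₁ n, O))
    (z : ProjectiveSpectrum 𝒞)
    (h₁ : ProjectiveSpectrum.comap ψ hψ (ProjectiveSpectrum.comap φ hφ z) ∈ O)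
    (h₂ : ProjectiveSpectrum.comap χ hχ z ∈ O) :
    GrMod.locModMap φ hφ w z (GrMod.locModMap ψ hψ v (ProjectiveSpectrum.comap φ hφ z)
        (GrMod.val F ⟨_, h₁⟩)) =
      GrMod.locModMap χ hχ x z (GrMod.val F ⟨_, h₂⟩) := by
  obtain ⟨N₀, hxN, iN, i, j, a, b, nin, -, hfrac⟩ := (F : GrMod.sect 𝒜 ℳ₁ n (op O)).2 ⟨_, h₁⟩
  have hx₂ : ProjectiveSpectrum.comap χ hχ z ∈ N₀ := by
    rw [← comap_triangle ψ hψ φ hφ χ hχ hcomm]; exact hxN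
  have e1 : GrMod.val F ⟨_, h₁⟩ = LocalizedModule.mk (a : M) ⟨(b : A), nin ⟨_, hxN⟩⟩ := hfrac ⟨_, hxN⟩
  have e2 : GrMod.val F ⟨_, h₂⟩ = LocalizedModule.mk (a : M) ⟨(b : A), nin ⟨_, hx₂⟩⟩ := hfrac ⟨_, hx₂⟩
  rw [e1, e2, GrMod.locModMap_mk, GrMod.locModMap_mk, GrMod.locModMap_mk]
  congr 1
  · exact hvw _
  · exact Subtype.ext (hcomm _)

end ring

variable {ℳ} {P : Scheme.{u}} {p : P ⟶ Y}
  {chart : ∀ (U : Y.Opens) (hU : IsAffineOpen U),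
    (((p ⁻¹ᵁ U : P.Opens) : Scheme.{u}) ≅ Proj (𝒮.deg U hU))} (n : ℤ)

/-- transitivity of the chart transitions, on the values of a section -/
lemma locModMap_trans {U V D : Y.AffineZariskiSite} (h₁ : V ≤ U) (h₂ : D ≤ V) (h₃ : D ≤ U)
    {O : (Proj (𝒮.deg U.1 U.2)).Opens}
    (F : Γ(GrMod.tilde (𝒮.deg U.1 U.2) (ℳ.deg U.1 U.2) n, O))
    (z : ProjectiveSpectrum (𝒮.deg D.1 D.2))
    (hz₁ : ProjectiveSpectrum.comap (ρ 𝒮 h₁) (irr 𝒮 h₁)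
      (ProjectiveSpectrum.comap (ρ 𝒮 h₂) (irr 𝒮 h₂) z) ∈ O)
    (hz₂ : ProjectiveSpectrum.comap (ρ 𝒮 h₃) (irr 𝒮 h₃) z ∈ O) :
    GrMod.locModMap (ρ 𝒮 h₂) (irr 𝒮 h₂) (ρM ℳ h₂) z (GrMod.locModMap (ρ 𝒮 h₁) (irr 𝒮 h₁)
        (ρM ℳ h₁) (ProjectiveSpectrum.comap (ρ 𝒮 h₂) (irr 𝒮 h₂) z) (GrMod.val F ⟨_, hz₁⟩)) =
      GrMod.locModMap (ρ 𝒮 h₃) (irr 𝒮 h₃) (ρM ℳ h₃) z (GrMod.val F ⟨_, hz₂⟩) :=
  locModMap_triangle (ρ 𝒮 h₁) (irr 𝒮 h₁) (ρ 𝒮 h₂) (irr 𝒮 h₂) (ρ 𝒮 h₃) (irr 𝒮 h₃)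
    (fun a => ρ_comp 𝒮 h₁ h₂ a) (ρM ℳ h₁) (ρM ℳ h₂) (ρM ℳ h₃) (fun m => ρM_comp ℳ h₁ h₂ m)
    F z hz₁ hz₂

/-- the forward chart transition on sections -/
noncomputable def fwdM (hP : IsRelProj 𝒮 p chart) {U V : Y.AffineZariskiSite} (h : V ≤ U)
    (W : P.Opens)
    (τ : Γ(GrMod.tilde (𝒮.deg U.1 U.2) (ℳ.deg U.1 U.2) n, emb p chart U.1 U.2 ⁻¹ᵁ W)) :
    Γ(GrMod.tilde (𝒮.deg V.1 V.2) (ℳ.deg V.1 V.2) n, emb p chart V.1 V.2 ⁻¹ᵁ W) :=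
  GrMod.comapApp (ρ 𝒮 h) (irr 𝒮 h) (ρM ℳ h) (ρM_mem ℳ h) n (emb p chart U.1 U.2 ⁻¹ᵁ W)
    (emb p chart V.1 V.2 ⁻¹ᵁ W)
    (fun z hz => by
      show (emb p chart U.1 U.2).base (ProjectiveSpectrum.comap (ρ 𝒮 h) (irr 𝒮 h) z) ∈ W
      rw [emb_comap_ρ hP h z]; exact hz) τ

lemma val_fwdM (hP : IsRelProj 𝒮 p chart) {U V : Y.AffineZariskiSite} (h : V ≤ U)
    (W : P.Opens)
    (τ : Γ(GrMod.tilde (𝒮.deg U.1 U.2) (ℳ.deg U.1 U.2) n, emb p chart U.1 U.2 ⁻¹ᵁ W))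
    (z : ProjectiveSpectrum (𝒮.deg V.1 V.2)) (hz : (emb p chart V.1 V.2).base z ∈ W)
    (hz' : (emb p chart U.1 U.2).base (ProjectiveSpectrum.comap (ρ 𝒮 h) (irr 𝒮 h) z) ∈ W) :
    GrMod.val (fwdM n hP h W τ) ⟨z, hz⟩ =
      GrMod.locModMap (ρ 𝒮 h) (irr 𝒮 h) (ρM ℳ h) z (GrMod.val τ ⟨_, hz'⟩) := rfl

/-- the backward chart transition on sections -/
lemma exists_bwdM (hℳ : Coh.IsQCoh ((AMod.toOS 𝒮.toQCAlg).obj ℳ.mod))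
    (hP : IsRelProj 𝒮 p chart) {U V : Y.AffineZariskiSite} (h : V ≤ U)
    (W : P.Opens) (hW : W ≤ p ⁻¹ᵁ V.1)
    (τ'' : Γ(GrMod.tilde (𝒮.deg V.1 V.2) (ℳ.deg V.1 V.2) n, emb p chart V.1 V.2 ⁻¹ᵁ W)) :
    ∃ τ : Γ(GrMod.tilde (𝒮.deg U.1 U.2) (ℳ.deg U.1 U.2) n, emb p chart U.1 U.2 ⁻¹ᵁ W),
      ∀ (z : ProjectiveSpectrum (𝒮.deg V.1 V.2)) (hz : (emb p chart V.1 V.2).base z ∈ W)
        (hz' : (emb p chart U.1 U.2).base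
          (ProjectiveSpectrum.comap (ρ 𝒮 h) (irr 𝒮 h) z) ∈ W),
        GrMod.val τ'' ⟨z, hz⟩ =
          GrMod.locModMap (ρ 𝒮 h) (irr 𝒮 h) (ρM ℳ h) z (GrMod.val τ ⟨_, hz'⟩) := by
  obtain ⟨c, hc0, hc, hcm⟩ := isLocAway_ρM ℳ hℳ h
  have hV : ∀ z : ProjectiveSpectrum.top (𝒮.deg V.1 V.2), z ∈ emb p chart V.1 V.2 ⁻¹ᵁ W →
      ProjectiveSpectrum.comap (ρ 𝒮 h) (irr 𝒮 h) z ∈ emb p chart U.1 U.2 ⁻¹ᵁ W := by
    intro z hz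
    show (emb p chart U.1 U.2).base (ProjectiveSpectrum.comap (ρ 𝒮 h) (irr 𝒮 h) z) ∈ W
    rw [emb_comap_ρ hP h z]; exact hz
  have hsurj : ∀ x : ProjectiveSpectrum.top (𝒮.deg U.1 U.2), x ∈ emb p chart U.1 U.2 ⁻¹ᵁ W →
      ∃ z : ProjectiveSpectrum.top (𝒮.deg V.1 V.2), z ∈ emb p chart V.1 V.2 ⁻¹ᵁ W ∧
        ProjectiveSpectrum.comap (ρ 𝒮 h) (irr 𝒮 h) z = x := by
    intro x hx
    obtain ⟨z, rfl⟩ := exists_comap_ρ hP h x (hW hx)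
    refine ⟨z, ?_, rfl⟩
    show (emb p chart V.1 V.2).base z ∈ W
    rw [← emb_comap_ρ hP h z]; exact hx
  obtain ⟨τ, hτ⟩ := GMD.exists_descent hc (irr 𝒮 h) hcm (ρM_mem ℳ h) hc0 n
    (emb p chart U.1 U.2 ⁻¹ᵁ W) (emb p chart V.1 V.2 ⁻¹ᵁ W) hV hsurj τ''
  exact ⟨τ, fun z hz hz' => hτ z hz⟩

end Groth.Agent.Helper1.TRE
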