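import Mathlib
import Groth.Prelude.Def_RelProj3
import Groth.Agent.Helper1.TR36
import Groth.Agent.Helper1.TR34
import Groth.Agent.Helper1.GM3

/-!
# Existence of the modules `ℳ(n)~` on a relative Proj
-/

set_option autoImplicit false
set_option linter.style.haveILetI false

namespace Groth.Agent.Helper1.TRE

open CategoryTheory CategoryTheory.Limits AlgebraicGeometry TopologicalSpace Opposite RelProj
open Groth.Agent.Helper1.RP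
open scoped HomogeneousIdeal

universe u

variable {Y P : Scheme.{u}} {𝒮 : QCGrAlg Y} (p : P ⟶ Y)
  (chart : ∀ (U : Y.Opens) (hU : IsAffineOpen U),
    (((p ⁻¹ᵁ U : P.Opens) : Scheme.{u}) ≅ Proj (𝒮.deg U hU))) (ℳ : GrModule 𝒮) (n : ℤ)

/-- the direct images of the chartwise modules -/
noncomputable def QM (U : Y.AffineZariskiSite) : P.Modules :=
  (Scheme.Modules.pushforward (emb p chart U.1 U.2)).obj
    (GrMod.tilde (𝒮.deg U.1 U.2) (ℳ.deg U.1 U.2) n)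

/-- the reading of a component -/
noncomputable def rdQM {V : P.Opens} (U : Y.AffineZariskiSite) (s : Γ(QM p chart ℳ n U, V)) :
    Γ(GrMod.tilde (𝒮.deg U.1 U.2) (ℳ.deg U.1 U.2) n, emb p chart U.1 U.2 ⁻¹ᵁ V) := s

/-- compatibility of a family of chartwise sections along the affine site -/
def IsCompatM (V : P.Opens) (σ : ∀ U : Y.AffineZariskiSite, Γ(QM p chart ℳ n U, V)) : Prop :=
  ∀ (U D : Y.AffineZariskiSite) (h : D ≤ U) (z : ProjectiveSpectrum (𝒮.deg D.1 D.2))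
    (hz : (emb p chart D.1 D.2).base z ∈ V)
    (hz' : (emb p chart U.1 U.2).base
      (ProjectiveSpectrum.comap (ρ 𝒮 h) (irr 𝒮 h) z) ∈ V),
    GrMod.val (rdQM p chart ℳ n D (σ D)) ⟨z, hz⟩ =
      GrMod.locModMap (ρ 𝒮 h) (irr 𝒮 h) (ρM ℳ h) z
        (GrMod.val (rdQM p chart ℳ n U (σ U)) ⟨_, hz'⟩)

variable {p chart}

/-- the local linear condition -/
noncomputable def condM (hP : IsRelProj 𝒮 p chart) : SubProd.LocalCond (QM p chart ℳ n) where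
  C := IsCompatM p chart ℳ n
  zero V := by
    intro U D h z hz hz'
    exact (map_zero _).symm
  add V σ σ' hσ hσ' := by
    intro U D h z hz hz'
    have h1 := hσ U D h z hz hz'
    have h2 := hσ' U D h z hz hz'
    refine Eq.trans ?_ (map_add _ _ _).symm
    exact congrArg₂ (· + ·) h1 h2
  smul V r σ hσ := by
    intro U D h z hz hz'
    have h1 := hσ U D h z hz hz'
    have e1 : rdQM p chart ℳ n D ((r • σ) D) =
        ((emb p chart D.1 D.2).app V r) • rdQM p chart ℳ n D (σ D) := rfl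
    have e2 : rdQM p chart ℳ n U ((r • σ) U) =
        ((emb p chart U.1 U.2).app V r) • rdQM p chart ℳ n U (σ U) := rfl
    rw [e1, e2, GM.val_smul, GM.val_smul, GrMod.locModMap_smul, h1]
    exact congrArg (· • _) (val_app_ρ hP h V r z hz hz')
  res {V V'} f σ hσ := by
    intro U D h z hz hz'
    exact hσ U D h z (f.le hz) (f.le hz')
  loc V σ hloc := by
    intro U D h z hz hz'
    obtain ⟨V', f, hxV', hC⟩ := hloc _ hz
    have hz'' : (emb p chart U.1 U.2).base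
        (ProjectiveSpectrum.comap (ρ 𝒮 h) (irr 𝒮 h) z) ∈ V' := by
      rw [emb_comap_ρ hP h z]; exact hxV'
    exact hC U D h z hxV' hz''


variable {ℳ} (hP : IsRelProj 𝒮 p chart)
  (hℳ : Coh.IsQCoh ((AMod.toOS 𝒮.toQCAlg).obj ℳ.mod))

variable (U₀ : Y.AffineZariskiSite) (W : P.Opens) (hW : W ≤ p ⁻¹ᵁ U₀.1)
  (τ : Γ(GrMod.tilde (𝒮.deg U₀.1 U₀.2) (ℳ.deg U₀.1 U₀.2) n, emb p chart U₀.1 U₀.2 ⁻¹ᵁ W))

/-- "`τ'` is the transfer of `τ` to the chart over `U`" -/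
def AdM (U : Y.AffineZariskiSite) (O : (Proj (𝒮.deg U.1 U.2)).Opens)
    (τ' : Γ(GrMod.tilde (𝒮.deg U.1 U.2) (ℳ.deg U.1 U.2) n, O)) : Prop :=
  ∀ (D : Y.AffineZariskiSite) (h : D ≤ U) (h₀ : D ≤ U₀)
    (z : ProjectiveSpectrum (𝒮.deg D.1 D.2))
    (hz : ProjectiveSpectrum.comap (ρ 𝒮 h) (irr 𝒮 h) z ∈ O)
    (hz₀ : (emb p chart U₀.1 U₀.2).base
      (ProjectiveSpectrum.comap (ρ 𝒮 h₀) (irr 𝒮 h₀) z) ∈ W),
    GrMod.locModMap (ρ 𝒮 h) (irr 𝒮 h) (ρM ℳ h) z (GrMod.val τ' ⟨_, hz⟩) =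
      GrMod.locModMap (ρ 𝒮 h₀) (irr 𝒮 h₀) (ρM ℳ h₀) z
        (GrMod.val (V := emb p chart U₀.1 U₀.2 ⁻¹ᵁ W) τ ⟨_, hz₀⟩)

include hP hW hℳ in
lemma Ad_uniqueM (U : Y.AffineZariskiSite) (O : (Proj (𝒮.deg U.1 U.2)).Opens)
    (hO : O ≤ emb p chart U.1 U.2 ⁻¹ᵁ W)
    (τ' τ'' : Γ(GrMod.tilde (𝒮.deg U.1 U.2) (ℳ.deg U.1 U.2) n, O))
    (h' : AdM n U₀ W τ U O τ') (h'' : AdM n U₀ W τ U O τ'') : τ' = τ'' := by
  apply GM.sect_ext
  rintro ⟨y, hy⟩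
  have hyW : (emb p chart U.1 U.2).base y ∈ W := hO hy
  obtain ⟨D, hDU, hD₀, hsD⟩ := exists_common U U₀ (p.base ((emb p chart U.1 U.2).base y))
    (emb_mem p chart U.1 U.2 y) (hW hyW)
  obtain ⟨z, rfl⟩ := exists_comap_ρ hP hDU y hsD
  have hz₀ : (emb p chart U₀.1 U₀.2).base
      (ProjectiveSpectrum.comap (ρ 𝒮 hD₀) (irr 𝒮 hD₀) z) ∈ W := by
    rw [emb_comap_ρ hP hD₀ z, ← emb_comap_ρ hP hDU z]; exact hyW
  exact locModMap_injective_ρ ℳ hℳ hDU z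
    ((h' D hDU hD₀ z hy hz₀).trans (h'' D hDU hD₀ z hy hz₀).symm)

lemma Ad_resM (U : Y.AffineZariskiSite) {O O' : (Proj (𝒮.deg U.1 U.2)).Opens} (hOO : O' ≤ O)
    (τ' : Γ(GrMod.tilde (𝒮.deg U.1 U.2) (ℳ.deg U.1 U.2) n, O)) (h' : AdM n U₀ W τ U O τ') :
    AdM n U₀ W τ U O' ((GrMod.tilde (𝒮.deg U.1 U.2) (ℳ.deg U.1 U.2) n).presheaf.map (homOfLE hOO).op τ') := by
  intro D h h₀ z hz hz₀
  exact h' D h h₀ z (hOO hz) hz₀


include hP hℳ in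
/-- the transfer exists over the part of `W` lying over a common basic open -/
lemma exists_Ad_localM (U D : Y.AffineZariskiSite) (h : D ≤ U) (h₀ : D ≤ U₀) :
    ∃ τ' : Γ(GrMod.tilde (𝒮.deg U.1 U.2) (ℳ.deg U.1 U.2) n, emb p chart U.1 U.2 ⁻¹ᵁ (W ⊓ p ⁻¹ᵁ D.1)),
      AdM n U₀ W τ U (emb p chart U.1 U.2 ⁻¹ᵁ (W ⊓ p ⁻¹ᵁ D.1)) τ' := by
  set Wk : P.Opens := W ⊓ p ⁻¹ᵁ D.1 with hWk
  have hWkW : Wk ≤ W := inf_le_left
  let τ₀ : Γ(GrMod.tilde (𝒮.deg U₀.1 U₀.2) (ℳ.deg U₀.1 U₀.2) n, emb p chart U₀.1 U₀.2 ⁻¹ᵁ Wk) :=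
    (GrMod.tilde (𝒮.deg U₀.1 U₀.2) (ℳ.deg U₀.1 U₀.2) n).presheaf.map
      (homOfLE ((emb p chart U₀.1 U₀.2).preimage_mono hWkW)).op τ
  obtain ⟨τk, hτk⟩ := exists_bwdM n hℳ hP h Wk inf_le_right (fwdM n hP h₀ Wk τ₀)
  refine ⟨τk, ?_⟩
  intro D' h' h₀' z' hz hz₀
  have hx : (emb p chart D'.1 D'.2).base z' ∈ Wk := mem_down hP h' z' hz
  obtain ⟨E, hED, hED', hsE⟩ := exists_common D D' (p.base ((emb p chart D'.1 D'.2).base z'))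
    hx.2 (emb_mem p chart D'.1 D'.2 z')
  obtain ⟨w, rfl⟩ := exists_comap_ρ hP hED' z' hsE
  apply locModMap_injective_ρ ℳ hℳ hED' w
  -- memberships
  have hwE : (emb p chart E.1 E.2).base w ∈ Wk := mem_down hP hED' w hx
  have hzD : (emb p chart D.1 D.2).base
      (ProjectiveSpectrum.comap (ρ 𝒮 hED) (irr 𝒮 hED) w) ∈ Wk := mem_up hP hED w hwE
  have hz1 : (emb p chart U.1 U.2).base (ProjectiveSpectrum.comap (ρ 𝒮 h) (irr 𝒮 h)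
      (ProjectiveSpectrum.comap (ρ 𝒮 hED) (irr 𝒮 hED) w)) ∈ Wk := mem_up hP h _ hzD
  have hzE : (emb p chart U.1 U.2).base
      (ProjectiveSpectrum.comap (ρ 𝒮 (hED.trans h)) (irr 𝒮 (hED.trans h)) w) ∈ Wk :=
    mem_up hP (hED.trans h) w hwE
  have hz₀E : (emb p chart U₀.1 U₀.2).base
      (ProjectiveSpectrum.comap (ρ 𝒮 (hED.trans h₀)) (irr 𝒮 (hED.trans h₀)) w) ∈ W :=
    hWkW (mem_up hP (hED.trans h₀) w hwE)
  have hz₀D : (emb p chart U₀.1 U₀.2).base (ProjectiveSpectrum.comap (ρ 𝒮 h₀) (irr 𝒮 h₀)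
      (ProjectiveSpectrum.comap (ρ 𝒮 hED) (irr 𝒮 hED) w)) ∈ Wk := mem_up hP h₀ _ hzD
  -- the left side
  have s1 := locModMap_trans n h' hED' (hED.trans h) τk w hz hzE
  have s2 := locModMap_trans n h hED (hED.trans h) τk w hz1 hzE
  have s3 := hτk (ProjectiveSpectrum.comap (ρ 𝒮 hED) (irr 𝒮 hED) w) hzD hz1
  have s4 : GrMod.val (fwdM n hP h₀ Wk τ₀) ⟨_, hzD⟩ =
      GrMod.locModMap (ρ 𝒮 h₀) (irr 𝒮 h₀) (ρM ℳ h₀) (ProjectiveSpectrum.comap (ρ 𝒮 hED) (irr 𝒮 hED) w)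
        (GrMod.val (V := emb p chart U₀.1 U₀.2 ⁻¹ᵁ W) τ ⟨_, hWkW hz₀D⟩) := rfl
  have s5 := locModMap_trans n h₀ hED (hED.trans h₀) τ w (hWkW hz₀D) hz₀E
  have s6 := locModMap_trans n h₀' hED' (hED.trans h₀) τ w hz₀ hz₀E
  rw [s1, ← s2, ← s3, s4, s5, s6]


include hP hW hℳ in
/-- the transfer of `τ` to the chart over `U` -/
lemma exists_AdM (U : Y.AffineZariskiSite) :
    ∃ τ' : Γ(GrMod.tilde (𝒮.deg U.1 U.2) (ℳ.deg U.1 U.2) n, emb p chart U.1 U.2 ⁻¹ᵁ W),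
      AdM n U₀ W τ U (emb p chart U.1 U.2 ⁻¹ᵁ W) τ' := by
  let K : Type u := {D : Y.AffineZariskiSite // D ≤ U ∧ D ≤ U₀}
  let T : K → (Proj (𝒮.deg U.1 U.2)).Opens :=
    fun k => emb p chart U.1 U.2 ⁻¹ᵁ (W ⊓ p ⁻¹ᵁ k.1.1)
  have hTW : ∀ k : K, T k ≤ emb p chart U.1 U.2 ⁻¹ᵁ W :=
    fun k => (emb p chart U.1 U.2).preimage_mono inf_le_left
  choose τk hτk using fun k : K => exists_Ad_localM n hP hℳ U₀ W τ U k.1 k.2.1 k.2.2
  have hcover : emb p chart U.1 U.2 ⁻¹ᵁ W ≤ iSup T := by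
    intro y hy
    have hyW : (emb p chart U.1 U.2).base y ∈ W := hy
    obtain ⟨D, hDU, hD₀, hsD⟩ := exists_common U U₀ (p.base ((emb p chart U.1 U.2).base y))
      (emb_mem p chart U.1 U.2 y) (hW hyW)
    exact Opens.mem_iSup.2 ⟨⟨D, hDU, hD₀⟩, hyW, hsD⟩
  have hcompat : TopCat.Presheaf.IsCompatible (GrMod.tilde (𝒮.deg U.1 U.2) (ℳ.deg U.1 U.2) n).presheaf T τk := by
    intro k k'
    have h1 := Ad_resM n U₀ W τ U (inf_le_left : T k ⊓ T k' ≤ T k) (τk k) (hτk k)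
    have h2 := Ad_resM n U₀ W τ U (inf_le_right : T k ⊓ T k' ≤ T k') (τk k') (hτk k')
    exact Ad_uniqueM n hP hℳ U₀ W hW τ U (T k ⊓ T k') (inf_le_left.trans (hTW k)) _ _ h1 h2
  obtain ⟨τ', hτ', -⟩ := TopCat.Sheaf.existsUnique_gluing'
    (⟨(GrMod.tilde (𝒮.deg U.1 U.2) (ℳ.deg U.1 U.2) n).presheaf, (GrMod.tilde (𝒮.deg U.1 U.2) (ℳ.deg U.1 U.2) n).isSheaf⟩ :
      TopCat.Sheaf Ab (Proj (𝒮.deg U.1 U.2))) T (emb p chart U.1 U.2 ⁻¹ᵁ W)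
    (fun k => homOfLE (hTW k)) hcover τk hcompat
  refine ⟨τ', ?_⟩
  intro D h h₀ z hz hz₀
  have hzk : ProjectiveSpectrum.comap (ρ 𝒮 h) (irr 𝒮 h) z ∈ T ⟨D, h, h₀⟩ := by
    refine ⟨hz, ?_⟩
    show p.base ((emb p chart U.1 U.2).base (ProjectiveSpectrum.comap (ρ 𝒮 h) (irr 𝒮 h) z)) ∈ D.1
    rw [emb_comap_ρ hP h z]
    exact emb_mem p chart D.1 D.2 z
  have h3 : (GrMod.tilde (𝒮.deg U.1 U.2) (ℳ.deg U.1 U.2) n).presheaf.map (homOfLE (hTW ⟨D, h, h₀⟩)).op τ' =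
      τk ⟨D, h, h₀⟩ := hτ' ⟨D, h, h₀⟩
  have h4 : GrMod.val τ' ⟨_, hz⟩ = GrMod.val (τk ⟨D, h, h₀⟩) ⟨_, hzk⟩ := by
    rw [← h3]; rfl
  rw [h4]
  exact hτk ⟨D, h, h₀⟩ D h h₀ z hzk hz₀


include hP in
/-- the components of a compatible family are the transfers of its component over `U₀` -/
lemma Ad_of_isCompatM (σ : ∀ U : Y.AffineZariskiSite, Γ(QM p chart ℳ n U, W))
    (hσ : IsCompatM p chart ℳ n W σ) (U : Y.AffineZariskiSite) :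
    AdM n U₀ W (rdQM p chart ℳ n U₀ (σ U₀)) U (emb p chart U.1 U.2 ⁻¹ᵁ W) (rdQM p chart ℳ n U (σ U)) := by
  intro D h h₀ z hz hz₀
  have hzD : (emb p chart D.1 D.2).base z ∈ W := mem_down hP h z hz
  exact (hσ U D h z hzD hz).symm.trans (hσ U₀ D h₀ z hzD hz₀)

include hP hW hℳ in
/-- a family of transfers is compatible -/
lemma isCompat_of_AdM (σ : ∀ U : Y.AffineZariskiSite, Γ(QM p chart ℳ n U, W))
    (hσ : ∀ U, AdM n U₀ W τ U (emb p chart U.1 U.2 ⁻¹ᵁ W) (rdQM p chart ℳ n U (σ U))) :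
    IsCompatM p chart ℳ n W σ := by
  intro U D h z hz hz'
  obtain ⟨E, hED, hE₀, hsE⟩ := exists_common D U₀ (p.base ((emb p chart D.1 D.2).base z))
    (emb_mem p chart D.1 D.2 z) (hW hz)
  obtain ⟨w, rfl⟩ := exists_comap_ρ hP hED z hsE
  apply locModMap_injective_ρ ℳ hℳ hED w
  have hwE : (emb p chart E.1 E.2).base w ∈ W := mem_down hP hED w hz
  have hz₀ : (emb p chart U₀.1 U₀.2).base
      (ProjectiveSpectrum.comap (ρ 𝒮 hE₀) (irr 𝒮 hE₀) w) ∈ W := mem_up hP hE₀ w hwE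
  have hzU : (emb p chart U.1 U.2).base
      (ProjectiveSpectrum.comap (ρ 𝒮 (hED.trans h)) (irr 𝒮 (hED.trans h)) w) ∈ W :=
    mem_up hP (hED.trans h) w hwE
  have s1 := hσ D E hED hE₀ w hz hz₀
  have s2 := locModMap_trans n h hED (hED.trans h) (rdQM p chart ℳ n U (σ U)) w hz' hzU
  have s3 := hσ U E (hED.trans h) hE₀ w hzU hz₀
  rw [s1, s2, s3]

include hP hℳ in
/-- **existence of the module `ℳ(n)~` on a relative Proj, `ℳ` quasi-coherent** -/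
theorem exists_isRelTilde :
    ∃ (L : P.Modules) (lam : ∀ (U : Y.Opens) (hU : IsAffineOpen U),
      L ⟶ (Scheme.Modules.pushforward (emb p chart U hU)).obj (GrMod.tilde (𝒮.deg U hU) (ℳ.deg U hU) n)),
      IsRelTilde 𝒮 p chart ℳ n L lam := by
  obtain ⟨L, π, hext, hcond, hex⟩ := SubProd.exists_subProd (condM ℳ n hP)
  refine ⟨L, fun U hU => π ⟨U, hU⟩, ?_, ?_⟩
  · intro U₀ hU₀ W hW
    constructor
    · intro s s' hss
      apply hext W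
      intro U
      have h1 := Ad_of_isCompatM n hP ⟨U₀, hU₀⟩ W _ (hcond W s) U
      have h2 := Ad_of_isCompatM n hP ⟨U₀, hU₀⟩ W _ (hcond W s') U
      have hss' : rdQM p chart ℳ n ⟨U₀, hU₀⟩ ((π ⟨U₀, hU₀⟩).app W s) =
          rdQM p chart ℳ n ⟨U₀, hU₀⟩ ((π ⟨U₀, hU₀⟩).app W s') := hss
      rw [← hss'] at h2
      exact Ad_uniqueM n hP hℳ ⟨U₀, hU₀⟩ W hW _ U _ le_rfl _ _ h1 h2
    · intro τ
      choose σ hσ using exists_AdM n hP hℳ ⟨U₀, hU₀⟩ W hW τ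
      obtain ⟨s, hs⟩ := hex W σ (isCompat_of_AdM n hP hℳ ⟨U₀, hU₀⟩ W hW τ σ hσ)
      refine ⟨s, ?_⟩
      refine (hs ⟨U₀, hU₀⟩).trans ?_
      apply Ad_uniqueM n hP hℳ ⟨U₀, hU₀⟩ W hW τ ⟨U₀, hU₀⟩ _ le_rfl _ _ (hσ ⟨U₀, hU₀⟩)
      intro D h h₀ z hz hz₀
      rfl
  · intro U hU r W s y hy hy'
    exact hcond W s ⟨U, hU⟩ (Scheme.AffineZariskiSite.basicOpen ⟨U, hU⟩ r)
      (Scheme.AffineZariskiSite.basicOpen_le ⟨U, hU⟩ r) y hy hy'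


end Groth.Agent.Helper1.TRE
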