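import Mathlib
import Groth.Prelude.Def_GrTwist
import Groth.Agent.Helper1.TR31
import Groth.Agent.Helper1.RP8
import Groth.Agent.Helper1.OIAdj

/-!
# The comparison map of twisting sheaves along a localization at a degree zero element is an
isomorphism
-/

set_option autoImplicit false
set_option linter.style.haveILetI false

namespace Groth.Agent.Helper1.GTD

open CategoryTheory AlgebraicGeometry TopologicalSpace Opposite
open Groth.Agent.Helper1.RP
open scoped HomogeneousIdeal

universe u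

variable {A B σ τ : Type u} [CommRing A] [SetLike σ A] [AddSubgroupClass σ A]
  [CommRing B] [SetLike τ B] [AddSubgroupClass τ B]
  {𝒜 : ℕ → σ} {ℬ : ℕ → τ} [GradedRing 𝒜] [GradedRing ℬ]
  {ψ : 𝒜 →+*ᵍ ℬ} {c : A} (h : IsLocAway ψ c) (hirr : ℬ₊ ≤ 𝒜₊.map ψ)

include h in
/-- the comparison map is bijective on the sections over the opens inside the range -/
theorem comap_app_bijective (hc : c ∈ 𝒜 0) (n : ℤ) (V : (Proj 𝒜).Opens)
    (hV : ∀ x : ProjectiveSpectrum.top 𝒜, x ∈ V →
      ∃ z : ProjectiveSpectrum.top ℬ, ProjectiveSpectrum.comap ψ hirr z = x) :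
    Function.Bijective ((GrTwist.comap ψ hirr n).app V) := by
  constructor
  · intro s s' hss
    apply GT.sect_ext
    rintro ⟨x, hx⟩
    obtain ⟨z, rfl⟩ := hV x hx
    apply locMap_injective h hirr z
    have := congrArg (fun t : Γ(GrTwist.twist ℬ n, Proj.map ψ hirr ⁻¹ᵁ V) =>
      GrTwist.val t ⟨z, hx⟩) hss
    exact this
  · intro τ''
    obtain ⟨τ, hτ⟩ := exists_descent h hirr hc n V (Proj.map ψ hirr ⁻¹ᵁ V) (fun z hz => hz)
      (fun x hx => by
        obtain ⟨z, rfl⟩ := hV x hx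
        exact ⟨z, hx, rfl⟩) τ''
    refine ⟨τ, ?_⟩
    apply GT.sect_ext (𝒜 := ℬ)
    rintro ⟨z, hz⟩
    exact (hτ z hz).symm

include h in
/-- **the adjoint `r^* O(n) ⟶ O(n)` is an isomorphism** -/
theorem isIso_adjoint_comap (hc : c ∈ 𝒜 0) (n : ℤ) :
    IsIso (((Scheme.Modules.pullbackPushforwardAdjunction (Proj.map ψ hirr)).homEquiv _ _).symm
      (GrTwist.comap ψ hirr n)) := by
  haveI := h.isOpenImmersion_map hc hirr
  apply OIAdj.isIso_adjoint
  intro V hV
  apply comap_app_bijective h hirr hc n V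
  intro x hx
  obtain ⟨z, hz⟩ := hV hx
  exact ⟨z, hz⟩

end Groth.Agent.Helper1.GTD
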