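import Mathlib

/-!
# Helper1: the trivial square-zero extension `R ⊕ εN` as a commutative ring, semilinear functoriality
and localization away from an element
-/

set_option autoImplicit false
set_option linter.style.haveILetI false
set_option linter.unusedSectionVars false

universe u

namespace Groth.Agent.Helper1.TZ

open TrivSqZeroExt

/-- the opposite module structure of a module over a commutative ring -/
@[reducible] noncomputable def opMod (R N : Type u) [CommRing R] [AddCommGroup N] [Module R N] :
    Module Rᵐᵒᵖ N :=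
  Module.compHom N ((RingHom.id R).fromOpposite (fun x y => mul_comm x y))

/-- the trivial square-zero extension `R ⊕ εN` -/
def T (R N : Type u) [CommRing R] [AddCommGroup N] [Module R N] : Type u := TrivSqZeroExt R N

section

variable {R N : Type u} [CommRing R] [AddCommGroup N] [Module R N]

noncomputable instance : CommRing (T R N) :=
  letI := opMod R N
  haveI : IsCentralScalar R N := ⟨fun _ _ => rfl⟩
  inferInstanceAs (CommRing (TrivSqZeroExt R N))

/-- the first component -/
def T.fst (z : T R N) : R := TrivSqZeroExt.fst z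
/-- the second component -/
def T.snd (z : T R N) : N := TrivSqZeroExt.snd z
/-- the element `(r, n)` -/
def T.mk (r : R) (n : N) : T R N := (r, n)

@[simp] theorem T.fst_mk (r : R) (n : N) : (T.mk r n).fst = r := rfl
@[simp] theorem T.snd_mk (r : R) (n : N) : (T.mk r n).snd = n := rfl

@[ext] theorem T.ext {z w : T R N} (h1 : z.fst = w.fst) (h2 : z.snd = w.snd) : z = w :=
  TrivSqZeroExt.ext h1 h2

@[simp] theorem T.fst_zero : (0 : T R N).fst = 0 := rfl
@[simp] theorem T.snd_zero : (0 : T R N).snd = 0 := rfl
@[simp] theorem T.fst_one : (1 : T R N).fst = 1 := rfl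
@[simp] theorem T.snd_one : (1 : T R N).snd = 0 := rfl
@[simp] theorem T.fst_add (z w : T R N) : (z + w).fst = z.fst + w.fst := rfl
@[simp] theorem T.snd_add (z w : T R N) : (z + w).snd = z.snd + w.snd := rfl
@[simp] theorem T.fst_mul (z w : T R N) : (z * w).fst = z.fst * w.fst := rfl
@[simp] theorem T.snd_mul (z w : T R N) : (z * w).snd = z.fst • w.snd + w.fst • z.snd := rfl
@[simp] theorem T.fst_neg (z : T R N) : (-z).fst = -z.fst := rfl
@[simp] theorem T.snd_neg (z : T R N) : (-z).snd = -z.snd := rfl

/-- the inclusion of the ring -/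
def T.inl : R →+* T R N where
  toFun r := T.mk r 0
  map_one' := rfl
  map_mul' a b := by ext <;> simp
  map_zero' := rfl
  map_add' a b := by ext <;> simp

@[simp] theorem T.fst_inl (r : R) : (T.inl (N := N) r).fst = r := rfl
@[simp] theorem T.snd_inl (r : R) : (T.inl (N := N) r).snd = 0 := rfl

/-- the projection to the ring -/
def T.fstHom : T R N →+* R where
  toFun z := z.fst
  map_one' := rfl
  map_mul' _ _ := rfl
  map_zero' := rfl
  map_add' _ _ := rfl

@[simp] theorem T.fstHom_apply (z : T R N) : T.fstHom z = z.fst := rfl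

theorem T.isUnit_inl {r : R} (h : IsUnit r) : IsUnit (T.inl (N := N) r) := h.map T.inl

theorem T.fst_pow (z : T R N) (k : ℕ) : (z ^ k).fst = z.fst ^ k := map_pow T.fstHom z k

theorem T.inl_mul_fst (r : R) (z : T R N) : (T.inl r * z).fst = r * z.fst := rfl

theorem T.inl_mul_snd (r : R) (z : T R N) : (T.inl r * z).snd = r • z.snd := by
  simp

theorem T.mul_inl_fst (r : R) (z : T R N) : (z * T.inl r).fst = z.fst * r := rfl

theorem T.mul_inl_snd (r : R) (z : T R N) : (z * T.inl r).snd = r • z.snd := by
  simp

theorem T.inl_pow (r : R) (k : ℕ) : (T.inl (N := N) r) ^ k = T.inl (r ^ k) :=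
  (map_pow T.inl r k).symm

end

section map

variable {R R' N N' : Type u} [CommRing R] [AddCommGroup N] [Module R N]
  [CommRing R'] [AddCommGroup N'] [Module R' N']
  (φ : R →+* R') (μ : N →+ N') (hμ : ∀ (r : R) (n : N), μ (r • n) = φ r • μ n)

/-- functoriality for a semilinear map -/
def T.map : T R N →+* T R' N' where
  toFun z := T.mk (φ z.fst) (μ z.snd)
  map_one' := by ext <;> simp
  map_mul' a b := by ext <;> simp [hμ]
  map_zero' := by ext <;> simp
  map_add' a b := by ext <;> simp

@[simp] theorem T.fst_map (z : T R N) : (T.map φ μ hμ z).fst = φ z.fst := rfl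
@[simp] theorem T.snd_map (z : T R N) : (T.map φ μ hμ z).snd = μ z.snd := rfl

theorem T.map_inl (r : R) : T.map φ μ hμ (T.inl r) = T.inl (φ r) := by
  ext <;> simp

end map

section loc

variable {R R' N N' : Type u} [CommRing R] [AddCommGroup N] [Module R N]
  [CommRing R'] [AddCommGroup N'] [Module R' N'] [Algebra R R']
  (b : R) [IsLocalization.Away b R'] (μ : N →+ N')
  (hμ : ∀ (r : R) (n : N), μ (r • n) = algebraMap R R' r • μ n)
  (h1 : ∀ n' : N', ∃ (k : ℕ) (n : N), algebraMap R R' b ^ k • n' = μ n)
  (h2 : ∀ n : N, μ n = 0 → ∃ k : ℕ, b ^ k • n = 0)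

include h1 h2 in
/-- `R' ⊕ εN'` is the localization of `R ⊕ εN` away from `b` -/
theorem isLocalization_away_map :
    letI := (T.map (algebraMap R R') μ hμ).toAlgebra
    IsLocalization.Away (T.inl (N := N) b) (T R' N') := by
  letI := (T.map (algebraMap R R') μ hμ).toAlgebra
  have hb : IsUnit (algebraMap R R' b) := IsLocalization.Away.algebraMap_isUnit b
  refine IsLocalization.Away.mk _ ?_ ?_ ?_
  · change IsUnit (T.map (algebraMap R R') μ hμ (T.inl b))
    rw [T.map_inl]
    exact T.isUnit_inl hb
  · intro z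
    obtain ⟨k, x, hx⟩ := IsLocalization.Away.surj b z.fst
    obtain ⟨l, n, hn⟩ := h1 z.snd
    refine ⟨k + l, T.mk (b ^ l * x) (b ^ k • n), ?_⟩
    change z * (T.map (algebraMap R R') μ hμ (T.inl b)) ^ (k + l) =
      T.map (algebraMap R R') μ hμ (T.mk (b ^ l * x) (b ^ k • n))
    rw [T.map_inl, T.inl_pow]
    ext
    · rw [T.mul_inl_fst, T.fst_map, T.fst_mk, map_mul, map_pow, pow_add, ← hx]
      ring
    · rw [T.mul_inl_snd, T.snd_map, T.snd_mk, hμ, map_pow, ← hn, smul_smul, ← pow_add]
  · intro z w hzw
    have hf : algebraMap R R' z.fst = algebraMap R R' w.fst := congrArg T.fst hzw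
    have hs : μ (z.snd - w.snd) = 0 := by
      rw [map_sub, sub_eq_zero]
      exact congrArg T.snd hzw
    obtain ⟨k, hk⟩ := IsLocalization.Away.exists_of_eq b hf
    obtain ⟨l, hl⟩ := h2 _ hs
    refine ⟨k + l, ?_⟩
    rw [T.inl_pow]
    ext
    · simp only [T.inl_mul_fst]
      rw [pow_add, mul_comm (b ^ k), mul_assoc, hk, ← mul_assoc]
    · simp only [T.inl_mul_snd]
      rw [smul_sub, sub_eq_zero] at hl
      rw [pow_add, mul_smul, mul_smul, hl]

end loc

end Groth.Agent.Helper1.TZ
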