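import Mathlib
import Groth.Prelude.Def_RelSpec2
import Groth.Agent.Helper1.TZ1
import Groth.Agent.Helper4.StalkDict

/-!
# Helper1: the quasi-coherent algebra `B ⊕ εM` of a module `M` over a quasi-coherent algebra `B`
-/

set_option autoImplicit false
set_option linter.style.haveILetI false
set_option linter.unusedSectionVars false

open CategoryTheory AlgebraicGeometry TopologicalSpace Opposite

universe u

namespace Groth.Agent.Helper1.TZ

variable {S : Scheme.{u}} (B : RelSpec.QCAlg S) (M : AMod B)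

/-- sections of `M` -/
abbrev Msec (U : (Opens S)ᵒᵖ) : Type u := ↑(M.val.obj U)

noncomputable instance msecModule (U : (Opens S)ᵒᵖ) : Module ↑(B.presheaf.obj U) (Msec B M U) :=
  (M.val.obj U).isModule

/-- restriction of sections of `M` -/
noncomputable def Mres {U V : (Opens S)ᵒᵖ} (i : U ⟶ V) : Msec B M U →+ Msec B M V :=
  (M.val.presheaf.map i).hom

theorem Mres_smul {U V : (Opens S)ᵒᵖ} (i : U ⟶ V) (r : ↑(B.presheaf.obj U)) (m : Msec B M U) :
    Mres B M i (r • m) = (B.presheaf.map i).hom r • Mres B M i m :=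
  M.val.map_smul i r m

theorem Mres_id (U : (Opens S)ᵒᵖ) (m : Msec B M U) : Mres B M (𝟙 U) m = m := by
  change (M.val.presheaf.map (𝟙 U)).hom m = m
  rw [M.val.presheaf.map_id]
  rfl

theorem Mres_comp {U V W : (Opens S)ᵒᵖ} (i : U ⟶ V) (j : V ⟶ W) (m : Msec B M U) :
    Mres B M (i ≫ j) m = Mres B M j (Mres B M i m) := by
  change (M.val.presheaf.map (i ≫ j)).hom m = _
  rw [M.val.presheaf.map_comp]
  rfl

/-- the presheaf of rings `B ⊕ εM` -/
noncomputable def tsPresheaf : TopCat.Presheaf CommRingCat.{u} S.carrier where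
  obj U := CommRingCat.of (T ↑(B.presheaf.obj U) (Msec B M U))
  map {U V} i := CommRingCat.ofHom (T.map (B.presheaf.map i).hom (Mres B M i) (Mres_smul B M i))
  map_id U := by
    refine CommRingCat.hom_ext (RingHom.ext fun z => T.ext ?_ ?_)
    · change (B.presheaf.map (𝟙 U)).hom z.fst = z.fst
      rw [B.presheaf.map_id]; rfl
    · exact Mres_id B M U z.snd
  map_comp {U V W} i j := by
    refine CommRingCat.hom_ext (RingHom.ext fun z => T.ext ?_ ?_)
    · change (B.presheaf.map (i ≫ j)).hom z.fst = (B.presheaf.map j).hom ((B.presheaf.map i).hom z.fst)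
      rw [B.presheaf.map_comp]; rfl
    · exact Mres_comp B M i j z.snd

/-- the structure map -/
noncomputable def tsStr : S.presheaf ⟶ tsPresheaf B M where
  app U := CommRingCat.ofHom (T.inl.comp (B.str.app U).hom)
  naturality U V i := by
    refine CommRingCat.hom_ext (RingHom.ext fun r => T.ext ?_ ?_)
    · change (B.str.app V).hom ((S.presheaf.map i).hom r) = (B.presheaf.map i).hom ((B.str.app U).hom r)
      exact congrArg (fun k => k.hom r) (B.str.naturality i)
    · change (0 : Msec B M V) = Mres B M i 0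
      rw [map_zero]

theorem tsPresheaf_isSheaf : (tsPresheaf B M).IsSheaf := by
  rw [TopCat.Presheaf.isSheaf_iff_isSheafUniqueGluing]
  intro ι U sf hsf
  let FB : TopCat.Sheaf CommRingCat.{u} S.carrier := ⟨B.presheaf, B.isSheaf⟩
  let FM : TopCat.Sheaf Ab.{u} S.carrier := ⟨M.val.presheaf, M.isSheaf⟩
  have hb : TopCat.Presheaf.IsCompatible FB.1 U (fun i => (sf i).fst) :=
    fun i j => congrArg T.fst (hsf i j)
  have hm : TopCat.Presheaf.IsCompatible FM.1 U (fun i => (sf i).snd) :=
    fun i j => congrArg T.snd (hsf i j)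
  obtain ⟨b, hb1, hb2⟩ := FB.existsUnique_gluing U _ hb
  obtain ⟨m, hm1, hm2⟩ := FM.existsUnique_gluing U _ hm
  refine ⟨T.mk b m, fun i => T.ext (hb1 i) (hm1 i), fun s hs =>
    T.ext (hb2 _ (fun i => congrArg T.fst (hs i))) (hm2 _ (fun i => congrArg T.snd (hs i)))⟩

theorem ts_isQC (hM : ((AMod.toOS B).obj M).IsQuasicoherent) :
    RelSpec.IsQC (tsPresheaf B M) (tsStr B M) := by
  intro U hU r
  letI : Algebra ↑(B.presheaf.obj (op U)) ↑(B.presheaf.obj (op (S.basicOpen r))) :=
    (B.presheaf.map (homOfLE (S.basicOpen_le r)).op).hom.toAlgebra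
  haveI : IsLocalization.Away ((B.str.app (op U)).hom r)
      ↑(B.presheaf.obj (op (S.basicOpen r))) := B.isQC U hU r
  refine isLocalization_away_map ((B.str.app (op U)).hom r)
    (Mres B M (homOfLE (S.basicOpen_le r)).op) (Mres_smul B M _) ?_ ?_
  · intro n'
    obtain ⟨k, n, hn⟩ := Groth.Agent.Helper4.StalkDict.exists_pow_smul_eq_res hU
      ((AMod.toOS B).obj M) r n'
    refine ⟨k, n, ?_⟩
    refine Eq.trans ?_ hn
    change _ = (B.str.app (op (S.basicOpen r))).hom
      ((S.presheaf.map (homOfLE (S.basicOpen_le r)).op).hom (r ^ k)) • n'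
    have h1 := congrArg (fun φ => φ.hom (r ^ k)) (B.str.naturality (homOfLE (S.basicOpen_le r)).op)
    erw [h1]
    rw [map_pow]
    rfl
  · intro n hn
    obtain ⟨k, hk⟩ := Groth.Agent.Helper4.StalkDict.exists_pow_smul_eq_zero hU
      ((AMod.toOS B).obj M) r n hn
    refine ⟨k, ?_⟩
    refine Eq.trans ?_ hk
    change _ = (B.str.app (op U)).hom (r ^ k) • n
    rw [map_pow]

/-- the quasi-coherent algebra `B ⊕ εM` -/
noncomputable def tsAlg (hM : ((AMod.toOS B).obj M).IsQuasicoherent) : RelSpec.QCAlg S where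
  presheaf := tsPresheaf B M
  isSheaf := tsPresheaf_isSheaf B M
  str := tsStr B M
  isQC := ts_isQC B M hM

variable (hM : ((AMod.toOS B).obj M).IsQuasicoherent)

/-- the inclusion `B ⟶ B ⊕ εM` -/
noncomputable def inlHom : B.presheaf ⟶ (tsAlg B M hM).presheaf where
  app U := CommRingCat.ofHom T.inl
  naturality U V i := by
    refine CommRingCat.hom_ext (RingHom.ext fun r => T.ext rfl ?_)
    change (0 : Msec B M V) = Mres B M i 0
    rw [map_zero]

/-- the projection `B ⊕ εM ⟶ B` -/
noncomputable def fstHom : (tsAlg B M hM).presheaf ⟶ B.presheaf where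
  app U := CommRingCat.ofHom T.fstHom
  naturality U V i := rfl

theorem str_inlHom : B.str ≫ inlHom B M hM = (tsAlg B M hM).str := rfl

theorem str_fstHom : (tsAlg B M hM).str ≫ fstHom B M hM = B.str := rfl

end Groth.Agent.Helper1.TZ
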