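import Mathlib
import Groth.Agent.Helper1.TZ2
import Groth.Agent.Helper4.AffUP
import Groth.Agent.Helper4.RelSpecIso

/-!
# Helper1: the scheme `Spec(f_*O_X ⊕ εM)` over `X`, its projection and zero section
-/

set_option autoImplicit false
set_option linter.style.haveILetI false
set_option linter.unusedSectionVars false

open CategoryTheory AlgebraicGeometry TopologicalSpace Opposite

universe u

namespace Groth.Agent.Helper1.TZ

open Groth.Agent.Helper4

variable {X S : Scheme.{u}} (f : X ⟶ S) [IsAffineHom f]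
  (M : AMod (RelSpec.QCAlg.directImage f))
  (hM : ((AMod.toOS (RelSpec.QCAlg.directImage f)).obj M).IsQuasicoherent)

/-- the algebra `f_*O_X ⊕ εM` -/
noncomputable abbrev A : RelSpec.QCAlg S := tsAlg (RelSpec.QCAlg.directImage f) M hM

/-- the scheme `Spec(f_*O_X ⊕ εM)` -/
noncomputable abbrev Y : Scheme.{u} := (A f M hM).spec

/-- its structure morphism -/
noncomputable abbrev πY : Y f M hM ⟶ S := (A f M hM).π

/-- `γ : π_*O_Y ≅ f_*O_X ⊕ εM` -/
noncomputable def γ : (πY f M hM).base _* (Y f M hM).presheaf ≅ (A f M hM).presheaf :=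
  haveI := RelSpecIso.isIso_gammaMap (A f M hM)
  asIso (A f M hM).gammaMap

theorem c_γ_hom : (πY f M hM).c ≫ (γ f M hM).hom = (A f M hM).str :=
  (A f M hM).π_c_gammaMap

/-- the algebra map of the projection -/
noncomputable def ω : AffAlg.alg f ⟶ AffAlg.alg (πY f M hM) :=
  inlHom (RelSpec.QCAlg.directImage f) M hM ≫ (γ f M hM).inv

theorem hω : f.c ≫ ω f M hM = (πY f M hM).c := by
  unfold ω
  rw [← Category.assoc, Iso.comp_inv_eq, c_γ_hom]
  rfl

/-- the algebra map of the zero section -/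
noncomputable def ω' : AffAlg.alg (πY f M hM) ⟶ AffAlg.alg f :=
  (γ f M hM).hom ≫ fstHom (RelSpec.QCAlg.directImage f) M hM

theorem hω' : (πY f M hM).c ≫ ω' f M hM = f.c := by
  unfold ω'
  rw [← Category.assoc, c_γ_hom]
  rfl

/-- the projection `Y ⟶ X` -/
noncomputable def p : Y f M hM ⟶ X := AffUP.ofAlgHom f (πY f M hM) (ω f M hM)

theorem p_f : p f M hM ≫ f = πY f M hM := AffUP.ofAlgHom_comp f _ _ (hω f M hM)

/-- the zero section `X ⟶ Y` -/
noncomputable def i : X ⟶ Y f M hM := AffUP.ofAlgHom (πY f M hM) f (ω' f M hM)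

theorem i_π : i f M hM ≫ πY f M hM = f := AffUP.ofAlgHom_comp (πY f M hM) f _ (hω' f M hM)

theorem p_appLE (U : S.Opens) :
    (p f M hM).appLE (f ⁻¹ᵁ U) (πY f M hM ⁻¹ᵁ U)
      (AffUP.le_preimage_of_comp_eq f _ _ (p_f f M hM) U) = (ω f M hM).app (op U) := by
  rw [← AffUP.algHom_app' f (πY f M hM) (p f M hM) (p_f f M hM) U]
  exact congrArg (fun k => k.app (op U)) (AffUP.algHom_ofAlgHom f _ _ (hω f M hM))

theorem i_appLE (U : S.Opens) :
    (i f M hM).appLE (πY f M hM ⁻¹ᵁ U) (f ⁻¹ᵁ U)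
      (AffUP.le_preimage_of_comp_eq (πY f M hM) f _ (i_π f M hM) U) = (ω' f M hM).app (op U) := by
  rw [← AffUP.algHom_app' (πY f M hM) f (i f M hM) (i_π f M hM) U]
  exact congrArg (fun k => k.app (op U)) (AffUP.algHom_ofAlgHom (πY f M hM) f _ (hω' f M hM))

instance : IsAffineHom (p f M hM) := by
  haveI : IsAffineHom (p f M hM ≫ f) := by rw [p_f]; infer_instance
  exact IsAffineHom.of_comp (p f M hM) f

instance : IsAffineHom (i f M hM) := by
  haveI : IsAffineHom (i f M hM ≫ πY f M hM) := by rw [i_π]; infer_instance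
  exact IsAffineHom.of_comp (i f M hM) (πY f M hM)

end Groth.Agent.Helper1.TZ
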