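import Mathlib
import Groth.Agent.Helper1.TZ3
import Groth.Agent.Helper4.SubSec
import Groth.Agent.Helper4.AffineDict
import Groth.Agent.Helper4.QcohLimits
import Groth.Agent.Helper4.QcohGlue
import Groth.Agent.Lead.BlH1B
import Groth.Prelude.Def_ClSub2

/-!
# Helper1: the module on `X` attached to a module over `f_*O_X`
-/

set_option autoImplicit false
set_option linter.style.haveILetI false
set_option linter.unusedSectionVars false

open CategoryTheory CategoryTheory.Limits AlgebraicGeometry TopologicalSpace Opposite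

universe u

namespace Groth.Agent.Helper1.TZ

open Groth.Agent.Helper4

variable {X S : Scheme.{u}} (f : X ⟶ S) [IsAffineHom f]
  (M : AMod (RelSpec.QCAlg.directImage f))
  (hM : ((AMod.toOS (RelSpec.QCAlg.directImage f)).obj M).IsQuasicoherent)

/-- `p_*O_Y → p_*i_*O_X` -/
noncomputable def α : (Scheme.Modules.pushforward (p f M hM)).obj (Coh.structureModule (Y f M hM)) ⟶
    (Scheme.Modules.pushforward (p f M hM)).obj
      ((Scheme.Modules.pushforward (i f M hM)).obj (Coh.structureModule X)) :=
  (Scheme.Modules.pushforward (p f M hM)).map (ClSub.unitToPush (i f M hM))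

/-- the module on `X` -/
noncomputable def F : X.Modules := kernel (α f M hM)

/-- its inclusion into `p_*O_Y` -/
noncomputable def ιF : F f M hM ⟶
    (Scheme.Modules.pushforward (p f M hM)).obj (Coh.structureModule (Y f M hM)) :=
  kernel.ι (α f M hM)

instance : Mono (ιF f M hM) := inferInstanceAs (Mono (kernel.ι (α f M hM)))

theorem isQuasicoherent_F : (F f M hM).IsQuasicoherent := by
  haveI := Groth.Agent.Lead.BlH1B.isQuasicoherent_unit (Y f M hM)
  haveI := Groth.Agent.Lead.BlH1B.isQuasicoherent_unit X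
  haveI := QcohGlue.isQuasicoherent_pushforward (p f M hM) (Coh.structureModule (Y f M hM))
  haveI := QcohGlue.isQuasicoherent_pushforward (i f M hM) (Coh.structureModule X)
  haveI := QcohGlue.isQuasicoherent_pushforward (p f M hM)
    ((Scheme.Modules.pushforward (i f M hM)).obj (Coh.structureModule X))
  exact QcohLimits.isQuasicoherent_kernel (α f M hM)

theorem α_app (V : X.Opens) (y : Γ(Y f M hM, p f M hM ⁻¹ᵁ V)) :
    (α f M hM).app V y = ((i f M hM).app (p f M hM ⁻¹ᵁ V)).hom y := rfl

theorem i_app_ιF (V : X.Opens) (s : Γ(F f M hM, V)) :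
    ((i f M hM).app (p f M hM ⁻¹ᵁ V)).hom ((ιF f M hM).app V s) = 0 := by
  have h := (SubSec.exists_kernel_section_iff (α f M hM) V ((ιF f M hM).app V s)).mp ⟨s, rfl⟩
  exact h

theorem exists_of_i_app_eq_zero (V : X.Opens) (y : Γ(Y f M hM, p f M hM ⁻¹ᵁ V))
    (hy : ((i f M hM).app (p f M hM ⁻¹ᵁ V)).hom y = 0) :
    ∃ s : Γ(F f M hM, V), (ιF f M hM).app V s = y :=
  (SubSec.exists_kernel_section_iff (α f M hM) V y).mpr hy

end Groth.Agent.Helper1.TZ
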