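import Mathlib
import Groth.Agent.Helper1.TZ4

/-!
# Helper1: the comparison `f_*F → M` on sections
-/

set_option autoImplicit false
set_option linter.style.haveILetI false
set_option linter.unusedSectionVars false

open CategoryTheory CategoryTheory.Limits AlgebraicGeometry TopologicalSpace Opposite

universe u

namespace Groth.Agent.Helper1.TZ

open Groth.Agent.Helper4

variable {X S : Scheme.{u}} (f : X ⟶ S) [IsAffineHom f]
  (M : AMod (RelSpec.QCAlg.directImage f))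
  (hM : ((AMod.toOS (RelSpec.QCAlg.directImage f)).obj M).IsQuasicoherent)

theorem hle (U : S.Opens) : πY f M hM ⁻¹ᵁ U ≤ p f M hM ⁻¹ᵁ (f ⁻¹ᵁ U) :=
  AffUP.le_preimage_of_comp_eq f _ _ (p_f f M hM) U

theorem hge (U : S.Opens) : p f M hM ⁻¹ᵁ (f ⁻¹ᵁ U) ≤ πY f M hM ⁻¹ᵁ U := by
  rw [← p_f f M hM]
  exact le_rfl

theorem hle' (U : S.Opens) : f ⁻¹ᵁ U ≤ i f M hM ⁻¹ᵁ (πY f M hM ⁻¹ᵁ U) :=
  AffUP.le_preimage_of_comp_eq (πY f M hM) f _ (i_π f M hM) U

/-- the identification `Γ(Y, p⁻¹f⁻¹U) = Γ(Y, π⁻¹U)` -/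
noncomputable def τ (U : S.Opens) :
    Γ(Y f M hM, p f M hM ⁻¹ᵁ (f ⁻¹ᵁ U)) →+* Γ(Y f M hM, πY f M hM ⁻¹ᵁ U) :=
  ((Y f M hM).presheaf.map (homOfLE (hle f M hM U)).op).hom

theorem τ_bijective (U : S.Opens) : Function.Bijective (τ f M hM U) := by
  haveI : IsIso (homOfLE (hle f M hM U)) :=
    ⟨homOfLE (hge f M hM U), Subsingleton.elim _ _, Subsingleton.elim _ _⟩
  haveI : IsIso ((Y f M hM).presheaf.map (homOfLE (hle f M hM U)).op) := inferInstance
  exact ConcreteCategory.bijective_of_isIso ((Y f M hM).presheaf.map (homOfLE (hle f M hM U)).op)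

/-- `γ` on sections -/
noncomputable def g (U : S.Opens) : Γ(Y f M hM, πY f M hM ⁻¹ᵁ U) →+*
    T ↑((RelSpec.QCAlg.directImage f).presheaf.obj (op U))
      (Msec (RelSpec.QCAlg.directImage f) M (op U)) :=
  ((γ f M hM).hom.app (op U)).hom

/-- `γ⁻¹` on sections -/
noncomputable def g' (U : S.Opens) : T ↑((RelSpec.QCAlg.directImage f).presheaf.obj (op U))
      (Msec (RelSpec.QCAlg.directImage f) M (op U)) →+* Γ(Y f M hM, πY f M hM ⁻¹ᵁ U) :=
  ((γ f M hM).inv.app (op U)).hom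

theorem g_g' (U : S.Opens) (z) : g f M hM U (g' f M hM U z) = z := by
  have h := congrArg (fun k => (k.app (op U)).hom z) (γ f M hM).inv_hom_id
  exact h

theorem g'_g (U : S.Opens) (y) : g' f M hM U (g f M hM U y) = y := by
  have h := congrArg (fun k => (k.app (op U)).hom y) (γ f M hM).hom_inv_id
  exact h

theorem g_bijective (U : S.Opens) : Function.Bijective (g f M hM U) :=
  ⟨Function.LeftInverse.injective (g'_g f M hM U), Function.RightInverse.surjective (g_g' f M hM U)⟩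

/-- `ιF` on sections, as a function to `Γ(Y, p⁻¹f⁻¹U)` -/
noncomputable def ιFun (U : S.Opens) (s : Γ(F f M hM, f ⁻¹ᵁ U)) :
    Γ(Y f M hM, p f M hM ⁻¹ᵁ (f ⁻¹ᵁ U)) :=
  (ιF f M hM).app (f ⁻¹ᵁ U) s

theorem ιFun_add (U : S.Opens) (s t : Γ(F f M hM, f ⁻¹ᵁ U)) :
    ιFun f M hM U (s + t) = ιFun f M hM U s + ιFun f M hM U t :=
  map_add ((ιF f M hM).app (f ⁻¹ᵁ U)).hom s t

theorem ιFun_smul (U : S.Opens) (b : Γ(X, f ⁻¹ᵁ U)) (s : Γ(F f M hM, f ⁻¹ᵁ U)) :
    ιFun f M hM U (b • s) = ((p f M hM).app (f ⁻¹ᵁ U)).hom b * ιFun f M hM U s :=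
  Scheme.Modules.Hom.app_smul (ιF f M hM) b s

theorem i_app_ιFun (U : S.Opens) (s : Γ(F f M hM, f ⁻¹ᵁ U)) :
    ((i f M hM).app (p f M hM ⁻¹ᵁ (f ⁻¹ᵁ U))).hom (ιFun f M hM U s) = 0 :=
  i_app_ιF f M hM (f ⁻¹ᵁ U) s

/-- the comparison function on sections over `U` -/
noncomputable def eFun (U : S.Opens) (s : Γ(F f M hM, f ⁻¹ᵁ U)) :
    Msec (RelSpec.QCAlg.directImage f) M (op U) :=
  (g f M hM U (τ f M hM U (ιFun f M hM U s))).snd

theorem fst_g (U : S.Opens) (z : Γ(Y f M hM, πY f M hM ⁻¹ᵁ U)) :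
    (g f M hM U z).fst = ((i f M hM).appLE (πY f M hM ⁻¹ᵁ U) (f ⁻¹ᵁ U) (hle' f M hM U)).hom z := by
  have h := congrArg (fun k => k.hom z) (i_appLE f M hM U)
  exact h.symm

theorem fst_g_τ_of (U : S.Opens) (y : Γ(Y f M hM, p f M hM ⁻¹ᵁ (f ⁻¹ᵁ U))) :
    (g f M hM U (τ f M hM U y)).fst =
      (X.presheaf.map (homOfLE ((hle' f M hM U).trans
        ((i f M hM).preimage_mono (hle f M hM U)))).op).hom
        (((i f M hM).app (p f M hM ⁻¹ᵁ (f ⁻¹ᵁ U))).hom y) := by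
  rw [fst_g]
  have h1 := (i f M hM).map_appLE (hle' f M hM U) (homOfLE (hle f M hM U)).op
  have h2 := congrArg (fun k => k.hom y) h1
  refine Eq.trans h2 ?_
  rw [Scheme.Hom.appLE]
  rfl

theorem fst_g_τ_ιFun (U : S.Opens) (s : Γ(F f M hM, f ⁻¹ᵁ U)) :
    (g f M hM U (τ f M hM U (ιFun f M hM U s))).fst = 0 := by
  rw [fst_g_τ_of, i_app_ιFun]
  exact map_zero _

theorem g_τ_p_app (U : S.Opens) (b : ↑((RelSpec.QCAlg.directImage f).presheaf.obj (op U))) :
    g f M hM U (τ f M hM U (((p f M hM).app (f ⁻¹ᵁ U)).hom b)) = T.inl b := by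
  have h1 : τ f M hM U (((p f M hM).app (f ⁻¹ᵁ U)).hom b) =
      ((p f M hM).appLE (f ⁻¹ᵁ U) (πY f M hM ⁻¹ᵁ U) (hle f M hM U)).hom b := by
    rw [Scheme.Hom.appLE]
    rfl
  rw [h1]
  have h2 := congrArg (fun k => k.hom b) (p_appLE f M hM U)
  refine Eq.trans (congrArg (g f M hM U) h2) ?_
  exact g_g' f M hM U (T.inl b)

theorem eFun_add (U : S.Opens) (s t : Γ(F f M hM, f ⁻¹ᵁ U)) :
    eFun f M hM U (s + t) = eFun f M hM U s + eFun f M hM U t := by
  unfold eFun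
  rw [ιFun_add, map_add, map_add]
  rfl

theorem eFun_smul (U : S.Opens) (b : ↑((RelSpec.QCAlg.directImage f).presheaf.obj (op U)))
    (s : Γ(F f M hM, f ⁻¹ᵁ U)) :
    eFun f M hM U ((show Γ(X, f ⁻¹ᵁ U) from b) • s) = b • eFun f M hM U s := by
  unfold eFun
  rw [ιFun_smul, map_mul, map_mul]
  have h := g_τ_p_app f M hM U b
  have h2 : ∀ (z w : T ↑((RelSpec.QCAlg.directImage f).presheaf.obj (op U))
      (Msec (RelSpec.QCAlg.directImage f) M (op U))), z = T.inl b → (z * w).snd = b • w.snd := by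
    intro z w hz
    rw [hz]
    exact T.inl_mul_snd _ _
  exact h2 _ _ h

theorem ιFun_res {U U' : S.Opens} (h : U' ≤ U) (s : Γ(F f M hM, f ⁻¹ᵁ U)) :
    ιFun f M hM U' ((F f M hM).presheaf.map (homOfLE (f.preimage_mono h)).op s) =
      ((Y f M hM).presheaf.map
        (homOfLE ((p f M hM).preimage_mono (f.preimage_mono h))).op).hom (ιFun f M hM U s) := by
  have h1 := ConcreteCategory.congr_hom
    ((ιF f M hM).mapPresheaf.naturality (homOfLE (f.preimage_mono h)).op) s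
  exact h1

theorem τ_res {U U' : S.Opens} (h : U' ≤ U) (y : Γ(Y f M hM, p f M hM ⁻¹ᵁ (f ⁻¹ᵁ U))) :
    τ f M hM U' (((Y f M hM).presheaf.map
        (homOfLE ((p f M hM).preimage_mono (f.preimage_mono h))).op).hom y) =
      ((Y f M hM).presheaf.map (homOfLE ((πY f M hM).preimage_mono h)).op).hom (τ f M hM U y) := by
  unfold τ
  rw [← CommRingCat.comp_apply, ← CommRingCat.comp_apply, ← Functor.map_comp, ← Functor.map_comp]
  rfl

theorem g_res {U U' : S.Opens} (h : U' ≤ U) (z : Γ(Y f M hM, πY f M hM ⁻¹ᵁ U)) :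
    g f M hM U' (((Y f M hM).presheaf.map (homOfLE ((πY f M hM).preimage_mono h)).op).hom z) =
      T.map ((RelSpec.QCAlg.directImage f).presheaf.map (homOfLE h).op).hom
        (Mres (RelSpec.QCAlg.directImage f) M (homOfLE h).op)
        (Mres_smul (RelSpec.QCAlg.directImage f) M (homOfLE h).op) (g f M hM U z) := by
  have h1 := congrArg (fun k => k.hom z) ((γ f M hM).hom.naturality (homOfLE h).op)
  exact h1

theorem eFun_res {U U' : S.Opens} (h : U' ≤ U) (s : Γ(F f M hM, f ⁻¹ᵁ U)) :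
    eFun f M hM U' ((F f M hM).presheaf.map (homOfLE (f.preimage_mono h)).op s) =
      Mres (RelSpec.QCAlg.directImage f) M (homOfLE h).op (eFun f M hM U s) := by
  unfold eFun
  rw [ιFun_res f M hM h, τ_res f M hM h, g_res f M hM h]
  rfl

theorem eFun_injective (U : S.Opens) : Function.Injective (eFun f M hM U) := by
  intro s t hst
  have h1 : g f M hM U (τ f M hM U (ιFun f M hM U s)) =
      g f M hM U (τ f M hM U (ιFun f M hM U t)) := by
    refine T.ext ?_ hst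
    rw [fst_g_τ_ιFun, fst_g_τ_ιFun]
  have h2 := (τ_bijective f M hM U).1 ((g_bijective f M hM U).1 h1)
  exact AffineDict.app_injective_of_mono (ιF f M hM) (f ⁻¹ᵁ U) h2

theorem eFun_surjective (U : S.Opens) : Function.Surjective (eFun f M hM U) := by
  intro m
  obtain ⟨y, hy⟩ := (τ_bijective f M hM U).2 (g' f M hM U (T.mk 0 m))
  have hg : g f M hM U (τ f M hM U y) = T.mk 0 m := by
    rw [hy, g_g']
  have h0 : ((i f M hM).app (p f M hM ⁻¹ᵁ (f ⁻¹ᵁ U))).hom y = 0 := by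
    have h1 := fst_g_τ_of f M hM U y
    rw [hg, T.fst_mk] at h1
    have hge' : i f M hM ⁻¹ᵁ (p f M hM ⁻¹ᵁ (f ⁻¹ᵁ U)) ≤ f ⁻¹ᵁ U := by
      refine ((i f M hM).preimage_mono (hge f M hM U)).trans ?_
      have h3 : i f M hM ⁻¹ᵁ (πY f M hM ⁻¹ᵁ U) = (i f M hM ≫ πY f M hM) ⁻¹ᵁ U := rfl
      rw [h3, i_π]
    haveI : IsIso (homOfLE ((hle' f M hM U).trans ((i f M hM).preimage_mono (hle f M hM U)))) :=
      ⟨homOfLE hge', Subsingleton.elim _ _, Subsingleton.elim _ _⟩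
    have hinj := (ConcreteCategory.bijective_of_isIso (X.presheaf.map
      (homOfLE ((hle' f M hM U).trans ((i f M hM).preimage_mono (hle f M hM U)))).op)).1
    apply hinj
    rw [map_zero]
    exact h1.symm
  obtain ⟨s, hs⟩ := exists_of_i_app_eq_zero f M hM (f ⁻¹ᵁ U) y h0
  refine ⟨s, ?_⟩
  unfold eFun
  have : ιFun f M hM U s = y := hs
  rw [this, hg, T.snd_mk]

end Groth.Agent.Helper1.TZ
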