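import Mathlib
import Groth.Agent.Helper1.TZ5

/-!
# Helper1: `f_*F ≅ M` as modules over `f_*O_X`
-/

set_option autoImplicit false
set_option linter.style.haveILetI false
set_option linter.unusedSectionVars false

open CategoryTheory CategoryTheory.Limits AlgebraicGeometry TopologicalSpace Opposite

universe u

namespace Groth.Agent.Helper1.TZ

open Groth.Agent.Helper4

variable {X S : Scheme.{u}} (f : X ⟶ S) [IsAffineHom f]
  (M : AMod (RelSpec.QCAlg.directImage f))
  (hM : ((AMod.toOS (RelSpec.QCAlg.directImage f)).obj M).IsQuasicoherent)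

/-- the comparison as a linear map -/
noncomputable def eLinMap (U : S.Opens) :
    ↑(((AMod.dirImg f).obj (F f M hM)).val.obj (op U)) →ₗ[
      ↑((AMod.ringSheaf (RelSpec.QCAlg.directImage f)).obj.obj (op U))] ↑(M.val.obj (op U)) where
  toFun := eFun f M hM U
  map_add' := eFun_add f M hM U
  map_smul' b s := eFun_smul f M hM U b s

/-- the comparison as a linear equivalence -/
noncomputable def eLin (U : S.Opens) :
    ↑(((AMod.dirImg f).obj (F f M hM)).val.obj (op U)) ≃ₗ[
      ↑((AMod.ringSheaf (RelSpec.QCAlg.directImage f)).obj.obj (op U))] ↑(M.val.obj (op U)) :=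
  LinearEquiv.ofBijective (eLinMap f M hM U) ⟨eFun_injective f M hM U, eFun_surjective f M hM U⟩

/-- the comparison on sections as an isomorphism of modules -/
noncomputable def eIso (U : (Opens S)ᵒᵖ) :
    ((AMod.dirImg f).obj (F f M hM)).val.obj U ≅ M.val.obj U :=
  (eLin f M hM U.unop).toModuleIso

/-- the isomorphism of presheaves of modules -/
noncomputable def valIso : ((AMod.dirImg f).obj (F f M hM)).val ≅ M.val :=
  PresheafOfModules.isoMk (eIso f M hM) (by
    intro U V j
    ext s
    exact eFun_res f M hM j.unop.le s)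

/-- `f_*F ≅ M` -/
noncomputable def dirImgIso : (AMod.dirImg f).obj (F f M hM) ≅ M :=
  (SheafOfModules.fullyFaithfulForget _).preimageIso (valIso f M hM)

end Groth.Agent.Helper1.TZ
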