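import Groth.Agent.Helper1.PDeg4
import Groth.Agent.Helper1.FieldPt2
import Groth.Agent.Helper1.FlatTw1
import Groth.Agent.Helper1.Dev6
import Groth.Agent.Helper4.SN217
import Groth.Agent.Helper4.CohFP
import Groth.Agent.Lead.IntNumBC
import Groth.Agent.Lead.Ref1B

set_option autoImplicit false
set_option linter.style.haveILetI false
set_option linter.unusedSectionVars false
set_option linter.unusedVariables false

/-!
# Tensoring with a module algebraically equivalent to zero does not change the Euler
characteristic
-/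

namespace Groth.Agent.Helper1.TauEq

open CategoryTheory AlgebraicGeometry AlgebraicGeometry.Scheme.Modules TopologicalSpace Topology
open Groth.Agent.Helper1.PDeg

universe u

variable (k : Type u) [Field k] (X : Scheme.{u}) [X.Over (Spec (CommRingCat.of k))]

section family

variable {T : Scheme.{u}} (q : T ⟶ Spec (CommRingCat.of k))

/-- the family `pr₁^* G ⊗ M` on `X ×_k T` -/
noncomputable def fam (G : X.Modules) (M : (Pic13.prodK k X q).Modules) :
    (Pic13.prodK k X q).Modules :=
  CohB1.tensorMod ((Scheme.Modules.pullback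
    (Limits.pullback.fst (X ↘ Spec (CommRingCat.of k)) q)).obj G) M

/-- the fibre of the family over a rational point -/
noncomputable def famFibreIso (G : X.Modules) (M : (Pic13.prodK k X q).Modules)
    (t : Spec (CommRingCat.of k) ⟶ T) (ht : t ≫ q = 𝟙 _) :
    (Scheme.Modules.pullback (Pic13.sliceAt k X q t ht)).obj (fam k X q G M) ≅
      CohB1.tensorMod G (Pic13.fibreMod k X q t ht M) :=
  Groth.Agent.Lead.IntNumBC.pullTensorIso (Pic13.sliceAt k X q t ht) _ M ≪≫
    PicGrp.tensorModIso
      ((Scheme.Modules.pullbackComp (Pic13.sliceAt k X q t ht)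
          (Limits.pullback.fst (X ↘ Spec (CommRingCat.of k)) q)).app G ≪≫
        (Scheme.Modules.pullbackCongr (show Pic13.sliceAt k X q t ht ≫
          Limits.pullback.fst (X ↘ Spec (CommRingCat.of k)) q = 𝟙 X from
            Limits.pullback.lift_fst _ _ _)).app G ≪≫
        (Scheme.Modules.pullbackId X).app G)
      (Iso.refl _)

variable [IsProper (X ↘ Spec (CommRingCat.of k))]

/-- the Euler characteristic of a fibre of the family over a rational point -/
theorem eulerCharLE_fam (d : ℕ) (hd : topologicalKrullDim X ≤ d)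
    [LocallyOfFiniteType q] (G : X.Modules) (hG : Coh.IsCoh G)
    (M : (Pic13.prodK k X q).Modules) (hM : PicF.IsInvertible M)
    (t : Spec (CommRingCat.of k) ⟶ T) (ht : t ≫ q = 𝟙 _) (x' : PrimeSpectrum k) :
    FGA.eulerCharLE k X (CohB1.tensorMod G (Pic13.fibreMod k X q t ht M)) d =
      PerfAux.eulerChar (Limits.pullback.snd (X ↘ Spec (CommRingCat.of k)) q)
        (fam k X q G M) (t x') := by
  haveI : IsLocallyNoetherian T := LocallyOfFiniteType.isLocallyNoetherian q
  have hE : Coh.IsCoh (fam k X q G M) :=
    Groth.Agent.Lead.Ref1B.isCoh_tensorMod _ _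
      (Groth.Agent.Helper1.Dev.isCoh_pullback _ G hG)
      (Groth.Agent.Lead.Ref1K.isCoh_of_isInvertible M hM)
  have hfl : FlatMod.IsFlatOver (Limits.pullback.snd (X ↘ Spec (CommRingCat.of k)) q)
      (fam k X q G M) := by
    refine (Groth.Agent.Helper1.FlatTw.isFlatOver_tensor_iff _ _ M hM).mpr fun z => ?_
    exact Groth.Agent.Lead.FlatBC.main_baseChange (X ↘ Spec (CommRingCat.of k))
      (Limits.pullback.snd (X ↘ Spec (CommRingCat.of k)) q)
      (Limits.pullback.fst (X ↘ Spec (CommRingCat.of k)) q) q
      (IsPullback.of_hasPullback _ _) G hG.1 z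
      (Groth.Agent.Helper4.SN217.isFlatOver_spec_field k _ G _)
  have key := fun p : ℕ => Groth.Agent.Helper1.FieldPt.finrank_HH_fieldPt
    (Limits.pullback.snd (X ↘ Spec (CommRingCat.of k)) q) _ hE hfl t
    (Pic13.sliceAt k X q t ht) (isPullback_sliceAt k X q t ht) p x'
  haveI : IsLocallyNoetherian X :=
    LocallyOfFiniteType.isLocallyNoetherian (X ↘ Spec (CommRingCat.of k))
  haveI : CompactSpace X :=
    QuasiCompact.compactSpace_of_compactSpace (X ↘ Spec (CommRingCat.of k))
  haveI : IsNoetherian X := ⟨⟩
  rw [← eulerCharLE_congr k X (famFibreIso k X q G M t ht) d]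
  unfold FGA.eulerCharLE PerfAux.eulerChar
  have hsupp : (Function.support fun p : ℕ => (-1 : ℤ) ^ p *
      (PerfAux.betti (Limits.pullback.snd (X ↘ Spec (CommRingCat.of k)) q)
        (fam k X q G M) (t x') p : ℤ)) ⊆ ↑(Finset.range (d + 1)) := by
    intro p hp
    rw [Function.mem_support] at hp
    rw [Finset.coe_range, Set.mem_Iio]
    by_contra hlt
    apply hp
    haveI := Groth.Agent.Helper4.SN.subsingleton_HH_of_dim d hd
      ((Scheme.Modules.pullback (Pic13.sliceAt k X q t ht)).obj (fam k X q G M)) p (by omega)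
    have h0 : PerfAux.betti (Limits.pullback.snd (X ↘ Spec (CommRingCat.of k)) q)
        (fam k X q G M) (t x') p = 0 := by
      refine (key p).symm.trans ?_
      exact Module.finrank_zero_of_subsingleton
    rw [h0]
    simp
  rw [finsum_eq_sum_of_support_subset _ hsupp]
  refine Finset.sum_congr rfl fun p _ => ?_
  rw [key p]
  rfl

end family

end Groth.Agent.Helper1.TauEq
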