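import Groth.Agent.Helper1.TauEq1

set_option autoImplicit false
set_option linter.style.haveILetI false
set_option linter.unusedSectionVars false
set_option linter.unusedVariables false

/-!
# Tensoring with a module algebraically equivalent to zero does not change the Euler
characteristic, II
-/

namespace Groth.Agent.Helper1.TauEq

open CategoryTheory AlgebraicGeometry AlgebraicGeometry.Scheme.Modules TopologicalSpace Topology
open Groth.Agent.Helper1.PDeg

universe u

variable (k : Type u) [Field k] (X : Scheme.{u}) [X.Over (Spec (CommRingCat.of k))]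
  [IsProper (X ↘ Spec (CommRingCat.of k))]

/-- the Euler characteristics of the fibres of `pr₁^* G ⊗ M` over the rational points of a
connected base agree -/
theorem eulerCharLE_fam_eq (d : ℕ) (hd : topologicalKrullDim X ≤ d)
    {T : Scheme.{u}} (q : T ⟶ Spec (CommRingCat.of k)) [PreconnectedSpace T]
    [LocallyOfFiniteType q] (G : X.Modules) (hG : Coh.IsCoh G)
    (M : (Pic13.prodK k X q).Modules) (hM : PicF.IsInvertible M)
    (t t₀ : Spec (CommRingCat.of k) ⟶ T) (ht : t ≫ q = 𝟙 _) (ht₀ : t₀ ≫ q = 𝟙 _) :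
    FGA.eulerCharLE k X (CohB1.tensorMod G (Pic13.fibreMod k X q t ht M)) d =
      FGA.eulerCharLE k X (CohB1.tensorMod G (Pic13.fibreMod k X q t₀ ht₀ M)) d := by
  let x' : PrimeSpectrum k := ⟨⊥, Ideal.isPrime_bot⟩
  rw [eulerCharLE_fam k X q d hd G hG M hM t ht x', eulerCharLE_fam k X q d hd G hG M hM t₀ ht₀ x']
  haveI : IsLocallyNoetherian T := LocallyOfFiniteType.isLocallyNoetherian q
  haveI : LocallyOfFinitePresentation (X ↘ Spec (CommRingCat.of k)) :=
    Groth.Agent.Helper1.SS.lofp_of_isLocallyNoetherian _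
  haveI : IsLocallyNoetherian (Pic13.prodK k X q) :=
    LocallyOfFiniteType.isLocallyNoetherian
      (Limits.pullback.snd (X ↘ Spec (CommRingCat.of k)) q)
  have hE : Coh.IsCoh (fam k X q G M) :=
    Groth.Agent.Lead.Ref1B.isCoh_tensorMod _ _
      (Groth.Agent.Helper1.Dev.isCoh_pullback _ G hG)
      (Groth.Agent.Lead.Ref1K.isCoh_of_isInvertible M hM)
  have hfl : FlatMod.IsFlatOver (Limits.pullback.snd (X ↘ Spec (CommRingCat.of k)) q)
      (fam k X q G M) := by
    refine (Groth.Agent.Helper1.FlatTw.isFlatOver_tensor_iff _ _ M hM).mpr fun z => ?_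
    exact Groth.Agent.Lead.FlatBC.main_baseChange (X ↘ Spec (CommRingCat.of k))
      (Limits.pullback.snd (X ↘ Spec (CommRingCat.of k)) q)
      (Limits.pullback.fst (X ↘ Spec (CommRingCat.of k)) q) q
      (IsPullback.of_hasPullback _ _) G hG.1 z
      (Groth.Agent.Helper4.SN217.isFlatOver_spec_field k _ G _)
  have hFP : CohB1.IsFP (fam k X q G M) :=
    Groth.Agent.Helper4.CohFP.isFP_of_isCoh _ hE.1 hE.2
  exact (Groth.Agent.Helper1.NoethApx.isLocallyConstant_eulerChar
    (Limits.pullback.snd (X ↘ Spec (CommRingCat.of k)) q) _ hFP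
      hfl).apply_eq_of_preconnectedSpace _ _

/-- **tensoring with a module algebraically equivalent to zero does not change the Euler
characteristic** -/
theorem eulerCharLE_tensor_of_isAlgEquivZero (d : ℕ) (hd : topologicalKrullDim X ≤ d)
    (N : X.Modules) (hN : Pic13.IsAlgEquivZero k X N) (G : X.Modules) (hG : Coh.IsCoh G) :
    FGA.eulerCharLE k X (CohB1.tensorMod G N) d = FGA.eulerCharLE k X G d := by
  obtain ⟨T, q, hconn, hlft, hqc, M, hM, t, t₀, ht, ht₀, ⟨e⟩, ⟨e₀⟩⟩ := hN
  have h := eulerCharLE_fam_eq k X d hd q G hG M hM t t₀ ht ht₀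
  rw [eulerCharLE_congr k X (PicGrp.tensorModIso (Iso.refl G) e) d,
    eulerCharLE_congr k X (PicGrp.tensorModIso (Iso.refl G) e₀ ≪≫ SecTwist.unitorR G) d] at h
  exact h

end Groth.Agent.Helper1.TauEq
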