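import Groth.Agent.Helper1.TauEq2
import Groth.Agent.Helper4.TensorAssoc
import Groth.Agent.Helper4.AmpleBasis
import Groth.Agent.S3230

set_option autoImplicit false
set_option linter.style.haveILetI false
set_option linter.unusedSectionVars false
set_option linter.unusedVariables false

/-!
# Tensoring with a module τ-equivalent to zero does not change the Euler characteristic
-/

namespace Groth.Agent.Helper1.TauEq

open CategoryTheory AlgebraicGeometry AlgebraicGeometry.Scheme.Modules TopologicalSpace Topology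
open Groth.Agent.Helper1.PDeg Groth.Agent.Helper4.TensorInv Groth.Agent.Helper4.TensorAssoc
open Groth.Agent.Helper4.AmpleBasis

universe u

theorem eval_aeval_X (Q : MvPolynomial (Fin 1) ℚ) (x : ℚ) :
    Polynomial.eval x (MvPolynomial.aeval (fun _ : Fin 1 => (Polynomial.X : Polynomial ℚ)) Q) =
      MvPolynomial.eval (fun _ => x) Q := by
  induction Q using MvPolynomial.induction_on with
  | C c => simp
  | add f g hf hg => simp [hf, hg]
  | mul_X f i hf => simp [hf]

/-- a polynomial function on the natural numbers which is periodic is constant -/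
theorem eval_const_of_periodic (P : MvPolynomial (Fin 1) ℚ) (n : ℕ) (hn : 0 < n) (a : ℕ → ℚ)
    (hP : ∀ m : Fin 1 → ℕ, a (m 0) = MvPolynomial.eval (fun i => (m i : ℚ)) P)
    (hper : ∀ m, a (m + n) = a m) : a 1 = a 0 := by
  set p : Polynomial ℚ := MvPolynomial.aeval (fun _ : Fin 1 => (Polynomial.X : Polynomial ℚ)) P
    with hp
  have ha : ∀ m : ℕ, a m = Polynomial.eval (m : ℚ) p := by
    intro m
    rw [hp, eval_aeval_X, hP (fun _ => m)]
  have hmul : ∀ j : ℕ, a (j * n) = a 0 := by
    intro j
    induction j with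
    | zero => simp
    | succ j ih => rw [Nat.succ_mul, hper, ih]
  have hzero : p - Polynomial.C (a 0) = 0 := by
    apply Polynomial.eq_zero_of_infinite_isRoot
    have hinj : Function.Injective fun j : ℕ => ((j * n : ℕ) : ℚ) := by
      intro i j hij
      have : i * n = j * n := by
        exact_mod_cast (show ((i * n : ℕ) : ℚ) = ((j * n : ℕ) : ℚ) from hij)
      exact Nat.eq_of_mul_eq_mul_right hn this
    refine Set.infinite_of_injective_forall_mem hinj fun j => ?_
    show Polynomial.IsRoot _ _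
    rw [Polynomial.IsRoot, Polynomial.eval_sub, Polynomial.eval_C, ← ha, hmul, sub_self]
  have h1 : Polynomial.eval (1 : ℚ) (p - Polynomial.C (a 0)) = 0 := by rw [hzero]; simp
  rw [Polynomial.eval_sub, Polynomial.eval_C] at h1
  have := ha 1
  simp only [Nat.cast_one] at this
  rw [this]
  linarith

variable (k : Type u) [Field k] (X : Scheme.{u}) [X.Over (Spec (CommRingCat.of k))]
  [IsProper (X ↘ Spec (CommRingCat.of k))]

/-- `(L^(m+n) ⊗ O) ⊗ F ≅ ((L^m ⊗ O) ⊗ F) ⊗ L^n` -/
noncomputable def shiftIso (L : X.Modules) (hL : PicF.IsInvertible L) (F : X.Modules) (m n : ℕ) :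
    CohB1.tensorMod (CohB1.tensorMod (CohB1.tensorPow L (m + n)) (Coh.structureModule X)) F ≅
      CohB1.tensorMod (CohB1.tensorMod (CohB1.tensorMod (CohB1.tensorPow L m)
        (Coh.structureModule X)) F) (CohB1.tensorPow L n) :=
  PicGrp.tensorModIso (SecTwist.unitorR _ ≪≫ (powAddIso L hL m n).symm) (Iso.refl F) ≪≫
    braidIso _ _ ≪≫
    (assocIso F (CohB1.tensorPow L m) (CohB1.tensorPow L n) (isInvertible_tensorPow hL m)
      (isInvertible_tensorPow hL n)).symm ≪≫
    PicGrp.tensorModIso (braidIso _ _ ≪≫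
      PicGrp.tensorModIso (SecTwist.unitorR _).symm (Iso.refl F)) (Iso.refl _)

/-- **S4276** -/
theorem eulerCharLE_tensor_of_isTauEquivZero (d : ℕ) (hd : topologicalKrullDim X ≤ d)
    (L : X.Modules) (hL : PicF.IsInvertible L) (hτ : Pic13.IsTauEquivZero k X L)
    (F : X.Modules) (hF : Coh.IsCoh F) :
    FGA.eulerCharLE k X (CohB1.tensorMod F L) d = FGA.eulerCharLE k X F d := by
  obtain ⟨n, hn, hN⟩ := hτ
  have hr : topologicalKrullDim (CohB1.support F) ≤ d :=
    (IsInducing.topologicalKrullDim_le Topology.IsInducing.subtypeVal).trans hd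
  obtain ⟨P, -, hP⟩ := Groth.Agent.S3230.result k X d hd (fun _ : Fin 1 => L) (fun _ => hL) F hF d hr
  let a : ℕ → ℚ := fun m => (FGA.eulerCharLE k X (CohB1.tensorMod (CohB1.tensorMod
    (CohB1.tensorPow L m) (Coh.structureModule X)) F) d : ℚ)
  have hcoh : ∀ m, Coh.IsCoh (CohB1.tensorMod (CohB1.tensorMod
      (CohB1.tensorPow L m) (Coh.structureModule X)) F) := fun m =>
    Groth.Agent.Lead.Ref1B.isCoh_tensorMod _ _
      (Groth.Agent.Lead.Ref1B.isCoh_tensorMod _ _
        (Groth.Agent.Lead.Ref1K.isCoh_of_isInvertible _ (isInvertible_tensorPow hL m))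
        (Groth.Agent.Lead.Ref1K.isCoh_of_isInvertible _ isInvertible_structureModule)) hF
  have h10 : a 1 = a 0 := by
    refine eval_const_of_periodic P n hn a (fun m => ?_) (fun m => ?_)
    · rw [← hP m]
      rfl
    · show (FGA.eulerCharLE k X _ d : ℚ) = (FGA.eulerCharLE k X _ d : ℚ)
      rw [eulerCharLE_congr k X (shiftIso X L hL F m n) d,
        eulerCharLE_tensor_of_isAlgEquivZero k X d hd _ hN _ (hcoh m)]
  have e1 : CohB1.tensorMod (CohB1.tensorMod (CohB1.tensorPow L 1) (Coh.structureModule X)) F ≅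
      CohB1.tensorMod F L :=
    PicGrp.tensorModIso (SecTwist.unitorR _ ≪≫ unitorL L) (Iso.refl F) ≪≫ braidIso _ _
  have e0 : CohB1.tensorMod (CohB1.tensorMod (CohB1.tensorPow L 0) (Coh.structureModule X)) F ≅
      F :=
    PicGrp.tensorModIso (SecTwist.unitorR _) (Iso.refl F) ≪≫ unitorL F
  have h10' : FGA.eulerCharLE k X (CohB1.tensorMod (CohB1.tensorMod
      (CohB1.tensorPow L 1) (Coh.structureModule X)) F) d =
      FGA.eulerCharLE k X (CohB1.tensorMod (CohB1.tensorMod
      (CohB1.tensorPow L 0) (Coh.structureModule X)) F) d := by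
    have h10'' : (FGA.eulerCharLE k X (CohB1.tensorMod (CohB1.tensorMod
      (CohB1.tensorPow L 1) (Coh.structureModule X)) F) d : ℚ) =
      (FGA.eulerCharLE k X (CohB1.tensorMod (CohB1.tensorMod
      (CohB1.tensorPow L 0) (Coh.structureModule X)) F) d : ℚ) := h10
    exact_mod_cast h10''
  rw [eulerCharLE_congr k X e1 d, eulerCharLE_congr k X e0 d] at h10'
  exact h10'

end Groth.Agent.Helper1.TauEq
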