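import Groth.Agent.Helper1.TauEq3
import Groth.Agent.Helper1.SW7

set_option autoImplicit false
set_option linter.style.haveILetI false
set_option linter.unusedSectionVars false
set_option linter.unusedVariables false

/-!
# Twisting by powers of a module τ-equivalent to zero, and of its inverse
-/

namespace Groth.Agent.Helper1.TauEq

open CategoryTheory AlgebraicGeometry AlgebraicGeometry.Scheme.Modules TopologicalSpace Topology
open Groth.Agent.Helper1.PDeg Groth.Agent.Helper4.TensorInv Groth.Agent.Helper4.TensorAssoc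
open Groth.Agent.Helper4.AmpleBasis

universe u

variable (k : Type u) [Field k] (X : Scheme.{u}) [X.Over (Spec (CommRingCat.of k))]
  [IsProper (X ↘ Spec (CommRingCat.of k))]

/-- `L^(m+1) ⊗ G ≅ (L^m ⊗ G) ⊗ L` -/
noncomputable def succIso (L : X.Modules) (hL : PicF.IsInvertible L) (G : X.Modules) (m : ℕ) :
    CohB1.tensorMod (CohB1.tensorPow L (m + 1)) G ≅
      CohB1.tensorMod (CohB1.tensorMod (CohB1.tensorPow L m) G) L :=
  braidIso _ _ ≪≫
    (assocIso G (CohB1.tensorPow L m) L (isInvertible_tensorPow hL m) hL).symm ≪≫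
    PicGrp.tensorModIso (braidIso _ _) (Iso.refl L)

variable (d : ℕ) (hd : topologicalKrullDim X ≤ d)
  (L : X.Modules) (hL : PicF.IsInvertible L) (hτ : Pic13.IsTauEquivZero k X L)

include hd hL hτ

/-- twisting by powers of `L` -/
theorem eulerCharLE_pow_tensor (G : X.Modules) (hG : Coh.IsCoh G) (m : ℕ) :
    FGA.eulerCharLE k X (CohB1.tensorMod (CohB1.tensorPow L m) G) d = FGA.eulerCharLE k X G d := by
  induction m with
  | zero => exact eulerCharLE_congr k X (unitorL G) d
  | succ m ih =>
    rw [eulerCharLE_congr k X (succIso X L hL G m) d,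
      eulerCharLE_tensor_of_isTauEquivZero k X d hd L hL hτ _
        (Groth.Agent.Lead.Ref1B.isCoh_tensorMod _ _
          (Groth.Agent.Lead.Ref1K.isCoh_of_isInvertible _ (isInvertible_tensorPow hL m)) hG), ih]

/-- twisting by an inverse of `L` -/
theorem eulerCharLE_tensor_inverse (L' : X.Modules)
    (e : CohB1.tensorMod L L' ≅ Coh.structureModule X) (G : X.Modules) (hG : Coh.IsCoh G) :
    FGA.eulerCharLE k X (CohB1.tensorMod G L') d = FGA.eulerCharLE k X G d := by
  have hL' : PicF.IsInvertible L' := Groth.Agent.Helper1.SW.isInvertible_of_inverse L L' hL e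
  have h1 := eulerCharLE_tensor_of_isTauEquivZero k X d hd L hL hτ (CohB1.tensorMod G L')
    (Groth.Agent.Lead.Ref1B.isCoh_tensorMod _ _ hG
      (Groth.Agent.Lead.Ref1K.isCoh_of_isInvertible _ hL'))
  rw [← h1]
  exact (eulerCharLE_congr k X (assocIso G L' L hL' hL ≪≫
    PicGrp.tensorModIso (Iso.refl G) (braidIso _ _ ≪≫ e) ≪≫ SecTwist.unitorR G) d)

/-- twisting by powers of an inverse of `L` -/
theorem eulerCharLE_pow_inverse_tensor (L' : X.Modules)
    (e : CohB1.tensorMod L L' ≅ Coh.structureModule X) (G : X.Modules) (hG : Coh.IsCoh G)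
    (m : ℕ) :
    FGA.eulerCharLE k X (CohB1.tensorMod (CohB1.tensorPow L' m) G) d =
      FGA.eulerCharLE k X G d := by
  have hL' : PicF.IsInvertible L' := Groth.Agent.Helper1.SW.isInvertible_of_inverse L L' hL e
  induction m with
  | zero => exact eulerCharLE_congr k X (unitorL G) d
  | succ m ih =>
    rw [eulerCharLE_congr k X (succIso X L' hL' G m) d,
      eulerCharLE_tensor_inverse k X d hd L hL hτ L' e _
        (Groth.Agent.Lead.Ref1B.isCoh_tensorMod _ _
          (Groth.Agent.Lead.Ref1K.isCoh_of_isInvertible _ (isInvertible_tensorPow hL' m)) hG), ih]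

end Groth.Agent.Helper1.TauEq
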