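import Groth.Agent.Helper1.TauEq4

set_option autoImplicit false
set_option linter.style.haveILetI false
set_option linter.unusedSectionVars false
set_option linter.unusedVariables false

/-!
# Algebraic and τ-equivalence to zero are stable under pullback; τ-equivalent to zero implies
numerically equivalent to zero
-/

namespace Groth.Agent.Helper1.TauEq

open CategoryTheory AlgebraicGeometry AlgebraicGeometry.Scheme.Modules TopologicalSpace Topology
open Groth.Agent.Helper1.PDeg Groth.Agent.Helper4.TensorInv Groth.Agent.Helper4.TensorAssoc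
open Groth.Agent.Helper4.AmpleBasis

universe u

variable (k : Type u) [Field k]

/-- algebraic equivalence to zero only depends on the isomorphism class -/
theorem isAlgEquivZero_of_iso (X : Scheme.{u}) [X.Over (Spec (CommRingCat.of k))]
    {N N' : X.Modules} (e : N ≅ N') (h : Pic13.IsAlgEquivZero k X N) :
    Pic13.IsAlgEquivZero k X N' := by
  obtain ⟨T, q, hconn, hlft, hqc, M, hM, t, t₀, ht, ht₀, ⟨a⟩, ⟨a₀⟩⟩ := h
  exact ⟨T, q, hconn, hlft, hqc, M, hM, t, t₀, ht, ht₀, ⟨a ≪≫ e⟩, ⟨a₀⟩⟩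

section pull

variable {X Y : Scheme.{u}} (pX : X ⟶ Spec (CommRingCat.of k)) (i : Y ⟶ X)

/-- the base change of `i` to `T` -/
noncomputable def prodMap {T : Scheme.{u}} (q : T ⟶ Spec (CommRingCat.of k)) :
    Limits.pullback (i ≫ pX) q ⟶ Limits.pullback pX q :=
  Limits.pullback.map (i ≫ pX) q pX q i (𝟙 T) (𝟙 _) (by simp) (by simp)

theorem sliceAt_prodMap {T : Scheme.{u}} (q : T ⟶ Spec (CommRingCat.of k))
    (t : Spec (CommRingCat.of k) ⟶ T) (ht : t ≫ q = 𝟙 _) :
    @Pic13.sliceAt k _ Y ⟨i ≫ pX⟩ T q t ht ≫ prodMap k pX i q =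
      i ≫ @Pic13.sliceAt k _ X ⟨pX⟩ T q t ht := by
  have h1 : prodMap k pX i q ≫ Limits.pullback.fst pX q =
      Limits.pullback.fst (i ≫ pX) q ≫ i := Limits.pullback.lift_fst _ _ _
  have h2 : prodMap k pX i q ≫ Limits.pullback.snd pX q =
      Limits.pullback.snd (i ≫ pX) q := by
    unfold prodMap Limits.pullback.map
    rw [Limits.pullback.lift_snd, Category.comp_id]
  let sY : Y ⟶ Limits.pullback (i ≫ pX) q := @Pic13.sliceAt k _ Y ⟨i ≫ pX⟩ T q t ht
  let sX : X ⟶ Limits.pullback pX q := @Pic13.sliceAt k _ X ⟨pX⟩ T q t ht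
  have a1 : sY ≫ Limits.pullback.fst (i ≫ pX) q = 𝟙 Y :=
    Limits.pullback.lift_fst _ _ _
  have a2 : sY ≫ Limits.pullback.snd (i ≫ pX) q = (i ≫ pX) ≫ t :=
    Limits.pullback.lift_snd _ _ _
  have b1 : sX ≫ Limits.pullback.fst pX q = 𝟙 X :=
    Limits.pullback.lift_fst _ _ _
  have b2 : sX ≫ Limits.pullback.snd pX q = pX ≫ t :=
    Limits.pullback.lift_snd _ _ _
  change sY ≫ prodMap k pX i q = i ≫ sX
  apply Limits.pullback.hom_ext
  · rw [Category.assoc, h1, ← Category.assoc, a1, Category.assoc, b1, Category.id_comp,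
      Category.comp_id]
  · rw [Category.assoc, h2, a2, Category.assoc, Category.assoc, b2]

/-- the fibres of the pulled back family -/
noncomputable def fibreModPullIso {T : Scheme.{u}} (q : T ⟶ Spec (CommRingCat.of k))
    (t : Spec (CommRingCat.of k) ⟶ T) (ht : t ≫ q = 𝟙 _) (M : (Limits.pullback pX q).Modules) :
    @Pic13.fibreMod k _ Y ⟨i ≫ pX⟩ T q t ht
        ((Scheme.Modules.pullback (prodMap k pX i q)).obj M) ≅
      (Scheme.Modules.pullback i).obj (@Pic13.fibreMod k _ X ⟨pX⟩ T q t ht M) :=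
  (Scheme.Modules.pullbackComp _ _).app M ≪≫
    (Scheme.Modules.pullbackCongr (sliceAt_prodMap k pX i q t ht)).app M ≪≫
    ((Scheme.Modules.pullbackComp _ _).app M).symm

/-- algebraic equivalence to zero is stable under pullback -/
theorem isAlgEquivZero_pullback (N : X.Modules) (h : @Pic13.IsAlgEquivZero k _ X ⟨pX⟩ N) :
    @Pic13.IsAlgEquivZero k _ Y ⟨i ≫ pX⟩ ((Scheme.Modules.pullback i).obj N) := by
  obtain ⟨T, q, hconn, hlft, hqc, M, hM, t, t₀, ht, ht₀, ⟨a⟩, ⟨a₀⟩⟩ := h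
  refine ⟨T, q, hconn, hlft, hqc, (Scheme.Modules.pullback (prodMap k pX i q)).obj M,
    Groth.Agent.Helper4.PullSec.isInvertible_pullback _ hM, t, t₀, ht, ht₀, ⟨?_⟩, ⟨?_⟩⟩
  · exact fibreModPullIso k pX i q t ht M ≪≫ (Scheme.Modules.pullback i).mapIso a
  · exact fibreModPullIso k pX i q t₀ ht₀ M ≪≫ (Scheme.Modules.pullback i).mapIso a₀ ≪≫
      Groth.Agent.Helper4.PullUnit.pullbackUnitIso i

/-- τ-equivalence to zero is stable under pullback -/
theorem isTauEquivZero_pullback (L : X.Modules) (hL : PicF.IsInvertible L)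
    (h : @Pic13.IsTauEquivZero k _ X ⟨pX⟩ L) :
    @Pic13.IsTauEquivZero k _ Y ⟨i ≫ pX⟩ ((Scheme.Modules.pullback i).obj L) := by
  obtain ⟨n, hn, hN⟩ := h
  refine ⟨n, hn, ?_⟩
  letI : Y.Over (Spec (CommRingCat.of k)) := ⟨i ≫ pX⟩
  exact isAlgEquivZero_of_iso k Y (Groth.Agent.Helper4.PullTensor.pullPowIso i hL n)
    (isAlgEquivZero_pullback k pX i _ hN)

end pull

/-- **S4278** -/
theorem isNumEquivZero_of_isTauEquivZero (X : Scheme.{u}) [X.Over (Spec (CommRingCat.of k))]
    [IsProper (X ↘ Spec (CommRingCat.of k))]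
    (L : X.Modules) (hL : PicF.IsInvertible L) (hτ : Pic13.IsTauEquivZero k X L) :
    Pic13.IsNumEquivZero k X L := by
  intro Y i _ hint hdim
  letI : Y.Over (Spec (CommRingCat.of k)) := ⟨i ≫ (X ↘ Spec (CommRingCat.of k))⟩
  haveI : IsProper (Y ↘ Spec (CommRingCat.of k)) :=
    inferInstanceAs (IsProper (i ≫ (X ↘ Spec (CommRingCat.of k))))
  have h1 := isTauEquivZero_pullback k (X ↘ Spec (CommRingCat.of k)) i L hL hτ
  have h2 := eulerCharLE_tensor_of_isTauEquivZero k Y 1 hdim.le _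
    (Groth.Agent.Helper4.PullSec.isInvertible_pullback i hL) h1 (Coh.structureModule Y)
    (Groth.Agent.Lead.Ref1K.isCoh_of_isInvertible _ isInvertible_structureModule)
  rw [eulerCharLE_congr k Y (unitorL _) 1] at h2
  unfold Pic13.curveDeg
  exact sub_eq_zero.mpr h2

end Groth.Agent.Helper1.TauEq
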