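import Groth.Agent.Lead.QcohTensor
import Groth.Agent.Helper4.TensorInv
import Groth.Agent.Helper4.TensorGen

set_option autoImplicit false

/-!
# Sections of a tensor product of quasi-coherent modules over an affine open: the presheaf tensor
product already computes them
-/

namespace Groth.Agent.Helper1.TensSec

open CategoryTheory Limits Opposite TopologicalSpace AlgebraicGeometry TensorProduct
open Groth.Agent.Helper4.TensorLift Groth.Agent.Helper4.TensorRes Groth.Agent.Helper4.TensorInv
  Groth.Agent.Helper4.TensorGen Groth.Agent.Lead.TildeTensor Groth.Agent.Lead.QcohTensor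

universe u

variable {X : Scheme.{u}}

section ttMap

open MonoidalCategory

variable {L L' M M' : X.Modules} (a : L ⟶ L') (b : M ⟶ M') (V : X.Opens)

/-- the sectionwise tensor product of two morphisms -/
noncomputable def ttPre : (CohB1.tensorPre L M : X.PresheafOfModules) ⟶
    (CohB1.tensorPre L' M' : X.PresheafOfModules) :=
  (DCoh.toP.map a ⊗ₘ DCoh.toP.map b : CohB1.tensorPre L M ⟶ CohB1.tensorPre L' M')

/-- the map on presheaf tensor products induced by two morphisms of modules -/
noncomputable def ttMap : TT L M V →+ TT L' M' V :=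
  ((ttPre a b).app (op V)).hom.toAddMonoidHom

theorem ttMap_pure (m : Γ(L, V)) (n : Γ(M, V)) :
    ttMap a b V (pure L M V m n) = pure L' M' V (a.app V m) (b.app V n) := by
  change ((DCoh.toP.map a).app (op V) ⊗ₘ (DCoh.toP.map b).app (op V)).hom (m ⊗ₜ n) = _
  erw [ModuleCat.MonoidalCategory.tensorHom_tmul]
  rfl

theorem tensorMap_tt (x : TT L M V) :
    (KoszTw.tensorMap a b).app V (tt L M V x) = tt L' M' V (ttMap a b V x) := by
  rw [KoszTw.tensorMap_eq_sheafify]
  exact (congrArg (fun ψ => (PresheafOfModules.Hom.app ψ (op V)).hom x)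
    ((adj X).unit.naturality (ttPre a b))).symm

end ttMap

section iso

variable {L L' M M' : X.Modules} (e : L ≅ L') (f : M ≅ M') (V : X.Opens)

theorem ttMap_inv_hom (x : TT L M V) : ttMap e.inv f.inv V (ttMap e.hom f.hom V x) = x := by
  have h : (ttMap e.inv f.inv V).comp (ttMap e.hom f.hom V) = AddMonoidHom.id _ := by
    apply addHom_ext
    intro m n
    change ttMap e.inv f.inv V (ttMap e.hom f.hom V (pure L M V m n)) = pure L M V m n
    rw [ttMap_pure, ttMap_pure, iso_inv_hom_app, iso_inv_hom_app]
  exact DFunLike.congr_fun h x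

theorem ttMap_hom_inv (x : TT L' M' V) : ttMap e.hom f.hom V (ttMap e.inv f.inv V x) = x :=
  ttMap_inv_hom e.symm f.symm V x

include e f in
/-- bijectivity of `tt` is invariant under isomorphisms of the two modules -/
theorem tt_bijective_of_iso (h : Function.Bijective (tt L' M' V)) :
    Function.Bijective (tt L M V) := by
  have hT : Function.Bijective ((KoszTw.tensorMap e.hom f.hom).app V) := by
    rw [← tensorModIso_hom_eq]
    exact ConcreteCategory.bijective_of_isIso ((PicGrp.tensorModIso e f).hom.app V)
  constructor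
  · intro x y hxy
    have h1 := congrArg ((KoszTw.tensorMap e.hom f.hom).app V) hxy
    rw [tensorMap_tt, tensorMap_tt] at h1
    have h2 := h.1 h1
    rw [← ttMap_inv_hom e f V x, ← ttMap_inv_hom e f V y, h2]
  · intro s
    obtain ⟨z, hz⟩ := h.2 ((KoszTw.tensorMap e.hom f.hom).app V s)
    refine ⟨ttMap e.inv f.inv V z, ?_⟩
    apply hT.1
    rw [tensorMap_tt, ttMap_hom_inv, hz]

end iso

section tilde

variable {R : CommRingCat.{u}} (M N : ModuleCat.{u} R)

theorem tt_bijective_tilde (f : R) :
    Function.Bijective (tt (tilde M) (tilde N) (PrimeSpectrum.basicOpen f)) := by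
  have hl := beta_lin_bijective M N f
  haveI := isIso_lift M N
  have hb : Function.Bijective ((beta M N).lift.app (PrimeSpectrum.basicOpen f)) :=
    ConcreteCategory.bijective_of_isIso _
  constructor
  · intro x y hxy
    apply hl.1
    rw [← Bil.lift_tt, ← Bil.lift_tt, hxy]
  · intro s
    obtain ⟨x, hx⟩ := hl.2 ((beta M N).lift.app (PrimeSpectrum.basicOpen f) s)
    refine ⟨x, hb.1 ?_⟩
    rw [Bil.lift_tt, hx]

theorem tt_bijective_tilde_top : Function.Bijective (tt (tilde M) (tilde N) ⊤) := by
  have h := tt_bijective_tilde M N (1 : R)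
  have e : (PrimeSpectrum.basicOpen (1 : R) : (Spec R).Opens) = ⊤ := PrimeSpectrum.basicOpen_one
  rw [e] at h
  exact h

end tilde

section restrict

variable {Y : Scheme.{u}} (j : Y ⟶ X) [IsOpenImmersion j] (M N : X.Modules)

theorem tt_bijective_image (V : Y.Opens)
    (h : Function.Bijective (tt (M.restrict j) (N.restrict j) V)) :
    Function.Bijective (tt M N (j ''ᵁ V)) := by
  haveI := isIso_resLift j M N
  have hb : Function.Bijective ((resBil j M N).lift.app V) :=
    ConcreteCategory.bijective_of_isIso _
  have key : ∀ x, (resBil j M N).lift.app V (tt (M.restrict j) (N.restrict j) V x) =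
      tt M N (j ''ᵁ V) (kappa j M N V x) := fun x => by rw [Bil.lift_tt, lin_eq]
  constructor
  · intro x y hxy
    rw [← kappa_kappa' j M N V x, ← kappa_kappa' j M N V y, ← key, ← key] at hxy
    have := h.1 (hb.1 hxy)
    rw [← kappa_kappa' j M N V x, ← kappa_kappa' j M N V y, this]
  · intro s
    obtain ⟨s', hs'⟩ := hb.2 s
    obtain ⟨x, hx⟩ := h.2 s'
    refine ⟨kappa j M N V x, ?_⟩
    rw [← key, hx, hs']

end restrict

/-- **Sections of a tensor product over an affine open**: for quasi-coherent `F`, `G` and an affine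
open `U`, the canonical map `Γ(F, U) ⊗ Γ(G, U) → Γ(F ⊗ G, U)` is bijective. -/
theorem tt_bijective_of_isAffineOpen (F G : X.Modules) [F.IsQuasicoherent] [G.IsQuasicoherent]
    {U : X.Opens} (hU : IsAffineOpen U) : Function.Bijective (tt F G U) := by
  have h1 : Function.Bijective (tt (F.restrict hU.fromSpec) (G.restrict hU.fromSpec) ⊤) :=
    tt_bijective_of_iso (tildeΓIso (F.restrict hU.fromSpec)).symm
      (tildeΓIso (G.restrict hU.fromSpec)).symm ⊤ (tt_bijective_tilde_top _ _)
  have h2 := tt_bijective_image hU.fromSpec F G ⊤ h1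
  have e : hU.fromSpec ''ᵁ ⊤ = U := Groth.Agent.Helper4.StalkDict.image_top hU
  rw [e] at h2
  exact h2

end Groth.Agent.Helper1.TensSec
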