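import Mathlib

set_option autoImplicit false

/-!
# Two algebra lemmas on tensor products: cancelling a base change, and changing the base ring
along a ring isomorphism
-/

namespace Groth.Agent.Helper1.TensSec

open TensorProduct

theorem addHom_ext' {R M N G : Type*} [CommSemiring R] [AddCommMonoid M] [Module R M]
    [AddCommMonoid N] [Module R N] [AddCommMonoid G]
    (f g : M ⊗[R] N →+ G) (h : ∀ m n, f (m ⊗ₜ n) = g (m ⊗ₜ n)) : f = g :=
  AddMonoidHom.ext fun x => TensorProduct.induction_on x (by rw [map_zero, map_zero]) h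
    (fun x y hx hy => by rw [map_add, map_add, hx, hy])

/-- if `ρ : M₀ → P` is a base change along `R₀ → B`, then `N ⊗[R₀] M₀ → N ⊗[B] P`,
`s ⊗ m ↦ s ⊗ ρ m`, is bijective -/
theorem bijective_of_isBaseChange {R₀ B M₀ P N : Type*} [CommRing R₀] [CommRing B] [Algebra R₀ B]
    [AddCommGroup M₀] [Module R₀ M₀] [AddCommGroup P] [Module R₀ P] [Module B P]
    [IsScalarTower R₀ B P] [AddCommGroup N] [Module R₀ N] [Module B N] [IsScalarTower R₀ B N]
    {ρ : M₀ →ₗ[R₀] P} (hρ : IsBaseChange B ρ) (φ : N ⊗[R₀] M₀ →+ N ⊗[B] P)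
    (hφ : ∀ s m, φ (s ⊗ₜ m) = s ⊗ₜ ρ m) : Function.Bijective φ := by
  let e : N ⊗[R₀] M₀ ≃ₗ[B] N ⊗[B] P :=
    (AlgebraTensorModule.cancelBaseChange R₀ B B N M₀).symm ≪≫ₗ
      TensorProduct.congr (LinearEquiv.refl B N) hρ.equiv
  have h : φ = e.toLinearMap.toAddMonoidHom := by
    apply addHom_ext'
    intro s m
    rw [hφ]
    change _ = (TensorProduct.congr (LinearEquiv.refl B N) hρ.equiv)
      ((AlgebraTensorModule.cancelBaseChange R₀ B B N M₀).symm (s ⊗ₜ m))
    rw [AlgebraTensorModule.cancelBaseChange_symm_tmul, TensorProduct.congr_tmul,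
      IsBaseChange.equiv_tmul, one_smul]
    rfl
  rw [h]
  exact e.bijective

/-- change of the base ring along a bijective ring homomorphism -/
theorem bijective_of_ringEquiv {A R₀ M M₀ N : Type*} [CommRing A] [CommRing R₀] (σ : A →+* R₀)
    (hσ : Function.Surjective σ) [AddCommGroup M] [Module A M] [AddCommGroup M₀] [Module R₀ M₀]
    [AddCommGroup N] [Module A N] [Module R₀ N] (hN : ∀ (a : A) (s : N), a • s = σ a • s)
    (τ : M ≃+ M₀) (hτ : ∀ (a : A) (m : M), τ (a • m) = σ a • τ m)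
    (φ : N ⊗[A] M →+ N ⊗[R₀] M₀) (hφ : ∀ s m, φ (s ⊗ₜ m) = s ⊗ₜ τ m) : Function.Bijective φ := by
  have hτ' : ∀ (a : A) (m₀ : M₀), τ.symm (σ a • m₀) = a • τ.symm m₀ := by
    intro a m₀
    apply τ.injective
    rw [hτ, AddEquiv.apply_symm_apply, AddEquiv.apply_symm_apply]
  let ψ : N ⊗[R₀] M₀ →+ N ⊗[A] M :=
    TensorProduct.liftAddHom
      { toFun := fun s =>
          { toFun := fun m₀ => s ⊗ₜ[A] τ.symm m₀
            map_zero' := by rw [map_zero, tmul_zero]
            map_add' := fun m m' => by rw [map_add, tmul_add] }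
        map_zero' := by
          ext m₀
          exact zero_tmul _ _
        map_add' := fun s s' => by
          ext m₀
          exact add_tmul _ _ _ }
      (fun r s m₀ => by
        obtain ⟨a, rfl⟩ := hσ r
        change (σ a • s) ⊗ₜ[A] τ.symm m₀ = s ⊗ₜ[A] τ.symm (σ a • m₀)
        rw [hτ', ← hN, smul_tmul])
  have hψ : ∀ s m₀, ψ (s ⊗ₜ m₀) = s ⊗ₜ τ.symm m₀ := fun s m₀ =>
    TensorProduct.liftAddHom_tmul _ _ _ _
  have h1 : ψ.comp φ = AddMonoidHom.id _ := by
    apply addHom_ext'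
    intro s m
    change ψ (φ (s ⊗ₜ m)) = s ⊗ₜ m
    rw [hφ, hψ, AddEquiv.symm_apply_apply]
  have h2 : φ.comp ψ = AddMonoidHom.id _ := by
    apply addHom_ext'
    intro s m₀
    change φ (ψ (s ⊗ₜ m₀)) = s ⊗ₜ m₀
    rw [hψ, hφ, AddEquiv.apply_symm_apply]
  refine ⟨fun x y hxy => ?_, fun y => ⟨ψ y, DFunLike.congr_fun h2 y⟩⟩
  have := congrArg ψ hxy
  rwa [← AddMonoidHom.comp_apply, ← AddMonoidHom.comp_apply, h1] at this

/-- existence form of `bijective_of_isBaseChange` -/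
theorem exists_addEquiv_of_isBaseChange {R₀ B M₀ P N : Type*} [CommRing R₀] [CommRing B]
    [Algebra R₀ B] [AddCommGroup M₀] [Module R₀ M₀] [AddCommGroup P] [Module R₀ P] [Module B P]
    [IsScalarTower R₀ B P] [AddCommGroup N] [Module R₀ N] [Module B N] [IsScalarTower R₀ B N]
    {ρ : M₀ →ₗ[R₀] P} (hρ : IsBaseChange B ρ) :
    ∃ e : N ⊗[R₀] M₀ ≃+ N ⊗[B] P, ∀ s m, e (s ⊗ₜ m) = s ⊗ₜ ρ m := by
  let e : N ⊗[R₀] M₀ ≃ₗ[B] N ⊗[B] P :=
    (AlgebraTensorModule.cancelBaseChange R₀ B B N M₀).symm ≪≫ₗ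
      TensorProduct.congr (LinearEquiv.refl B N) hρ.equiv
  refine ⟨e.toAddEquiv, fun s m => ?_⟩
  change (TensorProduct.congr (LinearEquiv.refl B N) hρ.equiv)
      ((AlgebraTensorModule.cancelBaseChange R₀ B B N M₀).symm (s ⊗ₜ m)) = _
  rw [AlgebraTensorModule.cancelBaseChange_symm_tmul, TensorProduct.congr_tmul,
    IsBaseChange.equiv_tmul, one_smul]
  rfl

/-- existence form of `bijective_of_ringEquiv` -/
theorem exists_addEquiv_of_ringEquiv {A R₀ M M₀ N : Type*} [CommRing A] [CommRing R₀]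
    (σ : A →+* R₀) (hσ : Function.Surjective σ) [AddCommGroup M] [Module A M] [AddCommGroup M₀]
    [Module R₀ M₀] [AddCommGroup N] [Module A N] [Module R₀ N]
    (hN : ∀ (a : A) (s : N), a • s = σ a • s)
    (τ : M ≃+ M₀) (hτ : ∀ (a : A) (m : M), τ (a • m) = σ a • τ m) :
    ∃ e : N ⊗[A] M ≃+ N ⊗[R₀] M₀, ∀ s m, e (s ⊗ₜ m) = s ⊗ₜ τ m := by
  let φ : N ⊗[A] M →+ N ⊗[R₀] M₀ :=
    TensorProduct.liftAddHom
      { toFun := fun s =>
          { toFun := fun m => s ⊗ₜ[R₀] τ m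
            map_zero' := by rw [map_zero, tmul_zero]
            map_add' := fun m m' => by rw [map_add, tmul_add] }
        map_zero' := by
          ext m
          exact zero_tmul _ _
        map_add' := fun s s' => by
          ext m
          exact add_tmul _ _ _ }
      (fun a s m => by
        change (a • s) ⊗ₜ[R₀] τ m = s ⊗ₜ[R₀] τ (a • m)
        rw [hτ, hN, smul_tmul])
  have hφ : ∀ s m, φ (s ⊗ₜ m) = s ⊗ₜ τ m := fun s m => TensorProduct.liftAddHom_tmul _ _ _ _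
  exact ⟨AddEquiv.ofBijective φ (bijective_of_ringEquiv σ hσ hN τ hτ φ hφ), hφ⟩

end Groth.Agent.Helper1.TensSec
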