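import Groth.Agent.Helper1.TensSec1
import Groth.Agent.Helper1.TensSec2
import Groth.Agent.Lead.BCMap5
import Groth.Agent.Lead.StalkPull
import Groth.Prelude.Def_ega3

set_option autoImplicit false

/-!
# Sections of `f^*(M~) ⊗ F` over an affine open: the canonical map from `Γ(F, V) ⊗_A M`
-/

namespace Groth.Agent.Helper1.TensSec

open CategoryTheory Limits Opposite TopologicalSpace AlgebraicGeometry TensorProduct
open Groth.Agent.Helper4.TensorLift Groth.Agent.Lead.BCMap

universe u

variable (A : Type u) [CommRing A] {X : Scheme.{u}} [X.Over (Spec (CommRingCat.of A))]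

/-- the ring map `A → Γ(X, V)` -/
noncomputable def ρV (V : X.Opens) : A →+* Γ(X, V) :=
  (Coh.resTop X (op V)).comp (Coh.toGlobal (X ↘ Spec (CommRingCat.of A)))

/-- sections of a module over an open, as an `A`-module -/
@[nolint unusedArguments]
def SecA (A : Type u) [CommRing A] {X : Scheme.{u}} [X.Over (Spec (CommRingCat.of A))]
    (N : X.Modules) (V : X.Opens) : Type u := Γ(N, V)

noncomputable instance (N : X.Modules) (V : X.Opens) : AddCommGroup (SecA A N V) :=
  inferInstanceAs (AddCommGroup Γ(N, V))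

noncomputable instance (N : X.Modules) (V : X.Opens) : Module A (SecA A N V) :=
  Module.compHom Γ(N, V) (ρV A V)

variable {A}

lemma secA_smul (N : X.Modules) (V : X.Opens) (a : A) (s : SecA A N V) :
    a • s = (ρV A V a • (show Γ(N, V) from s) : Γ(N, V)) := rfl

variable (A)

/-- `f^*(M~)` -/
noncomputable abbrev PM (X : Scheme.{u}) [X.Over (Spec (CommRingCat.of A))] (M : ModuleCat.{u} A) :
    X.Modules :=
  (Scheme.Modules.pullback (X ↘ Spec (CommRingCat.of A))).obj (tilde (R := CommRingCat.of A) M)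

instance (M : ModuleCat.{u} A) : (PM A X M).IsQuasicoherent :=
  Groth.Agent.Lead.StalkPull.isQuasicoherent_pullbackObj _ _

lemma le_preimage_top (V : X.Opens) : V ≤ (X ↘ Spec (CommRingCat.of A)) ⁻¹ᵁ ⊤ := fun _ _ => trivial

/-- `M → Γ(M~, ⊤)` -/
noncomputable def toOpenTop (M : ModuleCat.{u} A) : M →+ Γ(tilde (R := CommRingCat.of A) M, ⊤) :=
  (tilde.toOpen (R := CommRingCat.of A) M ⊤).hom.toAddMonoidHom

lemma toOpenTop_smul (M : ModuleCat.{u} A) (a : A) (m : M) :
    toOpenTop A M (a • m) =
      (show Γ(Spec (CommRingCat.of A), ⊤) from (Scheme.ΓSpecIso (CommRingCat.of A)).inv.hom a) •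
        toOpenTop A M m := by
  change (tilde.toOpen (R := CommRingCat.of A) M ⊤).hom (a • m) = _
  rw [map_smul]
  rfl

lemma toOpenTop_bijective (M : ModuleCat.{u} A) : Function.Bijective (toOpenTop A M) :=
  (ConcreteCategory.isIso_iff_bijective (tilde.toOpen (R := CommRingCat.of A) M ⊤)).mp
    (tilde.isIso_toOpen_top (R := CommRingCat.of A) (M := M))

/-- the pullback of an element of `M` to a section of `f^*(M~)` over `V` -/
noncomputable def pb (M : ModuleCat.{u} A) (V : X.Opens) : M →+ Γ(PM A X M, V) :=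
  (pbSec (X ↘ Spec (CommRingCat.of A)) (tilde (R := CommRingCat.of A) M) ⊤ V
    (le_preimage_top A V)).comp (toOpenTop A M)

lemma pb_apply (M : ModuleCat.{u} A) (V : X.Opens) (m : M) :
    pb A M V m = pbSec (X ↘ Spec (CommRingCat.of A)) (tilde (R := CommRingCat.of A) M) ⊤ V
      (le_preimage_top A V) (toOpenTop A M m) := rfl

lemma ρV_eq (V : X.Opens) (a : A) :
    ρV A V a = ((X ↘ Spec (CommRingCat.of A)).appLE ⊤ V (le_preimage_top A V)).hom
      ((Scheme.ΓSpecIso (CommRingCat.of A)).inv.hom a) := rfl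

lemma pb_smul (M : ModuleCat.{u} A) (V : X.Opens) (a : A) (m : M) :
    pb A M V (a • m) = ρV A V a • pb A M V m := by
  rw [pb_apply, pb_apply, toOpenTop_smul, pbSec_smul, ρV_eq]

lemma pb_res (M : ModuleCat.{u} A) {V V' : X.Opens} (i : V' ⟶ V) (m : M) :
    (PM A X M).presheaf.map i.op (pb A M V m) = pb A M V' m := by
  rw [pb_apply, pb_apply]
  have := pbSec_res (X ↘ Spec (CommRingCat.of A)) (tilde (R := CommRingCat.of A) M)
    (le_preimage_top A V) (le_preimage_top A V') (le_refl ⊤) (leOfHom i) (toOpenTop A M m)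
  refine this.symm.trans ?_
  congr 1

end Groth.Agent.Helper1.TensSec
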