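import Groth.Agent.Helper1.TensSec4

set_option autoImplicit false

/-!
# Naturality of the canonical map `Γ(F, V) ⊗_A M → Γ(f^*(M~) ⊗ F, V)`
-/

namespace Groth.Agent.Helper1.TensSec

open CategoryTheory Limits Opposite TopologicalSpace AlgebraicGeometry TensorProduct
open Groth.Agent.Helper4.TensorLift Groth.Agent.Lead.BCMap

universe u

variable (A : Type u) [CommRing A] {X : Scheme.{u}} [X.Over (Spec (CommRingCat.of A))]
  (F : X.Modules)

lemma ρV_res {V V' : X.Opens} (i : V' ⟶ V) (a : A) :
    X.presheaf.map i.op (ρV A V a) = ρV A V' a :=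
  Coh.resTop_comp (op V) (op V') i.op _

/-- restriction of sections, `A`-linearly -/
noncomputable def resA {V V' : X.Opens} (i : V' ⟶ V) : SecA A F V →ₗ[A] SecA A F V' where
  toFun s := F.presheaf.map i.op (show Γ(F, V) from s)
  map_add' s s' := map_add _ _ _
  map_smul' a s := by
    change F.presheaf.map i.op (ρV A V a • (show Γ(F, V) from s)) =
      ρV A V' a • F.presheaf.map i.op (show Γ(F, V) from s)
    rw [Scheme.Modules.map_smul, ρV_res]

lemma resA_apply {V V' : X.Opens} (i : V' ⟶ V) (s : SecA A F V) :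
    resA A F i s = F.presheaf.map i.op (show Γ(F, V) from s) := rfl

/-- naturality of `cMap` in the open set -/
lemma cMap_res (M : ModuleCat.{u} A) {V V' : X.Opens} (i : V' ⟶ V) (x : SecA A F V ⊗[A] M) :
    (GM A F M).presheaf.map i.op (cMap A F M V x) =
      cMap A F M V' ((resA A F i).rTensor M x) := by
  induction x using TensorProduct.induction_on with
  | zero => simp
  | tmul s m =>
    rw [LinearMap.rTensor_tmul, cMap_tmul, cMap_tmul, resA_apply, ← pb_res A M i m]
    exact SecTwist.map_tmul (PM A X M) F i (pb A M V m) s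
  | add x y hx hy => rw [map_add, map_add, hx, hy, map_add, map_add]

/-- naturality of `pb` in the module -/
lemma pb_map {M M' : ModuleCat.{u} A} (g : M ⟶ M') (V : X.Opens) (m : M) :
    ((Scheme.Modules.pullback (X ↘ Spec (CommRingCat.of A))).map
      (tilde.map (R := CommRingCat.of A) g)).app V (pb A M V m) = pb A M' V (g.hom m) := by
  rw [pb_apply, pb_apply]
  have h := pbSec_naturality (X ↘ Spec (CommRingCat.of A)) (tilde.map (R := CommRingCat.of A) g)
    ⊤ V (le_preimage_top A V) (toOpenTop A M m)
  refine h.symm.trans ?_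
  congr 1
  exact ConcreteCategory.congr_hom (tilde.toOpen_map_app (R := CommRingCat.of A) g ⊤) m

/-- the map `f^*(M~) ⊗ F → f^*(M'~) ⊗ F` induced by `g : M → M'` -/
noncomputable def gmMap {M M' : ModuleCat.{u} A} (g : M ⟶ M') : GM A F M ⟶ GM A F M' :=
  (CohIII.tensorAFunctor A F).map g

lemma gmMap_eq {M M' : ModuleCat.{u} A} (g : M ⟶ M') :
    gmMap A F g = KoszTw.tensorMap ((Scheme.Modules.pullback (X ↘ Spec (CommRingCat.of A))).map
      (tilde.map (R := CommRingCat.of A) g)) (𝟙 F) :=
  KoszTw.tensorRightMod_map _ _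

/-- naturality of `cMap` in the module -/
lemma cMap_map {M M' : ModuleCat.{u} A} (g : M ⟶ M') (V : X.Opens) (x : SecA A F V ⊗[A] M) :
    (gmMap A F g).app V (cMap A F M V x) =
      cMap A F M' V (g.hom.lTensor (SecA A F V) x) := by
  induction x using TensorProduct.induction_on with
  | zero => rw [map_zero, map_zero, map_zero, map_zero]
  | tmul s m =>
    rw [LinearMap.lTensor_tmul, cMap_tmul, cMap_tmul, ← pb_map A g V m, gmMap_eq]
    exact KoszTw.tensorMap_tmul _ (𝟙 F) V (pb A M V m) s
  | add x y hx hy => rw [map_add, map_add, hx, hy, map_add, map_add]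

end Groth.Agent.Helper1.TensSec
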