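import Mathlib
import Groth.Agent.Helper1.ResBC
import Groth.Agent.Helper1.ExtPowBC
import Groth.Agent.Helper1.SY5

/-!
# Helper1: sections of `M~` over an affine open of `Spec R` are the base change of `M`
-/

set_option autoImplicit false
set_option linter.style.haveILetI false
set_option linter.unusedSectionVars false

open CategoryTheory AlgebraicGeometry TopologicalSpace Opposite

universe u

namespace Groth.Agent.Helper1.TildeExt

/-- a bijective linear map along a surjective ring map is a base change -/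
theorem isBaseChange_of_bijective {R R₀ M P : Type u} [CommRing R] [CommRing R₀] [Algebra R R₀]
    [AddCommGroup M] [Module R M] [AddCommGroup P] [Module R P] [Module R₀ P]
    [IsScalarTower R R₀ P] (hR : Function.Surjective (algebraMap R R₀)) (f : M →ₗ[R] P)
    (hf : Function.Bijective f) : IsBaseChange R₀ f := by
  apply IsBaseChange.of_lift_unique
  intro Q _ _ _ _ g
  let e := LinearEquiv.ofBijective f hf
  let g' : P →ₗ[R₀] Q :=
    { toFun := fun p => g (e.symm p)
      map_add' := fun p q => by rw [map_add, map_add]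
      map_smul' := fun r₀ p => by
        obtain ⟨r, rfl⟩ := hR r₀
        rw [algebraMap_smul, map_smul, map_smul, RingHom.id_apply, algebraMap_smul] }
  refine ⟨g', ?_, ?_⟩
  · ext m
    change g (e.symm (f m)) = g m
    congr 1
    exact e.symm_apply_apply m
  · intro g'' hg''
    ext p
    obtain ⟨m, rfl⟩ := hf.2 p
    have h1 : g'' (f m) = g m := congrArg (fun φ : M →ₗ[R] Q => φ m) hg''
    rw [h1]
    change g m = g (e.symm (f m))
    congr 1
    exact (e.symm_apply_apply m).symm

section

variable {R : CommRingCat.{u}} (M : ModuleCat.{u} R) {U : (Spec R).Opens} (hU : IsAffineOpen U)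

/-- `M → Γ(M~, U)` as a linear map -/
noncomputable def tO (U : (Spec R).Opens) : M →ₗ[R] Γ(tilde M, U) := (tilde.toOpen M U).hom

theorem tO_res {U V : (Spec R).Opens} (i : V ≤ U) (m : M) :
    (tilde M).presheaf.map (homOfLE i).op (tO M U m) = tO M V m :=
  congrArg (fun φ => φ.hom m) (tilde.toOpen_res M U V (homOfLE i))

theorem tO_top_bijective : Function.Bijective (tO M ⊤) :=
  ConcreteCategory.bijective_of_isIso (tilde.toOpen M ⊤)

theorem algebraMap_top_surjective : Function.Surjective (algebraMap R Γ(Spec R, ⊤)) := by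
  rw [IsAffineOpen.algebraMap_Spec_obj]
  have h1 : (Spec R).presheaf.map (homOfLE (le_top : (⊤ : (Spec R).Opens) ≤ ⊤)).op = 𝟙 _ :=
    (Spec R).presheaf.map_id _
  rw [h1, Category.comp_id]
  exact (ConcreteCategory.bijective_of_isIso (Scheme.ΓSpecIso R).inv).2

include hU in
/-- **`Γ(M~, U) = Γ(U) ⊗[R] M`** for an affine open `U` of `Spec R` -/
theorem isBaseChange_tO : IsBaseChange Γ(Spec R, U) (tO M U) := by
  letI : Algebra Γ(Spec R, ⊤) Γ(Spec R, U) :=
    ((Spec R).presheaf.map (homOfLE (le_top : U ≤ ⊤)).op).hom.toAlgebra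
  letI : Module Γ(Spec R, ⊤) Γ(tilde M, U) :=
    Module.compHom _ (algebraMap Γ(Spec R, ⊤) Γ(Spec R, U))
  haveI : IsScalarTower Γ(Spec R, ⊤) Γ(Spec R, U) Γ(tilde M, U) := IsScalarTower.of_compHom _ _ _
  haveI : IsScalarTower R Γ(Spec R, ⊤) Γ(Spec R, U) := by
    refine IsScalarTower.of_algebraMap_eq (fun r => ?_)
    have h0 : (Spec R).presheaf.map (homOfLE (le_top : (⊤ : (Spec R).Opens) ≤ ⊤)).op = 𝟙 _ :=
      (Spec R).presheaf.map_id _
    rw [IsAffineOpen.algebraMap_Spec_obj, IsAffineOpen.algebraMap_Spec_obj, h0, Category.comp_id]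
    rfl
  haveI : IsScalarTower R Γ(Spec R, ⊤) Γ(tilde M, U) := by
    refine IsScalarTower.of_algebraMap_smul (fun r x => ?_)
    change (algebraMap Γ(Spec R, ⊤) Γ(Spec R, U) (algebraMap R Γ(Spec R, ⊤) r)) • x = r • x
    rw [← IsScalarTower.algebraMap_apply, algebraMap_smul]
  have h1 : IsBaseChange Γ(Spec R, ⊤) (tO M ⊤) :=
    isBaseChange_of_bijective algebraMap_top_surjective _ (tO_top_bijective M)
  have h2 : IsBaseChange Γ(Spec R, U) (SY.resLin (tilde M) (le_top : U ≤ ⊤)) :=
    ResBC.isBaseChange_res (tilde M) (isAffineOpen_top (Spec R)) hU le_top rfl _ (fun m => rfl)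
  have h3 := IsBaseChange.comp h1 h2
  have h4 : ((SY.resLin (tilde M) (le_top : U ≤ ⊤)).restrictScalars R).comp (tO M ⊤) = tO M U := by
    ext m
    exact tO_res M le_top m
  rwa [h4] at h3

end

section ext

open exteriorPower ExtPowBC

variable {R : CommRingCat.{u}} (M : ModuleCat.{u} R) (n : ℕ)

/-- the module `⋀ⁿ M` -/
noncomputable abbrev extMod : ModuleCat.{u} R := ModuleCat.of R ↥(⋀[R]^n M)

/-- the identification `Γ((⋀ⁿ M)~, U) ≃ ⋀ⁿ Γ(M~, U)` over an affine open -/
noncomputable def phi {U : (Spec R).Opens} (hU : IsAffineOpen U) :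
    Γ(tilde (extMod M n), U) ≃ₗ[Γ(Spec R, U)] ↥(⋀[Γ(Spec R, U)]^n Γ(tilde M, U)) :=
  extEquiv n (isBaseChange_tO M hU) (isBaseChange_tO (extMod M n) hU)

theorem phi_symm_tO {U : (Spec R).Opens} (hU : IsAffineOpen U) (m : Fin n → M) :
    (phi M n hU).symm (ιMulti Γ(Spec R, U) n (fun j => tO M U (m j))) =
      tO (extMod M n) U (ιMulti R n m) :=
  extEquiv_symm_ιMulti n (isBaseChange_tO M hU) (isBaseChange_tO (extMod M n) hU) m

theorem phi_compat {U V : (Spec R).Opens} (hU : IsAffineOpen U) (hV : IsAffineOpen V) (h : V ≤ U)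
    (e : Fin n → Γ(tilde M, U)) :
    (tilde (extMod M n)).presheaf.map (homOfLE h).op
        ((phi M n hU).symm (ιMulti Γ(Spec R, U) n e)) =
      (phi M n hV).symm (ιMulti Γ(Spec R, V) n
        (fun j => (tilde M).presheaf.map (homOfLE h).op (e j))) := by
  letI : Algebra Γ(Spec R, U) Γ(Spec R, V) :=
    ((Spec R).presheaf.map (homOfLE h).op).hom.toAlgebra
  letI : Module Γ(Spec R, U) Γ(tilde M, V) :=
    Module.compHom _ (algebraMap Γ(Spec R, U) Γ(Spec R, V))
  haveI : IsScalarTower Γ(Spec R, U) Γ(Spec R, V) Γ(tilde M, V) := IsScalarTower.of_compHom _ _ _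
  letI : Module Γ(Spec R, U) Γ(tilde (extMod M n), V) :=
    Module.compHom _ (algebraMap Γ(Spec R, U) Γ(Spec R, V))
  haveI : IsScalarTower Γ(Spec R, U) Γ(Spec R, V) Γ(tilde (extMod M n), V) :=
    IsScalarTower.of_compHom _ _ _
  let resE := SY.resLin (tilde M) h
  let resL := SY.resLin (tilde (extMod M n)) h
  let f : MultilinearMap Γ(Spec R, U) (fun _ : Fin n => Γ(tilde M, U)) Γ(tilde (extMod M n), V) :=
    (resL ∘ₗ (phi M n hU).symm.toLinearMap).compMultilinearMap
      (ιMulti Γ(Spec R, U) n).toMultilinearMap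
  let g : MultilinearMap Γ(Spec R, U) (fun _ : Fin n => Γ(tilde M, U)) Γ(tilde (extMod M n), V) :=
    ((phi M n hV).symm.toLinearMap.restrictScalars Γ(Spec R, U)).compMultilinearMap
      (((ιMulti Γ(Spec R, V) n).toMultilinearMap.restrictScalars Γ(Spec R, U)).compLinearMap
        (fun _ => resE))
  have hfg : f = g := by
    refine multilinear_ext_of_span f g (Set.range (tO M U))
      (span_range_of_isBaseChange (isBaseChange_tO M hU)) (fun v hv => ?_)
    choose m hm using hv
    have hv' : v = fun j => tO M U (m j) := funext (fun j => (hm j).symm)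
    subst hv'
    change (tilde (extMod M n)).presheaf.map (homOfLE h).op
        ((phi M n hU).symm (ιMulti Γ(Spec R, U) n (fun j => tO M U (m j)))) =
      (phi M n hV).symm (ιMulti Γ(Spec R, V) n
        (fun j => (tilde M).presheaf.map (homOfLE h).op (tO M U (m j))))
    rw [phi_symm_tO, tO_res]
    have : (fun j => (tilde M).presheaf.map (homOfLE h).op (tO M U (m j))) =
        fun j => tO M V (m j) := funext (fun j => tO_res M h (m j))
    rw [this, phi_symm_tO]
  exact congrArg (fun φ => φ e) hfg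

end ext

end Groth.Agent.Helper1.TildeExt
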