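import Mathlib
import Groth.Agent.S10831
import Groth.Agent.Helper6.AffDim4

/-!
# TopNV1: a closed subset of finite dimension `a` of a quasi-sober space contains a point whose
closure has dimension `a`
-/

set_option autoImplicit false

universe u

namespace Groth.Agent.Helper1.TopNV

lemma le_pred_of_lt (x : WithBot ℕ∞) (a : ℕ) (h : x < (a : WithBot ℕ∞)) :
    x ≤ ((a - 1 : ℕ) : WithBot ℕ∞) := by
  induction x using WithBot.recBotCoe with
  | bot => exact bot_le
  | coe y =>
    induction y using ENat.recTopCoe with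
    | top =>
      exfalso
      have h1 : ((⊤ : ℕ∞) : WithBot ℕ∞) < (((a : ℕ) : ℕ∞) : WithBot ℕ∞) := h
      rw [WithBot.coe_lt_coe] at h1
      exact absurd h1 (by simp)
    | coe m =>
      have h1 : (((m : ℕ) : ℕ∞) : WithBot ℕ∞) < (((a : ℕ) : ℕ∞) : WithBot ℕ∞) := h
      rw [WithBot.coe_lt_coe, Nat.cast_lt] at h1
      have h2 : m ≤ a - 1 := by omega
      show (((m : ℕ) : ℕ∞) : WithBot ℕ∞) ≤ (((a - 1 : ℕ) : ℕ∞) : WithBot ℕ∞)
      rw [WithBot.coe_le_coe, Nat.cast_le]
      exact h2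

/-- a closed subset of dimension `a ≥ 1` of a quasi-sober space contains a point whose closure
has dimension `a` -/
theorem exists_point_dim_closure {α : Type u} [TopologicalSpace α] [QuasiSober α] (W : Set α)
    (hW : IsClosed W) (a : ℕ) (ha : 1 ≤ a) (hdim : topologicalKrullDim ↥W = (a : WithBot ℕ∞)) :
    ∃ x : α, x ∈ W ∧ topologicalKrullDim ↥(closure ({x} : Set α)) = (a : WithBot ℕ∞) := by
  have hsup := Groth.Agent.S10831.result ↥W
  rw [hdim] at hsup
  have hex : ∃ C ∈ irreducibleComponents ↥W, topologicalKrullDim ↥C = (a : WithBot ℕ∞) := by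
    by_contra hcon
    push Not at hcon
    have hle : ∀ C ∈ irreducibleComponents ↥W,
        topologicalKrullDim ↥C ≤ ((a - 1 : ℕ) : WithBot ℕ∞) := by
      intro C hC
      apply le_pred_of_lt
      refine lt_of_le_of_ne ?_ (hcon C hC)
      rw [hsup]
      exact le_iSup₂ (f := fun (Y : Set ↥W) (_ : Y ∈ irreducibleComponents ↥W) =>
        topologicalKrullDim ↥Y) C hC
    have h1 : (a : WithBot ℕ∞) ≤ ((a - 1 : ℕ) : WithBot ℕ∞) := by
      rw [hsup]
      exact iSup₂_le hle
    have h2 : (((a : ℕ) : ℕ∞) : WithBot ℕ∞) ≤ (((a - 1 : ℕ) : ℕ∞) : WithBot ℕ∞) := h1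
    rw [WithBot.coe_le_coe, Nat.cast_le] at h2
    omega
  obtain ⟨C, hC, hCa⟩ := hex
  obtain ⟨x, hxW, -, hx⟩ :=
    Groth.Agent.Helper6.AffDim.exists_point_of_mem_irreducibleComponents W hW C hC
  refine ⟨x, hxW, ?_⟩
  rw [← hx, ← hCa]
  exact ((Topology.IsEmbedding.subtypeVal.homeomorphImage C).isHomeomorph.topologicalKrullDim_eq
    _).symm

end Groth.Agent.Helper1.TopNV
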