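import Mathlib
import Groth.Prelude.Def_CohTop

set_option autoImplicit false

namespace Groth.Agent.Helper1.TopPush
open CategoryTheory Limits TopologicalSpace
universe u

attribute [local instance] reflectsLimits_of_reflectsIsomorphisms in
instance pullPFL {X Y : TopCat.{u}} (f : X ⟶ Y) :
    PreservesFiniteLimits (TopCat.Sheaf.pullback AddCommGrpCat.{u} f) := by
  have : RepresentablyFlat (Opens.map f) := inferInstance
  exact Functor.sheafPullbackConstruction.preservesFiniteLimits (Opens.map f) AddCommGrpCat.{u} _ _

lemma push_injective {X Y : TopCat.{u}} (f : X ⟶ Y) (J : CohTop.Ab X) (hJ : Injective J) :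
    Injective ((CohTop.push f).obj J) := by
  have : (TopCat.Sheaf.pullback AddCommGrpCat.{u} f).PreservesMonomorphisms := inferInstance
  exact @Injective.injective_of_adjoint _ _ _ _ _ _ this
    (TopCat.Sheaf.pullbackPushforwardAdjunction AddCommGrpCat.{u} f) J hJ

end Groth.Agent.Helper1.TopPush
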