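import Mathlib
import Groth.Agent.Helper1.TorCrit
import Groth.Agent.Helper1.TorZeroNat
import Groth.Agent.Helper1.TorNatural
import Groth.Agent.Helper1.TorFlat
import Groth.Agent.Helper1.TorColim
import Groth.Agent.Helper1.TorBalanceNat2

/-!
# Artin–Rees type vanishing of transition maps on `Tor_i(M, R/I^n)`

* `finite_tor`: for a finite module `N` over a Noetherian ring and `i ≥ 1` there is `c` such that
  `Tor_i(N, R/I^n) → Tor_i(N, R/I^k)` vanishes whenever `k + c ≤ n`;
* `uniform_tor`: for fixed `m` and `i ≥ 1` there is `c` working for ALL modules killed by `I^m`.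
-/

set_option autoImplicit false
set_option linter.style.haveILetI false
set_option linter.unusedSectionVars false

open TensorProduct CategoryTheory CategoryTheory.Limits MonoidalCategory

namespace Groth.Agent.Helper1.TorAR

open Groth.Agent.Helper1.TorLib

universe u

variable {R : Type u} [CommRing R]

theorem exists_tmul_one {K : Type*} [AddCommGroup K] [Module R K] (J : Ideal R)
    (κ : K ⊗[R] (R ⧸ J)) : ∃ k : K, κ = k ⊗ₜ[R] (1 : R ⧸ J) := by
  induction κ using TensorProduct.induction_on with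
  | zero => exact ⟨0, (zero_tmul _ _).symm⟩
  | tmul x q =>
    obtain ⟨r, rfl⟩ := Ideal.Quotient.mk_surjective q
    refine ⟨r • x, ?_⟩
    rw [smul_tmul]
    congr 1
    change Submodule.Quotient.mk (p := J) r = r • Submodule.Quotient.mk (p := J) (1 : R)
    rw [← Submodule.Quotient.mk_smul, smul_eq_mul, mul_one]
  | add a b ha hb =>
    obtain ⟨k, rfl⟩ := ha
    obtain ⟨k', rfl⟩ := hb
    exact ⟨k + k', (add_tmul _ _ _).symm⟩

theorem tmul_one_eq_zero_iff {F : Type*} [AddCommGroup F] [Module R F] (J : Ideal R) (x : F) :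
    x ⊗ₜ[R] (1 : R ⧸ J) = 0 ↔ x ∈ J • (⊤ : Submodule R F) := by
  rw [← (tensorQuotEquivQuotSMul F J).map_eq_zero_iff]
  change tensorQuotEquivQuotSMul F J (x ⊗ₜ[R] Ideal.Quotient.mk J 1) = 0 ↔ _
  rw [tensorQuotEquivQuotSMul_tmul_mk, one_smul, Submodule.Quotient.mk_eq_zero]

theorem lTensor_mapQ_eq_zero {F : Type*} [AddCommGroup F] [Module R F] (K : Submodule R F)
    (J J' : Ideal R) (hJ : J ≤ J')
    (h : ∀ k : K, (k : F) ∈ J • (⊤ : Submodule R F) → k ∈ J' • (⊤ : Submodule R K))
    (κ : K ⊗[R] (R ⧸ J)) (hκ : (LinearMap.rTensor (R ⧸ J) K.subtype) κ = 0) :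
    (LinearMap.lTensor K (Submodule.mapQ J J' LinearMap.id hJ)) κ = 0 := by
  obtain ⟨k, rfl⟩ := exists_tmul_one J κ
  rw [LinearMap.rTensor_tmul, tmul_one_eq_zero_iff] at hκ
  rw [LinearMap.lTensor_tmul]
  have h1 : Submodule.mapQ J J' LinearMap.id hJ (1 : R ⧸ J) = (1 : R ⧸ J') := rfl
  rw [h1, tmul_one_eq_zero_iff]
  exact h k hκ

/-- the quotient map `R/J → R/J'` for `J ≤ J'` -/
noncomputable def q (J J' : Ideal R) (h : J ≤ J') :
    ModuleCat.of R (R ⧸ J) ⟶ ModuleCat.of R (R ⧸ J') :=
  ModuleCat.ofHom (Submodule.mapQ J J' LinearMap.id h)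

theorem q_comp (J J' J'' : Ideal R) (h : J ≤ J') (h' : J' ≤ J'') :
    q J J' h ≫ q J' J'' h' = q J J'' (h.trans h') := by
  apply ModuleCat.hom_ext
  apply LinearMap.ext
  intro x
  obtain ⟨x, rfl⟩ := Submodule.Quotient.mk_surjective _ x
  rfl

theorem pow_le_of_add_le (I : Ideal R) {n k c : ℕ} (h : k + c ≤ n) : I ^ n ≤ I ^ k :=
  Ideal.pow_le_pow_right (by omega)

theorem tor_map_eq_zero_iff_flip (n : ℕ) (M : ModuleCat.{u} R) {X X' : ModuleCat.{u} R}
    (g : X ⟶ X') :
    ((Tor (ModuleCat.{u} R) n).obj M).map g = 0 ↔ ((Tor (ModuleCat.{u} R) n).map g).app M = 0 := by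
  let e : (Tor (ModuleCat.{u} R) n).obj M ≅ (Tor (ModuleCat.{u} R) n).flip.obj M :=
    (torFlipIso (A := R) n).app M
  have h1 := NatIso.naturality_1 e g
  have h2 := NatIso.naturality_2 e g
  have h' : ((Tor (ModuleCat.{u} R) n).flip.obj M).map g = ((Tor (ModuleCat.{u} R) n).map g).app M :=
    rfl
  rw [h'] at h1 h2
  constructor
  · intro h0
    rw [← h1, h0, zero_comp, comp_zero]
  · intro h0
    rw [← h2, h0, zero_comp, comp_zero]

theorem rTensor_inclusion_eq_zero (I : Ideal R) {M : Type*} [AddCommGroup M] [Module R M] (m : ℕ)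
    (hM : ∀ a ∈ I ^ m, ∀ y : M, a • y = 0) {n k : ℕ} (h : k + m ≤ n) :
    LinearMap.rTensor M (Submodule.inclusion (pow_le_of_add_le I h)) = 0 := by
  apply TensorProduct.ext'
  intro a y
  rw [LinearMap.rTensor_tmul, LinearMap.zero_apply]
  have hmem : Submodule.inclusion (pow_le_of_add_le I h) a ∈
      I ^ (n - k) • (⊤ : Submodule R ↥(I ^ k)) := by
    rw [Submodule.mem_smul_top_iff]
    change (a : R) ∈ I ^ (n - k) • I ^ k
    rw [smul_eq_mul, ← pow_add, Nat.sub_add_cancel (by omega)]
    exact a.2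
  refine Submodule.smul_induction_on hmem ?_ ?_
  · intro b hb c _
    rw [TensorProduct.smul_tmul, hM b (Ideal.pow_le_pow_right (by omega) hb), tmul_zero]
  · intro z z' hz hz'
    rw [add_tmul, hz, hz', add_zero]

/-- the short exact sequence `0 → J → R → R/J → 0` -/
noncomputable def idealSC (J : Ideal R) : ShortComplex (ModuleCat.{u} R) :=
  scOfLinear (Submodule.subtype J) (Submodule.mkQ J) (LinearMap.exact_subtype_mkQ J)

theorem idealSC_shortExact (J : Ideal R) : (idealSC J).ShortExact :=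
  scOfLinear_shortExact _ _ J.injective_subtype (Submodule.mkQ_surjective J)
    (LinearMap.exact_subtype_mkQ J)

/-- the morphism of short exact sequences induced by `J ≤ J'` -/
noncomputable def idealSCMap (J J' : Ideal R) (h : J ≤ J') : idealSC J ⟶ idealSC J' where
  τ₁ := ModuleCat.ofHom (Submodule.inclusion h)
  τ₂ := 𝟙 _
  τ₃ := q J J' h
  comm₁₂ := by
    apply ModuleCat.hom_ext
    apply LinearMap.ext
    intro x
    rfl
  comm₂₃ := by
    apply ModuleCat.hom_ext
    apply LinearMap.ext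
    intro x
    rfl

/-- base case of the uniform statement -/
theorem uniform_tor_one (I : Ideal R) (m : ℕ) (M : Type u) [AddCommGroup M] [Module R M]
    (hM : ∀ a ∈ I ^ m, ∀ y : M, a • y = 0) (n k : ℕ) (h : k + m ≤ n) :
    ((Tor (ModuleCat.{u} R) 1).obj (ModuleCat.of R M)).map
      (q (I ^ n) (I ^ k) (pow_le_of_add_le I h)) = 0 := by
  rw [tor_map_eq_zero_iff_flip]
  have hSn := idealSC_shortExact (I ^ n)
  have hSk := idealSC_shortExact (I ^ k)
  haveI : Module.Flat R (idealSC (I ^ k)).X₂ := inferInstanceAs (Module.Flat R R)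
  haveI := mono_torOneToTensor hSk (ModuleCat.of R M)
  have hnat := torOneToTensor_natS hSn hSk (idealSCMap (I ^ n) (I ^ k) (pow_le_of_add_le I h))
    (ModuleCat.of R M)
  have hz : (idealSCMap (I ^ n) (I ^ k) (pow_le_of_add_le I h)).τ₁ ▷ (ModuleCat.of R M) = 0 := by
    apply ModuleCat.hom_ext
    exact rTensor_inclusion_eq_zero I m hM h
  rw [hz, comp_zero] at hnat
  change ((Tor (ModuleCat.{u} R) 1).map (idealSCMap (I ^ n) (I ^ k) (pow_le_of_add_le I h)).τ₃).app
    (ModuleCat.of R M) = 0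
  rw [← cancel_mono (torOneToTensor hSk (ModuleCat.of R M)), zero_comp]
  exact hnat.symm

theorem preserves_coprod (X : ModuleCat.{u} R) (i : ℕ) (J : Type u) :
    PreservesColimitsOfShape (Discrete J) ((Tor (ModuleCat.{u} R) i).flip.obj X) :=
  haveI := preservesColimitsOfShape_TFun (ProjectiveResolution.of X).complex i (Discrete J)
  preservesColimitsOfShape_of_natIso (torFlipNatIso (ProjectiveResolution.of X) i).symm

/-- vanishing of a transition map on `Tor` passes to coproducts in the first variable -/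
theorem coprod_tor_map_eq_zero (i : ℕ) (J : Type u) (B : ModuleCat.{u} R) {X X' : ModuleCat.{u} R}
    (g : X ⟶ X') (h : ((Tor (ModuleCat.{u} R) i).obj B).map g = 0) :
    ((Tor (ModuleCat.{u} R) i).obj (∐ fun _ : J => B)).map g = 0 := by
  haveI := preserves_coprod X i J
  let c : Cofan (fun _ : J => B) := Cofan.mk _ (Sigma.ι (fun _ : J => B))
  have hc : IsColimit c := coproductIsCoproduct _
  have hc' := isColimitOfPreserves ((Tor (ModuleCat.{u} R) i).flip.obj X) hc
  apply hc'.hom_ext
  rintro ⟨j⟩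
  have h1 := tor_map_comm i (Sigma.ι (fun _ : J => B) j) g
  change ((Tor (ModuleCat.{u} R) i).map (Sigma.ι (fun _ : J => B) j)).app X ≫ _ = _ ≫ 0
  rw [h1, h, zero_comp, comp_zero]

section Cover
variable (J : Ideal R) (M : Type u) [AddCommGroup M] [Module R M] (hM : ∀ a ∈ J, ∀ y : M, a • y = 0)

/-- the free `R/J`-module on the elements of `M`, as an `R`-module -/
noncomputable abbrev coverObj : ModuleCat.{u} R := ∐ fun _ : M => ModuleCat.of R (R ⧸ J)

/-- the component `R/J → M`, `r ↦ r • x` -/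
noncomputable def coverComp (x : M) : ModuleCat.of R (R ⧸ J) ⟶ ModuleCat.of R M :=
  ModuleCat.ofHom (Submodule.liftQ J (LinearMap.toSpanSingleton R M x) (by
    intro a ha
    rw [LinearMap.mem_ker, LinearMap.toSpanSingleton_apply]
    exact hM a ha x))

/-- the canonical surjection from the free `R/J`-module onto `M` -/
noncomputable def coverMap : coverObj J M ⟶ ModuleCat.of R M :=
  Sigma.desc (fun x => coverComp J M hM x)

theorem coverMap_surjective : Function.Surjective (coverMap J M hM).hom := by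
  intro x
  refine ⟨(Sigma.ι (fun _ : M => ModuleCat.of R (R ⧸ J)) x).hom (1 : R ⧸ J), ?_⟩
  have h := congrArg (fun φ => φ.hom (1 : R ⧸ J))
    (Sigma.ι_desc (fun x => coverComp J M hM x) x)
  refine Eq.trans h ?_
  change Submodule.liftQ J (LinearMap.toSpanSingleton R M x) _ (Submodule.Quotient.mk 1) = x
  rw [Submodule.liftQ_apply, LinearMap.toSpanSingleton_apply, one_smul]

instance : Epi (coverMap J M hM) := (ModuleCat.epi_iff_surjective _).mpr (coverMap_surjective J M hM)

theorem coverObj_smul_eq_zero (a : R) (ha : a ∈ J) (y : coverObj J M) : a • y = 0 := by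
  let φ : coverObj J M ⟶ coverObj J M := ModuleCat.ofHom (a • LinearMap.id)
  have hφ : φ = 0 := by
    apply Sigma.hom_ext
    intro x
    rw [comp_zero]
    apply ModuleCat.hom_ext
    apply LinearMap.ext
    intro b
    obtain ⟨b, rfl⟩ := Submodule.Quotient.mk_surjective _ b
    change a • (Sigma.ι (fun _ : M => ModuleCat.of R (R ⧸ J)) x).hom (Submodule.Quotient.mk b) = 0
    have hab : (Submodule.Quotient.mk (a • b) : R ⧸ J) = 0 :=
      (Submodule.Quotient.mk_eq_zero J).mpr (Ideal.mul_mem_right b J ha)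
    rw [← map_smul, ← Submodule.Quotient.mk_smul, hab, map_zero]
  have := congrArg (fun ψ => ψ.hom y) hφ
  exact this

end Cover

section Noeth

variable [IsNoetherianRing R]


/-- the Artin–Rees vanishing for `Tor_1` of a finite module -/
theorem finite_tor_one (I : Ideal R) (N : Type u) [AddCommGroup N] [Module R N] [Module.Finite R N] :
    ∃ c : ℕ, ∀ (n k : ℕ) (h : k + c ≤ n),
      ((Tor (ModuleCat.{u} R) 1).obj (ModuleCat.of R N)).map
        (q (I ^ n) (I ^ k) (pow_le_of_add_le I h)) = 0 := by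
  obtain ⟨r, g, hg⟩ := Module.Finite.exists_fin' R N
  let K : Submodule R (Fin r → R) := LinearMap.ker g
  obtain ⟨c, hc⟩ := Ideal.exists_pow_inf_eq_pow_smul I K
  refine ⟨c, fun n k hn => ?_⟩
  have hS := scOfLinear_shortExact K.subtype g K.injective_subtype hg
    (LinearMap.exact_subtype_ker_map g)
  haveI : Module.Flat R (scOfLinear K.subtype g (LinearMap.exact_subtype_ker_map g)).X₂ :=
    inferInstanceAs (Module.Flat R (Fin r → R))
  haveI := mono_torOneToTensor hS (ModuleCat.of R (R ⧸ I ^ k))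
  change ((Tor (ModuleCat.{u} R) 1).obj
    (scOfLinear K.subtype g (LinearMap.exact_subtype_ker_map g)).X₃).map _ = 0
  rw [← cancel_mono (torOneToTensor hS (ModuleCat.of R (R ⧸ I ^ k))), zero_comp,
    torOneToTensor_naturality]
  apply ModuleCat.hom_ext
  apply LinearMap.ext
  intro t
  have hκ : (LinearMap.rTensor (R ⧸ I ^ n) K.subtype)
      ((torOneToTensor hS (ModuleCat.of R (R ⧸ I ^ n))).hom t) = 0 := by
    have := congrArg (fun φ => φ.hom t) (torOneToTensor_comp hS (ModuleCat.of R (R ⧸ I ^ n)))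
    exact this
  have hAR : ∀ k' : K, (k' : Fin r → R) ∈ I ^ n • (⊤ : Submodule R (Fin r → R)) →
      k' ∈ I ^ k • (⊤ : Submodule R K) := by
    intro k' hk'
    rw [Submodule.mem_smul_top_iff]
    have h1 : (k' : Fin r → R) ∈ I ^ n • (⊤ : Submodule R (Fin r → R)) ⊓ K := ⟨hk', k'.2⟩
    rw [hc n (by omega)] at h1
    have h2 : I ^ (n - c) • (I ^ c • (⊤ : Submodule R (Fin r → R)) ⊓ K) ≤ I ^ k • K :=
      Submodule.smul_mono (Ideal.pow_le_pow_right (by omega)) inf_le_right
    exact h2 h1
  exact lTensor_mapQ_eq_zero K (I ^ n) (I ^ k) (pow_le_of_add_le I hn) hAR _ hκ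

/-- a general dimension-shifting step: if the middle term is flat and the transition map vanishes
on `Tor_(i+1)` of the kernel, then it vanishes on `Tor_(i+2)` of the cokernel -/
theorem shift_step {S : ShortComplex (ModuleCat.{u} R)} (hS : S.ShortExact) [Module.Flat R S.X₂]
    (i : ℕ) {X X' : ModuleCat.{u} R} (f : X ⟶ X')
    (h : ((Tor (ModuleCat.{u} R) (i + 1)).obj S.X₁).map f = 0) :
    ((Tor (ModuleCat.{u} R) (i + 2)).obj S.X₃).map f = 0 := by
  haveI : Mono (torδ X' hS (i + 1)) :=
    (tor_exact₃ X' hS (i + 1)).mono_g ((isZero_tor_of_flat_left S.X₂ X' (i + 1)).eq_of_src _ _)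
  rw [← cancel_mono (torδ X' hS (i + 1)), zero_comp, ← torδ_natN hS (i + 1) f, h, comp_zero]

/-- the Artin–Rees vanishing for higher `Tor` of a finite module -/
theorem finite_tor (I : Ideal R) : ∀ (i : ℕ) (N : Type u) [AddCommGroup N] [Module R N]
    [Module.Finite R N], ∃ c : ℕ, ∀ (n k : ℕ) (h : k + c ≤ n),
      ((Tor (ModuleCat.{u} R) (i + 1)).obj (ModuleCat.of R N)).map
        (q (I ^ n) (I ^ k) (pow_le_of_add_le I h)) = 0
  | 0, N, _, _, _ => finite_tor_one I N
  | i + 1, N, _, _, _ => by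
    obtain ⟨r, g, hg⟩ := Module.Finite.exists_fin' R N
    let K : Submodule R (Fin r → R) := LinearMap.ker g
    obtain ⟨c, hc⟩ := finite_tor I i K
    refine ⟨c, fun n k hn => ?_⟩
    have hS := scOfLinear_shortExact K.subtype g K.injective_subtype hg
      (LinearMap.exact_subtype_ker_map g)
    haveI : Module.Flat R (scOfLinear K.subtype g (LinearMap.exact_subtype_ker_map g)).X₂ :=
      inferInstanceAs (Module.Flat R (Fin r → R))
    exact shift_step hS i _ (hc n k hn)

end Noeth

end Groth.Agent.Helper1.TorAR
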