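import Mathlib
import Groth.Agent.Helper1.TorAR

/-!
# Uniform Artin–Rees vanishing of transition maps on `Tor_i(M, R/I^n)` for modules killed by `I^m`
-/

set_option autoImplicit false
set_option linter.style.haveILetI false
set_option linter.unusedSectionVars false
open TensorProduct CategoryTheory CategoryTheory.Limits MonoidalCategory
namespace Groth.Agent.Helper1.TorAR
open Groth.Agent.Helper1.TorLib
universe u
variable {R : Type u} [CommRing R] [IsNoetherianRing R]

/-- the induction step of the uniform statement -/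
theorem uniform_step (I : Ideal R) (m i c' ca : ℕ)
    (hc' : ∀ (M : Type u) [AddCommGroup M] [Module R M], (∀ a ∈ I ^ m, ∀ y : M, a • y = 0) →
      ∀ (n k : ℕ) (h : k + c' ≤ n), ((Tor (ModuleCat.{u} R) (i + 1)).obj (ModuleCat.of R M)).map
        (q (I ^ n) (I ^ k) (pow_le_of_add_le I h)) = 0)
    (hca : ∀ (n k : ℕ) (h : k + ca ≤ n),
      ((Tor (ModuleCat.{u} R) (i + 2)).obj (ModuleCat.of R (R ⧸ I ^ m))).map
        (q (I ^ n) (I ^ k) (pow_le_of_add_le I h)) = 0)
    (M : Type u) [AddCommGroup M] [Module R M] (hM : ∀ a ∈ I ^ m, ∀ y : M, a • y = 0)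
    (n k : ℕ) (h : k + (c' + ca) ≤ n) :
    ((Tor (ModuleCat.{u} R) (i + 2)).obj (ModuleCat.of R M)).map
      (q (I ^ n) (I ^ k) (pow_le_of_add_le I h)) = 0 := by
  let π := coverMap (I ^ m) M hM
  let S : ShortComplex (ModuleCat.{u} R) := ShortComplex.mk (kernel.ι π) π (kernel.condition π)
  have hS : S.ShortExact :=
    { exact := ShortComplex.exact_of_f_is_kernel _ (kernelIsKernel π)
      mono_f := inferInstanceAs (Mono (kernel.ι π))
      epi_g := inferInstanceAs (Epi π) }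
  -- the kernel is killed by `I ^ m`
  have hK : ∀ a ∈ I ^ m, ∀ z : (kernel π : ModuleCat.{u} R), a • z = 0 := by
    intro a ha z
    have hinj : Function.Injective (kernel.ι π).hom := (ModuleCat.mono_iff_injective _).mp inferInstance
    apply hinj
    rw [map_smul, map_zero]
    exact coverObj_smul_eq_zero (I ^ m) M a ha _
  have h1 : k + ca + c' ≤ n := by omega
  have h2 : k + ca ≤ k + ca := le_rfl
  have hq : q (I ^ n) (I ^ k) (pow_le_of_add_le I h) =
      q (I ^ n) (I ^ (k + ca)) (pow_le_of_add_le I h1) ≫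
        q (I ^ (k + ca)) (I ^ k) (pow_le_of_add_le I h2) := (q_comp _ _ _ _ _).symm
  rw [hq, Functor.map_comp]
  have hKz := hc' (kernel π : ModuleCat.{u} R) hK n (k + ca) h1
  have hFz := coprod_tor_map_eq_zero (i + 2) M (ModuleCat.of R (R ⧸ I ^ m)) _ (hca (k + ca) k h2)
  apply ModuleCat.hom_ext
  apply LinearMap.ext
  intro t
  have hδ : ((Tor (ModuleCat.{u} R) (i + 2)).obj S.X₃).map
      (q (I ^ n) (I ^ (k + ca)) (pow_le_of_add_le I h1)) ≫
      torδ (ModuleCat.of R (R ⧸ I ^ (k + ca))) hS (i + 1) = 0 := by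
    rw [← torδ_natN hS (i + 1)]
    change _ ≫ ((Tor (ModuleCat.{u} R) (i + 1)).obj (kernel π)).map _ = 0
    rw [hKz, comp_zero]
  have hex := (ShortComplex.ShortExact.moduleCat_exact_iff_function_exact _).mp
    (tor_exact₃ (ModuleCat.of R (R ⧸ I ^ (k + ca))) hS (i + 1))
  have hu : (torδ (ModuleCat.of R (R ⧸ I ^ (k + ca))) hS (i + 1)).hom
      ((((Tor (ModuleCat.{u} R) (i + 2)).obj S.X₃).map
        (q (I ^ n) (I ^ (k + ca)) (pow_le_of_add_le I h1))).hom t) = 0 := by
    have := congrArg (fun φ => φ.hom t) hδ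
    exact this
  obtain ⟨y, hy⟩ := (hex _).mp hu
  have hcomm := tor_map_comm (i + 2) S.g (q (I ^ (k + ca)) (I ^ k) (pow_le_of_add_le I h2))
  have h3 := congrArg (fun φ => φ.hom y) hcomm
  change (((Tor (ModuleCat.{u} R) (i + 2)).obj S.X₃).map
      (q (I ^ (k + ca)) (I ^ k) (pow_le_of_add_le I h2))).hom
    ((((Tor (ModuleCat.{u} R) (i + 2)).obj S.X₃).map
        (q (I ^ n) (I ^ (k + ca)) (pow_le_of_add_le I h1))).hom t) = 0
  rw [← hy]
  refine Eq.trans h3 ?_
  change (((Tor (ModuleCat.{u} R) (i + 2)).map S.g).app _).hom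
    ((((Tor (ModuleCat.{u} R) (i + 2)).obj (coverObj (I ^ m) M)).map
      (q (I ^ (k + ca)) (I ^ k) (pow_le_of_add_le I h2))).hom y) = 0
  rw [hFz]
  exact map_zero _

/-- **uniform Artin–Rees vanishing**: for fixed `m` and `i ≥ 1` there is `c` such that for every
module `M` killed by `I^m` the maps `Tor_i(M, R/I^n) → Tor_i(M, R/I^k)` vanish for `k + c ≤ n` -/
theorem uniform_tor (I : Ideal R) (m : ℕ) : ∀ i : ℕ, ∃ c : ℕ,
    ∀ (M : Type u) [AddCommGroup M] [Module R M], (∀ a ∈ I ^ m, ∀ y : M, a • y = 0) →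
      ∀ (n k : ℕ) (h : k + c ≤ n), ((Tor (ModuleCat.{u} R) (i + 1)).obj (ModuleCat.of R M)).map
        (q (I ^ n) (I ^ k) (pow_le_of_add_le I h)) = 0
  | 0 => ⟨m, fun M _ _ hM n k h => uniform_tor_one I m M hM n k h⟩
  | i + 1 => by
    obtain ⟨c', hc'⟩ := uniform_tor I m i
    obtain ⟨ca, hca⟩ := finite_tor I (i + 1) (R ⧸ I ^ m)
    exact ⟨c' + ca, fun M _ _ hM n k h => uniform_step I m i c' ca hc' hca M hM n k h⟩

end Groth.Agent.Helper1.TorAR
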