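import Mathlib
import Groth.Agent.Helper1.TorBalance
import Groth.Agent.Helper1.FlatCxBC

/-!
# Flat base change for `Tor`
-/

set_option autoImplicit false

namespace Groth.Agent.Helper1.TorLib

open CategoryTheory CategoryTheory.Limits MonoidalCategory Groth.Agent.Helper1.FlatCx

universe u

variable {A A' : Type u} [CommRing A] [CommRing A'] (f : A →+* A')

instance : (ModuleCat.extendScalars.{u, u, u} f).PreservesProjectiveObjects :=
  Functor.preservesProjectiveObjects_of_adjunction_of_preservesEpimorphisms
    (ModuleCat.extendRestrictScalarsAdj f)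

section Mu

variable {ι : Type} {c : ComplexShape ι}

/-- `(A' ⊗ K) ⊗_{A'} (A' ⊗ M) ≅ A' ⊗ (K ⊗ M)` as complexes. -/
noncomputable def bcTensorIso (K : HomologicalComplex (ModuleCat.{u} A) c) (M : ModuleCat.{u} A) :
    CohIII.tensorObj (CohIII.bcCx f K) ((ModuleCat.extendScalars f).obj M) ≅
      CohIII.bcCx f (CohIII.tensorObj K M) :=
  HomologicalComplex.Hom.isoOfComponents
    (fun i => Functor.Monoidal.μIso (ModuleCat.extendScalars f) (K.X i) M)
    (fun i j _ => (Functor.LaxMonoidal.μ_natural_left (ModuleCat.extendScalars f) (K.d i j) M).symm)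

end Mu

/-- Flat base change for `Tor`, categorical form. -/
theorem nonempty_tor_extendScalars_iso (hf : f.Flat) (P Q : ModuleCat.{u} A) (n : ℕ) :
    Nonempty (((Tor (ModuleCat.{u} A') n).obj ((ModuleCat.extendScalars f).obj P)).obj
        ((ModuleCat.extendScalars f).obj Q) ≅
      (ModuleCat.extendScalars f).obj (((Tor (ModuleCat.{u} A) n).obj P).obj Q)) := by
  haveI := preservesHomology_extendScalars_of_flat f hf
  set F := ProjectiveResolution.of Q
  set F' := (ModuleCat.extendScalars f).mapProjectiveResolution F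
  have e1 := torIsoT F' n ((ModuleCat.extendScalars f).obj P)
  have e2 : (CohIII.TFun F'.complex n).obj ((ModuleCat.extendScalars f).obj P) ≅
      (CohIII.bcCx f (CohIII.tensorObj F.complex P)).homology n :=
    HomologicalComplex.homologyMapIso (bcTensorIso f F.complex P) n
  have e3 := bcHomologyIso f hf (CohIII.tensorObj F.complex P) n
  have e4 := (ModuleCat.extendScalars f).mapIso (torIsoT F n P).symm
  exact ⟨e1 ≪≫ e2 ≪≫ e3 ≪≫ e4⟩

end Groth.Agent.Helper1.TorLib
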