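import Mathlib
import Groth.Agent.Helper1.FlatCxBridge

/-!
# The projection formula `(A' ⊗_A X) ⊗_{A'} P' ≅ X ⊗_A P'` for complexes
-/

set_option autoImplicit false

namespace Groth.Agent.Helper1.TorLib

open CategoryTheory CategoryTheory.Limits TensorProduct MonoidalCategory Groth.Agent.Helper1.FlatCx

universe u

variable {A A' : Type u} [CommRing A] [CommRing A'] [Algebra A A']

/-- The `A'`-module structure on the restriction of scalars of an `A'`-module. -/
noncomputable def restrictModule (P' : ModuleCat.{u} A') :
    Module A' ((ModuleCat.restrictScalars (algebraMap A A')).obj P') :=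
  inferInstanceAs (Module A' P')

attribute [local instance] restrictModule

lemma restrictTower (P' : ModuleCat.{u} A') :
    IsScalarTower A A' ((ModuleCat.restrictScalars (algebraMap A A')).obj P') :=
  ⟨fun a s p => by
    rw [ModuleCat.restrictScalars.smul_def (algebraMap A A') (M := P')]
    show ((a • s : A') • (p : P')) = (algebraMap A A' a) • (s • (p : P'))
    rw [Algebra.smul_def, mul_smul]⟩

attribute [local instance] restrictTower

/-- The identity as an `A'`-linear equivalence `P' ≃ restrict P'`. -/
noncomputable def restrictIdEquiv (P' : ModuleCat.{u} A') :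
    P' ≃ₗ[A'] ((ModuleCat.restrictScalars (algebraMap A A')).obj P') :=
  LinearEquiv.refl A' P'

/-- `(A' ⊗_A X) ⊗_{A'} P' ≃ P' ⊗_A X`, `A'`-linearly. -/
noncomputable def projA' (X : ModuleCat.{u} A) (P' : ModuleCat.{u} A') :
    (((ModuleCat.extendScalars (algebraMap A A')).obj X) ⊗[A'] P') ≃ₗ[A']
      (((ModuleCat.restrictScalars (algebraMap A A')).obj P') ⊗[A] X) :=
  TensorProduct.congr (extendScalarsEquiv X) (restrictIdEquiv P') ≪≫ₗ
    TensorProduct.comm A' (A' ⊗[A] X) ((ModuleCat.restrictScalars (algebraMap A A')).obj P') ≪≫ₗ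
    AlgebraTensorModule.cancelBaseChange A A' A'
      ((ModuleCat.restrictScalars (algebraMap A A')).obj P') X

/-- an element of `P'` viewed in the restriction. -/
noncomputable def toR {P' : ModuleCat.{u} A'} (p : P') :
    (ModuleCat.restrictScalars (algebraMap A A')).obj P' := p

/-- a pure tensor in the extension. -/
noncomputable def extTmul {X : ModuleCat.{u} A} (s : A') (x : X) :
    (ModuleCat.extendScalars (algebraMap A A')).obj X := s ⊗ₜ[A] x

lemma projA'_tmul (X : ModuleCat.{u} A) (P' : ModuleCat.{u} A') (s : A') (x : X) (p : P') :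
    projA' X P' ((extTmul s x) ⊗ₜ[A'] p) = (toR (A := A) (s • p)) ⊗ₜ[A] x := rfl

/-- The projection formula, `A`-linearly. -/
noncomputable def projEquiv (X : ModuleCat.{u} A) (P' : ModuleCat.{u} A') :
    ((ModuleCat.restrictScalars (algebraMap A A')).obj
      (((ModuleCat.extendScalars (algebraMap A A')).obj X) ⊗ P')) ≃ₗ[A]
      (X ⊗[A] ((ModuleCat.restrictScalars (algebraMap A A')).obj P')) :=
  { toFun := fun t => TensorProduct.comm A _ _ (projA' X P' t)
    invFun := fun y => (projA' X P').symm ((TensorProduct.comm A _ _).symm y)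
    left_inv := fun t =>
      (congrArg (projA' X P').symm ((TensorProduct.comm A _ _).symm_apply_apply _)).trans
        ((projA' X P').symm_apply_apply _)
    right_inv := fun y =>
      (congrArg (TensorProduct.comm A _ _) ((projA' X P').apply_symm_apply _)).trans
        ((TensorProduct.comm A _ _).apply_symm_apply _)
    map_add' := fun t t' =>
      (congrArg (TensorProduct.comm A _ _) (map_add (projA' X P') t t')).trans
        (map_add (TensorProduct.comm A _ _) _ _)
    map_smul' := fun a t => by
      have h1 : projA' X P' ((algebraMap A A' a) • t) = (algebraMap A A' a) • projA' X P' t :=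
        map_smul (projA' X P') _ _
      have h2 : (algebraMap A A' a) • (projA' X P' t) = a • projA' X P' t :=
        algebraMap_smul A' a _
      refine (congrArg (TensorProduct.comm A _ _) (h1.trans h2)).trans ?_
      exact map_smul (TensorProduct.comm A _ _) a _ }

/-- view an element of the tensor product as an element of the restricted module -/
noncomputable def asR {X : ModuleCat.{u} A} {P' : ModuleCat.{u} A'}
    (t : ((ModuleCat.extendScalars (algebraMap A A')).obj X) ⊗[A'] P') :
    (ModuleCat.restrictScalars (algebraMap A A')).obj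
      (((ModuleCat.extendScalars (algebraMap A A')).obj X) ⊗ P') := t

lemma projEquiv_tmul (X : ModuleCat.{u} A) (P' : ModuleCat.{u} A') (s : A') (x : X) (p : P') :
    projEquiv X P' (asR ((extTmul s x) ⊗ₜ[A'] p)) = x ⊗ₜ[A] toR (A := A) (s • p) := rfl

/-- an element of the restriction viewed in `P'`. -/
noncomputable def ofR {P' : ModuleCat.{u} A'}
    (p : (ModuleCat.restrictScalars (algebraMap A A')).obj P') : P' := p

lemma projEquiv_symm_tmul (X : ModuleCat.{u} A) (P' : ModuleCat.{u} A') (x : X)
    (p : (ModuleCat.restrictScalars (algebraMap A A')).obj P') :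
    (projEquiv X P').symm (x ⊗ₜ[A] p) = asR ((extTmul 1 x) ⊗ₜ[A'] (ofR p)) := rfl

lemma toR_one_smul_ofR {P' : ModuleCat.{u} A'}
    (p : (ModuleCat.restrictScalars (algebraMap A A')).obj P') :
    toR (A := A) ((1 : A') • ofR p) = p := one_smul A' (ofR p)

lemma map_asR_tmul {X Y : ModuleCat.{u} A} (P' : ModuleCat.{u} A') (g : X ⟶ Y) (s : A') (x : X)
    (p : P') :
    ((ModuleCat.restrictScalars (algebraMap A A')).map
      ((ModuleCat.extendScalars (algebraMap A A')).map g ▷ P')).hom
      (asR ((extTmul s x) ⊗ₜ[A'] p)) = asR ((extTmul s (g.hom x)) ⊗ₜ[A'] p) := rfl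

lemma projEquiv_naturality_symm {X Y : ModuleCat.{u} A} (P' : ModuleCat.{u} A') (g : X ⟶ Y)
    (y : X ⊗[A] ((ModuleCat.restrictScalars (algebraMap A A')).obj P')) :
    projEquiv Y P' (((ModuleCat.restrictScalars (algebraMap A A')).map
      ((ModuleCat.extendScalars (algebraMap A A')).map g ▷ P')).hom ((projEquiv X P').symm y)) =
      g.hom.rTensor _ y := by
  induction y using TensorProduct.induction_on with
  | zero => rw [map_zero, map_zero, map_zero, map_zero]
  | tmul x p =>
    rw [projEquiv_symm_tmul, map_asR_tmul, projEquiv_tmul, LinearMap.rTensor_tmul,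
      toR_one_smul_ofR]
  | add a b ha hb => rw [map_add, map_add, map_add, map_add, ha, hb]


lemma projEquiv_naturality {X Y : ModuleCat.{u} A} (P' : ModuleCat.{u} A') (g : X ⟶ Y)
    (t : (ModuleCat.restrictScalars (algebraMap A A')).obj
      (((ModuleCat.extendScalars (algebraMap A A')).obj X) ⊗ P')) :
    projEquiv Y P' (((ModuleCat.restrictScalars (algebraMap A A')).map
      ((ModuleCat.extendScalars (algebraMap A A')).map g ▷ P')).hom t) =
      g.hom.rTensor _ (projEquiv X P' t) := by
  have := projEquiv_naturality_symm P' g (projEquiv X P' t)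
  rwa [LinearEquiv.symm_apply_apply] at this

/-- The projection formula as a natural isomorphism. -/
noncomputable def projNatIso (P' : ModuleCat.{u} A') :
    ModuleCat.extendScalars.{u, u, u} (algebraMap A A') ⋙ tensorRight P' ⋙
        ModuleCat.restrictScalars.{u, u, u} (algebraMap A A') ≅
      tensorRight ((ModuleCat.restrictScalars (algebraMap A A')).obj P') :=
  NatIso.ofComponents (fun X => (projEquiv X P').toModuleIso) (by
    intro X Y g
    ext t
    exact projEquiv_naturality P' g t)

variable {ι : Type} {c : ComplexShape ι}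

/-- The projection formula for complexes. -/
noncomputable def projCxIso (K : HomologicalComplex (ModuleCat.{u} A) c) (P' : ModuleCat.{u} A') :
    ((ModuleCat.restrictScalars (algebraMap A A')).mapHomologicalComplex c).obj
      (CohIII.tensorObj (CohIII.bcCx (algebraMap A A') K) P') ≅
      CohIII.tensorObj K ((ModuleCat.restrictScalars (algebraMap A A')).obj P') :=
  HomologicalComplex.Hom.isoOfComponents (fun i => (projNatIso P').app (K.X i))
    (fun i j _ => ((projNatIso P').hom.naturality (K.d i j)).symm)

/-- The projection formula on homology: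
`H_n((A' ⊗_A K) ⊗_{A'} P')` restricted to `A` is `H_n(K ⊗_A P')`. -/
noncomputable def projBridge (K : HomologicalComplex (ModuleCat.{u} A) c) (P' : ModuleCat.{u} A')
    (n : ι) :
    (ModuleCat.restrictScalars (algebraMap A A')).obj
      ((CohIII.tensorObj (CohIII.bcCx (algebraMap A A') K) P').homology n) ≅
      (CohIII.tensorObj K ((ModuleCat.restrictScalars (algebraMap A A')).obj P')).homology n :=
  (restrictHomologyIso (CohIII.tensorObj (CohIII.bcCx (algebraMap A A') K) P') n).symm ≪≫
    HomologicalComplex.homologyMapIso (projCxIso K P') n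

end Groth.Agent.Helper1.TorLib
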