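import Mathlib
import Groth.Agent.Helper1.TorProj
import Groth.Agent.Helper1.TorFlatBC

/-!
# Base change for `Tor` along restriction of scalars (semilinear bijections)
-/

set_option autoImplicit false

namespace Groth.Agent.Helper1.TorLib

open CategoryTheory CategoryTheory.Limits TensorProduct MonoidalCategory Groth.Agent.Helper1.FlatCx

universe u

variable {A A' : Type u} [CommRing A] [CommRing A'] [Algebra A A']

/-- `restrictScalars` reflects zero objects. -/
lemma isZero_of_isZero_restrictScalars (Y : ModuleCat.{u} A')
    (h : IsZero ((ModuleCat.restrictScalars (algebraMap A A')).obj Y)) : IsZero Y := by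
  have h1 : Subsingleton ((ModuleCat.restrictScalars (algebraMap A A')).obj Y) :=
    ModuleCat.subsingleton_of_isZero h
  haveI : Subsingleton Y := h1
  exact ModuleCat.isZero_of_subsingleton Y

/-- An isomorphism `M ≅ restrict N` gives a semilinear bijection `M → N`. -/
noncomputable def semilinearOfIso {M : ModuleCat.{u} A} {N : ModuleCat.{u} A'}
    (e : M ≅ (ModuleCat.restrictScalars (algebraMap A A')).obj N) :
    M →ₛₗ[algebraMap A A'] N where
  toFun x := e.hom.hom x
  map_add' x y := map_add e.hom.hom x y
  map_smul' a x := (map_smul e.hom.hom a x).trans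
    (ModuleCat.restrictScalars.smul_def (algebraMap A A') a (e.hom.hom x))

lemma semilinearOfIso_bijective {M : ModuleCat.{u} A} {N : ModuleCat.{u} A'}
    (e : M ≅ (ModuleCat.restrictScalars (algebraMap A A')).obj N) :
    Function.Bijective (semilinearOfIso e) :=
  e.toLinearEquiv.bijective

/-- Flat base change, restriction form:
`Tor^A_n(P', Q) ≅ Tor^{A'}_n(P', A' ⊗_A Q)` for an `A'`-module `P'`. -/
theorem nonempty_tor_restrict_iso_of_flat (hf : (algebraMap A A').Flat) (P' : ModuleCat.{u} A')
    (Q : ModuleCat.{u} A) (n : ℕ) :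
    Nonempty (((Tor (ModuleCat.{u} A) n).obj
        ((ModuleCat.restrictScalars (algebraMap A A')).obj P')).obj Q ≅
      (ModuleCat.restrictScalars (algebraMap A A')).obj
        (((Tor (ModuleCat.{u} A') n).obj P').obj
          ((ModuleCat.extendScalars (algebraMap A A')).obj Q))) := by
  haveI := preservesHomology_extendScalars_of_flat (algebraMap A A') hf
  set F := ProjectiveResolution.of Q
  set F' := (ModuleCat.extendScalars (algebraMap A A')).mapProjectiveResolution F
  have e1 := torIsoT F n ((ModuleCat.restrictScalars (algebraMap A A')).obj P')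
  have e2 := projBridge F.complex P' n
  have e3 := (ModuleCat.restrictScalars (algebraMap A A')).mapIso (torIsoT F' n P')
  exact ⟨e1 ≪≫ e2.symm ≪≫ e3.symm⟩

end Groth.Agent.Helper1.TorLib

namespace Groth.Agent.Helper1.TorLib

open CategoryTheory CategoryTheory.Limits TensorProduct MonoidalCategory Groth.Agent.Helper1.FlatCx

universe u

variable {A A' : Type u} [CommRing A] [CommRing A'] [Algebra A A']

/-- An `A'`-module with a compatible `A`-module structure is the restriction of scalars. -/
noncomputable def ofRestrictIso (P' : Type u) [AddCommGroup P'] [Module A' P'] [Module A P']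
    [IsScalarTower A A' P'] :
    ModuleCat.of A P' ≅ (ModuleCat.restrictScalars (algebraMap A A')).obj (ModuleCat.of A' P') :=
  let e : P' ≃ₗ[A] ((ModuleCat.restrictScalars (algebraMap A A')).obj (ModuleCat.of A' P')) :=
    { toFun := fun p => p
      invFun := fun p => p
      left_inv := fun _ => rfl
      right_inv := fun _ => rfl
      map_add' := fun _ _ => rfl
      map_smul' := fun a p => (algebraMap_smul A' a p).symm }
  e.toModuleIso

/-- Flat base change for `Tor`, semilinear form (first variable an `A'`-module). -/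
theorem exists_semilinear_tor_flat_left [Module.Flat A A'] (P' : Type u) [AddCommGroup P']
    [Module A' P'] [Module A P'] [IsScalarTower A A' P'] (Q : Type u) [AddCommGroup Q] [Module A Q]
    (n : ℕ) :
    ∃ φ : ((Tor (ModuleCat.{u} A) n).obj (ModuleCat.of A P')).obj (ModuleCat.of A Q) →ₛₗ[algebraMap A A']
        ((Tor (ModuleCat.{u} A') n).obj (ModuleCat.of A' P')).obj (ModuleCat.of A' (A' ⊗[A] Q)),
      Function.Bijective φ := by
  have hf : (algebraMap A A').Flat := RingHom.flat_algebraMap_iff.mpr inferInstance
  obtain ⟨e⟩ := nonempty_tor_restrict_iso_of_flat hf (ModuleCat.of A' P') (ModuleCat.of A Q) n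
  have e0 := ((Tor (ModuleCat.{u} A) n).mapIso (ofRestrictIso (A := A) (A' := A') P')).app
    (ModuleCat.of A Q)
  have e1 := (ModuleCat.restrictScalars (algebraMap A A')).mapIso
    (((Tor (ModuleCat.{u} A') n).obj (ModuleCat.of A' P')).mapIso
      (extendScalarsEquiv (S := A') (ModuleCat.of A Q)).toModuleIso)
  exact ⟨semilinearOfIso (e0 ≪≫ e ≪≫ e1), semilinearOfIso_bijective _⟩

end Groth.Agent.Helper1.TorLib

namespace Groth.Agent.Helper1.TorLib

open CategoryTheory CategoryTheory.Limits TensorProduct MonoidalCategory Groth.Agent.Helper1.FlatCx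

universe u

variable {A A' : Type u} [CommRing A] [CommRing A'] [Algebra A A']

/-- If `Tor^A_q(P, A') = 0` for `q ≥ 1`, the base change of a projective resolution of `P` is a flat
resolution of `A' ⊗_A P`. -/
noncomputable def flatResolutionExtendScalars (P : ModuleCat.{u} A)
    (hP : ∀ q : ℕ, IsZero (((Tor (ModuleCat.{u} A) (q + 1)).obj P).obj (ModuleCat.of A A'))) :
    FlatResolution ((ModuleCat.extendScalars (algebraMap A A')).obj P) where
  complex := CohIII.bcCx (algebraMap A A') (ProjectiveResolution.of P).complex
  flat i :=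
    haveI := flat_of_projectiveResolution (ProjectiveResolution.of P) i
    flat_extendScalars A' ((ProjectiveResolution.of P).complex.X i)
  exact q := by
    rw [HomologicalComplex.exactAt_iff_isZero_homology]
    apply isZero_of_isZero_restrictScalars (A := A)
    refine IsZero.of_iso ?_ (bridge (ProjectiveResolution.of P).complex (q + 1))
    obtain ⟨e⟩ := FlatResolution.nonempty_tor_iso_left (N := ModuleCat.of A A')
      (FlatResolution.ofProjectiveResolution (ProjectiveResolution.of P)) (q + 1)
    exact IsZero.of_iso (hP q) e.symm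
  iso := bcOpcyclesIso (algebraMap A A') (ProjectiveResolution.of P).complex 0 ≪≫
    (ModuleCat.extendScalars (algebraMap A A')).mapIso (opcyclesZeroIso (ProjectiveResolution.of P))

/-- Base change for `Tor` under Tor-independence. -/
theorem nonempty_tor_restrict_iso_of_tor_vanishing (P : ModuleCat.{u} A)
    (hP : ∀ q : ℕ, IsZero (((Tor (ModuleCat.{u} A) (q + 1)).obj P).obj (ModuleCat.of A A')))
    (Q' : ModuleCat.{u} A') (n : ℕ) :
    Nonempty (((Tor (ModuleCat.{u} A) n).obj P).obj
        ((ModuleCat.restrictScalars (algebraMap A A')).obj Q') ≅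
      (ModuleCat.restrictScalars (algebraMap A A')).obj
        (((Tor (ModuleCat.{u} A') n).obj ((ModuleCat.extendScalars (algebraMap A A')).obj P)).obj
          Q')) := by
  obtain ⟨e1⟩ := FlatResolution.nonempty_tor_iso_left
    (N := (ModuleCat.restrictScalars (algebraMap A A')).obj Q')
    (FlatResolution.ofProjectiveResolution (ProjectiveResolution.of P)) n
  obtain ⟨e2⟩ := FlatResolution.nonempty_tor_iso_left (N := Q')
    (flatResolutionExtendScalars P hP) n
  have e3 := projBridge (ProjectiveResolution.of P).complex Q' n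
  exact ⟨e1 ≪≫ e3.symm ≪≫ (ModuleCat.restrictScalars (algebraMap A A')).mapIso e2.symm⟩

/-- Base change for `Tor` under Tor-independence, semilinear form. -/
theorem exists_semilinear_tor_of_tor_vanishing (P : Type u) [AddCommGroup P] [Module A P]
    (Q' : Type u) [AddCommGroup Q'] [Module A' Q'] [Module A Q'] [IsScalarTower A A' Q']
    (hP : ∀ q : ℕ, 0 < q → Subsingleton
      (((Tor (ModuleCat.{u} A) q).obj (ModuleCat.of A P)).obj (ModuleCat.of A A'))) (n : ℕ) :
    ∃ φ : ((Tor (ModuleCat.{u} A) n).obj (ModuleCat.of A P)).obj (ModuleCat.of A Q') →ₛₗ[algebraMap A A']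
        ((Tor (ModuleCat.{u} A') n).obj (ModuleCat.of A' (A' ⊗[A] P))).obj (ModuleCat.of A' Q'),
      Function.Bijective φ := by
  have hP' : ∀ q : ℕ, IsZero (((Tor (ModuleCat.{u} A) (q + 1)).obj (ModuleCat.of A P)).obj
      (ModuleCat.of A A')) := fun q =>
    haveI := hP (q + 1) (Nat.succ_pos q)
    ModuleCat.isZero_of_subsingleton _
  obtain ⟨e⟩ := nonempty_tor_restrict_iso_of_tor_vanishing (ModuleCat.of A P) hP'
    (ModuleCat.of A' Q') n
  have e0 := ((Tor (ModuleCat.{u} A) n).obj (ModuleCat.of A P)).mapIso
    (ofRestrictIso (A := A) (A' := A') Q')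
  have e1 := (ModuleCat.restrictScalars (algebraMap A A')).mapIso
    (((Tor (ModuleCat.{u} A') n).mapIso
      (extendScalarsEquiv (S := A') (ModuleCat.of A P)).toModuleIso).app (ModuleCat.of A' Q'))
  exact ⟨semilinearOfIso (e0 ≪≫ e ≪≫ e1), semilinearOfIso_bijective _⟩

end Groth.Agent.Helper1.TorLib
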