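import Mathlib
import Groth.Agent.Helper1.TorPrimes
import Groth.Agent.Helper1.TorNatural

/-!
# Flat base change for `Tor` in the first variable, naturally in the second variable
-/

set_option autoImplicit false

namespace Groth.Agent.Helper1.TorLib

open CategoryTheory CategoryTheory.Limits MonoidalCategory Groth.Agent.Helper1.FlatCx TensorProduct

universe u
variable {A : Type u} [CommRing A]

section FlatBaseNat

variable {ι : Type} {c : ComplexShape ι} {Q Q' : HomologicalComplex (ModuleCat.{u} A) c}
  (φ : Q ⟶ Q')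

lemma tensorObjAssocIso_natP (L B : ModuleCat.{u} A) :
    tL φ (L ⊗ B) ≫ (tensorObjAssocIso Q' L B).hom =
      (tensorObjAssocIso Q L B).hom ≫ tL (tL φ L) B := by
  ext i : 1
  exact associator_inv_naturality_left (φ.f i) L B

lemma homologyTensorFlatIso_natP {K K' : HomologicalComplex (ModuleCat.{u} A) c} (ψ : K ⟶ K')
    (B : ModuleCat.{u} A) [Module.Flat A B] (p : ι) :
    HomologicalComplex.homologyMap (tL ψ B) p ≫ (homologyTensorFlatIso K' B p).hom =
      (homologyTensorFlatIso K B p).hom ≫ HomologicalComplex.homologyMap ψ p ▷ B :=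
  ShortComplex.mapHomologyIso_hom_naturality
    ((HomologicalComplex.shortComplexFunctor _ c p).map ψ) (tensorRight B)

lemma TFunFlatIso_natP (p : ι) (L B : ModuleCat.{u} A) [Module.Flat A B] :
    TmapL φ p (L ⊗ B) ≫ (TFunFlatIso Q' p L B).hom =
      (TFunFlatIso Q p L B).hom ≫ TmapL φ p L ▷ B := by
  have h1 : HomologicalComplex.homologyMap (tL φ (L ⊗ B)) p ≫
      HomologicalComplex.homologyMap (tensorObjAssocIso Q' L B).hom p =
      HomologicalComplex.homologyMap (tensorObjAssocIso Q L B).hom p ≫
        HomologicalComplex.homologyMap (tL (tL φ L) B) p := by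
    rw [← HomologicalComplex.homologyMap_comp, ← HomologicalComplex.homologyMap_comp,
      tensorObjAssocIso_natP]
  have h2 := homologyTensorFlatIso_natP (tL φ L) B p
  show HomologicalComplex.homologyMap (tL φ (L ⊗ B)) p ≫
      (HomologicalComplex.homologyMap (tensorObjAssocIso Q' L B).hom p ≫
        (homologyTensorFlatIso (CohIII.tensorObj Q' L) B p).hom) =
    (HomologicalComplex.homologyMap (tensorObjAssocIso Q L B).hom p ≫
        (homologyTensorFlatIso (CohIII.tensorObj Q L) B p).hom) ≫
      HomologicalComplex.homologyMap (tL φ L) p ▷ B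
  exact Eq.trans (Category.assoc _ _ _).symm (Eq.trans (congrArg (· ≫ _) h1)
    (Eq.trans (Category.assoc _ _ _) (Eq.trans (congrArg (_ ≫ ·) h2)
      (Category.assoc _ _ _).symm)))

end FlatBaseNat

/-- Flat base change for `Tor` in the first variable, as an explicit isomorphism. -/
noncomputable def torFlatBCIso (n : ℕ) (L B X : ModuleCat.{u} A) [Module.Flat A B] :
    ((Tor (ModuleCat.{u} A) n).obj (L ⊗ B)).obj X ≅ ((Tor (ModuleCat.{u} A) n).obj L).obj X ⊗ B :=
  torIsoT (ProjectiveResolution.of X) n (L ⊗ B) ≪≫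
    TFunFlatIso (ProjectiveResolution.of X).complex n L B ≪≫
    whiskerRightIso (torIsoT (ProjectiveResolution.of X) n L).symm B

lemma torFlatBCIso_naturality (n : ℕ) (L B : ModuleCat.{u} A) [Module.Flat A B]
    {X X' : ModuleCat.{u} A} (u : X ⟶ X') :
    ((Tor (ModuleCat.{u} A) n).obj (L ⊗ B)).map u ≫ (torFlatBCIso n L B X').hom =
      (torFlatBCIso n L B X).hom ≫ ((Tor (ModuleCat.{u} A) n).obj L).map u ▷ B := by
  have comm := ProjectiveResolution.lift_commutes_zero u (ProjectiveResolution.of X)
    (ProjectiveResolution.of X')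
  have h1 := torIsoT_natN u _ _ _ comm n (L ⊗ B)
  have h2 := TFunFlatIso_natP (ProjectiveResolution.lift u (ProjectiveResolution.of X)
    (ProjectiveResolution.of X')) n L B
  have h3 : TmapL (ProjectiveResolution.lift u (ProjectiveResolution.of X)
      (ProjectiveResolution.of X')) n L ▷ B ≫
      (torIsoT (ProjectiveResolution.of X') n L).inv ▷ B =
      (torIsoT (ProjectiveResolution.of X) n L).inv ▷ B ≫
        ((Tor (ModuleCat.{u} A) n).obj L).map u ▷ B := by
    rw [← comp_whiskerRight, ← comp_whiskerRight, torIsoT_inv_natN u _ _ _ comm n L]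
  unfold torFlatBCIso
  simp only [Iso.trans_hom, whiskerRightIso_hom, Iso.symm_hom, Category.assoc]
  rw [reassoc_of% h1, reassoc_of% h2, h3]

end Groth.Agent.Helper1.TorLib
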