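import Mathlib
import Groth.Agent.Helper1.TorFlatBCNat
import Groth.Agent.Helper1.TorReg

/-!
# Relative statements: when is `Tor_i(L, u)` an isomorphism for a fixed `u : M ⟶ N`
-/

set_option autoImplicit false

namespace Groth.Agent.Helper1.TorLib

open CategoryTheory CategoryTheory.Limits MonoidalCategory Groth.Agent.Helper1.FlatCx TensorProduct

universe u
variable {A : Type u} [CommRing A]

section Elementwise

variable (X : ModuleCat.{u} A) {S : ShortComplex (ModuleCat.{u} A)} (hS : S.ShortExact)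

lemma exact_torδ_f (n : ℕ) :
    Function.Exact (torδ X hS n).hom (((Tor (ModuleCat.{u} A) n).map S.f).app X).hom :=
  (ShortComplex.ShortExact.moduleCat_exact_iff_function_exact _).mp (tor_exact₁ X hS n)

include hS in
lemma exact_tor_f_g (n : ℕ) :
    Function.Exact (((Tor (ModuleCat.{u} A) n).map S.f).app X).hom
      (((Tor (ModuleCat.{u} A) n).map S.g).app X).hom :=
  (ShortComplex.ShortExact.moduleCat_exact_iff_function_exact _).mp (tor_exact₂ X hS n)

lemma exact_tor_g_δ (n : ℕ) :
    Function.Exact (((Tor (ModuleCat.{u} A) (n + 1)).map S.g).app X).hom (torδ X hS n).hom :=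
  (ShortComplex.ShortExact.moduleCat_exact_iff_function_exact _).mp (tor_exact₃ X hS n)

lemma epi_tor_zero_map₁ {L L' : ModuleCat.{u} A} (g : L ⟶ L') [Epi g] :
    Epi (((Tor (ModuleCat.{u} A) 0).map g).app X) := by
  have h : ((Tor (ModuleCat.{u} A) 0).map g).app X =
      (torZeroNatIso X).hom.app L ≫ g ▷ X ≫ (torZeroNatIso X).inv.app L' := by
    have := torZero_naturality X g
    rw [← reassoc_of% this, Iso.hom_inv_id_app]
    exact (Category.comp_id _).symm
  rw [h]
  have h1 : Epi (g ▷ X) := by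
    refine (ModuleCat.epi_iff_surjective _).mpr ?_
    exact LinearMap.rTensor_surjective _ ((ModuleCat.epi_iff_surjective g).mp inferInstance)
  have h2 : Epi (g ▷ X ≫ (torZeroNatIso X).inv.app L') := epi_comp _ _
  exact epi_comp _ _

include hS in
lemma surjective_tor_zero_g :
    Function.Surjective (((Tor (ModuleCat.{u} A) 0).map S.g).app X).hom := by
  haveI : Epi S.g := hS.epi_g
  exact (ModuleCat.epi_iff_surjective _).mp (epi_tor_zero_map₁ X S.g)

end Elementwise

section Ladder

variable {S : ShortComplex (ModuleCat.{u} A)} (hS : S.ShortExact) {M N : ModuleCat.{u} A}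
  (u : M ⟶ N)

lemma ladder_comm_map (n : ℕ) {L L' : ModuleCat.{u} A} (g : L ⟶ L') :
    (((Tor (ModuleCat.{u} A) n).map g).app N).hom ∘ₗ (((Tor (ModuleCat.{u} A) n).obj L).map u).hom =
      (((Tor (ModuleCat.{u} A) n).obj L').map u).hom ∘ₗ
        (((Tor (ModuleCat.{u} A) n).map g).app M).hom := by
  have h := tor_map_comm n g u
  rw [← ModuleCat.hom_comp, ← ModuleCat.hom_comp, h]

lemma ladder_comm_δ (n : ℕ) :
    (torδ N hS n).hom ∘ₗ (((Tor (ModuleCat.{u} A) (n + 1)).obj S.X₃).map u).hom =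
      (((Tor (ModuleCat.{u} A) n).obj S.X₁).map u).hom ∘ₗ (torδ M hS n).hom := by
  have h := torδ_natN hS n u
  rw [← ModuleCat.hom_comp, ← ModuleCat.hom_comp, h]

include hS in
/-- The five lemma for the `Tor` ladder: 2-out-of-3 (middle term). -/
lemma bijective_tor_map_X₂
    (h₁ : ∀ j, Function.Bijective (((Tor (ModuleCat.{u} A) j).obj S.X₁).map u).hom)
    (h₃ : ∀ j, Function.Bijective (((Tor (ModuleCat.{u} A) j).obj S.X₃).map u).hom) (j : ℕ) :
    Function.Bijective (((Tor (ModuleCat.{u} A) j).obj S.X₂).map u).hom := by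
  constructor
  · exact LinearMap.injective_of_surjective_of_injective_of_injective
      (torδ M hS j).hom (((Tor (ModuleCat.{u} A) j).map S.f).app M).hom
      (((Tor (ModuleCat.{u} A) j).map S.g).app M).hom
      (torδ N hS j).hom (((Tor (ModuleCat.{u} A) j).map S.f).app N).hom
      (((Tor (ModuleCat.{u} A) j).map S.g).app N).hom
      _ _ _ _
      (ladder_comm_δ hS u j) (ladder_comm_map u j S.f) (ladder_comm_map u j S.g)
      (exact_torδ_f M hS j) (exact_tor_f_g M hS j) (exact_torδ_f N hS j)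
      (h₃ (j + 1)).2 (h₁ j).1 (h₃ j).1
  · cases j with
    | zero =>
      exact LinearMap.surjective_of_surjective_of_surjective_of_injective
        (((Tor (ModuleCat.{u} A) 0).map S.f).app M).hom
        (((Tor (ModuleCat.{u} A) 0).map S.g).app M).hom (0 : _ →ₗ[A] Unit)
        (((Tor (ModuleCat.{u} A) 0).map S.f).app N).hom
        (((Tor (ModuleCat.{u} A) 0).map S.g).app N).hom (0 : _ →ₗ[A] Unit)
        _ _ _ LinearMap.id
        (ladder_comm_map u 0 S.f) (ladder_comm_map u 0 S.g) (by simp)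
        (fun y => by simpa using surjective_tor_zero_g M hS y)
        (exact_tor_f_g N hS 0)
        (fun y => by simpa using surjective_tor_zero_g N hS y)
        (h₁ 0).2 (h₃ 0).2 (fun _ _ _ => rfl)
    | succ j =>
      exact LinearMap.surjective_of_surjective_of_surjective_of_injective
        (((Tor (ModuleCat.{u} A) (j + 1)).map S.f).app M).hom
        (((Tor (ModuleCat.{u} A) (j + 1)).map S.g).app M).hom (torδ M hS j).hom
        (((Tor (ModuleCat.{u} A) (j + 1)).map S.f).app N).hom
        (((Tor (ModuleCat.{u} A) (j + 1)).map S.g).app N).hom (torδ N hS j).hom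
        _ _ _ _
        (ladder_comm_map u (j + 1) S.f) (ladder_comm_map u (j + 1) S.g) (ladder_comm_δ hS u j)
        (exact_tor_g_δ M hS j) (exact_tor_f_g N hS (j + 1)) (exact_tor_g_δ N hS j)
        (h₁ (j + 1)).2 (h₃ (j + 1)).2 (h₁ j).1

include hS in
/-- Chase 1: if `u` is injective on `Tor_i(X₃, -)` and surjective on `Tor_{i+1}(X₃, -)`, then
`f c ∈ im u` implies `c ∈ im u`. -/
lemma ladder_chase₁ (i : ℕ)
    (hinj : Function.Injective (((Tor (ModuleCat.{u} A) i).obj S.X₃).map u).hom)
    (hsurj : Function.Surjective (((Tor (ModuleCat.{u} A) (i + 1)).obj S.X₃).map u).hom)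
    (c : ((Tor (ModuleCat.{u} A) i).obj S.X₁).obj N) (m : ((Tor (ModuleCat.{u} A) i).obj S.X₂).obj M)
    (h : (((Tor (ModuleCat.{u} A) i).map S.f).app N).hom c =
      (((Tor (ModuleCat.{u} A) i).obj S.X₂).map u).hom m) :
    ∃ m', (((Tor (ModuleCat.{u} A) i).obj S.X₁).map u).hom m' = c := by
  have cf := fun x => LinearMap.congr_fun (ladder_comm_map u i S.f) x
  have cg := fun x => LinearMap.congr_fun (ladder_comm_map u i S.g) x
  have cδ := fun x => LinearMap.congr_fun (ladder_comm_δ hS u i) x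
  simp only [LinearMap.comp_apply] at cf cg cδ
  -- `g m = 0`
  have h1 : (((Tor (ModuleCat.{u} A) i).map S.g).app M).hom m = 0 := by
    apply hinj
    rw [← cg, ← h, (exact_tor_f_g N hS i).apply_apply_eq_zero, map_zero]
  obtain ⟨m₁, rfl⟩ := (exact_tor_f_g M hS i _).mp h1
  have h2 : (((Tor (ModuleCat.{u} A) i).map S.f).app N).hom
      (c - (((Tor (ModuleCat.{u} A) i).obj S.X₁).map u).hom m₁) = 0 := by
    rw [map_sub, cf, h, sub_self]
  obtain ⟨e, he⟩ := (exact_torδ_f N hS i _).mp h2
  obtain ⟨e', rfl⟩ := hsurj e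
  refine ⟨m₁ + (torδ M hS i).hom e', ?_⟩
  rw [map_add, ← cδ, he]
  abel

include hS in
/-- Chase 2: if `u` is surjective on `Tor_{i+1}(X₂, -)` and injective on `Tor_{i+1}(X₃, -)`, then
`u m = 0` and `f m = 0` imply `m = 0`. -/
lemma ladder_chase₂ (i : ℕ)
    (hsurj : Function.Surjective (((Tor (ModuleCat.{u} A) (i + 1)).obj S.X₂).map u).hom)
    (hinj : Function.Injective (((Tor (ModuleCat.{u} A) (i + 1)).obj S.X₃).map u).hom)
    (m : ((Tor (ModuleCat.{u} A) i).obj S.X₁).obj M)
    (hu : (((Tor (ModuleCat.{u} A) i).obj S.X₁).map u).hom m = 0)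
    (hf : (((Tor (ModuleCat.{u} A) i).map S.f).app M).hom m = 0) : m = 0 := by
  have cg := fun x => LinearMap.congr_fun (ladder_comm_map u (i + 1) S.g) x
  have cδ := fun x => LinearMap.congr_fun (ladder_comm_δ hS u i) x
  simp only [LinearMap.comp_apply] at cg cδ
  obtain ⟨e, rfl⟩ := (exact_torδ_f M hS i _).mp hf
  have h1 : (torδ N hS i).hom ((((Tor (ModuleCat.{u} A) (i + 1)).obj S.X₃).map u).hom e) = 0 := by
    rw [cδ, hu]
  obtain ⟨n, hn⟩ := (exact_tor_g_δ N hS i _).mp h1
  obtain ⟨m₂, rfl⟩ := hsurj n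
  rw [cg] at hn
  have := hinj hn
  rw [← this]
  exact (exact_tor_g_δ M hS i).apply_apply_eq_zero m₂

end Ladder

end Groth.Agent.Helper1.TorLib

namespace Groth.Agent.Helper1.TorLib

open CategoryTheory CategoryTheory.Limits MonoidalCategory Groth.Agent.Helper1.FlatCx TensorProduct

universe u
variable {A : Type u} [CommRing A]

section Basic

lemma isZero_tor_of_subsingleton_left (n : ℕ) (L X : ModuleCat.{u} A) [Subsingleton L] :
    IsZero (((Tor (ModuleCat.{u} A) n).obj L).obj X) := by
  rw [IsZero.iff_id_eq_zero]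
  have h0 : (𝟙 L : L ⟶ L) = (0 : A) • 𝟙 L := by
    ext x
    exact Subsingleton.elim _ _
  have h1 : ((Tor (ModuleCat.{u} A) n).map (𝟙 L)).app X = 𝟙 _ := by
    rw [CategoryTheory.Functor.map_id]
    rfl
  rw [← h1, h0, tor_map_smul, zero_smul]

lemma bijective_tor_map_of_subsingleton (n : ℕ) (L : ModuleCat.{u} A) [Subsingleton L]
    {M N : ModuleCat.{u} A} (u : M ⟶ N) :
    Function.Bijective (((Tor (ModuleCat.{u} A) n).obj L).map u).hom := by
  haveI : Subsingleton (((Tor (ModuleCat.{u} A) n).obj L).obj M) :=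
    ModuleCat.subsingleton_of_isZero (isZero_tor_of_subsingleton_left n L M)
  haveI : Subsingleton (((Tor (ModuleCat.{u} A) n).obj L).obj N) :=
    ModuleCat.subsingleton_of_isZero (isZero_tor_of_subsingleton_left n L N)
  exact ⟨fun _ _ _ => Subsingleton.elim _ _, fun y => ⟨0, Subsingleton.elim _ _⟩⟩

lemma bijective_iff_isIso {M N : ModuleCat.{u} A} (f : M ⟶ N) :
    Function.Bijective f.hom ↔ IsIso f := by
  rw [← ConcreteCategory.isIso_iff_bijective]

lemma bijective_tor_map_of_iso (n : ℕ) {L L' : ModuleCat.{u} A} (e : L ≅ L')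
    {M N : ModuleCat.{u} A} (u : M ⟶ N)
    (h : Function.Bijective (((Tor (ModuleCat.{u} A) n).obj L).map u).hom) :
    Function.Bijective (((Tor (ModuleCat.{u} A) n).obj L').map u).hom := by
  rw [bijective_iff_isIso] at h ⊢
  exact (NatIso.isIso_map_iff ((Tor (ModuleCat.{u} A) n).mapIso e) u).mp h

end Basic

section Localization

variable (p : Ideal A) [p.IsPrime] (T : Type u) [AddCommGroup T] [Module A T]

lemma exists_smul_eq_zero_of_tmul_one_eq_zero (t : T)
    (h : t ⊗ₜ[A] (1 : Localization.AtPrime p) = 0) : ∃ s : A, s ∉ p ∧ s • t = 0 := by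
  have h' : TensorProduct.mk A (Localization.AtPrime p) T 1 t = 0 := by
    have := congrArg (TensorProduct.comm A T (Localization.AtPrime p)) h
    simpa using this
  obtain ⟨c, hc⟩ := (IsLocalizedModule.eq_zero_iff p.primeCompl
    (TensorProduct.mk A (Localization.AtPrime p) T 1)).mp h'
  exact ⟨c.1, c.2, hc⟩

lemma exists_smul_eq_tmul_one (z : T ⊗[A] Localization.AtPrime p) :
    ∃ (s : A) (t : T), s ∉ p ∧ s • z = t ⊗ₜ[A] (1 : Localization.AtPrime p) := by
  obtain ⟨⟨t, c⟩, hc⟩ := IsLocalizedModule.surj p.primeCompl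
    (TensorProduct.mk A (Localization.AtPrime p) T 1)
    (TensorProduct.comm A T (Localization.AtPrime p) z)
  refine ⟨c.1, t, c.2, ?_⟩
  apply (TensorProduct.comm A T (Localization.AtPrime p)).injective
  rw [map_smul]
  have hc' : c.1 • (TensorProduct.comm A T (Localization.AtPrime p)) z =
      TensorProduct.mk A (Localization.AtPrime p) T 1 t := hc
  rw [hc']
  simp

variable {T} {T' : Type u} [AddCommGroup T'] [Module A T'] (φ : T →ₗ[A] T')

lemma injective_of_rTensor_localization_injective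
    (h : Function.Injective (LinearMap.rTensor (Localization.AtPrime p) φ))
    (hK : ∀ m, φ m = 0 → ∀ s : A, s ∉ p → s • m = 0 → m = 0) : Function.Injective φ := by
  rw [← LinearMap.ker_eq_bot, LinearMap.ker_eq_bot']
  intro m hm
  have h1 : m ⊗ₜ[A] (1 : Localization.AtPrime p) = 0 := by
    apply h
    rw [LinearMap.rTensor_tmul, hm, TensorProduct.zero_tmul, map_zero]
  obtain ⟨s, hs, hsm⟩ := exists_smul_eq_zero_of_tmul_one_eq_zero p T m h1
  exact hK m hm s hs hsm

lemma surjective_of_rTensor_localization_surjective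
    (h : Function.Surjective (LinearMap.rTensor (Localization.AtPrime p) φ))
    (hC : ∀ s : A, s ∉ p → ∀ c, s • c ∈ LinearMap.range φ → c ∈ LinearMap.range φ) :
    Function.Surjective φ := by
  intro c
  obtain ⟨z, hz⟩ := h (c ⊗ₜ[A] (1 : Localization.AtPrime p))
  obtain ⟨s, t, hs, hst⟩ := exists_smul_eq_tmul_one p T z
  have h1 : (s • c - φ t) ⊗ₜ[A] (1 : Localization.AtPrime p) = 0 := by
    rw [TensorProduct.sub_tmul, ← TensorProduct.smul_tmul', ← hz, ← map_smul, hst,
      LinearMap.rTensor_tmul, sub_self]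
  obtain ⟨s', hs', h2⟩ := exists_smul_eq_zero_of_tmul_one_eq_zero p T' _ h1
  have h3 : (s' * s) • c = φ (s' • t) := by
    rw [smul_sub, sub_eq_zero] at h2
    rw [mul_smul, h2, map_smul]
  have hmem : (s' * s) • c ∈ LinearMap.range φ := ⟨_, h3.symm⟩
  have hss : s' * s ∉ p := fun hmem' =>
    (Ideal.IsPrime.mem_or_mem ‹_› hmem').elim hs' hs
  exact hC _ hss c hmem

end Localization

section LocalStep

variable (p : Ideal A) [p.IsPrime] {M N : ModuleCat.{u} A} (u : M ⟶ N)

lemma bijective_rTensor_tor_map_of_residueField (i : ℕ)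
    (hk : IsIso (((Tor (ModuleCat.{u} A) i).obj (ModuleCat.of A p.ResidueField)).map u)) :
    Function.Bijective (LinearMap.rTensor (Localization.AtPrime p)
      (((Tor (ModuleCat.{u} A) i).obj (ModuleCat.of A (A ⧸ p))).map u).hom) := by
  set L := ModuleCat.of A (A ⧸ p)
  set B := ModuleCat.of A (Localization.AtPrime p)
  have h1 : IsIso (((Tor (ModuleCat.{u} A) i).obj (L ⊗ B)).map u) :=
    (NatIso.isIso_map_iff ((Tor (ModuleCat.{u} A) i).mapIso
      (residueFieldEquivTensor p).toModuleIso) u).mp hk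
  have h2 : ((Tor (ModuleCat.{u} A) i).obj L).map u ▷ B =
      (torFlatBCIso i L B M).inv ≫ ((Tor (ModuleCat.{u} A) i).obj (L ⊗ B)).map u ≫
        (torFlatBCIso i L B N).hom := by
    rw [torFlatBCIso_naturality, Iso.inv_hom_id_assoc]
  have h3 : IsIso (((Tor (ModuleCat.{u} A) i).obj L).map u ▷ B) := by
    rw [h2]
    infer_instance
  exact (bijective_iff_isIso _).mpr h3

/-- The local step: if `Tor_i(k(p), u)` is an isomorphism for all `i` and `Tor_i(A/(p + (f)), u)`
is bijective for all `f ∉ p` and all `i`, then `Tor_i(A/p, u)` is bijective for all `i`. -/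
theorem bijective_tor_map_quotient_prime
    (hk : ∀ i, IsIso (((Tor (ModuleCat.{u} A) i).obj (ModuleCat.of A p.ResidueField)).map u))
    (h : ∀ f : A, f ∉ p → ∀ i, Function.Bijective
      (((Tor (ModuleCat.{u} A) i).obj (ModuleCat.of A (A ⧸ (p ⊔ Ideal.span {f})))).map u).hom)
    (i : ℕ) : Function.Bijective
      (((Tor (ModuleCat.{u} A) i).obj (ModuleCat.of A (A ⧸ p))).map u).hom := by
  have hS : ∀ f : A, f ∉ p → (scOfLinear (f • (LinearMap.id : (A ⧸ p) →ₗ[A] (A ⧸ p)))
      (quotFactor p f) (exact_smul_quotFactor p f)).ShortExact := fun f hf =>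
    scOfLinear_shortExact _ _ (smul_quot_injective p f hf) (quotFactor_surjective p f)
      (exact_smul_quotFactor p f)
  have hsmul : ∀ (f : A) (j : ℕ) (X : ModuleCat.{u} A)
      (t : ((Tor (ModuleCat.{u} A) j).obj (ModuleCat.of A (A ⧸ p))).obj X),
      (((Tor (ModuleCat.{u} A) j).map (scOfLinear (f • (LinearMap.id : (A ⧸ p) →ₗ[A] (A ⧸ p)))
        (quotFactor p f) (exact_smul_quotFactor p f)).f).app X).hom t = f • t := fun f j X t =>
    tor_map_smul_id_apply j _ X f t
  have hsurj : ∀ j, Function.Surjective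
      (((Tor (ModuleCat.{u} A) j).obj (ModuleCat.of A (A ⧸ p))).map u).hom := by
    intro j
    refine surjective_of_rTensor_localization_surjective p _
      (bijective_rTensor_tor_map_of_residueField p u j (hk j)).2 ?_
    rintro s hs c ⟨m, hm⟩
    obtain ⟨m', hm'⟩ := ladder_chase₁ (hS s hs) u j (h s hs j).1 (h s hs (j + 1)).2 c m
      ((hsmul s j N c).trans hm.symm)
    exact ⟨m', hm'⟩
  refine ⟨?_, hsurj i⟩
  refine injective_of_rTensor_localization_injective p _
    (bijective_rTensor_tor_map_of_residueField p u i (hk i)).1 ?_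
  intro m hm s hs hsm
  exact ladder_chase₂ (hS s hs) u i (hsurj (i + 1)) (h s hs (i + 1)).1 m hm
    ((hsmul s i M m).trans hsm)

end LocalStep

end Groth.Agent.Helper1.TorLib
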