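import Mathlib
import Groth.Agent.Helper1.TorBalanceNat2
import Groth.Agent.Helper1.TorCrit
import Groth.Agent.Helper1.TorReg

/-!
# `Tor` in the second variable: additivity, `Tor_0`, vanishing lemmas
-/

set_option autoImplicit false

namespace Groth.Agent.Helper1.TorLib

open CategoryTheory CategoryTheory.Limits MonoidalCategory Groth.Agent.Helper1.FlatCx

universe u

variable {A : Type u} [CommRing A]

instance torObj_additive (n : ℕ) (M : ModuleCat.{u} A) :
    ((Tor (ModuleCat.{u} A) n).obj M).Additive :=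
  Functor.additive_of_iso (torBalanceIso (stdFlatRes M) n).symm

/-- `Tor_0(M, -) ≅ M ⊗ -`. -/
noncomputable def torZeroIso₂ (M : ModuleCat.{u} A) :
    (Tor (ModuleCat.{u} A) 0).obj M ≅ tensorLeft M :=
  torZeroNatIso₂ M ≪≫ (tensoringLeft (ModuleCat.{u} A)).mapIso (stdFlatRes M).iso

lemma mono_torZero_map_iff (M : ModuleCat.{u} A) {N N' : ModuleCat.{u} A} (g : N ⟶ N') :
    Mono (((Tor (ModuleCat.{u} A) 0).obj M).map g) ↔
      Function.Injective (LinearMap.lTensor M g.hom) := by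
  have key : Mono (((Tor (ModuleCat.{u} A) 0).obj M).map g) ↔ Mono ((tensorLeft M).map g) :=
    mono_iff_of_comm _ _ ((torZeroIso₂ M).app N) ((torZeroIso₂ M).app N')
      ((torZeroIso₂ M).hom.naturality g)
  rw [key, ModuleCat.mono_iff_injective]
  rfl

section LES2

variable (M : ModuleCat.{u} A) {S : ShortComplex (ModuleCat.{u} A)} (hS : S.ShortExact)

include hS in
lemma isZero_tor_X₂₂ (n : ℕ) (h₁ : IsZero (((Tor (ModuleCat.{u} A) n).obj M).obj S.X₁))
    (h₃ : IsZero (((Tor (ModuleCat.{u} A) n).obj M).obj S.X₃)) :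
    IsZero (((Tor (ModuleCat.{u} A) n).obj M).obj S.X₂) :=
  (tor_exact₂₂ M hS n).isZero_of_both_zeros (h₁.eq_of_src _ _) (h₃.eq_of_tgt _ _)

include hS in
lemma isZero_tor_X₁₂ (n : ℕ) (h₂ : IsZero (((Tor (ModuleCat.{u} A) n).obj M).obj S.X₂))
    (h₃ : IsZero (((Tor (ModuleCat.{u} A) (n + 1)).obj M).obj S.X₃)) :
    IsZero (((Tor (ModuleCat.{u} A) n).obj M).obj S.X₁) :=
  (tor_exact₁₂ M hS n).isZero_of_both_zeros (h₃.eq_of_src _ _) (h₂.eq_of_tgt _ _)

include hS in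
lemma isZero_tor_X₃₂ (n : ℕ) (h₂ : IsZero (((Tor (ModuleCat.{u} A) (n + 1)).obj M).obj S.X₂))
    (h₁ : IsZero (((Tor (ModuleCat.{u} A) n).obj M).obj S.X₁)) :
    IsZero (((Tor (ModuleCat.{u} A) (n + 1)).obj M).obj S.X₃) :=
  (tor_exact₃₂ M hS n).isZero_of_both_zeros (h₂.eq_of_src _ _) (h₁.eq_of_tgt _ _)

include hS in
/-- `Tor_1(M, N) → Tor_1(M, N'')` is epi iff `M ⊗ N' → M ⊗ N` is injective. -/
lemma epi_torOne_map_iff :
    Epi (((Tor (ModuleCat.{u} A) 1).obj M).map S.g) ↔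
      Function.Injective (LinearMap.lTensor M S.f.hom) := by
  rw [← mono_torZero_map_iff]
  have h3 := tor_exact₃₂ M hS 0
  have h1 := tor_exact₁₂ M hS 0
  rw [h3.epi_f_iff, h1.mono_g_iff]

end LES2

end Groth.Agent.Helper1.TorLib
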