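import Mathlib
import Groth.Agent.Helper1.TorRelative
import Groth.Agent.Helper1.TorSecond
import Groth.Agent.Helper1.TorColim

/-!
# A flatness criterion via a "Čech" dévissage (Tor vanishing against torsion modules)
-/

set_option autoImplicit false

namespace Groth.Agent.Helper1.TorLib

open CategoryTheory CategoryTheory.Limits MonoidalCategory Groth.Agent.Helper1.FlatCx TensorProduct

universe u
variable {A : Type u} [CommRing A]

section QuotientModules

variable (I : Ideal A) (M : Type u) [AddCommGroup M] [Module A M]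

/-- For `A/I`-modules `K ⊆ F`, the map `K ⊗_A M → F ⊗_A M` is injective if `A/I ⊗_A M` is flat over
`A/I`. -/
lemma rTensor_injective_of_flat_quotient [Module.Flat (A ⧸ I) ((A ⧸ I) ⊗[A] M)]
    {K F : Type u} [AddCommGroup K] [Module A K] [Module (A ⧸ I) K] [IsScalarTower A (A ⧸ I) K]
    [AddCommGroup F] [Module A F] [Module (A ⧸ I) F] [IsScalarTower A (A ⧸ I) F]
    (f : K →ₗ[A ⧸ I] F) (hf : Function.Injective f) :
    Function.Injective (LinearMap.rTensor M (f.restrictScalars A)) := by
  have h1 : Function.Injective (LinearMap.rTensor ((A ⧸ I) ⊗[A] M) f) :=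
    Module.Flat.rTensor_preserves_injective_linearMap f hf
  let eK := TensorProduct.AlgebraTensorModule.cancelBaseChange A (A ⧸ I) (A ⧸ I) K M
  let eF := TensorProduct.AlgebraTensorModule.cancelBaseChange A (A ⧸ I) (A ⧸ I) F M
  have hcomm : ∀ z, LinearMap.rTensor M (f.restrictScalars A) (eK z) =
      eF (LinearMap.rTensor ((A ⧸ I) ⊗[A] M) f z) := by
    intro z
    induction z using TensorProduct.induction_on with
    | zero => simp
    | add x y hx hy => simp only [map_add, hx, hy]
    | tmul k w =>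
      induction w using TensorProduct.induction_on with
      | zero => simp
      | add x y hx hy => simp only [TensorProduct.tmul_add, map_add, hx, hy]
      | tmul b m =>
        simp [eK, eF]
  intro x y hxy
  obtain ⟨x', rfl⟩ := eK.surjective x
  obtain ⟨y', rfl⟩ := eK.surjective y
  rw [hcomm, hcomm] at hxy
  rw [h1 (eF.injective hxy)]

end QuotientModules

section KilledByI

variable (I : Ideal A) (M : Type u) [AddCommGroup M] [Module A M] (r : ℕ)

include r in
lemma isZero_tor_free_quotient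
    (h3 : ∀ i : ℕ, 1 ≤ i → i ≤ r + 1 →
      IsZero (((Tor (ModuleCat.{u} A) i).obj (ModuleCat.of A M)).obj (ModuleCat.of A (A ⧸ I))))
    (j : ℕ) (hj1 : 1 ≤ j) (hj : j ≤ r + 1) (ι : Type u) :
    IsZero (((Tor (ModuleCat.{u} A) j).obj (ModuleCat.of A (ι →₀ A ⧸ I))).obj
      (ModuleCat.of A M)) := by
  classical
  have e : (A ⧸ I) ⊗[A] (ι →₀ A) ≃ₗ[A] ι →₀ (A ⧸ I) := TensorProduct.finsuppScalarRight A A (A ⧸ I) ι
  refine isZero_tor_of_iso (N := ModuleCat.of A (A ⧸ I) ⊗ ModuleCat.of A (ι →₀ A))
    e.toModuleIso (ModuleCat.of A M) j ?_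
  obtain ⟨e'⟩ := nonempty_tor_tensor_flat_iso j (ModuleCat.of A (A ⧸ I)) (ModuleCat.of A (ι →₀ A))
    (ModuleCat.of A M)
  refine IsZero.of_iso ?_ e'
  have h0 : IsZero (((Tor (ModuleCat.{u} A) j).obj (ModuleCat.of A (A ⧸ I))).obj
      (ModuleCat.of A M)) := (isZero_tor_symm_iff _ _ j).mp (h3 j hj1 hj)
  exact Functor.map_isZero (tensorRight (ModuleCat.of A (ι →₀ A))) h0

variable [Module.Flat (A ⧸ I) ((A ⧸ I) ⊗[A] M)]

include r in
/-- Step A: `Tor_j(T, M) = 0` for `1 ≤ j ≤ r + 1` and `T` an `A/I`-module. -/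
theorem isZero_tor_of_quotient_module
    (h3 : ∀ i : ℕ, 1 ≤ i → i ≤ r + 1 →
      IsZero (((Tor (ModuleCat.{u} A) i).obj (ModuleCat.of A M)).obj (ModuleCat.of A (A ⧸ I)))) :
    ∀ (j : ℕ), 1 ≤ j → j ≤ r + 1 → ∀ (T : Type u) [AddCommGroup T] [Module A T]
      [Module (A ⧸ I) T] [IsScalarTower A (A ⧸ I) T],
      IsZero (((Tor (ModuleCat.{u} A) j).obj (ModuleCat.of A T)).obj (ModuleCat.of A M)) := by
  intro j hj1
  induction j, hj1 using Nat.le_induction with
  | base =>
    intro hj T _ _ _ _
    let π : (T →₀ A ⧸ I) →ₗ[A ⧸ I] T := Finsupp.linearCombination (A ⧸ I) (id : T → T)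
    have hπ : Function.Surjective π := Finsupp.linearCombination_id_surjective (A ⧸ I) T
    let K := LinearMap.ker π
    have hex : Function.Exact (K.subtype.restrictScalars A) (π.restrictScalars A) :=
      fun x => LinearMap.exact_subtype_ker_map π x
    have hS := scOfLinear_shortExact (N₁ := K) (N₂ := (T →₀ A ⧸ I)) (N₃ := T)
      (K.subtype.restrictScalars A) (π.restrictScalars A)
      (fun x y h => Subtype.val_injective h) hπ hex
    have hF := isZero_tor_free_quotient I M r h3 1 le_rfl hj T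
    have hinj :=
      rTensor_injective_of_flat_quotient I M (K := K) (F := (T →₀ A ⧸ I)) K.subtype
        Subtype.val_injective
    refine (isZero_torOne_X₃_iff_mono (ModuleCat.of A M) hS hF).mpr ?_
    refine (ModuleCat.mono_iff_injective _).mpr ?_
    exact hinj
  | succ j hj1 ih =>
    intro hj T _ _ _ _
    let π : (T →₀ A ⧸ I) →ₗ[A ⧸ I] T := Finsupp.linearCombination (A ⧸ I) (id : T → T)
    have hπ : Function.Surjective π := Finsupp.linearCombination_id_surjective (A ⧸ I) T
    let K := LinearMap.ker π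
    have hex : Function.Exact (K.subtype.restrictScalars A) (π.restrictScalars A) :=
      fun x => LinearMap.exact_subtype_ker_map π x
    have hS := scOfLinear_shortExact (N₁ := K) (N₂ := (T →₀ A ⧸ I)) (N₃ := T)
      (K.subtype.restrictScalars A) (π.restrictScalars A)
      (fun x y h => Subtype.val_injective h) hπ hex
    have hF := isZero_tor_free_quotient I M r h3 (j + 1) (by omega) hj T
    have hK := ih (by omega) K
    exact (tor_exact₃ (ModuleCat.of A M) hS j).isZero_of_both_zeros (hF.eq_of_src _ _)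
      (hK.eq_of_tgt _ _)

include r in
/-- Step B: `Tor_j(T, M) = 0` for `1 ≤ j ≤ r + 1` and `T` killed by a power of `I`. -/
theorem isZero_tor_of_pow_smul_eq_zero
    (h3 : ∀ i : ℕ, 1 ≤ i → i ≤ r + 1 →
      IsZero (((Tor (ModuleCat.{u} A) i).obj (ModuleCat.of A M)).obj (ModuleCat.of A (A ⧸ I)))) :
    ∀ (k : ℕ) (T : Type u) [AddCommGroup T] [Module A T], (∀ a ∈ I ^ k, ∀ t : T, a • t = 0) →
      ∀ (j : ℕ), 1 ≤ j → j ≤ r + 1 →
      IsZero (((Tor (ModuleCat.{u} A) j).obj (ModuleCat.of A T)).obj (ModuleCat.of A M)) := by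
  intro k
  induction k with
  | zero =>
    intro T _ _ hT j _ _
    haveI : Subsingleton T := ⟨fun x y => by
      rw [← one_smul A x, ← one_smul A y, hT 1 (by simp) x, hT 1 (by simp) y]⟩
    exact isZero_tor_of_subsingleton_left j (ModuleCat.of A T) (ModuleCat.of A M)
  | succ k ih =>
    intro T _ _ hT j hj1 hj
    let T' : Submodule A T := I • ⊤
    have hT' : ∀ a ∈ I ^ k, ∀ t : T', a • t = 0 := by
      intro a ha t
      apply Subtype.ext
      show a • (t : T) = 0
      have ht : (t : T) ∈ I • (⊤ : Submodule A T) := t.2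
      refine Submodule.smul_induction_on (p := fun x => a • x = 0) ht ?_ ?_
      · intro b hb x _
        rw [smul_smul]
        exact hT _ (by rw [pow_succ]; exact Ideal.mul_mem_mul ha hb) x
      · intro x y hx hy
        rw [smul_add, hx, hy, add_zero]
    have hS := scOfLinear_shortExact (N₁ := T') (N₂ := T) (N₃ := T ⧸ T') T'.subtype T'.mkQ
      T'.injective_subtype (Submodule.mkQ_surjective T') (LinearMap.exact_subtype_mkQ T')
    have h₁ := ih T' hT' j hj1 hj
    have h₃ : IsZero (((Tor (ModuleCat.{u} A) j).obj (ModuleCat.of A (T ⧸ T'))).obj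
        (ModuleCat.of A M)) :=
      isZero_tor_of_quotient_module I M r h3 j hj1 hj (T ⧸ (I • ⊤ : Submodule A T))
    exact isZero_tor_X₂ hS (ModuleCat.of A M) j h₁ h₃

end KilledByI

section DirectedUnion

variable {ι : Type} {c : ComplexShape ι} (Q : HomologicalComplex (ModuleCat.{u} A) c) (p j : ι)
  (hj : c.next p = j)

lemma exists_mem_range_lTensor_subtype (Z : Type u) [AddCommGroup Z] [Module A Z]
    {T : Type u} [AddCommGroup T] [Module A T] (Tk : ℕ → Submodule A T) (hmono : Monotone Tk)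
    (hex : ∀ t : T, ∃ k, t ∈ Tk k) (w : Z ⊗[A] T) :
    ∃ k, w ∈ LinearMap.range (LinearMap.lTensor Z (Tk k).subtype) := by
  have hle : ∀ {k l : ℕ}, k ≤ l → LinearMap.range (LinearMap.lTensor Z (Tk k).subtype) ≤
      LinearMap.range (LinearMap.lTensor Z (Tk l).subtype) := by
    intro k l hkl
    have : (Tk k).subtype = (Tk l).subtype ∘ₗ Submodule.inclusion (hmono hkl) := by
      ext x; rfl
    rw [this, LinearMap.lTensor_comp]
    exact LinearMap.range_comp_le_range _ _
  induction w using TensorProduct.induction_on with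
  | zero => exact ⟨0, zero_mem _⟩
  | tmul z t =>
    obtain ⟨k, hk⟩ := hex t
    exact ⟨k, ⟨z ⊗ₜ ⟨t, hk⟩, by simp⟩⟩
  | add x y hx hy =>
    obtain ⟨k, hk⟩ := hx
    obtain ⟨l, hl⟩ := hy
    exact ⟨max k l, add_mem (hle (le_max_left k l) hk) (hle (le_max_right k l) hl)⟩

include hj in
/-- `T_p` of a directed union vanishes if it vanishes on each member (and `Q_j` is flat). -/
theorem isZero_TFun_of_directed_union [Module.Flat A (Q.X j)]
    {T : Type u} [AddCommGroup T] [Module A T] (Tk : ℕ → Submodule A T) (hmono : Monotone Tk)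
    (hex : ∀ t : T, ∃ k, t ∈ Tk k)
    (h : ∀ k, IsZero ((CohIII.TFun Q p).obj (ModuleCat.of A (Tk k)))) :
    IsZero ((CohIII.TFun Q p).obj (ModuleCat.of A T)) := by
  haveI : Subsingleton ((CohIII.TFun Q p).obj (ModuleCat.of A T)) := by
    refine ⟨fun x y => ?_⟩
    suffices hz : ∀ x : (CohIII.TFun Q p).obj (ModuleCat.of A T), x = 0 by rw [hz x, hz y]
    intro x
    have hτinj : Function.Injective ((TToOpcycles Q p).app (ModuleCat.of A T)).hom :=
      (ModuleCat.mono_iff_injective _).mp inferInstance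
    apply hτinj
    rw [map_zero]
    set w := ((TToOpcycles Q p).app (ModuleCat.of A T)).hom x with hw
    have hσw : ((opcyclesToX Q p j).app (ModuleCat.of A T)).hom w = 0 := by
      have := TToOpcycles_comp Q p j (ModuleCat.of A T)
      exact LinearMap.congr_fun (congrArg ModuleCat.Hom.hom this) x
    obtain ⟨k, wk, hwk⟩ := exists_mem_range_lTensor_subtype (Q.opcycles p) Tk hmono hex w
    let ιk : ModuleCat.of A (Tk k) ⟶ ModuleCat.of A T := ModuleCat.ofHom (Tk k).subtype
    have hwk' : ((tensorLeft (Q.opcycles p)).map ιk).hom wk = w := hwk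
    have h1 : ((tensorLeft (Q.X j)).map ιk).hom
        (((opcyclesToX Q p j).app (ModuleCat.of A (Tk k))).hom wk) = 0 := by
      have := (opcyclesToX Q p j).naturality ιk
      have h2 := LinearMap.congr_fun (congrArg ModuleCat.Hom.hom this) wk
      simp only [ModuleCat.hom_comp, LinearMap.comp_apply] at h2
      rw [← h2, hwk', hσw]
    have hinj : Function.Injective ((tensorLeft (Q.X j)).map ιk).hom :=
      Module.Flat.lTensor_preserves_injective_linearMap (Tk k).subtype (Tk k).injective_subtype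
    have h3 : ((opcyclesToX Q p j).app (ModuleCat.of A (Tk k))).hom wk = 0 := by
      apply hinj
      rw [h1, map_zero]
    have hexact := (ShortComplex.ShortExact.moduleCat_exact_iff_function_exact _).mp
      (TToOpcycles_exact Q p j hj (ModuleCat.of A (Tk k)))
    obtain ⟨xk, hxk⟩ := (hexact wk).mp h3
    haveI : Subsingleton ((CohIII.TFun Q p).obj (ModuleCat.of A (Tk k))) :=
      ModuleCat.subsingleton_of_isZero (h k)
    have hxk0 : xk = 0 := Subsingleton.elim _ _
    rw [hxk0, map_zero] at hxk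
    rw [← hwk', ← hxk, map_zero]
  exact ModuleCat.isZero_of_subsingleton _

end DirectedUnion

/-- `Tor_{n+1}(-, M)` of a directed union vanishes if it vanishes on each member. -/
theorem isZero_tor_of_directed_union (M : ModuleCat.{u} A) (n : ℕ)
    {T : Type u} [AddCommGroup T] [Module A T] (Tk : ℕ → Submodule A T) (hmono : Monotone Tk)
    (hex : ∀ t : T, ∃ k, t ∈ Tk k)
    (h : ∀ k, IsZero (((Tor (ModuleCat.{u} A) (n + 1)).obj (ModuleCat.of A (Tk k))).obj M)) :
    IsZero (((Tor (ModuleCat.{u} A) (n + 1)).obj (ModuleCat.of A T)).obj M) := by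
  haveI : Module.Flat A ((ProjectiveResolution.of M).complex.X n) :=
    flat_of_projectiveResolution _ n
  refine IsZero.of_iso ?_ (torIsoT (ProjectiveResolution.of M) (n + 1) (ModuleCat.of A T))
  refine isZero_TFun_of_directed_union (ProjectiveResolution.of M).complex (n + 1) n (by simp)
    Tk hmono hex ?_
  intro k
  exact IsZero.of_iso (h k)
    (torIsoT (ProjectiveResolution.of M) (n + 1) (ModuleCat.of A (Tk k))).symm

section PowTorsion

variable (I : Ideal A) (M : Type u) [AddCommGroup M] [Module A M] (r : ℕ)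
  [Module.Flat (A ⧸ I) ((A ⧸ I) ⊗[A] M)]

include r in
/-- Step C: `Tor_j(T, M) = 0` for `1 ≤ j ≤ r + 1` and `T` an `I`-power torsion module. -/
theorem isZero_tor_of_pow_torsion
    (h3 : ∀ i : ℕ, 1 ≤ i → i ≤ r + 1 →
      IsZero (((Tor (ModuleCat.{u} A) i).obj (ModuleCat.of A M)).obj (ModuleCat.of A (A ⧸ I))))
    (T : Type u) [AddCommGroup T] [Module A T] (hT : ∀ t : T, ∃ k : ℕ, ∀ a ∈ I ^ k, a • t = 0)
    (j : ℕ) (hj1 : 1 ≤ j) (hj : j ≤ r + 1) :
    IsZero (((Tor (ModuleCat.{u} A) j).obj (ModuleCat.of A T)).obj (ModuleCat.of A M)) := by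
  obtain ⟨n, rfl⟩ : ∃ n, j = n + 1 := ⟨j - 1, by omega⟩
  let Tk : ℕ → Submodule A T := fun k => Submodule.torsionBySet A T (I ^ k : Ideal A)
  have hmem : ∀ k (t : T), t ∈ Tk k ↔ ∀ a ∈ I ^ k, a • t = 0 := by
    intro k t
    rw [Submodule.mem_torsionBySet_iff]
    exact ⟨fun h a ha => h ⟨a, ha⟩, fun h a => h a.1 a.2⟩
  refine isZero_tor_of_directed_union (ModuleCat.of A M) n Tk ?_ ?_ ?_
  · intro k l hkl t ht
    rw [hmem] at ht ⊢
    intro a ha
    exact ht a (Ideal.pow_le_pow_right hkl ha)
  · intro t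
    obtain ⟨k, hk⟩ := hT t
    exact ⟨k, (hmem k t).mpr hk⟩
  · intro k
    refine isZero_tor_of_pow_smul_eq_zero I M r h3 k (Tk k) ?_ (n + 1) hj1 hj
    intro a ha t
    apply Subtype.ext
    exact (hmem k t.1).mp t.2 a ha

end PowTorsion

section Loc

/-- If `M ⊗ B` and `B` are flat, then `Tor_{n+1}(T ⊗ B, M) = 0`. -/
lemma isZero_tor_tensor_of_flat (T M B : ModuleCat.{u} A) [Module.Flat A B]
    [Module.Flat A (M ⊗ B : ModuleCat.{u} A)] (n : ℕ) :
    IsZero (((Tor (ModuleCat.{u} A) (n + 1)).obj (T ⊗ B)).obj M) := by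
  obtain ⟨e1⟩ := nonempty_tor_tensor_flat_iso (n + 1) T B M
  obtain ⟨e2⟩ := nonempty_tor_symm_iso T M (n + 1)
  obtain ⟨e3⟩ := nonempty_tor_tensor_flat_iso (n + 1) M B T
  have h0 : IsZero (((Tor (ModuleCat.{u} A) (n + 1)).obj (M ⊗ B)).obj T) :=
    isZero_tor_of_flat_left _ _ n
  exact ((h0.of_iso e3.symm).of_iso (whiskerRightIso e2 B)).of_iso e1

end Loc

section Cech

variable (M : Type u) [AddCommGroup M] [Module A M]

/-- `Tor` vanishing against a localized module, when the localization of `M` is flat. -/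
lemma isZero_tor_localizedModule (g : A)
    (hflat : Module.Flat (Localization.Away g) (LocalizedModule (Submonoid.powers g) M))
    (T : Type u) [AddCommGroup T] [Module A T] (n : ℕ) :
    IsZero (((Tor (ModuleCat.{u} A) (n + 1)).obj
      (ModuleCat.of A (LocalizedModule (Submonoid.powers g) T))).obj (ModuleCat.of A M)) := by
  let S := Submonoid.powers g
  let B := ModuleCat.of A (Localization S)
  have eM : LocalizedModule S M ≃ₗ[A] M ⊗[A] Localization S :=
    ((LocalizedModule.equivTensorProduct S M).restrictScalars A) ≪≫ₗ TensorProduct.comm A _ _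
  have eT : LocalizedModule S T ≃ₗ[A] T ⊗[A] Localization S :=
    ((LocalizedModule.equivTensorProduct S T).restrictScalars A) ≪≫ₗ TensorProduct.comm A _ _
  haveI : Module.Flat A (LocalizedModule S M) :=
    Module.Flat.trans A (Localization S) (LocalizedModule S M)
  haveI : Module.Flat A (ModuleCat.of A M ⊗ B : ModuleCat.{u} A) :=
    Module.Flat.of_linearEquiv eM.symm
  haveI : Module.Flat A B := inferInstanceAs (Module.Flat A (Localization S))
  exact isZero_tor_of_iso (N := ModuleCat.of A T ⊗ B) eT.symm.toModuleIso (ModuleCat.of A M)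
    (n + 1) (isZero_tor_tensor_of_flat (ModuleCat.of A T) (ModuleCat.of A M) B n)

variable {r : ℕ} (f : Fin r → A)
  (h1 : ∀ i, Module.Flat (Localization.Away (f i)) (LocalizedModule (Submonoid.powers (f i)) M))
  [Module.Flat (A ⧸ Ideal.span (Set.range f)) ((A ⧸ Ideal.span (Set.range f)) ⊗[A] M)]
  (h3 : ∀ i : ℕ, 1 ≤ i → i ≤ r + 1 →
    IsZero (((Tor (ModuleCat.{u} A) i).obj (ModuleCat.of A M)).obj
      (ModuleCat.of A (A ⧸ Ideal.span (Set.range f)))))

include h1 h3 in
theorem isZero_tor_of_powTorsionUpTo : ∀ (d k : ℕ), k + d = r →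
    ∀ (T : Type u) [AddCommGroup T] [Module A T],
      (∀ i : Fin r, i.val < k → ∀ t : T, ∃ n : ℕ, f i ^ n • t = 0) →
      ∀ j : ℕ, 1 ≤ j → j ≤ k + 1 →
      IsZero (((Tor (ModuleCat.{u} A) j).obj (ModuleCat.of A T)).obj (ModuleCat.of A M)) := by
  intro d
  induction d with
  | zero =>
    intro k hk T _ _ hT j hj1 hj
    have hkr : k = r := by omega
    subst hkr
    refine isZero_tor_of_pow_torsion (Ideal.span (Set.range f)) M k h3 T ?_ j hj1 hj
    intro t
    let J : Ideal A := LinearMap.ker (LinearMap.toSpanSingleton A T t)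
    have hJ : ∀ a, a ∈ J ↔ a • t = 0 := fun a => by
      rw [LinearMap.mem_ker, LinearMap.toSpanSingleton_apply]
    have hrad : Ideal.span (Set.range f) ≤ J.radical := by
      rw [Ideal.span_le]
      rintro _ ⟨i, rfl⟩
      obtain ⟨n, hn⟩ := hT i i.2 t
      exact ⟨n, (hJ _).mpr hn⟩
    obtain ⟨N, hN⟩ := Ideal.exists_pow_le_of_le_radical_of_fg hrad
      (Submodule.fg_span (Set.finite_range f))
    exact ⟨N, fun a ha => (hJ a).mp (hN ha)⟩
  | succ d ih =>
    intro k hk T _ _ hT j hj1 hj
    have hkr : k < r := by omega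
    set g : A := f ⟨k, hkr⟩ with hg
    let S := Submonoid.powers g
    let ℓ : T →ₗ[A] LocalizedModule S T := LocalizedModule.mkLinearMap S T
    let Γ : Submodule A T := LinearMap.ker ℓ
    let R : Submodule A (LocalizedModule S T) := LinearMap.range ℓ
    -- torsion properties
    have hΓ : ∀ i : Fin r, i.val < k + 1 → ∀ t : Γ, ∃ n : ℕ, f i ^ n • t = 0 := by
      intro i hi t
      rcases Nat.lt_succ_iff_lt_or_eq.mp hi with hlt | heq
      · obtain ⟨n, hn⟩ := hT i hlt t.1
        exact ⟨n, Subtype.ext hn⟩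
      · have hi' : i = ⟨k, hkr⟩ := Fin.ext heq
        obtain ⟨c, hc⟩ := (IsLocalizedModule.eq_zero_iff S ℓ).mp t.2
        obtain ⟨n, hn⟩ := c.2
        refine ⟨n, Subtype.ext ?_⟩
        show f i ^ n • (t : T) = 0
        rw [hi']
        have : (c : A) • (t : T) = 0 := hc
        rw [← hn] at this
        exact this
    have hC : ∀ i : Fin r, i.val < k + 1 → ∀ y : LocalizedModule S T ⧸ R,
        ∃ n : ℕ, f i ^ n • y = 0 := by
      intro i hi y
      obtain ⟨y, rfl⟩ := Submodule.Quotient.mk_surjective _ y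
      obtain ⟨⟨m, s⟩, hms⟩ := IsLocalizedModule.surj S ℓ y
      rcases Nat.lt_succ_iff_lt_or_eq.mp hi with hlt | heq
      · obtain ⟨n, hn⟩ := hT i hlt m
        refine ⟨n, ?_⟩
        rw [← Submodule.Quotient.mk_smul]
        have h0 : f i ^ n • y = 0 := by
          apply IsLocalizedModule.smul_injective ℓ s
          show s • (f i ^ n • y) = s • (0 : LocalizedModule S T)
          rw [smul_zero, smul_comm, hms, ← map_smul, hn, map_zero]
        rw [h0, Submodule.Quotient.mk_zero]
      · have hi' : i = ⟨k, hkr⟩ := Fin.ext heq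
        obtain ⟨n, hn⟩ := s.2
        refine ⟨n, ?_⟩
        rw [← Submodule.Quotient.mk_smul, Submodule.Quotient.mk_eq_zero, hi']
        refine ⟨m, ?_⟩
        rw [← hms]
        show (s : A) • y = g ^ n • y
        rw [← hn]
    have hΓ0 := fun j hj1 hj => ih (k + 1) (by omega) Γ hΓ j hj1 hj
    have hC0 := fun j hj1 hj => ih (k + 1) (by omega) (LocalizedModule S T ⧸ R) hC j hj1 hj
    obtain ⟨n, rfl⟩ : ∃ n, j = n + 1 := ⟨j - 1, by omega⟩
    have hTg := isZero_tor_localizedModule M g (h1 ⟨k, hkr⟩) T n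
    -- second short exact sequence
    have hS2 := scOfLinear_shortExact (N₁ := R) (N₂ := LocalizedModule S T)
      (N₃ := LocalizedModule S T ⧸ R) R.subtype R.mkQ
      R.injective_subtype (Submodule.mkQ_surjective R) (LinearMap.exact_subtype_mkQ R)
    have hR : IsZero (((Tor (ModuleCat.{u} A) (n + 1)).obj (ModuleCat.of A R)).obj
        (ModuleCat.of A M)) :=
      (tor_exact₁ (ModuleCat.of A M) hS2 (n + 1)).isZero_of_both_zeros
        ((hC0 (n + 2) (by omega) (by omega)).eq_of_src _ _) (hTg.eq_of_tgt _ _)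
    -- first short exact sequence
    have hex1 : Function.Exact Γ.subtype ℓ.rangeRestrict := by
      intro x
      rw [← (LinearMap.exact_subtype_ker_map ℓ) x]
      constructor
      · intro h
        exact congrArg Subtype.val h
      · intro h
        exact Subtype.ext h
    have hS1 := scOfLinear_shortExact (N₁ := Γ) (N₂ := T) (N₃ := R) Γ.subtype ℓ.rangeRestrict
      Γ.injective_subtype (LinearMap.surjective_rangeRestrict ℓ) hex1
    exact isZero_tor_X₂ hS1 (ModuleCat.of A M) (n + 1) (hΓ0 (n + 1) hj1 (by omega)) hR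

include h1 h3 in
/-- The flatness criterion. -/
theorem flat_of_cech : Module.Flat A M := by
  rw [flat_iff_isZero_torOne_quotient_fg]
  intro J _
  rw [isZero_tor_symm_iff]
  exact isZero_tor_of_powTorsionUpTo M f h1 h3 r 0 (by omega) (A ⧸ J)
    (fun i hi => absurd hi (Nat.not_lt_zero _)) 1 le_rfl le_rfl

end Cech

end Groth.Agent.Helper1.TorLib
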