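import Mathlib
import Groth.Prelude.Def_EtGlue
import Groth.Prelude.Def_DRing3
import Groth.Agent.Helper1.TorCrit

/-!
# `Tor_1` vanishing for glueing pairs
-/

set_option autoImplicit false

namespace Groth.Agent.Helper1.TorLib

open CategoryTheory CategoryTheory.Limits TensorProduct

universe u

variable {R R' : Type u} [CommRing R] [CommRing R'] [Algebra R R'] (f : R)

/-- For a glueing pair, a submodule of `R` consisting of `f`-power torsion elements stays a
submodule after tensoring with `R'`. -/
theorem rTensor_subtype_injective_of_torsion (h : EtGlue.IsGlueingPair R R' f) (K : Submodule R R)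
    (hK : ∀ k ∈ K, ∃ n : ℕ, 0 < n ∧ f ^ n * k = 0) :
    Function.Injective (K.subtype.rTensor R') := by
  obtain ⟨hq, hinj, -, -⟩ := h
  -- every element is of the form `k ⊗ 1`
  have key : ∀ t : K ⊗[R] R', ∃ k : K, t = k ⊗ₜ[R] (1 : R') := by
    intro t
    induction t using TensorProduct.induction_on with
    | zero => exact ⟨0, (TensorProduct.zero_tmul _ _).symm⟩
    | tmul k r' =>
      obtain ⟨n, hn, hnk⟩ := hK k.1 k.2
      obtain ⟨x, hx⟩ := (hq n hn).2 (Ideal.Quotient.mk _ r')
      obtain ⟨r, rfl⟩ := Ideal.Quotient.mk_surjective x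
      rw [Ideal.quotientMap_mk, Ideal.Quotient.eq, Ideal.map_span, Set.image_singleton,
        Ideal.mem_span_singleton'] at hx
      obtain ⟨s', hs'⟩ := hx
      have hr' : r' = r • (1 : R') - f ^ n • s' := by
        rw [Algebra.smul_def, mul_one, Algebra.smul_def, mul_comm, hs']
        ring
      refine ⟨r • k, ?_⟩
      have hk0 : f ^ n • k = 0 := by
        apply Subtype.ext
        exact hnk
      rw [hr', TensorProduct.tmul_sub, TensorProduct.tmul_smul, TensorProduct.tmul_smul,
        TensorProduct.smul_tmul', TensorProduct.smul_tmul', hk0, TensorProduct.zero_tmul, sub_zero]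
    | add a b ha hb =>
      obtain ⟨ka, rfl⟩ := ha
      obtain ⟨kb, rfl⟩ := hb
      exact ⟨ka + kb, (TensorProduct.add_tmul _ _ _).symm⟩
  rw [injective_iff_map_eq_zero]
  intro t ht
  obtain ⟨k, rfl⟩ := key t
  rw [LinearMap.rTensor_tmul, Submodule.subtype_apply] at ht
  have h1 : algebraMap R R' k.1 = 0 := by
    have := congrArg (TensorProduct.lid R R') ht
    rw [TensorProduct.lid_tmul, map_zero, Algebra.smul_def, mul_one] at this
    exact this
  have h2 : algebraMap R (Localization.Away f) k.1 = 0 := by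
    obtain ⟨n, -, hnk⟩ := hK k.1 k.2
    rw [IsLocalization.map_eq_zero_iff (Submonoid.powers f)]
    exact ⟨⟨f ^ n, n, rfl⟩, hnk⟩
  have h3 : k.1 = 0 := by
    apply hinj
    simp only [h1, h2, map_zero]
  have h4 : k = 0 := Subtype.ext h3
  rw [h4, TensorProduct.zero_tmul]

end Groth.Agent.Helper1.TorLib

namespace Groth.Agent.Helper1.TorLib

open CategoryTheory CategoryTheory.Limits TensorProduct

universe u

variable {R R' : Type u} [CommRing R] [CommRing R'] [Algebra R R'] (f : R)

/-- `Tor_1(R', R/R[f^∞]) = 0` for a glueing pair. -/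
theorem isZero_torOne_quotient_torsionSub (h : EtGlue.IsGlueingPair R R' f) :
    IsZero (((Tor (ModuleCat.{u} R) 1).obj (ModuleCat.of R R')).obj
      (ModuleCat.of R (R ⧸ DRing.torsionSub (Ideal.span ({f} : Set R)) R))) := by
  rw [isZero_tor_symm_iff, isZero_torOne_quotient_iff]
  apply rTensor_subtype_injective_of_torsion f h
  rintro k ⟨n, hn⟩
  refine ⟨n + 1, Nat.succ_pos n, ?_⟩
  have h1 : f ^ (n + 1) ∈ Ideal.span ({f} : Set R) ^ n :=
    Ideal.pow_le_pow_right (Nat.le_succ n)
      (Ideal.pow_mem_pow (Ideal.mem_span_singleton_self f) (n + 1))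
  exact hn _ h1

/-- `Tor_1(R', f^n R) = 0` for a glueing pair. -/
theorem isZero_torOne_span_pow (h : EtGlue.IsGlueingPair R R' f) (n : ℕ) (hn : 0 < n) :
    IsZero (((Tor (ModuleCat.{u} R) 1).obj (ModuleCat.of R R')).obj
      (ModuleCat.of R ↥(Ideal.span ({f ^ n} : Set R)))) := by
  rw [isZero_tor_symm_iff]
  -- the surjection `R → f^n R`
  let φ : R →ₗ[R] ↥(Ideal.span ({f ^ n} : Set R)) :=
    (LinearMap.toSpanSingleton R R (f ^ n)).codRestrict _ (fun r => by
      rw [LinearMap.toSpanSingleton_apply]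
      exact Ideal.mem_span_singleton'.mpr ⟨r, rfl⟩)
  have hφ : Function.Surjective φ := by
    rintro ⟨x, hx⟩
    obtain ⟨r, rfl⟩ := Ideal.mem_span_singleton'.mp hx
    exact ⟨r, rfl⟩
  rw [isZero_torOne_iff_rTensor_injective (LinearMap.ker φ).subtype φ
    (Submodule.injective_subtype _) hφ (LinearMap.exact_subtype_ker_map φ) R']
  apply rTensor_subtype_injective_of_torsion f h
  intro k hk
  refine ⟨n, hn, ?_⟩
  have := congrArg Subtype.val (LinearMap.mem_ker.mp hk)
  simpa [φ, mul_comm] using this

end Groth.Agent.Helper1.TorLib
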