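import Mathlib
import Groth.Agent.Helper1.Adapted
import Groth.Agent.Helper1.TBridge

set_option autoImplicit false

/-! Towers of abelian groups: `lim^i = 0` for `i ≥ 2`. -/

namespace Groth.Agent.Helper1.Tower
open CategoryTheory Limits Opposite

universe u

/-- the transition morphism `op (n+1) ⟶ op n` -/
def tr (n : ℕ) : (op (n + 1) : ℕᵒᵖ) ⟶ op n := (homOfLE (Nat.le_succ n)).op

/-- surjective transition maps -/
def SurjTrans (A : ℕᵒᵖ ⥤ AddCommGrpCat.{u}) : Prop :=
  ∀ n : ℕ, Function.Surjective (A.map (tr n))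

section limits
variable (A : ℕᵒᵖ ⥤ AddCommGrpCat.{u})

lemma map_eq_of_compat (s : ∀ n : ℕ, A.obj (op n)) (hs : ∀ n, A.map (tr n) (s (n + 1)) = s n)
    (m k : ℕ) (h : m ≤ k) : A.map (homOfLE h).op (s k) = s m := by
  induction k, h using Nat.le_induction with
  | base =>
    have : (homOfLE (le_refl m)).op = 𝟙 (op m : ℕᵒᵖ) := Subsingleton.elim _ _
    rw [this, A.map_id]; rfl
  | succ k h ih =>
    have : (homOfLE (h.trans (Nat.le_succ k))).op = tr k ≫ (homOfLE h).op :=
      Subsingleton.elim _ _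
    rw [this, A.map_comp, ConcreteCategory.comp_apply, hs, ih]

lemma exists_limit_elt (s : ∀ n : ℕ, A.obj (op n)) (hs : ∀ n, A.map (tr n) (s (n + 1)) = s n) :
    ∃ x : (limit A : AddCommGrpCat.{u}), ∀ n, limit.π A (op n) x = s n := by
  have hl := isLimitOfPreserves (forget AddCommGrpCat.{u}) (limit.isLimit A)
  let sec : (A ⋙ forget _).sections := ⟨fun m => s m.unop, by
    rintro ⟨m⟩ ⟨k⟩ f
    have h : k ≤ m := leOfHom f.unop
    have e : f = (homOfLE h).op := Subsingleton.elim _ _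
    rw [e]
    exact map_eq_of_compat A s hs k m h⟩
  refine ⟨(Types.isLimitEquivSections hl).symm sec, fun n => ?_⟩
  exact Types.isLimitEquivSections_symm_apply hl sec (op n)

end limits

section ses
variable (S : ShortComplex (ℕᵒᵖ ⥤ AddCommGrpCat.{u})) (hS : S.ShortExact)

include hS in
lemma shortExact_eval (n : ℕ) : (S.map ((evaluation _ _).obj (op n))).ShortExact :=
  hS.map_of_exact _

include hS in
lemma surj_g (n : ℕ) : Function.Surjective (S.g.app (op n)) := by
  have := (shortExact_eval S hS n).epi_g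
  exact (AddCommGrpCat.epi_iff_surjective _).1 this

include hS in
lemma exact_at (n : ℕ) (y : S.X₂.obj (op n)) (hy : S.g.app (op n) y = 0) :
    ∃ x : S.X₁.obj (op n), S.f.app (op n) x = y :=
  (ShortComplex.ab_exact_iff _).1 (shortExact_eval S hS n).exact y hy

lemma fg_zero (n : ℕ) (x : S.X₁.obj (op n)) : S.g.app (op n) (S.f.app (op n) x) = 0 := by
  have := congr_app S.zero (op n)
  rw [← ConcreteCategory.comp_apply, ← NatTrans.comp_app, S.zero]
  rfl

include hS in
/-- quotients of towers with surjective transition maps have surjective transition maps -/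
lemma surjTrans_X₃ (h₂ : SurjTrans S.X₂) : SurjTrans S.X₃ := by
  intro n y
  obtain ⟨x, rfl⟩ := surj_g S hS n y
  obtain ⟨x', rfl⟩ := h₂ n x
  refine ⟨S.g.app (op (n + 1)) x', ?_⟩
  rw [← ConcreteCategory.comp_apply, ← S.g.naturality, ConcreteCategory.comp_apply]

include hS in
/-- Mittag-Leffler: `lim` is exact on short exact sequences whose kernel has surjective
transition maps. -/
lemma surjective_limMap (h₁ : SurjTrans S.X₁) : Function.Surjective (lim.map S.g) := by
  intro c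
  have step : ∀ (n : ℕ) (j : S.X₂.obj (op n)), S.g.app (op n) j = limit.π S.X₃ (op n) c →
      ∃ j' : S.X₂.obj (op (n + 1)), S.g.app (op (n + 1)) j' = limit.π S.X₃ (op (n + 1)) c ∧
        S.X₂.map (tr n) j' = j := by
    intro n j hj
    obtain ⟨j₀, hj₀⟩ := surj_g S hS (n + 1) (limit.π S.X₃ (op (n + 1)) c)
    have h0 : S.g.app (op n) (S.X₂.map (tr n) j₀ - j) = 0 := by
      rw [map_sub, hj, ← ConcreteCategory.comp_apply, S.g.naturality,
        ConcreteCategory.comp_apply, hj₀, ← ConcreteCategory.comp_apply, limit.w, sub_self]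
    obtain ⟨b, hb⟩ := exact_at S hS n _ h0
    obtain ⟨b', rfl⟩ := h₁ n b
    refine ⟨j₀ - S.f.app (op (n + 1)) b', ?_, ?_⟩
    · rw [map_sub, hj₀, fg_zero, sub_zero]
    · rw [map_sub, ← ConcreteCategory.comp_apply (S.f.app _), ← S.f.naturality,
        ConcreteCategory.comp_apply, hb]
      abel
  obtain ⟨j0, hj0⟩ := surj_g S hS 0 (limit.π S.X₃ (op 0) c)
  let seq : ∀ n : ℕ, {j : S.X₂.obj (op n) // S.g.app (op n) j = limit.π S.X₃ (op n) c} :=
    fun n => Nat.rec ⟨j0, hj0⟩
      (fun n p => ⟨(step n p.1 p.2).choose, (step n p.1 p.2).choose_spec.1⟩) n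
  have hseq : ∀ n, S.X₂.map (tr n) (seq (n + 1)).1 = (seq n).1 :=
    fun n => (step n (seq n).1 (seq n).2).choose_spec.2
  obtain ⟨x, hx⟩ := exists_limit_elt S.X₂ (fun n => (seq n).1) hseq
  refine ⟨x, ?_⟩
  apply Concrete.limit_ext
  rintro ⟨n⟩
  rw [← ConcreteCategory.comp_apply, lim_map, limMap_π, ConcreteCategory.comp_apply, hx]
  exact (seq n).2

end ses

section inj

/-- the subgroup of `ℤ`: everything if `m ≤ n`, zero otherwise -/
def Psub (n m : ℕ) : AddSubgroup (ULift.{u} ℤ) where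
  carrier := {z | m ≤ n ∨ z = 0}
  zero_mem' := Or.inr rfl
  add_mem' := by
    rintro a b (h | rfl) hb
    · exact Or.inl h
    · simpa using hb
  neg_mem' := by
    rintro a (h | rfl)
    · exact Or.inl h
    · exact Or.inr neg_zero

lemma Psub_le (n : ℕ) {m m' : ℕ} (h : m' ≤ m) : Psub.{u} n m ≤ Psub n m' := by
  rintro z (hz | rfl)
  · exact Or.inl (h.trans hz)
  · exact Or.inr rfl

lemma Psub_le' (n m : ℕ) : Psub.{u} n m ≤ Psub (n + 1) m := by
  rintro z (hz | rfl)
  · exact Or.inl (hz.trans (Nat.le_succ n))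
  · exact Or.inr rfl

/-- the "representable" tower: `ℤ` in degrees `≤ n`, zero above -/
def P (n : ℕ) : ℕᵒᵖ ⥤ AddCommGrpCat.{u} where
  obj m := AddCommGrpCat.of (Psub.{u} n m.unop)
  map {m m'} f := AddCommGrpCat.ofHom (AddSubgroup.inclusion (Psub_le n (leOfHom f.unop)))
  map_id _ := rfl
  map_comp _ _ := rfl

/-- the inclusion `P n ⟶ P (n+1)` -/
def ιP (n : ℕ) : P.{u} n ⟶ P (n + 1) where
  app m := AddCommGrpCat.ofHom (AddSubgroup.inclusion (Psub_le' n m.unop))
  naturality _ _ _ := rfl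

instance (n : ℕ) : Mono (ιP.{u} n) := by
  have : ∀ m, Mono ((ιP.{u} n).app m) := fun m => by
    rw [AddCommGrpCat.mono_iff_injective]
    exact AddSubgroup.inclusion_injective (Psub_le' n m.unop)
  exact NatTrans.mono_of_mono_app _

variable (I : ℕᵒᵖ ⥤ AddCommGrpCat.{u})

/-- the map `P n ⟶ I` classified by `x ∈ I_n` -/
noncomputable def φ (n : ℕ) (x : I.obj (op n)) : P.{u} n ⟶ I where
  app m := AddCommGrpCat.ofHom
    { toFun := fun z => if h : m.unop ≤ n then z.1.down • (I.map (homOfLE h).op x) else 0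
      map_zero' := by
        split_ifs
        · exact zero_smul _ _
        · rfl
      map_add' := fun a b => by
        split_ifs
        · exact add_smul _ _ _
        · exact (add_zero _).symm }
  naturality m m' f := by
    ext z
    have hmm : m'.unop ≤ m.unop := leOfHom f.unop
    change (if h : m'.unop ≤ n then z.1.down • (I.map (homOfLE h).op x) else 0) =
      I.map f (if h : m.unop ≤ n then z.1.down • (I.map (homOfLE h).op x) else 0)
    by_cases h : m.unop ≤ n
    · rw [dif_pos h, dif_pos (hmm.trans h), map_zsmul, ← ConcreteCategory.comp_apply,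
        ← I.map_comp]
      congr 2
    · have hz : z.1 = 0 := by
        rcases z.2 with h' | h'
        · exact absurd h' h
        · exact h'
      rw [dif_neg h, map_zero, hz]
      split_ifs
      · exact zero_smul _ _
      · rfl

/-- injective towers have surjective transition maps -/
lemma surjTrans_of_injective [Injective I] : SurjTrans I := by
  intro n x
  have hψ : ιP n ≫ Injective.factorThru (φ I n x) (ιP n) = φ I n x :=
    Injective.comp_factorThru _ _
  let one' : (P.{u} (n + 1)).obj (op (n + 1)) := ⟨ULift.up 1, Or.inl le_rfl⟩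
  let one : (P.{u} n).obj (op n) := ⟨ULift.up 1, Or.inl le_rfl⟩
  refine ⟨(Injective.factorThru (φ I n x) (ιP n)).app (op (n + 1)) one', ?_⟩
  have e1 : (P.{u} (n + 1)).map (tr n) one' = (ιP n).app (op n) one := rfl
  rw [← ConcreteCategory.comp_apply, ← NatTrans.naturality, ConcreteCategory.comp_apply, e1,
    ← ConcreteCategory.comp_apply, ← NatTrans.comp_app, hψ]
  change (if h : n ≤ n then (1 : ℤ) • (I.map (homOfLE h).op x) else 0) = x
  rw [dif_pos le_rfl, one_smul]
  have : (homOfLE (le_refl n)).op = 𝟙 (op n : ℕᵒᵖ) := Subsingleton.elim _ _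
  rw [this, I.map_id]
  rfl

end inj

section main
open Leray

variable [EnoughInjectives (ℕᵒᵖ ⥤ AddCommGrpCat.{u})]
  [(lim : (ℕᵒᵖ ⥤ AddCommGrpCat.{u}) ⥤ AddCommGrpCat.{u}).Additive]

lemma h2 (S : ShortComplex (ℕᵒᵖ ⥤ AddCommGrpCat.{u})) (hS : S.ShortExact)
    (h₁ : SurjTrans S.X₁) (h₂ : SurjTrans S.X₂) :
    SurjTrans S.X₃ ∧ (S.map (lim : (ℕᵒᵖ ⥤ AddCommGrpCat.{u}) ⥤ AddCommGrpCat.{u})).ShortExact := by
  refine ⟨surjTrans_X₃ S hS h₂, ?_⟩
  have := hS.mono_f
  have hex : (S.map (lim : (ℕᵒᵖ ⥤ AddCommGrpCat.{u}) ⥤ AddCommGrpCat.{u})).Exact :=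
    hS.exact.map_of_mono_of_preservesKernel _ inferInstance inferInstance
  have hm : Mono (S.map (lim : (ℕᵒᵖ ⥤ AddCommGrpCat.{u}) ⥤ AddCommGrpCat.{u})).f :=
    inferInstanceAs (Mono (lim.map S.f))
  have he : Epi (S.map (lim : (ℕᵒᵖ ⥤ AddCommGrpCat.{u}) ⥤ AddCommGrpCat.{u})).g := by
    change Epi (lim.map S.g)
    rw [AddCommGrpCat.epi_iff_surjective]
    exact surjective_limMap S hS h₁
  exact ShortComplex.ShortExact.mk hex

theorem main (A : ℕᵒᵖ ⥤ AddCommGrpCat.{u}) (i : ℕ) (hi : 2 ≤ i) :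
    IsZero (((lim : (ℕᵒᵖ ⥤ AddCommGrpCat.{u}) ⥤ AddCommGrpCat.{u}).rightDerived i).obj A) := by
  letI : HasDerivedCategory (ℕᵒᵖ ⥤ AddCommGrpCat.{u}) := HasDerivedCategory.standard _
  letI : HasDerivedCategory AddCommGrpCat.{u} := HasDerivedCategory.standard _
  rw [TBridge.isZero_rightDerived_iff]
  have h1 : ∀ X : ℕᵒᵖ ⥤ AddCommGrpCat.{u}, ∃ (Y : ℕᵒᵖ ⥤ AddCommGrpCat.{u}) (ι : X ⟶ Y),
      SurjTrans Y ∧ Mono ι :=
    fun X => ⟨Injective.under X, Injective.ι X, surjTrans_of_injective _, inferInstance⟩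
  have h2' : ∀ S : ShortComplex (ℕᵒᵖ ⥤ AddCommGrpCat.{u}), S.ShortExact →
      SurjTrans S.X₁ → SurjTrans S.X₂ → SurjTrans S.X₃ ∧
        (S.map (lim : (ℕᵒᵖ ⥤ AddCommGrpCat.{u}) ⥤ AddCommGrpCat.{u})).ShortExact := h2
  let S : ShortComplex (ℕᵒᵖ ⥤ AddCommGrpCat.{u}) :=
    ShortComplex.mk (Injective.ι A) (cokernel.π (Injective.ι A)) (cokernel.condition _)
  have hS : S.ShortExact := by
    have : Mono S.f := inferInstanceAs (Mono (Injective.ι A))
    have : Epi S.g := inferInstanceAs (Epi (cokernel.π (Injective.ι A)))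
    exact ShortComplex.ShortExact.mk
      (ShortComplex.exact_of_g_is_cokernel _ (cokernelIsCokernel _))
  obtain ⟨k, rfl⟩ : ∃ k, i = k + 2 := ⟨i - 2, by omega⟩
  have hQ : SurjTrans S.X₃ := surjTrans_X₃ S hS (surjTrans_of_injective (Injective.under A))
  have h3 := Adapted.isZero_T_pos (lim : (ℕᵒᵖ ⥤ AddCommGrpCat.{u}) ⥤ AddCommGrpCat.{u})
    (I := SurjTrans) h1 h2' k S.X₃ hQ
  have h4 : IsZero ((T (lim : (ℕᵒᵖ ⥤ AddCommGrpCat.{u}) ⥤ AddCommGrpCat.{u})
      ((k : ℤ) + 1 + 1)).obj S.X₂) :=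
    Adapted.isZero_T_of_injective _ (Injective.under A) _ (by omega)
  have h5 := T_isZero₁ _ S hS ((k : ℤ) + 1) h3 h4
  have e : ((k + 2 : ℕ) : ℤ) = (k : ℤ) + 1 + 1 := by push_cast; ring
  rw [e]
  exact h5

end main

end Groth.Agent.Helper1.Tower
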