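import Groth.Agent.Helper1.Bridge5
import Groth.Agent.Helper1.FlatCxVanish

set_option autoImplicit false

/-!
# Truncating a complex of finitely generated projective modules (embeddings)
-/

namespace Groth.Agent.Helper1.TruncFin

open CategoryTheory Limits HomologicalComplex

universe u

/-- the embedding `n ↦ hi - n` of `up ℕ` into `down ℤ` (degrees `≤ hi`) -/
def embLE (hi : ℤ) : (ComplexShape.up ℕ).Embedding (ComplexShape.down ℤ) :=
  ComplexShape.Embedding.mk' _ _ (fun n => hi - (n : ℤ)) (fun _ _ h => by simpa using h)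
    (fun i j => by
      change i + 1 = j ↔ (hi - (j : ℤ)) + 1 = hi - (i : ℤ)
      omega)

instance (hi : ℤ) : (embLE hi).IsRelIff := by
  unfold embLE
  infer_instance

@[simp] lemma embLE_f (hi : ℤ) (n : ℕ) : (embLE hi).f n = hi - (n : ℤ) := rfl

instance (hi : ℤ) : (embLE hi).IsTruncGE where
  mem_next {j k'} h := ⟨j + 1, by
    change k' + 1 = hi - (j : ℤ) at h
    change hi - ((j + 1 : ℕ) : ℤ) = k'
    push_cast
    omega⟩

lemma boundaryGE_embLE_iff (hi : ℤ) (n : ℕ) : (embLE hi).BoundaryGE n ↔ n = 0 := by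
  constructor
  · intro h
    obtain _ | n := n
    · rfl
    · exfalso
      refine h.2 n ?_
      change (hi - ((n + 1 : ℕ) : ℤ)) + 1 = hi - (n : ℤ)
      push_cast
      omega
  · rintro rfl
    constructor
    · change (hi - ((0 : ℕ) : ℤ)) + 1 = (ComplexShape.down ℤ).prev (hi - ((0 : ℕ) : ℤ))
      simp
    · intro i hi'
      change (hi - ((0 : ℕ) : ℤ)) + 1 = hi - (i : ℤ) at hi'
      push_cast at hi'
      omega

lemma notMem_range_embLE_iff (hi : ℤ) (q : ℤ) :
    (∀ i : ℕ, (embLE hi).f i ≠ q) ↔ hi < q := by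
  constructor
  · intro h
    by_contra hq
    exact h (hi - q).natAbs (by simp only [embLE_f]; omega)
  · intro h i
    simp only [embLE_f]
    omega

/-- the embedding `n ↦ lo + n` of `down ℕ` into `down ℤ` (degrees `≥ lo`) -/
def embGE (lo : ℤ) : (ComplexShape.down ℕ).Embedding (ComplexShape.down ℤ) :=
  ComplexShape.Embedding.mk' _ _ (fun n => lo + (n : ℤ)) (fun _ _ h => by simpa using h)
    (fun i j => by
      change j + 1 = i ↔ (lo + (j : ℤ)) + 1 = lo + (i : ℤ)
      omega)

instance (lo : ℤ) : (embGE lo).IsRelIff := by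
  unfold embGE
  infer_instance

@[simp] lemma embGE_f (lo : ℤ) (n : ℕ) : (embGE lo).f n = lo + (n : ℤ) := rfl

instance (lo : ℤ) : (embGE lo).IsTruncLE where
  mem_prev {i' j} h := ⟨j + 1, by
    change (lo + (j : ℤ)) + 1 = i' at h
    change lo + ((j + 1 : ℕ) : ℤ) = i'
    push_cast
    omega⟩

lemma boundaryLE_embGE_iff (lo : ℤ) (n : ℕ) : (embGE lo).BoundaryLE n ↔ n = 0 := by
  constructor
  · intro h
    obtain _ | n := n
    · rfl
    · exfalso
      refine h.2 n ?_
      change (lo + (n : ℤ)) + 1 = lo + ((n + 1 : ℕ) : ℤ)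
      push_cast
      omega
  · rintro rfl
    constructor
    · change (ComplexShape.down ℤ).next (lo + ((0 : ℕ) : ℤ)) + 1 = lo + ((0 : ℕ) : ℤ)
      simp
    · intro i hi'
      change (lo + (i : ℤ)) + 1 = lo + ((0 : ℕ) : ℤ) at hi'
      push_cast at hi'
      omega

lemma notMem_range_embGE_iff (lo : ℤ) (q : ℤ) :
    (∀ i : ℕ, (embGE lo).f i ≠ q) ↔ q < lo := by
  constructor
  · intro h
    by_contra hq
    exact h (q - lo).natAbs (by simp only [embGE_f]; omega)
  · intro h i
    simp only [embGE_f]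
    omega

end Groth.Agent.Helper1.TruncFin
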