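import Groth.Agent.Helper1.TruncFin1

set_option autoImplicit false

/-!
# Truncating a complex of finitely generated projective modules from above
-/

namespace Groth.Agent.Helper1.TruncFin

open CategoryTheory Limits HomologicalComplex
open Groth.Agent.Helper1.FlatCx

universe u

variable {A : Type u} [CommRing A] (K : ChainComplex (ModuleCat.{u} A) ℤ)

/-- the truncation keeping the degrees `≤ hi` (with `opcycles` in degree `hi`) -/
noncomputable abbrev truncAbove (hi : ℤ) : ChainComplex (ModuleCat.{u} A) ℤ :=
  K.truncGE (embLE hi)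

/-- the projection to the truncation -/
noncomputable abbrev πAbove (hi : ℤ) : K ⟶ truncAbove K hi := K.πTruncGE (embLE hi)

lemma isZero_truncAbove_X (hi q : ℤ) (hq : hi < q) : IsZero ((truncAbove K hi).X q) :=
  (K.truncGE (embLE hi)).isZero_X_of_isStrictlySupported (embLE hi) q
    ((notMem_range_embLE_iff hi q).mpr hq)

/-- the terms in degrees `< hi` -/
noncomputable def truncAboveXIso (hi q : ℤ) (hq : q < hi) : (truncAbove K hi).X q ≅ K.X q :=
  K.truncGEXIso (embLE hi) (i := (hi - q).natAbs) (i' := q)
    (by simp only [embLE_f]; omega)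
    (by rw [boundaryGE_embLE_iff]; omega)

/-- the term in degree `hi` -/
noncomputable def truncAboveXIsoOpcycles (hi : ℤ) : (truncAbove K hi).X hi ≅ K.opcycles hi :=
  K.truncGEXIsoOpcycles (embLE hi) (i := 0) (i' := hi) (by simp)
    ((boundaryGE_embLE_iff hi 0).mpr rfl)

theorem quasiIso_πAbove (hi : ℤ) (h : ∀ q, hi < q → K.ExactAt q) : QuasiIso (πAbove K hi) :=
  (K.quasiIso_πTruncGE_iff_isSupported (embLE hi)).mpr
    ⟨fun q hq => h q ((notMem_range_embLE_iff hi q).mp hq)⟩

variable [IsNoetherianRing A]

theorem finite_projective_truncAbove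
    (hK : ∀ i, Module.Finite A (K.X i) ∧ Module.Projective A (K.X i)) (hi : ℤ)
    (hflat : Module.Flat A (K.opcycles hi)) (q : ℤ) :
    Module.Finite A ((truncAbove K hi).X q) ∧ Module.Projective A ((truncAbove K hi).X q) := by
  rcases lt_trichotomy q hi with hq | rfl | hq
  · obtain ⟨h1, h2⟩ := hK q
    haveI := h1
    haveI := h2
    exact ⟨Module.Finite.equiv (truncAboveXIso K hi q hq).toLinearEquiv.symm,
      Module.Projective.of_equiv (truncAboveXIso K hi q hq).toLinearEquiv.symm⟩
  · haveI := (hK q).1
    haveI := finite_opcycles K q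
    haveI : Module.FinitePresentation A (K.opcycles q) :=
      Module.finitePresentation_of_finite A _
    haveI : Module.Projective A (K.opcycles q) := Module.Flat.projective_of_finitePresentation
    exact ⟨Module.Finite.equiv (truncAboveXIsoOpcycles K q).toLinearEquiv.symm,
      Module.Projective.of_equiv (truncAboveXIsoOpcycles K q).toLinearEquiv.symm⟩
  · haveI : Subsingleton ((truncAbove K hi).X q) :=
      ModuleCat.subsingleton_of_isZero (isZero_truncAbove_X K hi q hq)
    exact ⟨inferInstance, inferInstance⟩

end Groth.Agent.Helper1.TruncFin
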