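import Groth.Agent.Helper1.TruncFin2

set_option autoImplicit false

/-!
# Truncating a complex of finitely generated projective modules from below
-/

namespace Groth.Agent.Helper1.TruncFin

open CategoryTheory Limits HomologicalComplex
open Groth.Agent.Helper1.FlatCx

universe u

section LinAlg

variable {A : Type u} [CommRing A] {X Y P : Type u} [AddCommGroup X] [Module A X]
  [AddCommGroup Y] [Module A Y] [AddCommGroup P] [Module A P]

/-- the kernel of a surjection of projective modules is projective -/
lemma projective_ker_of_surjective (g : Y →ₗ[A] P) (hg : Function.Surjective g)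
    [Module.Projective A Y] [Module.Projective A P] : Module.Projective A (LinearMap.ker g) := by
  obtain ⟨s, hs⟩ := Module.projective_lifting_property g LinearMap.id hg
  have hs' : ∀ p, g (s p) = p := fun p => LinearMap.congr_fun hs p
  let r : Y →ₗ[A] LinearMap.ker g :=
    LinearMap.codRestrict (LinearMap.ker g) (LinearMap.id - s ∘ₗ g) (fun y => by
      simp [LinearMap.mem_ker, hs'])
  refine Module.Projective.of_split (LinearMap.ker g).subtype r ?_
  ext x
  have hx : g x = 0 := x.2
  simp [r, hx]

/-- if `X`, `Y` and `Y ⧸ range f` are projective, so is `ker f` -/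
lemma projective_ker_of_projective_quotient (f : X →ₗ[A] Y) [Module.Projective A X]
    [Module.Projective A Y] [Module.Projective A (Y ⧸ LinearMap.range f)] :
    Module.Projective A (LinearMap.ker f) := by
  haveI : Module.Projective A (LinearMap.range f) := by
    have h := projective_ker_of_surjective (LinearMap.range f).mkQ
      (Submodule.mkQ_surjective _)
    rw [Submodule.ker_mkQ] at h
    exact h
  have h := projective_ker_of_surjective f.rangeRestrict f.surjective_rangeRestrict
  rw [LinearMap.ker_rangeRestrict] at h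
  exact h

end LinAlg

variable {A : Type u} [CommRing A] (K : ChainComplex (ModuleCat.{u} A) ℤ)

/-- the cycles as a kernel -/
noncomputable def cyclesIsoKer (q : ℤ) :
    K.cycles q ≅ ModuleCat.of A (LinearMap.ker (K.d q (q - 1)).hom) :=
  K.cyclesIsoSc' (q + 1) q (q - 1) (by simp) (by simp) ≪≫
    (K.sc' (q + 1) q (q - 1)).moduleCatCyclesIso

/-- the opcycles as a quotient -/
noncomputable def opcyclesIsoQuot (q : ℤ) :
    K.opcycles q ≅ ModuleCat.of A (K.X q ⧸ LinearMap.range (K.d (q + 1) q).hom) :=
  K.opcyclesIsoSc' (q + 1) q (q - 1) (by simp) (by simp) ≪≫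
    (K.sc' (q + 1) q (q - 1)).moduleCatOpcyclesIso

/-- the truncation keeping the degrees `≥ lo` (with `cycles` in degree `lo`) -/
noncomputable abbrev truncBelow (lo : ℤ) : ChainComplex (ModuleCat.{u} A) ℤ :=
  K.truncLE (embGE lo)

/-- the inclusion of the truncation -/
noncomputable abbrev ιBelow (lo : ℤ) : truncBelow K lo ⟶ K := K.ιTruncLE (embGE lo)

lemma isZero_truncBelow_X (lo q : ℤ) (hq : q < lo) : IsZero ((truncBelow K lo).X q) :=
  (K.truncLE (embGE lo)).isZero_X_of_isStrictlySupported (embGE lo) q
    ((notMem_range_embGE_iff lo q).mpr hq)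

/-- the terms in degrees `> lo` -/
noncomputable def truncBelowXIso (lo q : ℤ) (hq : lo < q) : (truncBelow K lo).X q ≅ K.X q :=
  K.truncLEXIso (embGE lo) (i := (q - lo).natAbs) (i' := q)
    (by simp only [embGE_f]; omega)
    (by rw [boundaryLE_embGE_iff]; omega)

/-- the term in degree `lo` -/
noncomputable def truncBelowXIsoCycles (lo : ℤ) : (truncBelow K lo).X lo ≅ K.cycles lo :=
  K.truncLEXIsoCycles (embGE lo) (i := 0) (i' := lo) (by simp)
    ((boundaryLE_embGE_iff lo 0).mpr rfl)

theorem quasiIso_ιBelow (lo : ℤ) (h : ∀ q, q < lo → K.ExactAt q) : QuasiIso (ιBelow K lo) :=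
  (K.quasiIso_ιTruncLE_iff_isSupported (embGE lo)).mpr
    ⟨fun q hq => h q ((notMem_range_embGE_iff lo q).mp hq)⟩

variable [IsNoetherianRing A]

theorem finite_projective_cycles
    (hK : ∀ i, Module.Finite A (K.X i) ∧ Module.Projective A (K.X i)) (lo : ℤ)
    (hflat : Module.Flat A (K.opcycles (lo - 1))) :
    Module.Finite A (K.cycles lo) ∧ Module.Projective A (K.cycles lo) := by
  obtain ⟨h1, h2⟩ := hK lo
  obtain ⟨h3, h4⟩ := hK (lo - 1)
  haveI := h1
  haveI := h2
  haveI := h3
  haveI := h4
  haveI := finite_opcycles K (lo - 1)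
  haveI : Module.FinitePresentation A (K.opcycles (lo - 1)) :=
    Module.finitePresentation_of_finite A _
  haveI : Module.Projective A (K.opcycles (lo - 1)) :=
    Module.Flat.projective_of_finitePresentation
  have e := opcyclesIsoQuot K (lo - 1)
  have hlo : lo - 1 + 1 = lo := by ring
  haveI : Module.Projective A (K.X (lo - 1) ⧸ LinearMap.range (K.d lo (lo - 1)).hom) := by
    have h5 : Module.Projective A
        (K.X (lo - 1) ⧸ LinearMap.range (K.d (lo - 1 + 1) (lo - 1)).hom) :=
      Module.Projective.of_equiv e.toLinearEquiv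
    rw [hlo] at h5
    exact h5
  haveI : Module.Projective A (LinearMap.ker (K.d lo (lo - 1)).hom) :=
    projective_ker_of_projective_quotient _
  haveI : Module.Finite A (LinearMap.ker (K.d lo (lo - 1)).hom) :=
    Module.Finite.of_injective (LinearMap.ker (K.d lo (lo - 1)).hom).subtype
      (Submodule.subtype_injective _)
  exact ⟨Module.Finite.equiv (cyclesIsoKer K lo).toLinearEquiv.symm,
    Module.Projective.of_equiv (cyclesIsoKer K lo).toLinearEquiv.symm⟩

theorem finite_projective_truncBelow
    (hK : ∀ i, Module.Finite A (K.X i) ∧ Module.Projective A (K.X i)) (lo : ℤ)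
    (hflat : Module.Flat A (K.opcycles (lo - 1))) (q : ℤ) :
    Module.Finite A ((truncBelow K lo).X q) ∧ Module.Projective A ((truncBelow K lo).X q) := by
  rcases lt_trichotomy q lo with hq | rfl | hq
  · haveI : Subsingleton ((truncBelow K lo).X q) :=
      ModuleCat.subsingleton_of_isZero (isZero_truncBelow_X K lo q hq)
    exact ⟨inferInstance, inferInstance⟩
  · obtain ⟨h1, h2⟩ := finite_projective_cycles K hK q hflat
    haveI := h1
    haveI := h2
    exact ⟨Module.Finite.equiv (truncBelowXIsoCycles K q).toLinearEquiv.symm,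
      Module.Projective.of_equiv (truncBelowXIsoCycles K q).toLinearEquiv.symm⟩
  · obtain ⟨h1, h2⟩ := hK q
    haveI := h1
    haveI := h2
    exact ⟨Module.Finite.equiv (truncBelowXIso K lo q hq).toLinearEquiv.symm,
      Module.Projective.of_equiv (truncBelowXIso K lo q hq).toLinearEquiv.symm⟩

end Groth.Agent.Helper1.TruncFin
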