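import Groth.Agent.Helper1.ZarIso8

set_option autoImplicit false
set_option linter.style.haveILetI false
set_option linter.unusedSectionVars false
set_option linter.unusedVariables false

/-!
# Module maps from the structure sheaf to the direct image of the structure sheaf
-/

namespace Groth.Agent.Helper1.UF

open CategoryTheory Limits AlgebraicGeometry Opposite TopologicalSpace
open Groth.Agent.Helper1.ZarIso

universe u

variable {T X' : Scheme.{u}} (f' : X' ⟶ T)
  (Φ : Coh.structureModule T ⟶ (Scheme.Modules.pushforward f').obj (Coh.structureModule X'))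

/-- the image of the unit section -/
noncomputable def cst : Γ(X', ⊤) :=
  Φ.app ⊤ (show Γ(Coh.structureModule T, ⊤) from (1 : Γ(T, ⊤)))

/-- a module map `O_T ⟶ f'_* O_{X'}` is `f'^♯` times the image of the unit section -/
lemma hom_app (U : T.Opens) (r : Γ(T, U)) :
    (show Γ(X', f' ⁻¹ᵁ U) from Φ.app U (show Γ(Coh.structureModule T, U) from r)) =
      (f'.app U).hom r * X'.presheaf.map (homOfLE (le_top : f' ⁻¹ᵁ U ≤ ⊤)).op (cst f' Φ) := by
  have key : Φ.app U (show Γ(Coh.structureModule T, U) from r) =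
      r • Φ.app U (show Γ(Coh.structureModule T, U) from (1 : Γ(T, U))) := by
    have h0 := Scheme.Modules.Hom.app_smul Φ r
      (show Γ(Coh.structureModule T, U) from (1 : Γ(T, U)))
    refine Eq.trans ?_ h0
    refine congrArg (fun t => Φ.app U t) ?_
    exact (mul_one r).symm
  have h2 : Φ.app U (show Γ(Coh.structureModule T, U) from (1 : Γ(T, U))) =
      (show Γ((Scheme.Modules.pushforward f').obj (Coh.structureModule X'), U) from
        X'.presheaf.map (homOfLE (le_top : f' ⁻¹ᵁ U ≤ ⊤)).op (cst f' Φ)) := by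
    have hn := Φ.mapPresheaf.naturality (homOfLE (le_top : U ≤ ⊤)).op
    have hn' := congrArg (fun k => k.hom (show Γ(Coh.structureModule T, ⊤) from (1 : Γ(T, ⊤)))) hn
    have h3 : (Coh.structureModule T).presheaf.map (homOfLE (le_top : U ≤ ⊤)).op
        (show Γ(Coh.structureModule T, ⊤) from (1 : Γ(T, ⊤))) =
        (show Γ(Coh.structureModule T, U) from (1 : Γ(T, U))) :=
      map_one (T.presheaf.map (homOfLE (le_top : U ≤ ⊤)).op).hom
    rw [← h3]
    exact hn'
  refine (key.trans (congrArg (fun t => r • t) h2)).trans ?_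
  rfl

/-- the image of the unit section under an epimorphism on global sections is a unit -/
lemma isUnit_cst (hs : Function.Surjective (Φ.app ⊤)) : IsUnit (cst f' Φ) := by
  obtain ⟨r, hr⟩ := hs (show Γ((Scheme.Modules.pushforward f').obj (Coh.structureModule X'), ⊤)
    from (1 : Γ(X', ⊤)))
  have h1 := hom_app f' Φ ⊤ (show Γ(T, ⊤) from r)
  have h2 : X'.presheaf.map (homOfLE (le_top : f' ⁻¹ᵁ ⊤ ≤ ⊤)).op (cst f' Φ) = cst f' Φ := by
    change X'.presheaf.map (𝟙 _) (cst f' Φ) = cst f' Φ
    rw [X'.presheaf.map_id]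
    rfl
  rw [h2] at h1
  have h3 : (1 : Γ(X', ⊤)) = (show Γ(X', ⊤) from (f'.app ⊤).hom r) * cst f' Φ :=
    hr.symm.trans h1
  exact IsUnit.of_mul_eq_one _ ((mul_comm _ _).trans h3.symm)

/-- **a module isomorphism `O_T ≅ f'_* O_{X'}` forces `O_T(U) → O_{X'}(f'⁻¹U)` to be bijective
for every open `U`** -/
theorem bijective_app_of_isIso [IsIso Φ] (U : T.Opens) :
    Function.Bijective (f'.app U).hom := by
  have hb : ∀ V : T.Opens, Function.Bijective (Φ.app V) := fun V =>
    (ConcreteCategory.isIso_iff_bijective _).mp inferInstance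
  have hu : IsUnit (X'.presheaf.map (homOfLE (le_top : f' ⁻¹ᵁ U ≤ ⊤)).op (cst f' Φ)) :=
    (isUnit_cst f' Φ (hb ⊤).2).map _
  constructor
  · intro r r' hrr'
    apply (hb U).1
    have h1 := hom_app f' Φ U r
    have h2 := hom_app f' Φ U r'
    rw [hrr'] at h1
    exact h1.trans h2.symm
  · intro m
    obtain ⟨r, hr⟩ := (hb U).2 (show Γ((Scheme.Modules.pushforward f').obj
      (Coh.structureModule X'), U) from
        m * X'.presheaf.map (homOfLE (le_top : f' ⁻¹ᵁ U ≤ ⊤)).op (cst f' Φ))
    refine ⟨r, ?_⟩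
    have h1 := hom_app f' Φ U r
    have h2 : (f'.app U).hom r *
        X'.presheaf.map (homOfLE (le_top : f' ⁻¹ᵁ U ≤ ⊤)).op (cst f' Φ) =
        m * X'.presheaf.map (homOfLE (le_top : f' ⁻¹ᵁ U ≤ ⊤)).op (cst f' Φ) :=
      h1.symm.trans hr
    exact hu.mul_left_injective h2

end Groth.Agent.Helper1.UF
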