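import Groth.Agent.Helper1.UF1
import Groth.Agent.Lead.LocLift
import Groth.Agent.Helper4.PullUnit
import Groth.Prelude.Def_CohBC2

set_option autoImplicit false
set_option linter.style.haveILetI false
set_option linter.unusedSectionVars false
set_option linter.unusedVariables false

/-!
# The degree-zero base change map of the structure sheaf does not vanish
-/

namespace Groth.Agent.Helper1.UF

open CategoryTheory AlgebraicGeometry Opposite TopologicalSpace
  AlgebraicGeometry.Scheme.Modules
open Groth.Agent.Helper1.ZarIso

universe u

variable {X S X' S' : Scheme.{u}} (f : X ⟶ S) (g : S' ⟶ S) (f' : X' ⟶ S') (g' : X' ⟶ X)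
  (w : g' ≫ f = f' ≫ g)

lemma homEquiv_zero {A B : Scheme.{u}} (j : A ⟶ B) (M : B.Modules) (N : A.Modules) :
    (pullbackPushforwardAdjunction j).homEquiv M N 0 = 0 := by
  rw [Adjunction.homEquiv_unit, Functor.map_zero, Limits.comp_zero]

/-- if the degree-zero base change map of the structure sheaf vanishes, the inverse image of the
structure sheaf is zero -/
theorem id_eq_zero_of_bc0_eq_zero
    (h0 : CohBC.bc0 f g f' g' w (Coh.structureModule X) = 0) :
    𝟙 ((pullback g').obj (Coh.structureModule X)) = 0 := by
  have h1 : CohBC.bc0Adj f g f' g' w (Coh.structureModule X) = 0 := by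
    have h := congrArg ((pullbackPushforwardAdjunction g).homEquiv _ _) h0
    rw [homEquiv_zero] at h
    refine Eq.trans ?_ h
    exact (Equiv.apply_symm_apply _ _).symm
  have h2 : (pushforward f).map ((pullbackPushforwardAdjunction g').unit.app
      (Coh.structureModule X)) = 0 := by
    unfold CohBC.bc0Adj at h1
    rw [← cancel_mono ((pushforwardComp g' f).hom.app ((pullback g').obj (Coh.structureModule X)) ≫
      (pushforwardCongr w).hom.app ((pullback g').obj (Coh.structureModule X)) ≫
      (pushforwardComp f' g).inv.app ((pullback g').obj (Coh.structureModule X))), Limits.zero_comp]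
    exact h1
  have h3 : (pullbackPushforwardAdjunction g').unit.app (Coh.structureModule X) = 0 := by
    apply Groth.Agent.Lead.LocLift.hom_unit_ext
    have h := congrArg (fun φ => φ.app ⊤ (show Γ((pushforward f).obj (Coh.structureModule X), ⊤)
      from (1 : Γ(X, ⊤)))) h2
    exact h
  apply ((pullbackPushforwardAdjunction g').homEquiv _ _).injective
  rw [homEquiv_zero, Adjunction.homEquiv_unit, CategoryTheory.Functor.map_id]
  exact (Category.comp_id _).trans h3

end Groth.Agent.Helper1.UF
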