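import Groth.Agent.Helper1.UF2
import Groth.Agent.Helper1.SCV24
import Groth.Agent.Helper1.Seesaw7
import Groth.Agent.Lead.MeroY
import Groth.Agent.Lead.HomShH
import Groth.Agent.Helper4.CohFP
import Groth.Agent.Helper2.RedBC1

set_option autoImplicit false
set_option linter.style.haveILetI false
set_option linter.unusedSectionVars false
set_option linter.unusedVariables false

/-!
# `h⁰(X_y, O) = 1` for all `y` gives `O_T = (f_T)_* O` universally
-/

namespace Groth.Agent.Helper1.UF

open CategoryTheory AlgebraicGeometry Opposite TopologicalSpace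
  AlgebraicGeometry.Scheme.Modules
open Groth.Agent.Helper1.ZarIso Groth.Agent.Helper1.SCV Groth.Agent.Helper1.BaseChart
open Groth.Agent.Helper4.PullUnit

universe u

variable {X Y : Scheme.{u}} (f : X ⟶ Y) [IsProper f] [Flat f] [IsLocallyNoetherian Y]
  (h1 : ∀ y : Y, Module.finrank (Y.residueField y) Γ(f.fiber y, ⊤) = 1)

include h1 in
/-- `O_Y ⟶ f_* O_X` is an isomorphism -/
theorem isIso_unitToPush : IsIso (unitToPush f) := by
  apply Groth.Agent.Lead.MeroY.isIso_of_locally_bijective
  intro y
  obtain ⟨U, hyU, hU⟩ := Groth.Agent.S2393.result f y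
    (Groth.Agent.Helper1.Seesaw.bijective_algebraMap_of_finrank_eq_one f y (h1 y))
  refine ⟨U, hyU, fun V hV => ?_⟩
  rw [bijective_unitToPush_app_iff]
  haveI := hU V hV
  exact (ConcreteCategory.isIso_iff_bijective _).mp inferInstance

include h1 in
/-- the degree-zero base change map of the structure sheaf to a fibre is an epimorphism -/
theorem epi_bc0_fibre (y : Y) :
    Epi (CohBC.bc0 f (Y.fromSpecResidueField y) (f.fiberToSpecResidueField y) (f.fiberι y)
      (f.fiber_fac y) (Coh.structureModule X)) := by
  haveI := isIso_unitToPush f h1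
  have hbij := Groth.Agent.Helper1.Seesaw.bijective_algebraMap_of_finrank_eq_one f y (h1 y)
  haveI : Nontrivial Γ(f.fiber y, ⊤) :=
    Module.nontrivial_of_finrank_pos (R := Y.residueField y) (by rw [h1 y]; exact Nat.one_pos)
  set bc := CohBC.bc0 f (Y.fromSpecResidueField y) (f.fiberToSpecResidueField y) (f.fiberι y)
      (f.fiber_fac y) (Coh.structureModule X) with hbc
  let a : Coh.structureModule (Spec (Y.residueField y)) ⟶
      (pullback (Y.fromSpecResidueField y)).obj ((pushforward f).obj (Coh.structureModule X)) :=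
    (pullbackUnitIso (Y.fromSpecResidueField y)).inv ≫
      (pullback (Y.fromSpecResidueField y)).map (unitToPush f)
  let b : (pushforward (f.fiberToSpecResidueField y)).obj
      ((pullback (f.fiberι y)).obj (Coh.structureModule X)) ⟶
      (pushforward (f.fiberToSpecResidueField y)).obj (Coh.structureModule (f.fiber y)) :=
    (pushforward (f.fiberToSpecResidueField y)).map (pullbackUnitIso (f.fiberι y)).hom
  haveI : IsIso a := by
    dsimp only [a]
    infer_instance
  haveI : IsIso b := by
    dsimp only [b]
    infer_instance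
  set Ψ := a ≫ bc ≫ b with hΨdef
  -- `Ψ` is nonzero
  have hΨ : Ψ ≠ 0 := by
    intro h0
    have hbc0 : bc = 0 := by
      have : bc = inv a ≫ Ψ ≫ inv b := by
        rw [hΨdef]
        simp
      rw [this, h0]
      simp
    have hid := id_eq_zero_of_bc0_eq_zero f (Y.fromSpecResidueField y)
      (f.fiberToSpecResidueField y) (f.fiberι y) (f.fiber_fac y) hbc0
    have hid' : 𝟙 (Coh.structureModule (f.fiber y)) = 0 := by
      have : 𝟙 (Coh.structureModule (f.fiber y)) =
          (pullbackUnitIso (f.fiberι y)).inv ≫
            𝟙 ((pullback (f.fiberι y)).obj (Coh.structureModule X)) ≫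
            (pullbackUnitIso (f.fiberι y)).hom := by simp
      rw [this, hid]
      simp
    have h10 := congrArg (fun φ : Coh.structureModule (f.fiber y) ⟶
      Coh.structureModule (f.fiber y) => φ.app ⊤ (show Γ(Coh.structureModule (f.fiber y), ⊤)
        from (1 : Γ(f.fiber y, ⊤)))) hid'
    exact one_ne_zero (α := Γ(f.fiber y, ⊤)) h10
  have hc : cst (f.fiberToSpecResidueField y) Ψ ≠ 0 := by
    intro hc0
    apply hΨ
    apply Groth.Agent.Lead.LocLift.hom_unit_ext
    exact hc0
  -- the functions on the fibre form a field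
  have hfield : IsField Γ(f.fiber y, ⊤) :=
    (RingEquiv.ofBijective _ hbij).symm.toMulEquiv.isField (Field.toIsField (Y.residueField y))
  obtain ⟨d, hd⟩ := hfield.mul_inv_cancel hc
  have hbij' : Function.Bijective ((f.fiberToSpecResidueField y).app ⊤).hom := by
    have hI : Function.Bijective (Scheme.ΓSpecIso (Y.residueField y)).inv.hom :=
      ConcreteCategory.bijective_of_isIso (Scheme.ΓSpecIso (Y.residueField y)).inv
    have : (algebraMap (Y.residueField y) Γ(f.fiber y, ⊤) : Y.residueField y → Γ(f.fiber y, ⊤)) =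
        ((f.fiberToSpecResidueField y).app ⊤).hom ∘
          (Scheme.ΓSpecIso (Y.residueField y)).inv.hom := rfl
    rw [this] at hbij
    exact (Function.Bijective.of_comp_iff _ hI).mp hbij
  have hsurj : Function.Surjective (Ψ.app ⊤) := by
    intro m
    obtain ⟨r, hr⟩ := hbij'.2 ((show Γ(f.fiber y, ⊤) from m) * d)
    refine ⟨r, ?_⟩
    have h2 := hom_app (f.fiberToSpecResidueField y) Ψ ⊤ r
    have h3 : (f.fiber y).presheaf.map
        (homOfLE (le_top : (f.fiberToSpecResidueField y) ⁻¹ᵁ ⊤ ≤ ⊤)).op
        (cst (f.fiberToSpecResidueField y) Ψ) = cst (f.fiberToSpecResidueField y) Ψ := by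
      change (f.fiber y).presheaf.map (𝟙 _) _ = _
      rw [(f.fiber y).presheaf.map_id]
      rfl
    rw [h3] at h2
    refine h2.trans ?_
    show (show Γ(f.fiber y, ⊤) from ((f.fiberToSpecResidueField y).app ⊤).hom r) *
      cst (f.fiberToSpecResidueField y) Ψ = m
    rw [hr, mul_assoc, mul_comm d, hd, mul_one]
  haveI : IsProper (f.fiberToSpecResidueField y) :=
    MorphismProperty.pullback_snd (P := @IsProper) f (Y.fromSpecResidueField y) inferInstance
  haveI qT : ((pushforward (f.fiberToSpecResidueField y)).obj
      (Coh.structureModule (f.fiber y))).IsQuasicoherent :=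
    Groth.Agent.Helper4.QcohGlue.isQuasicoherent_pushforward _ _
  haveI : Epi Ψ := by
    apply Groth.Agent.Helper4.QcohLocal.epi_of_app_surjective_of_affine_cover
    intro x
    exact ⟨⊤, isAffineOpen_top _, trivial, hsurj⟩
  haveI : Epi (bc ≫ b) := epi_of_epi a (bc ≫ b)
  have : bc = (bc ≫ b) ≫ inv b := by simp
  rw [this]
  infer_instance

end Groth.Agent.Helper1.UF
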