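import Groth.Agent.Helper1.UF3

set_option autoImplicit false
set_option linter.style.haveILetI false
set_option linter.unusedSectionVars false
set_option linter.unusedVariables false

/-!
# `h⁰(X_y, O) = 1` for all `y` gives `O_T = (f_T)_* O` universally (II)
-/

namespace Groth.Agent.Helper1.UF

open CategoryTheory AlgebraicGeometry Opposite TopologicalSpace
  AlgebraicGeometry.Scheme.Modules
open Groth.Agent.Helper1.ZarIso Groth.Agent.Helper1.SCV Groth.Agent.Helper1.BaseChart
open Groth.Agent.Helper4.PullUnit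

universe u

variable {X Y : Scheme.{u}} (f : X ⟶ Y) [IsProper f] [Flat f] [IsLocallyNoetherian Y]
  (h1 : ∀ y : Y, Module.finrank (Y.residueField y) Γ(f.fiber y, ⊤) = 1)

include h1 in
/-- `T⁰` of the structure sheaf is right exact at every point -/
theorem goodAt_unit (y : Y) : GoodAt f (Coh.structureModule X) 0 y := by
  haveI : IsLocallyNoetherian X := LocallyOfFiniteType.isLocallyNoetherian f
  have hcoh := Groth.Agent.Lead.HomShH.isCoh_unit X
  haveI : Coh.IsQCoh (Coh.structureModule X) := hcoh.1
  have hFP : CohB1.IsFP (Coh.structureModule X) :=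
    Groth.Agent.Helper4.CohFP.isFP_of_isCoh _ hcoh.1 hcoh.2
  have hfl : FlatMod.IsFlatOver f (Coh.structureModule X) :=
    Groth.Agent.Helper2.RedBC.isFlatOver_unit f
  obtain ⟨W, hW, hyW, -⟩ := exists_isAffineOpen_mem_and_subset (x := y)
    (U := (⊤ : Y.Opens)) trivial
  haveI : IsAffine (W : Scheme.{u}) := hW
  obtain ⟨K, M⟩ := exists_master f W (Coh.structureModule X) hFP hfl
  exact ⟨W, hW, hyW, K, M, (M.bc0_epi_iff y hyW).mp (epi_bc0_fibre f h1 y)⟩

include h1 in
/-- **`O_T(U) → O_{X_T}(f_T⁻¹U)` is an isomorphism for every base change** -/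
theorem isIso_app_of_isPullback {T X' : Scheme.{u}} (g : T ⟶ Y) (f' : X' ⟶ T) (g' : X' ⟶ X)
    (h : IsPullback g' f' f g) (U : T.Opens) : IsIso (f'.app U) := by
  haveI := isIso_unitToPush f h1
  have hcoh := Groth.Agent.Lead.HomShH.isCoh_unit X
  haveI : Coh.IsQCoh (Coh.structureModule X) := hcoh.1
  haveI : IsIso (CohBC.bc0 f g f' g' h.w (Coh.structureModule X)) :=
    isIso_bc0_of_goodAt h (Coh.structureModule X) (fun z => goodAt_unit f h1 (g z))
  let Φ : Coh.structureModule T ⟶ (pushforward f').obj (Coh.structureModule X') :=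
    ((pullbackUnitIso g).inv ≫ (pullback g).map (unitToPush f)) ≫
      CohBC.bc0 f g f' g' h.w (Coh.structureModule X) ≫
      (pushforward f').map (pullbackUnitIso g').hom
  haveI : IsIso Φ := by
    dsimp only [Φ]
    infer_instance
  exact (ConcreteCategory.isIso_iff_bijective _).mpr (bijective_app_of_isIso f' Φ U)

end Groth.Agent.Helper1.UF
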