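import Groth.Agent.Helper1.UF2
import Groth.Agent.Helper1.AM3
import Groth.Agent.Helper4.FinLocFree6
import Groth.Agent.Helper4.QcohLocal
import Groth.Agent.Lead.StalkPull

set_option autoImplicit false
set_option linter.style.haveILetI false
set_option linter.unusedSectionVars false
set_option linter.unusedVariables false

/-!
# The degree-zero base change map of the structure sheaf to a fibre with `Γ(X_y, O) = κ(y)`
is an epimorphism (no Noetherian hypotheses)
-/

namespace Groth.Agent.Helper1.UF

open CategoryTheory AlgebraicGeometry Opposite TopologicalSpace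
  AlgebraicGeometry.Scheme.Modules
open Groth.Agent.Helper1.ZarIso
open Groth.Agent.Helper4.PullUnit

universe u

/-- the structure sheaf is quasi-coherent -/
theorem isQuasicoherent_unit (X : Scheme.{u}) : (Coh.structureModule X).IsQuasicoherent :=
  Groth.Agent.Helper4.FinLocFree4.isQuasicoherent_of_isFinLocFree _
    (Groth.Agent.Helper4.FinLocFree6.isFinLocFree_unit (X := X))

variable {X S : Scheme.{u}} (f : X ⟶ S) [QuasiCompact f] [QuasiSeparated f]

/-- the degree-zero base change map of the structure sheaf to a fibre whose global functions are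
the residue field is an epimorphism -/
theorem epi_bc0_fibre_of_isIso (y : S) (hy : IsIso (f.fiberToSpecResidueField y).appTop) :
    Epi (CohBC.bc0 f (S.fromSpecResidueField y) (f.fiberToSpecResidueField y) (f.fiberι y)
      (f.fiber_fac y) (Coh.structureModule X)) := by
  haveI := isQuasicoherent_unit X
  haveI := isQuasicoherent_unit (f.fiber y)
  haveI : QuasiCompact (f.fiberToSpecResidueField y) :=
    MorphismProperty.pullback_snd (P := @QuasiCompact) f (S.fromSpecResidueField y) inferInstance
  haveI : QuasiSeparated (f.fiberToSpecResidueField y) :=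
    MorphismProperty.pullback_snd (P := @QuasiSeparated) f (S.fromSpecResidueField y)
      inferInstance
  have hbij' : Function.Bijective ((f.fiberToSpecResidueField y).app ⊤).hom :=
    (ConcreteCategory.isIso_iff_bijective _).mp hy
  have hfield0 : IsField Γ(Spec (S.residueField y), ⊤) :=
    (Scheme.ΓSpecIso (S.residueField y)).commRingCatIsoToRingEquiv.toMulEquiv.isField
      (Field.toIsField (S.residueField y))
  have hfield : IsField Γ(f.fiber y, ⊤) :=
    (RingEquiv.ofBijective _ hbij').symm.toMulEquiv.isField hfield0
  haveI : Nontrivial Γ(f.fiber y, ⊤) := hfield.nontrivial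
  set bc := CohBC.bc0 f (S.fromSpecResidueField y) (f.fiberToSpecResidueField y) (f.fiberι y)
      (f.fiber_fac y) (Coh.structureModule X) with hbc
  let b : (pushforward (f.fiberToSpecResidueField y)).obj
      ((pullback (f.fiberι y)).obj (Coh.structureModule X)) ⟶
      (pushforward (f.fiberToSpecResidueField y)).obj (Coh.structureModule (f.fiber y)) :=
    (pushforward (f.fiberToSpecResidueField y)).map (pullbackUnitIso (f.fiberι y)).hom
  haveI : IsIso b := by
    dsimp only [b]
    infer_instance
  haveI qP : ((pushforward f).obj (Coh.structureModule X)).IsQuasicoherent :=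
    Groth.Agent.Helper4.QcohGlue.isQuasicoherent_pushforward _ _
  haveI qN : ((pullback (S.fromSpecResidueField y)).obj
      ((pushforward f).obj (Coh.structureModule X))).IsQuasicoherent :=
    Groth.Agent.Lead.StalkPull.isQuasicoherent_pullbackObj _ _
  haveI qT : ((pushforward (f.fiberToSpecResidueField y)).obj
      (Coh.structureModule (f.fiber y))).IsQuasicoherent :=
    Groth.Agent.Helper4.QcohGlue.isQuasicoherent_pushforward _ _
  set φ := bc ≫ b with hφdef
  -- `φ` is nonzero
  have hφ : φ ≠ 0 := by
    intro h0
    have hbc0 : bc = 0 := by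
      have : bc = φ ≫ inv b := by
        rw [hφdef]
        simp
      rw [this, h0]
      simp
    have hid := id_eq_zero_of_bc0_eq_zero f (S.fromSpecResidueField y)
      (f.fiberToSpecResidueField y) (f.fiberι y) (f.fiber_fac y) hbc0
    have hid' : 𝟙 (Coh.structureModule (f.fiber y)) = 0 := by
      have : 𝟙 (Coh.structureModule (f.fiber y)) =
          (pullbackUnitIso (f.fiberι y)).inv ≫
            𝟙 ((pullback (f.fiberι y)).obj (Coh.structureModule X)) ≫
            (pullbackUnitIso (f.fiberι y)).hom := by simp
      rw [this, hid]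
      simp
    have h10 := congrArg (fun ψ : Coh.structureModule (f.fiber y) ⟶
      Coh.structureModule (f.fiber y) => ψ.app ⊤ (show Γ(Coh.structureModule (f.fiber y), ⊤)
        from (1 : Γ(f.fiber y, ⊤)))) hid'
    exact one_ne_zero (α := Γ(f.fiber y, ⊤)) h10
  -- hence nonzero on some global section
  obtain ⟨n, hn⟩ : ∃ n, φ.app ⊤ n ≠ 0 := by
    by_contra hcon
    push Not at hcon
    apply hφ
    apply Groth.Agent.Helper1.AM.hom_ext_of_affine_cover φ 0 (fun V => V = ⊤)
    · rintro V rfl
      exact isAffineOpen_top _
    · intro x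
      exact ⟨⊤, rfl, trivial⟩
    · rintro V rfl s
      rw [hcon s]
      rfl
  set c : Γ(f.fiber y, ⊤) := φ.app ⊤ n with hcdef
  have hc : c ≠ 0 := hn
  obtain ⟨d, hd⟩ := hfield.mul_inv_cancel hc
  have hsurj : Function.Surjective (φ.app ⊤) := by
    intro m
    obtain ⟨r, hr⟩ := hbij'.2 ((show Γ(f.fiber y, ⊤) from m) * d)
    refine ⟨r • n, ?_⟩
    have h2 := Scheme.Modules.Hom.app_smul φ r n
    refine h2.trans ?_
    show (show Γ(f.fiber y, ⊤) from ((f.fiberToSpecResidueField y).app ⊤).hom r) * c = m
    rw [hr, mul_assoc, mul_comm d, hd, mul_one]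
  haveI : Epi φ := by
    apply Groth.Agent.Helper4.QcohLocal.epi_of_app_surjective_of_affine_cover
    intro x
    exact ⟨⊤, isAffineOpen_top _, trivial, hsurj⟩
  have : bc = φ ≫ inv b := by
    rw [hφdef]
    simp
  rw [this]
  infer_instance

end Groth.Agent.Helper1.UF
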