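import Groth.Agent.Helper1.UF5
import Groth.Agent.Helper9.Betti2
import Groth.Agent.Helper8.TildeBC
import Groth.Agent.Helper4.QAffSec

set_option autoImplicit false
set_option linter.style.haveILetI false
set_option linter.unusedSectionVars false
set_option linter.unusedVariables false

/-!
# Rank one: a free module isomorphic to `(f_s)_* O` over a field with `Γ(X_s, O) = κ(s)`
-/

namespace Groth.Agent.Helper1.UF

open CategoryTheory AlgebraicGeometry Opposite TopologicalSpace
  AlgebraicGeometry.Scheme.Modules
open Groth.Agent.Helper1.ZarIso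
open Groth.Agent.Helper4.PullUnit Groth.Agent.Helper9.Betti2

universe u

/-- a free module isomorphic to the direct image of the structure sheaf along a morphism inducing
a bijection on global functions, over a base whose global functions form a field, has rank one -/
theorem rank_eq_one {Y X' : Scheme.{u}} (fs : X' ⟶ Y) (hK : IsField (Coh.Γtop Y))
    (hbij : Function.Bijective (fs.app ⊤).hom) (n : ℕ)
    (θ : FlatMod.freeMod Y n ≅ (pushforward fs).obj (Coh.structureModule X')) : n = 1 := by
  haveI : Nontrivial (Coh.Γtop Y) := hK.nontrivial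
  let e1 : (Fin n → Coh.Γtop Y) ≃ₗ[Coh.Γtop Y]
      ((Γf Y).obj ((pushforward fs).obj (Coh.structureModule X'))) :=
    ((ΓfFreeIso Y n).symm ≪≫ (Γf Y).mapIso θ).toLinearEquiv
  let one : ((Γf Y).obj ((pushforward fs).obj (Coh.structureModule X'))) :=
    (show Γ((pushforward fs).obj (Coh.structureModule X'), ⊤) from (1 : Γ(X', ⊤)))
  let l : Coh.Γtop Y →ₗ[Coh.Γtop Y]
      ((Γf Y).obj ((pushforward fs).obj (Coh.structureModule X'))) :=
    LinearMap.toSpanSingleton _ _ one
  have hl : ∀ r : Coh.Γtop Y, (show Γ(X', ⊤) from l r) = (fs.app ⊤).hom r := by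
    intro r
    show (show Γ(X', ⊤) from (fs.app ⊤).hom r) * (1 : Γ(X', ⊤)) = _
    rw [mul_one]
  have hlbij : Function.Bijective l := by
    constructor
    · intro r r' hrr'
      apply hbij.1
      rw [← hl r, ← hl r', hrr']
    · intro m
      obtain ⟨r, hr⟩ := hbij.2 (show Γ(X', ⊤) from m)
      exact ⟨r, (hl r).trans hr⟩
  let e2 := LinearEquiv.ofBijective l hlbij
  have h1 := e1.finrank_eq
  have h2 := e2.finrank_eq
  have h3 : Module.finrank (Coh.Γtop Y) (Fin n → Coh.Γtop Y) = n := by
    letI := hK.toField
    exact Module.finrank_fin_fun (Coh.Γtop Y)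
  have h4 : Module.finrank (Coh.Γtop Y) (Coh.Γtop Y) = 1 := by
    letI := hK.toField
    exact Module.finrank_self (Coh.Γtop Y)
  rw [h3] at h1
  rw [h4] at h2
  omega

end Groth.Agent.Helper1.UF
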