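import Groth.Agent.Helper1.UF6
import Groth.Agent.Helper1.SCV24
import Groth.Agent.Helper2.RedBC1
import Groth.Agent.Lead.MeroY

set_option autoImplicit false
set_option linter.style.haveILetI false
set_option linter.unusedSectionVars false
set_option linter.unusedVariables false

/-!
# `Γ(X_s, O) = κ(s)` for all `s` gives `O_S = f_* O_X` for proper flat finitely presented `f`
-/

namespace Groth.Agent.Helper1.UF

open CategoryTheory AlgebraicGeometry Opposite TopologicalSpace
  AlgebraicGeometry.Scheme.Modules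
open Groth.Agent.Helper1.ZarIso Groth.Agent.Helper1.SCV Groth.Agent.Helper1.BaseChart
open Groth.Agent.Helper4.PullUnit Groth.Agent.Helper9.Betti2
open Groth.Agent.Helper4 Groth.Agent.Helper4.FinLocFree

universe u

variable {X S : Scheme.{u}} (f : X ⟶ S)

/-- transfer of bijectivity from the restriction over an open of the base -/
theorem bijective_app_of_restrict (V : S.Opens)
    (hV : ∀ V' : (V : Scheme.{u}).Opens, Function.Bijective ((f ∣_ V).app V').hom)
    (V₁ : S.Opens) (h : V₁ ≤ V) : Function.Bijective (f.app V₁).hom := by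
  have h1 := hV (V.ι ⁻¹ᵁ V₁)
  rw [morphismRestrict_app] at h1
  have e : V.ι ''ᵁ V.ι ⁻¹ᵁ V₁ = V₁ := by
    rw [Scheme.Hom.image_preimage_eq_opensRange_inf, Scheme.Opens.opensRange_ι]
    exact inf_eq_right.2 h
  have h2 : Function.Bijective (f.app (V.ι ''ᵁ V.ι ⁻¹ᵁ V₁)).hom := by
    have hiso : Function.Bijective (X.presheaf.map
        (eqToHom (image_morphismRestrict_preimage f V (V.ι ⁻¹ᵁ V₁))).op).hom :=
      ConcreteCategory.bijective_of_isIso _
    have h1' : Function.Bijective (⇑(X.presheaf.map
        (eqToHom (image_morphismRestrict_preimage f V (V.ι ⁻¹ᵁ V₁))).op).hom ∘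
        ⇑(f.app (V.ι ''ᵁ V.ι ⁻¹ᵁ V₁)).hom) := h1
    exact (Function.Bijective.of_comp_iff' hiso _).mp h1'
  rw [e] at h2
  exact h2

variable [QuasiCompact f] [QuasiSeparated f]

set_option maxHeartbeats 1600000 in
/-- if `f_* O_X` is free near `y`, commutes with base change to the fibre at `y` and to the
neighbourhood, and `Γ(X_y, O) = κ(y)`, then `O_S → f_* O_X` is bijective near `y` -/
theorem bijective_app_of_free_nhd (y : S) (hy : IsIso (f.fiberToSpecResidueField y).appTop)
    (V : S.Opens) (hyV : y ∈ V) (n : ℕ)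
    (e : ((pushforward f).obj (Coh.structureModule X)).restrict V.ι ≅
      FlatMod.freeMod (V : Scheme.{u}) n)
    (hbcy : IsIso (CohBC.bc0 f (S.fromSpecResidueField y) (f.fiberToSpecResidueField y)
      (f.fiberι y) (f.fiber_fac y) (Coh.structureModule X)))
    (hbcV : IsIso (CohBC.bc0 f V.ι (f ∣_ V) (f ⁻¹ᵁ V).ι
      (isPullback_morphismRestrict f V).flip.w (Coh.structureModule X)))
    (V₁ : S.Opens) (h : V₁ ≤ V) : Function.Bijective (f.app V₁).hom := by
  have hbij' : Function.Bijective ((f.fiberToSpecResidueField y).app ⊤).hom :=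
    (ConcreteCategory.isIso_iff_bijective _).mp hy
  have hfield0 : IsField Γ(Spec (S.residueField y), ⊤) :=
    (Scheme.ΓSpecIso (S.residueField y)).commRingCatIsoToRingEquiv.toMulEquiv.isField
      (Field.toIsField (S.residueField y))
  have hrange : Set.range (S.fromSpecResidueField y) ⊆ Set.range V.ι := by
    rw [Scheme.range_fromSpecResidueField, Scheme.Opens.range_ι]
    simpa using hyV
  let κ' := IsOpenImmersion.lift V.ι (S.fromSpecResidueField y) hrange
  have hκ' : κ' ≫ V.ι = S.fromSpecResidueField y := IsOpenImmersion.lift_fac _ _ _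
  let E := (pushforward f).obj (Coh.structureModule X)
  let θ : FlatMod.freeMod (Spec (S.residueField y)) n ≅
      (pushforward (f.fiberToSpecResidueField y)).obj (Coh.structureModule (f.fiber y)) :=
    (Groth.Agent.Helper8.TildeBC.pullbackFreeIso κ' n).symm ≪≫
    (Scheme.Modules.pullback κ').mapIso e.symm ≪≫
    (Scheme.Modules.pullback κ').mapIso ((restrictFunctorIsoPullback V.ι).app E) ≪≫
    (pullbackComp κ' V.ι).app E ≪≫ (pullbackCongr hκ').app E ≪≫
    asIso (CohBC.bc0 f (S.fromSpecResidueField y) (f.fiberToSpecResidueField y)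
      (f.fiberι y) (f.fiber_fac y) (Coh.structureModule X)) ≪≫
    (pushforward (f.fiberToSpecResidueField y)).mapIso (pullbackUnitIso (f.fiberι y))
  have hn : n = 1 := rank_eq_one (f.fiberToSpecResidueField y) hfield0 hbij' n θ
  subst hn
  let Φ : Coh.structureModule (V : Scheme.{u}) ⟶
      (pushforward (f ∣_ V)).obj (Coh.structureModule ((f ⁻¹ᵁ V : X.Opens) : Scheme.{u})) :=
    (Groth.Agent.Helper4.QAffSec.freeOneIso (V : Scheme.{u})).inv ≫ e.inv ≫
      ((restrictFunctorIsoPullback V.ι).app E).hom ≫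
      CohBC.bc0 f V.ι (f ∣_ V) (f ⁻¹ᵁ V).ι
        (isPullback_morphismRestrict f V).flip.w (Coh.structureModule X) ≫
      (pushforward (f ∣_ V)).map (pullbackUnitIso (f ⁻¹ᵁ V).ι).hom
  haveI : IsIso Φ := by
    dsimp only [Φ]
    infer_instance
  exact bijective_app_of_restrict f V (fun V' => bijective_app_of_isIso (f ∣_ V) Φ V') V₁ h

end Groth.Agent.Helper1.UF
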