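import Groth.Agent.Helper1.UGC9
import Groth.Agent.Helper1.CC1

set_option autoImplicit false
set_option linter.style.haveILetI false
set_option linter.unusedSectionVars false
set_option linter.unusedVariables false

/-!
# The ideal of a chart cutting out the locus where the direct image is locally free of rank `r`
and commutes with base change
-/

namespace Groth.Agent.Helper1.UGC

open CategoryTheory Limits Opposite TopologicalSpace AlgebraicGeometry TensorProduct
  AlgebraicGeometry.Scheme.Modules Topology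
open Groth.Agent.Helper1.BaseChart Groth.Agent.Helper1.GBC Groth.Agent.Helper1.HMap
open Groth.Agent.Lead.BCMap Groth.Agent.Helper1.FlatCx Groth.Agent.Helper1.NoethApx
open Groth.Agent.Helper1.BCFlatCoh Groth.Agent.Helper1 Groth.Agent.Helper1.SCV

universe u

section points

variable {S : Scheme.{u}} (W : S.Opens) [IsAffine (W : Scheme.{u})]

/-- membership in the prime ideal of a point of a chart, in terms of basic opens -/
lemma mem_chartPt_iff (s : S) (hs : s ∈ W) (a : AV W) :
    a ∈ (chartPt W s hs).asIdeal ↔ s ∉ S.basicOpen (tau W a) := by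
  rw [← primeIdealOf_top_eq_chartPt, IsAffineOpen.primeIdealOf_eq_map_closedPoint]
  have h1 : a ∈ (Spec.map ((W : Scheme.{u}).presheaf.germ ⊤ ⟨s, hs⟩ trivial)
      (IsLocalRing.closedPoint _)).asIdeal ↔
      ¬ IsUnit ((W : Scheme.{u}).presheaf.germ ⊤ ⟨s, hs⟩ trivial a) := by
    show ((W : Scheme.{u}).presheaf.germ ⊤ ⟨s, hs⟩ trivial).hom a ∈
      IsLocalRing.maximalIdeal _ ↔ _
    rw [IsLocalRing.mem_maximalIdeal, mem_nonunits_iff]
  rw [h1, ← Scheme.mem_basicOpen (W : Scheme.{u}) a ⟨s, hs⟩ trivial, not_iff_not]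
  have h2 := Scheme.Opens.ι_image_basicOpen' W a
  constructor
  · intro hx
    have : s ∈ W.ι ''ᵁ (W : Scheme.{u}).basicOpen a := ⟨⟨s, hs⟩, hx, rfl⟩
    rw [h2] at this
    exact this
  · intro hx
    have : s ∈ W.ι ''ᵁ (W : Scheme.{u}).basicOpen a := by
      rw [h2]
      exact hx
    obtain ⟨y, hy, hys⟩ := this
    have : y = ⟨s, hs⟩ := Subtype.ext hys
    rw [← this]
    exact hy

end points

variable {X S : Scheme.{u}} {f : X ⟶ S} {W : S.Opens} [IsAffine (W : Scheme.{u})]
  {F : X.Modules}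

/-- the ideal of the chart -/
noncomputable def ChartData.ideal (D : ChartData f W F) (r : ℕ) : Ideal Γ(S, W) :=
  ((J₁ D.L r).map D.ι).map (tau W)

lemma ChartData.ideal_fg (D : ChartData f W F) (r : ℕ) : (D.ideal r).FG :=
  ((J₁_fg D.L r D.ff).map D.ι).map (tau W)

lemma ChartData.ideal_le_iff (D : ChartData f W F) (r : ℕ) {B : Type u} [CommRing B]
    (φ : Γ(S, W) →+* B) :
    D.ideal r ≤ RingHom.ker φ ↔ (J₁ D.L r).map ((φ.comp (tau W)).comp D.ι) = ⊥ := by
  unfold ChartData.ideal
  rw [Ideal.map_le_iff_le_comap, Ideal.map_le_iff_le_comap, eq_bot_iff,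
    Ideal.map_le_iff_le_comap]
  constructor
  · intro h a ha
    have := h ha
    simpa [Ideal.mem_comap, RingHom.mem_ker] using this
  · intro h a ha
    have := h ha
    simpa [Ideal.mem_comap, RingHom.mem_ker] using this

/-- the rank of the fibre is at most `r` iff `J₂` is not contained in the prime of the point -/
lemma ChartData.fiberRank_le_iff (D : ChartData f W F) (r : ℕ) (s : S) (hs : s ∈ W) :
    CohIII.fiberRank f F 0 s ≤ r ↔
      ¬ J₂ D.L r ≤ (PrimeSpectrum.comap D.ι (chartPt W s hs)).asIdeal := by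
  rw [← dRank_le_iff D.L r D.ff]
  have h3 := D.betti s hs 0
  have h4 : (-((0 : ℕ) : ℤ)) = 0 := by norm_num
  rw [h4] at h3
  rw [← h3]
  rfl

/-- the rank of the fibre is at least `r` iff the point lies in the zero locus of the ideal of
the chart -/
lemma ChartData.le_fiberRank_iff (D : ChartData f W F) (r : ℕ) (s : S) (hs : s ∈ W) :
    r ≤ CohIII.fiberRank f F 0 s ↔ ∀ a ∈ D.ideal r, s ∉ S.basicOpen a := by
  have h3 := D.betti s hs 0
  have h4 : (-((0 : ℕ) : ℤ)) = 0 := by norm_num
  rw [h4] at h3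
  have h5 : r ≤ CohIII.fiberRank f F 0 s ↔
      J₁ D.L r ≤ (PrimeSpectrum.comap D.ι (chartPt W s hs)).asIdeal := by
    rw [← le_dRank_iff D.L r D.ff, ← h3]
    rfl
  rw [h5]
  -- the ideal of the point
  let P : Ideal Γ(S, W) := Ideal.comap (S.presheaf.germ W s hs).hom (IsLocalRing.maximalIdeal _)
  have hP : ∀ a : Γ(S, W), a ∈ P ↔ s ∉ S.basicOpen a := by
    intro a
    show (S.presheaf.germ W s hs).hom a ∈ IsLocalRing.maximalIdeal _ ↔ _
    rw [IsLocalRing.mem_maximalIdeal, mem_nonunits_iff, Scheme.mem_basicOpen S a s hs]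
  have h6 : (∀ a ∈ D.ideal r, s ∉ S.basicOpen a) ↔ D.ideal r ≤ P :=
    ⟨fun h a ha => (hP a).mpr (h a ha), fun h a ha => (hP a).mp (h ha)⟩
  rw [h6]
  unfold ChartData.ideal
  rw [Ideal.map_le_iff_le_comap, Ideal.map_le_iff_le_comap]
  constructor
  · intro h a ha
    have h7 : D.ι a ∈ (chartPt W s hs).asIdeal := h ha
    rw [mem_chartPt_iff] at h7
    exact (hP _).mpr h7
  · intro h a ha
    have h7 : tau W (D.ι a) ∈ P := h ha
    rw [hP] at h7
    show D.ι a ∈ (chartPt W s hs).asIdeal
    rw [mem_chartPt_iff]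
    exact h7

end Groth.Agent.Helper1.UGC
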