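import Groth.Agent.Helper1.UGC10

set_option autoImplicit false
set_option linter.style.haveILetI false
set_option linter.unusedSectionVars false
set_option linter.unusedVariables false

/-!
# The ideal of a chart: the universal property
-/

namespace Groth.Agent.Helper1.UGC

open CategoryTheory Limits Opposite TopologicalSpace AlgebraicGeometry TensorProduct
  AlgebraicGeometry.Scheme.Modules Topology
open Groth.Agent.Helper1.BaseChart Groth.Agent.Helper1.GBC Groth.Agent.Helper1.HMap
open Groth.Agent.Lead.BCMap Groth.Agent.Helper1.FlatCx Groth.Agent.Helper1.NoethApx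
open Groth.Agent.Helper1.BCFlatCoh Groth.Agent.Helper1 Groth.Agent.Helper1.SCV

universe u

variable {X S : Scheme.{u}} {f : X ⟶ S} {W : S.Opens} [IsAffine (W : Scheme.{u})]
  {F : X.Modules} [IsProper f] [LocallyOfFinitePresentation f] [Coh.IsQCoh F]

/-- over a chart contained in the locus where the rank of the fibres is at most `r`, the base
change of `J₂` is the unit ideal -/
lemma ChartData.map_J₂_eq_top (D : ChartData f W F) (r : ℕ)
    (hU : ∀ s ∈ W, CohIII.fiberRank f F 0 s ≤ r)
    {T : Scheme.{u}} (u : T ⟶ S) (W' : T.Opens) [IsAffine (W' : Scheme.{u})]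
    (e : W' ≤ u ⁻¹ᵁ W) : (J₂ D.L r).map (D.rho u W' e) = ⊤ := by
  by_contra hne
  obtain ⟨m, hm, hle⟩ := Ideal.exists_le_maximal _ hne
  obtain ⟨t, ht, hty⟩ := exists_eq_chartPt W' (⟨m, hm.isPrime⟩ : PrimeSpectrum (AV W'))
  have h1 := (D.fiberRank_le_iff r (u t) (e ht)).mp (hU _ (e ht))
  apply h1
  rw [← D.comap_rho u W' e t ht, hty]
  intro a ha
  exact hle (Ideal.mem_map_of_mem _ ha)

/-- the pair of charts: all points of `W'` are good of rank `r` iff the ideal of the chart `W`
vanishes on `W'` -/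
theorem ChartData.forall_ptGood_affine_iff (D : ChartData f W F) (r : ℕ)
    (hU : ∀ s ∈ W, CohIII.fiberRank f F 0 s ≤ r)
    {X' T : Scheme.{u}} (u : T ⟶ S) (f' : X' ⟶ T) (v : X' ⟶ X)
    (h : IsPullback v f' f u) (W' : T.Opens) [IsAffine (W' : Scheme.{u})]
    (e : W' ≤ u ⁻¹ᵁ W) :
    (∀ t ∈ W', PtGood f' ((Scheme.Modules.pullback v).obj F) r t) ↔
      D.ideal r ≤ RingHom.ker (u.appLE W W' e).hom := by
  rw [forall_ptGood_chart_iff D r u f' v h W' e, D.ideal_le_iff r]
  have h2 := D.map_J₂_eq_top r hU u W' e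
  letI := chartsAlgebra u W W' e
  have h3 : ((u.appLE W W' e).hom.comp (tau W)).comp D.ι = (tau W').comp (D.rho u W' e) := by
    ext a
    exact (tau_algebraMap u W W' e (D.ι a)).symm
  rw [h3, ← Ideal.map_map, Ideal.map_eq_bot_iff_of_injective (tau_bijective W').1]
  exact ⟨fun h => h.1, fun h => ⟨h, h2⟩⟩

/-- **the universal property of the ideal of a chart** -/
theorem ChartData.forall_ptGood_iff (D : ChartData f W F) (r : ℕ)
    (hU : ∀ s ∈ W, CohIII.fiberRank f F 0 s ≤ r)
    {X' T : Scheme.{u}} (u : T ⟶ S) (f' : X' ⟶ T) (v : X' ⟶ X)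
    (h : IsPullback v f' f u) (T₀ : T.Opens) (e : T₀ ≤ u ⁻¹ᵁ W) :
    (∀ t ∈ T₀, PtGood f' ((Scheme.Modules.pullback v).obj F) r t) ↔
      D.ideal r ≤ RingHom.ker (u.appLE W T₀ e).hom := by
  have hres : ∀ (W' : T.Opens) (hW' : W' ≤ T₀) (a : Γ(S, W)),
      (u.appLE W W' (hW'.trans e)).hom a =
        (T.presheaf.map (homOfLE hW').op).hom ((u.appLE W T₀ e).hom a) := by
    intro W' hW' a
    have := Scheme.Hom.appLE_map u e (homOfLE hW').op
    rw [← this]
    rfl
  constructor
  · intro hg a ha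
    rw [RingHom.mem_ker]
    apply Groth.Agent.Helper1.CC.eq_of_locally
    intro t ht
    obtain ⟨W', hW', htW', hW'T⟩ := exists_isAffineOpen_mem_and_subset (x := t) (U := T₀) ht
    haveI : IsAffine (W' : Scheme.{u}) := hW'
    refine ⟨W', hW'T, htW', ?_⟩
    have h1 := (D.forall_ptGood_affine_iff r hU u f' v h W' (hW'T.trans e)).mp
      (fun t ht => hg t (hW'T ht))
    have h2 := h1 ha
    rw [RingHom.mem_ker, hres W' hW'T a] at h2
    rw [Groth.Agent.Helper1.CC.ρ_def, Groth.Agent.Helper1.CC.ρ_def, h2]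
    exact (map_zero _).symm
  · intro hle t ht
    obtain ⟨W', hW', htW', hW'T⟩ := exists_isAffineOpen_mem_and_subset (x := t) (U := T₀) ht
    haveI : IsAffine (W' : Scheme.{u}) := hW'
    refine (D.forall_ptGood_affine_iff r hU u f' v h W' (hW'T.trans e)).mpr ?_ t htW'
    intro a ha
    have h1 := hle ha
    rw [RingHom.mem_ker] at h1 ⊢
    rw [hres W' hW'T a, h1, map_zero]

end Groth.Agent.Helper1.UGC
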