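import Groth.Agent.Helper1.UGC11
import Groth.Agent.Helper1.Fl2
import Groth.Agent.Lead.FlatBC2
import Groth.Agent.Lead.LimPres

set_option autoImplicit false
set_option linter.style.haveILetI false
set_option linter.unusedSectionVars false
set_option linter.unusedVariables false

/-!
# The ideal of a chart is intrinsic
-/

namespace Groth.Agent.Helper1.UGC

open CategoryTheory Limits Opposite TopologicalSpace AlgebraicGeometry TensorProduct
  AlgebraicGeometry.Scheme.Modules Topology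
open Groth.Agent.Helper1.BaseChart Groth.Agent.Helper1.GBC Groth.Agent.Helper1.HMap
open Groth.Agent.Lead.BCMap Groth.Agent.Helper1.FlatCx Groth.Agent.Helper1.NoethApx
open Groth.Agent.Helper1.BCFlatCoh Groth.Agent.Helper1 Groth.Agent.Helper1.SCV

universe u

variable {X S : Scheme.{u}} (f : X ⟶ S) (F : X.Modules) (r : ℕ)

/-- the ideal `I` of the functions on the open `W` of the base cuts out the locus of good points
of rank `r`, for all base changes of `f` -/
structure IsChartIdeal (W : S.Opens) (I : Ideal Γ(S, W)) : Prop where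
  iff : ∀ {X' T : Scheme.{u}} (u : T ⟶ S) (f' : X' ⟶ T) (v : X' ⟶ X) (_ : IsPullback v f' f u)
    (T₀ : T.Opens) (e : T₀ ≤ u ⁻¹ᵁ W),
    (∀ t ∈ T₀, PtGood f' ((Scheme.Modules.pullback v).obj F) r t) ↔
      I ≤ RingHom.ker (u.appLE W T₀ e).hom

variable {f F r}

/-- restriction of the ideal of a chart to a smaller open -/
theorem IsChartIdeal.restrict {W₁ W₂ : S.Opens} (hle : W₁ ≤ W₂) {I : Ideal Γ(S, W₂)}
    (hI : IsChartIdeal f F r W₂ I) :
    IsChartIdeal f F r W₁ (I.map (S.presheaf.map (homOfLE hle).op).hom) := by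
  refine ⟨fun {X' T} u f' v h T₀ e => ?_⟩
  have e₂ : T₀ ≤ u ⁻¹ᵁ W₂ := e.trans (u.preimage_mono hle)
  rw [hI.iff u f' v h T₀ e₂, Ideal.map_le_iff_le_comap, RingHom.comap_ker]
  have h1 : (u.appLE W₁ T₀ e).hom.comp (S.presheaf.map (homOfLE hle).op).hom =
      (u.appLE W₂ T₀ e₂).hom := by
    rw [← CommRingCat.hom_comp, Scheme.Hom.map_appLE]
  rw [h1]

variable [IsProper f] [LocallyOfFinitePresentation f] [Coh.IsQCoh F]

/-- the ideal of the chart data is an ideal of the chart -/
theorem ChartData.isChartIdeal {W : S.Opens} [IsAffine (W : Scheme.{u})] (D : ChartData f W F)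
    (hU : ∀ s ∈ W, CohIII.fiberRank f F 0 s ≤ r) : IsChartIdeal f F r W (D.ideal r) :=
  ⟨fun u f' v h T₀ e => D.forall_ptGood_iff r hU u f' v h T₀ e⟩

/-- the ideal of a chart is unique -/
theorem IsChartIdeal.unique {W : S.Opens} (hW : IsAffineOpen W) {I I' : Ideal Γ(S, W)}
    (hI : IsChartIdeal f F r W I) (hI' : IsChartIdeal f F r W I') : I = I' := by
  have key : ∀ {J J' : Ideal Γ(S, W)}, IsChartIdeal f F r W J → IsChartIdeal f F r W J' →
      J' ≤ J := by
    intro J J' hJ hJ'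
    let φ : Γ(S, W) ⟶ CommRingCat.of (Γ(S, W) ⧸ J) := CommRingCat.ofHom (Ideal.Quotient.mk J)
    let u : Spec (CommRingCat.of (Γ(S, W) ⧸ J)) ⟶ S := Spec.map φ ≫ hW.fromSpec
    have e : (⊤ : (Spec (CommRingCat.of (Γ(S, W) ⧸ J))).Opens) ≤ u ⁻¹ᵁ W := by
      intro x _
      show hW.fromSpec ((Spec.map φ) x) ∈ W
      have : hW.fromSpec ((Spec.map φ) x) ∈ Set.range hW.fromSpec := ⟨_, rfl⟩
      rw [hW.range_fromSpec] at this
      exact this
    have happ : u.appLE W ⊤ e = φ ≫ (Scheme.ΓSpecIso _).inv :=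
      Groth.Agent.Helper1.GMFl.appLE_specMap_fromSpec hW φ e
    have hker : RingHom.ker (u.appLE W ⊤ e).hom = J := by
      rw [happ]
      ext a
      rw [RingHom.mem_ker]
      have hinj : Function.Injective (Scheme.ΓSpecIso (CommRingCat.of (Γ(S, W) ⧸ J))).inv.hom :=
        (ConcreteCategory.bijective_of_isIso (Scheme.ΓSpecIso _).inv).1
      show (Scheme.ΓSpecIso (CommRingCat.of (Γ(S, W) ⧸ J))).inv.hom
        ((Ideal.Quotient.mk J a : Γ(S, W) ⧸ J)) = 0 ↔ _
      rw [← map_zero (Scheme.ΓSpecIso (CommRingCat.of (Γ(S, W) ⧸ J))).inv.hom, hinj.eq_iff,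
        Ideal.Quotient.eq_zero_iff_mem]
    have hpb := IsPullback.of_hasPullback f u
    have h1 := (hJ.iff u _ _ hpb ⊤ e).mpr (by rw [hker])
    have h2 := (hJ'.iff u _ _ hpb ⊤ e).mp h1
    rw [hker] at h2
    exact h2
  exact le_antisymm (key hI' hI) (key hI hI')

end Groth.Agent.Helper1.UGC
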