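import Groth.Agent.Helper1.UGC12

set_option autoImplicit false
set_option linter.style.haveILetI false
set_option linter.unusedSectionVars false
set_option linter.unusedVariables false

/-!
# The ideal sheaf on the open locus where the rank of the fibres is at most `r`
-/

namespace Groth.Agent.Helper1.UGC

open CategoryTheory Limits Opposite TopologicalSpace AlgebraicGeometry TensorProduct
  AlgebraicGeometry.Scheme.Modules Topology
open Groth.Agent.Helper1.BaseChart Groth.Agent.Helper1.GBC Groth.Agent.Helper1.HMap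
open Groth.Agent.Lead.BCMap Groth.Agent.Helper1.FlatCx Groth.Agent.Helper1.NoethApx
open Groth.Agent.Helper1.BCFlatCoh Groth.Agent.Helper1 Groth.Agent.Helper1.SCV

universe u

variable {X S : Scheme.{u}} (f : X ⟶ S) [IsProper f] [LocallyOfFinitePresentation f]
  (F : X.Modules) [Coh.IsQCoh F] (hF : CohB1.IsFP F) (hfl : FlatMod.IsFlatOver f F) (r : ℕ)
  (U : S.Opens) (hU : ∀ s, s ∈ U ↔ CohIII.fiberRank f F 0 s ≤ r)

include hF hfl hU in
/-- every affine open contained in `U` has a finitely generated chart ideal, whose zero locus is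
the locus where the rank of the fibres is `r` -/
theorem exists_chartIdeal (W : S.Opens) (hW : IsAffineOpen W) (hWU : W ≤ U) :
    ∃ I : Ideal Γ(S, W), I.FG ∧ IsChartIdeal f F r W I ∧
      ∀ s ∈ W, (r ≤ CohIII.fiberRank f F 0 s ↔ ∀ a ∈ I, s ∉ S.basicOpen a) := by
  haveI : IsAffine (W : Scheme.{u}) := hW
  obtain ⟨D⟩ := nonempty_chartData f W F hF hfl
  exact ⟨D.ideal r, D.ideal_fg r, D.isChartIdeal (fun s hs => (hU s).mp (hWU hs)),
    fun s hs => D.le_fiberRank_iff r s hs⟩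

include hF hfl hU in
/-- **the ideal sheaf** on `U` cutting out the locus of good points of rank `r` -/
theorem exists_idealSheaf :
    ∃ 𝓘 : (U : Scheme.{u}).IdealSheafData, (∀ V : (U : Scheme.{u}).affineOpens,
      (𝓘.ideal V).FG ∧
      IsChartIdeal f F r (U.ι ''ᵁ V.1) (show Ideal Γ(S, U.ι ''ᵁ V.1) from 𝓘.ideal V) ∧
      ∀ s ∈ U.ι ''ᵁ V.1, (r ≤ CohIII.fiberRank f F 0 s ↔
        ∀ a ∈ (show Ideal Γ(S, U.ι ''ᵁ V.1) from 𝓘.ideal V), s ∉ S.basicOpen a)) := by
  have hle : ∀ V : (U : Scheme.{u}).Opens, U.ι ''ᵁ V ≤ U := by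
    rintro V _ ⟨x, -, rfl⟩
    exact x.2
  have haff : ∀ V : (U : Scheme.{u}).affineOpens, IsAffineOpen (U.ι ''ᵁ V.1) :=
    fun V => V.2.image_of_isOpenImmersion U.ι
  choose I hIfg hIc hIz using fun V : (U : Scheme.{u}).affineOpens =>
    exists_chartIdeal f F hF hfl r U hU (U.ι ''ᵁ V.1) (haff V) (hle V.1)
  refine ⟨⟨fun V => I V, ?_, _, rfl⟩, fun V => ⟨hIfg V, hIc V, hIz V⟩⟩
  intro V a
  have hle' : U.ι ''ᵁ ((U : Scheme.{u}).affineBasicOpen a).1 ≤ U.ι ''ᵁ V.1 :=
    (U.ι.image_mono ((U : Scheme.{u}).basicOpen_le a))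
  have h1 := (hIc V).restrict hle'
  have h2 := hIc ((U : Scheme.{u}).affineBasicOpen a)
  exact IsChartIdeal.unique (haff _) h1 h2

end Groth.Agent.Helper1.UGC
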