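import Groth.Agent.Helper1.UGC13
import Groth.Agent.Helper1.BaseChart12
import Groth.Agent.Helper1.NoethApx5

set_option autoImplicit false
set_option linter.style.haveILetI false
set_option linter.unusedSectionVars false
set_option linter.unusedVariables false

/-!
# The open locus where the rank of the fibres is at most `r` is retrocompact
-/

namespace Groth.Agent.Helper1.UGC

open CategoryTheory Limits Opposite TopologicalSpace AlgebraicGeometry TensorProduct
  AlgebraicGeometry.Scheme.Modules Topology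
open Groth.Agent.Helper1.BaseChart Groth.Agent.Helper1.GBC Groth.Agent.Helper1.HMap
open Groth.Agent.Lead.BCMap Groth.Agent.Helper1.FlatCx Groth.Agent.Helper1.NoethApx
open Groth.Agent.Helper1.BCFlatCoh Groth.Agent.Helper1 Groth.Agent.Helper1.SCV

universe u

variable {X S : Scheme.{u}} (f : X ⟶ S) [IsProper f] [LocallyOfFinitePresentation f]
  (F : X.Modules) [Coh.IsQCoh F] (hF : CohB1.IsFP F) (hfl : FlatMod.IsFlatOver f F) (r : ℕ)

include hF hfl in
/-- the locus where the rank of the fibres is at most `r` is open -/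
theorem isOpen_fiberRank_le : IsOpen {s : S | CohIII.fiberRank f F 0 s ≤ r} := by
  have h := isOpen_betti_lt f F hF hfl 0 (r + 1)
  have : {s : S | CohIII.fiberRank f F 0 s ≤ r} = {s : S | PerfAux.betti f F s 0 < r + 1} := by
    ext s
    exact Nat.lt_succ_iff.symm
  rw [this]
  exact h

include hF hfl in
/-- the intersection of the locus where the rank of the fibres is at most `r` with an affine
open is quasi-compact -/
theorem isCompact_fiberRank_le_inter (W : S.Opens) (hW : IsAffineOpen W) :
    IsCompact ({s : S | CohIII.fiberRank f F 0 s ≤ r} ∩ (W : Set S)) := by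
  haveI : IsAffine (W : Scheme.{u}) := hW
  obtain ⟨D⟩ := nonempty_chartData f W F hF hfl
  let J : Ideal (AV W) := (J₂ D.L r).map D.ι
  have hJ : J.FG := (J₂_fg D.L r D.ff).map D.ι
  let O : Set (PrimeSpectrum (AV W)) := (PrimeSpectrum.zeroLocus (J : Set (AV W)))ᶜ
  have hO : IsCompact O := (PrimeSpectrum.isCompact_isOpen_iff_ideal.mpr ⟨J, hJ, rfl⟩).1
  have hmem : ∀ (s : S) (hs : s ∈ W), CohIII.fiberRank f F 0 s ≤ r ↔ chartPt W s hs ∈ O := by
    intro s hs
    rw [D.fiberRank_le_iff r s hs]
    show _ ↔ ¬ (chartPt W s hs ∈ PrimeSpectrum.zeroLocus (J : Set (AV W)))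
    rw [PrimeSpectrum.mem_zeroLocus, SetLike.coe_subset_coe]
    show _ ↔ ¬ (Ideal.map D.ι (J₂ D.L r) ≤ (chartPt W s hs).asIdeal)
    rw [Ideal.map_le_iff_le_comap]
    rfl
  have himg : {s : S | CohIII.fiberRank f F 0 s ≤ r} ∩ (W : Set S) = chartInv W '' O := by
    ext s
    constructor
    · rintro ⟨hs1, hs2⟩
      refine ⟨chartPt W s hs2, (hmem s hs2).mp hs1, ?_⟩
      show ((W : Scheme.{u}).isoSpec.inv ((W : Scheme.{u}).isoSpec.hom ⟨s, hs2⟩)).1 = s
      rw [← Scheme.Hom.comp_apply, Iso.hom_inv_id]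
      rfl
    · rintro ⟨x, hx, rfl⟩
      refine ⟨?_, chartInv_mem W x⟩
      show CohIII.fiberRank f F 0 (chartInv W x) ≤ r
      rw [hmem _ (chartInv_mem W x), chartPt_chartInv]
      exact hx
  rw [himg]
  exact hO.image (continuous_chartInv W)

include hF hfl in
/-- the inclusion of the locus where the rank of the fibres is at most `r` is quasi-compact -/
theorem quasiCompact_ι_of_fiberRank_le (U : S.Opens)
    (hU : ∀ s, s ∈ U ↔ CohIII.fiberRank f F 0 s ≤ r) : QuasiCompact U.ι := by
  rw [quasiCompact_iff_forall_isAffineOpen]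
  intro W hW
  have h1 := isCompact_fiberRank_le_inter f F hF hfl r W hW
  have h2 : (U.ι ⁻¹ᵁ W : Set (U : Scheme.{u})) =
      Subtype.val ⁻¹' ({s : S | CohIII.fiberRank f F 0 s ≤ r} ∩ (W : Set S)) := by
    ext x
    constructor
    · intro hx
      exact ⟨(hU x.1).mp x.2, hx⟩
    · intro hx
      exact hx.2
  rw [h2]
  have hemb : Topology.IsEmbedding (Subtype.val : ((U : Set S) : Type u) → S) :=
    Topology.IsEmbedding.subtypeVal
  apply hemb.isCompact_preimage_iff ?_ |>.mpr h1
  rintro s ⟨hs, -⟩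
  exact ⟨⟨s, (hU s).mpr hs⟩, rfl⟩

end Groth.Agent.Helper1.UGC
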