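import Groth.Agent.Helper1.UGC14
import Groth.Agent.Lead.FittStrat
import Groth.Agent.Lead.IdealFG

set_option autoImplicit false
set_option linter.style.haveILetI false
set_option linter.unusedSectionVars false
set_option linter.unusedVariables false

/-!
# The universal immersion for "the direct image is locally free of rank `r` and commutes with
base change"
-/

namespace Groth.Agent.Helper1.UGC

open CategoryTheory Limits Opposite TopologicalSpace AlgebraicGeometry TensorProduct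
  AlgebraicGeometry.Scheme.Modules Topology
open Groth.Agent.Helper1.BaseChart Groth.Agent.Helper1.GBC Groth.Agent.Helper1.HMap
open Groth.Agent.Lead.BCMap Groth.Agent.Helper1.FlatCx Groth.Agent.Helper1.NoethApx
open Groth.Agent.Helper1.BCFlatCoh Groth.Agent.Helper1 Groth.Agent.Helper1.SCV

universe u

/-- sections of a morphism factoring through an open subscheme -/
lemma appLE_comp_ι {T S : Scheme.{u}} (U : S.Opens) (w : T ⟶ (U : Scheme.{u}))
    (V : (U : Scheme.{u}).Opens)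
    (e : w ⁻¹ᵁ V ≤ (w ≫ U.ι) ⁻¹ᵁ (U.ι ''ᵁ V)) :
    (w ≫ U.ι).appLE (U.ι ''ᵁ V) (w ⁻¹ᵁ V) e = w.app V := by
  rw [Scheme.Hom.comp_appLE, Scheme.Hom.app_eq_appLE (f := w)]
  have h1 : U.ι ⁻¹ᵁ (U.ι ''ᵁ V) = V := U.ι.preimage_image_eq V
  have h2 : U.ι.app (U.ι ''ᵁ V) = (U : Scheme.{u}).presheaf.map (eqToHom h1).op := by
    rw [Scheme.Opens.ι_app]
    rfl
  rw [h2]
  exact Scheme.Hom.map_appLE w _ _

variable {X S : Scheme.{u}} (f : X ⟶ S) [IsProper f] [LocallyOfFinitePresentation f]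
  (F : X.Modules) [Coh.IsQCoh F] (hF : CohB1.IsFP F) (hfl : FlatMod.IsFlatOver f F) (r : ℕ)

/-- the core of the universal property -/
theorem forall_ideal_le_ker_iff (U : S.Opens) (𝓘 : (U : Scheme.{u}).IdealSheafData)
    (h𝓘 : ∀ V : (U : Scheme.{u}).affineOpens,
      IsChartIdeal f F r (U.ι ''ᵁ V.1) (show Ideal Γ(S, U.ι ''ᵁ V.1) from 𝓘.ideal V))
    {X' T : Scheme.{u}} (u : T ⟶ S) (w : T ⟶ (U : Scheme.{u})) (hw : w ≫ U.ι = u)
    (f' : X' ⟶ T) (v : X' ⟶ X) (h : IsPullback v f' f u) :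
    (∀ V : (U : Scheme.{u}).affineOpens, 𝓘.ideal V ≤ RingHom.ker (w.app V.1).hom) ↔
      ∀ t : T, PtGood f' ((Scheme.Modules.pullback v).obj F) r t := by
  subst hw
  have e : ∀ V : (U : Scheme.{u}).Opens, w ⁻¹ᵁ V ≤ (w ≫ U.ι) ⁻¹ᵁ (U.ι ''ᵁ V) := by
    intro V t ht
    exact ⟨w t, ht, rfl⟩
  constructor
  · intro hyp t
    obtain ⟨V, hV, htV, -⟩ := exists_isAffineOpen_mem_and_subset (x := w t)
      (U := (⊤ : (U : Scheme.{u}).Opens)) trivial
    refine ((h𝓘 ⟨V, hV⟩).iff (w ≫ U.ι) f' v h (w ⁻¹ᵁ V) (e V)).mpr ?_ t htV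
    rw [appLE_comp_ι U w V (e V)]
    exact hyp ⟨V, hV⟩
  · intro hg V
    have h1 := ((h𝓘 V).iff (w ≫ U.ι) f' v h (w ⁻¹ᵁ V.1) (e V.1)).mp (fun t _ => hg t)
    rw [appLE_comp_ι U w V.1 (e V.1)] at h1
    exact h1

include hF hfl in
/-- **the universal immersion**: there is an immersion of finite presentation `Z → S` such that
`T → S` factors through it iff all points of `T` are good of rank `r` for the base change of `f`
to `T`; its image is the locus where the rank of the fibres is `r` -/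
theorem exists_universal_immersion :
    ∃ (Z : Scheme.{u}) (ι : Z ⟶ S), IsImmersion ι ∧ LocallyOfFinitePresentation ι ∧
      QuasiCompact ι ∧
      (∀ (T : Scheme.{u}) (u : T ⟶ S), (∃ u' : T ⟶ Z, u' ≫ ι = u) ↔
        ∀ t : T, PtGood (Limits.pullback.snd f u)
          ((Scheme.Modules.pullback (Limits.pullback.fst f u)).obj F) r t) ∧
      Set.range ι = {s : S | CohIII.fiberRank f F 0 s = r} := by
  let U : S.Opens := ⟨{s | CohIII.fiberRank f F 0 s ≤ r}, isOpen_fiberRank_le f F hF hfl r⟩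
  have hU : ∀ s, s ∈ U ↔ CohIII.fiberRank f F 0 s ≤ r := fun s => Iff.rfl
  obtain ⟨𝓘, h𝓘⟩ := exists_idealSheaf f F hF hfl r U hU
  haveI := quasiCompact_ι_of_fiberRank_le f F hF hfl r U hU
  haveI : LocallyOfFinitePresentation 𝓘.subschemeι :=
    Groth.Agent.Lead.IdealFG.lfp_subschemeι 𝓘 (fun V => (h𝓘 V).1)
  refine ⟨𝓘.subscheme, 𝓘.subschemeι ≫ U.ι, inferInstance, inferInstance, inferInstance, ?_, ?_⟩
  · intro T u
    have hpb := IsPullback.of_hasPullback f u
    constructor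
    · rintro ⟨u', hu'⟩
      have hw : (u' ≫ 𝓘.subschemeι) ≫ U.ι = u := by rw [Category.assoc]; exact hu'
      refine (forall_ideal_le_ker_iff f F r U 𝓘 (fun V => (h𝓘 V).2.1) u (u' ≫ 𝓘.subschemeι) hw
        _ _ hpb).mp ?_
      intro V a ha
      have h1 : a ∈ RingHom.ker (𝓘.subschemeι.app V.1).hom := by
        rw [𝓘.ker_subschemeι_app V]
        exact ha
      rw [RingHom.mem_ker] at h1
      rw [RingHom.mem_ker]
      have h0 : (u' ≫ 𝓘.subschemeι).app V.1 =
          𝓘.subschemeι.app V.1 ≫ u'.app (𝓘.subschemeι ⁻¹ᵁ V.1) := Scheme.Hom.comp_app _ _ _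
      rw [h0]
      show (u'.app (𝓘.subschemeι ⁻¹ᵁ V.1)).hom ((𝓘.subschemeι.app V.1).hom a) = 0
      rw [h1, map_zero]
    · intro hg
      have hr : ∀ t : T, u t ∈ U := by
        intro t
        have h1 := fiberRank_pullback F hF hfl u _ _ hpb t 0
        have h2 := (hg t).2
        rw [hU, ← h1, h2]
      have hrange : Set.range u ⊆ Set.range U.ι := by
        rintro _ ⟨t, rfl⟩
        rw [Scheme.Opens.range_ι]
        exact hr t
      let w : T ⟶ (U : Scheme.{u}) := IsOpenImmersion.lift U.ι u hrange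
      have hw : w ≫ U.ι = u := IsOpenImmersion.lift_fac U.ι u hrange
      have h1 := (forall_ideal_le_ker_iff f F r U 𝓘 (fun V => (h𝓘 V).2.1) u w hw _ _ hpb).mpr hg
      have h2 : 𝓘 ≤ w.ker := Scheme.IdealSheafData.le_ofIdeals_iff.mpr h1
      have h3 : 𝓘.comap w = ⊥ := by
        rw [eq_bot_iff, ← Scheme.IdealSheafData.le_map_iff_comap_le,
          Scheme.IdealSheafData.map_bot]
        exact h2
      obtain ⟨g, hg'⟩ := (Groth.Agent.Lead.FittStrat.exists_lift_iff 𝓘 w).mpr h3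
      exact ⟨g, by rw [← Category.assoc, hg', hw]⟩
  · ext s
    have hsupp : ∀ x : (U : Scheme.{u}), x ∈ 𝓘.support ↔ r ≤ CohIII.fiberRank f F 0 x.1 := by
      intro x
      obtain ⟨V, hV, hxV, -⟩ := exists_isAffineOpen_mem_and_subset (x := x)
        (U := (⊤ : (U : Scheme.{u}).Opens)) trivial
      have hs : x.1 ∈ U.ι ''ᵁ V := ⟨x, hxV, rfl⟩
      rw [Scheme.IdealSheafData.mem_support_iff_of_mem (U := ⟨V, hV⟩) hxV,
        Scheme.mem_zeroLocus_iff, (h𝓘 ⟨V, hV⟩).2.2 x.1 hs]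
      constructor
      · intro h a ha hmem
        exact h a ha (Scheme.Opens.mem_basicOpen_toScheme.mpr hmem)
      · intro h a ha hmem
        exact h a ha (Scheme.Opens.mem_basicOpen_toScheme.mp hmem)
    constructor
    · rintro ⟨z, rfl⟩
      have hx : 𝓘.subschemeι z ∈ 𝓘.support := by
        have h0 : 𝓘.subschemeι z ∈ Set.range 𝓘.subschemeι := ⟨z, rfl⟩
        rw [𝓘.range_subschemeι] at h0
        exact h0
      have h1 := (hsupp _).mp hx
      have h2 : CohIII.fiberRank f F 0 (𝓘.subschemeι z).1 ≤ r := (𝓘.subschemeι z).2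
      exact le_antisymm h2 h1
    · intro hs
      have hs' : CohIII.fiberRank f F 0 s = r := hs
      have hsU : s ∈ U := (hU s).mpr hs'.le
      have hx : (⟨s, hsU⟩ : (U : Scheme.{u})) ∈ 𝓘.support := (hsupp _).mpr hs'.ge
      have hx' : (⟨s, hsU⟩ : (U : Scheme.{u})) ∈ Set.range 𝓘.subschemeι := by
        rw [𝓘.range_subschemeι]
        exact hx
      obtain ⟨z, hz⟩ := hx'
      refine ⟨z, ?_⟩
      rw [Scheme.Hom.comp_apply, hz]
      rfl

end Groth.Agent.Helper1.UGC
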