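import Groth.Agent.Helper1.UGC15

set_option autoImplicit false
set_option linter.style.haveILetI false
set_option linter.unusedSectionVars false
set_option linter.unusedVariables false

/-!
# The universal immersion, with the universal property for arbitrary cartesian squares
-/

namespace Groth.Agent.Helper1.UGC

open CategoryTheory Limits Opposite TopologicalSpace AlgebraicGeometry TensorProduct
  AlgebraicGeometry.Scheme.Modules Topology
open Groth.Agent.Helper1.BaseChart Groth.Agent.Helper1.GBC Groth.Agent.Helper1.HMap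
open Groth.Agent.Lead.BCMap Groth.Agent.Helper1.FlatCx Groth.Agent.Helper1.NoethApx
open Groth.Agent.Helper1.BCFlatCoh Groth.Agent.Helper1 Groth.Agent.Helper1.SCV

universe u

variable {X S : Scheme.{u}} (f : X ⟶ S) [IsProper f] [LocallyOfFinitePresentation f]
  (F : X.Modules) [Coh.IsQCoh F] (hF : CohB1.IsFP F) (hfl : FlatMod.IsFlatOver f F) (r : ℕ)

include hF hfl in
/-- **the universal immersion**: there is an immersion of finite presentation `Z → S` such that
`T → S` factors through it iff all points of `T` are good of rank `r` for the base change of `f`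
to `T`; its image is the locus where the rank of the fibres is `r` -/
theorem exists_universal_immersion' :
    ∃ (Z : Scheme.{u}) (ι : Z ⟶ S), IsImmersion ι ∧ LocallyOfFinitePresentation ι ∧
      QuasiCompact ι ∧
      (∀ {X' T : Scheme.{u}} (u : T ⟶ S) (f' : X' ⟶ T) (v : X' ⟶ X) (_ : IsPullback v f' f u),
        (∃ u' : T ⟶ Z, u' ≫ ι = u) ↔
          ∀ t : T, PtGood f' ((Scheme.Modules.pullback v).obj F) r t) ∧
      Set.range ι = {s : S | CohIII.fiberRank f F 0 s = r} := by
  let U : S.Opens := ⟨{s | CohIII.fiberRank f F 0 s ≤ r}, isOpen_fiberRank_le f F hF hfl r⟩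
  have hU : ∀ s, s ∈ U ↔ CohIII.fiberRank f F 0 s ≤ r := fun s => Iff.rfl
  obtain ⟨𝓘, h𝓘⟩ := exists_idealSheaf f F hF hfl r U hU
  haveI := quasiCompact_ι_of_fiberRank_le f F hF hfl r U hU
  haveI : LocallyOfFinitePresentation 𝓘.subschemeι :=
    Groth.Agent.Lead.IdealFG.lfp_subschemeι 𝓘 (fun V => (h𝓘 V).1)
  refine ⟨𝓘.subscheme, 𝓘.subschemeι ≫ U.ι, inferInstance, inferInstance, inferInstance, ?_, ?_⟩
  · intro X' T u f' v hpb
    constructor
    · rintro ⟨u', hu'⟩
      have hw : (u' ≫ 𝓘.subschemeι) ≫ U.ι = u := by rw [Category.assoc]; exact hu'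
      refine (forall_ideal_le_ker_iff f F r U 𝓘 (fun V => (h𝓘 V).2.1) u (u' ≫ 𝓘.subschemeι) hw
        _ _ hpb).mp ?_
      intro V a ha
      have h1 : a ∈ RingHom.ker (𝓘.subschemeι.app V.1).hom := by
        rw [𝓘.ker_subschemeι_app V]
        exact ha
      rw [RingHom.mem_ker] at h1
      rw [RingHom.mem_ker]
      have h0 : (u' ≫ 𝓘.subschemeι).app V.1 =
          𝓘.subschemeι.app V.1 ≫ u'.app (𝓘.subschemeι ⁻¹ᵁ V.1) := Scheme.Hom.comp_app _ _ _
      rw [h0]
      show (u'.app (𝓘.subschemeι ⁻¹ᵁ V.1)).hom ((𝓘.subschemeι.app V.1).hom a) = 0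
      rw [h1, map_zero]
    · intro hg
      have hr : ∀ t : T, u t ∈ U := by
        intro t
        have h1 := fiberRank_pullback F hF hfl u _ _ hpb t 0
        have h2 := (hg t).2
        rw [hU, ← h1, h2]
      have hrange : Set.range u ⊆ Set.range U.ι := by
        rintro _ ⟨t, rfl⟩
        rw [Scheme.Opens.range_ι]
        exact hr t
      let w : T ⟶ (U : Scheme.{u}) := IsOpenImmersion.lift U.ι u hrange
      have hw : w ≫ U.ι = u := IsOpenImmersion.lift_fac U.ι u hrange
      have h1 := (forall_ideal_le_ker_iff f F r U 𝓘 (fun V => (h𝓘 V).2.1) u w hw _ _ hpb).mpr hg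
      have h2 : 𝓘 ≤ w.ker := Scheme.IdealSheafData.le_ofIdeals_iff.mpr h1
      have h3 : 𝓘.comap w = ⊥ := by
        rw [eq_bot_iff, ← Scheme.IdealSheafData.le_map_iff_comap_le,
          Scheme.IdealSheafData.map_bot]
        exact h2
      obtain ⟨g, hg'⟩ := (Groth.Agent.Lead.FittStrat.exists_lift_iff 𝓘 w).mpr h3
      exact ⟨g, by rw [← Category.assoc, hg', hw]⟩
  · ext s
    have hsupp : ∀ x : (U : Scheme.{u}), x ∈ 𝓘.support ↔ r ≤ CohIII.fiberRank f F 0 x.1 := by
      intro x
      obtain ⟨V, hV, hxV, -⟩ := exists_isAffineOpen_mem_and_subset (x := x)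
        (U := (⊤ : (U : Scheme.{u}).Opens)) trivial
      have hs : x.1 ∈ U.ι ''ᵁ V := ⟨x, hxV, rfl⟩
      rw [Scheme.IdealSheafData.mem_support_iff_of_mem (U := ⟨V, hV⟩) hxV,
        Scheme.mem_zeroLocus_iff, (h𝓘 ⟨V, hV⟩).2.2 x.1 hs]
      constructor
      · intro h a ha hmem
        exact h a ha (Scheme.Opens.mem_basicOpen_toScheme.mpr hmem)
      · intro h a ha hmem
        exact h a ha (Scheme.Opens.mem_basicOpen_toScheme.mp hmem)
    constructor
    · rintro ⟨z, rfl⟩
      have hx : 𝓘.subschemeι z ∈ 𝓘.support := by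
        have h0 : 𝓘.subschemeι z ∈ Set.range 𝓘.subschemeι := ⟨z, rfl⟩
        rw [𝓘.range_subschemeι] at h0
        exact h0
      have h1 := (hsupp _).mp hx
      have h2 : CohIII.fiberRank f F 0 (𝓘.subschemeι z).1 ≤ r := (𝓘.subschemeι z).2
      exact le_antisymm h2 h1
    · intro hs
      have hs' : CohIII.fiberRank f F 0 s = r := hs
      have hsU : s ∈ U := (hU s).mpr hs'.le
      have hx : (⟨s, hsU⟩ : (U : Scheme.{u})) ∈ 𝓘.support := (hsupp _).mpr hs'.ge
      have hx' : (⟨s, hsU⟩ : (U : Scheme.{u})) ∈ Set.range 𝓘.subschemeι := by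
        rw [𝓘.range_subschemeι]
        exact hx
      obtain ⟨z, hz⟩ := hx'
      refine ⟨z, ?_⟩
      rw [Scheme.Hom.comp_apply, hz]
      rfl

end Groth.Agent.Helper1.UGC
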