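import Groth.Agent.Helper1.GBC9

set_option autoImplicit false
set_option linter.unusedVariables false
universe u
open CategoryTheory CategoryTheory.Limits AlgebraicGeometry TopologicalSpace Opposite TensorProduct

/-!
# The universal complex of a Noetherian model

For a proper scheme `X₀` over a Noetherian ring `A₀` and a coherent module `F₀` flat over `A₀`,
there is a complex `L` of finite free `A₀`-modules whose base changes compute the cohomology of
every base change `Y` of `X₀` and of every further base change of `Y`, compatibly with the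
pullback of cohomology classes.
-/

noncomputable section

namespace Groth.Agent.Helper1.UGC

open Groth.Agent.Helper1.Cech Groth.Agent.Helper1.TensSec Groth.Agent.Helper1.NatCech
open Groth.Agent.Helper1.ACech Groth.Agent.Helper1.CechBC Groth.Agent.Lead.BCMap
open Groth.Agent.Helper1.HMap Groth.Agent.Helper1.FlatCx Groth.Agent.Helper4
open Groth.Agent.Helper1.Bridge Groth.Agent.Helper1.NoethApx Groth.Agent.Helper1.BaseChart
open Groth.Agent.Helper1.FieldPt Groth.Agent.Helper1.Mumford Groth.Agent.Helper1.BCFlatCoh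
open Groth.Agent.Helper1.GBC

/-- the universal complex of a Noetherian model -/
theorem exists_model_complex (A₀ : Type u) [CommRing A₀] [hN : IsNoetherianRing A₀]
    {X₀ : Scheme.{u}} [X₀.Over (Spec (CommRingCat.of A₀))]
    [hprop : IsProper (X₀ ↘ Spec (CommRingCat.of A₀))]
    (F₀ : X₀.Modules) (hF₀ : Coh.IsCoh F₀)
    (hfl₀ : FlatMod.IsFlatOver (X₀ ↘ Spec (CommRingCat.of A₀)) F₀) :
    ∃ L : ChainComplex (ModuleCat.{u} A₀) ℤ,
      (∀ i, Module.Finite A₀ (L.X i) ∧ Module.Free A₀ (L.X i)) ∧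
      (∃ b : ℤ, ∀ i < b, IsZero (L.X i)) ∧
      (∀ i : ℤ, 0 < i → ∀ M : ModuleCat.{u} A₀, IsZero ((CohIII.TFun L i).obj M)) ∧
      (∀ (x : PrimeSpectrum A₀) (p : ℕ),
        CohIII.fiberRank (X₀ ↘ Spec (CommRingCat.of A₀)) F₀ p x =
          CohIII.dRank L (-(p : ℤ)) x) ∧
      (∀ (R : Type u) [CommRing R] [Algebra A₀ R] (Y : Scheme.{u})
        [Y.Over (Spec (CommRingCat.of R))] (qY : Y ⟶ X₀)
        (_ : IsPullback qY (Y ↘ Spec (CommRingCat.of R))
          (X₀ ↘ Spec (CommRingCat.of A₀))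
          (Spec.map (CommRingCat.ofHom (algebraMap A₀ R))))
        (G : Y.Modules) (_ : (Scheme.Modules.pullback qY).obj F₀ ≅ G)
        (A' : Type u) [CommRing A'] [Algebra R A'] (X' : Scheme.{u})
        [X'.Over (Spec (CommRingCat.of A'))] (g' : X' ⟶ Y)
        (_ : IsPullback g' (X' ↘ Spec (CommRingCat.of A'))
          (Y ↘ Spec (CommRingCat.of R))
          (Spec.map (CommRingCat.ofHom (algebraMap R A')))) (n : ℕ),
        GCAt R A' g' G (CohIII.bcCx (algebraMap A₀ R) L) (-(n : ℤ)) n) := by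
  haveI : F₀.IsQuasicoherent := hF₀.1
  -- the Čech complex of the model and its finite free approximation
  obtain ⟨t, U, hU, hcov⟩ := exists_cover A₀ (X := X₀)
  have hd := affine_inf A₀ (X := X₀)
  let P := PZ A₀ U F₀
  have hPflat : ∀ i, Module.Flat A₀ (P.X i) := flat_PZ A₀ U hU hd F₀ hfl₀
  have hPfin : ∀ i, Module.Finite A₀ (P.homology i) :=
    finite_homology_extend embNeg _ (fun n => finite_homology_CA A₀ U hU hd hcov F₀ n
      (Groth.Agent.S0002.result A₀ X₀ F₀ hF₀ n))
  let d : ℤ := -(t : ℤ) + 1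
  have hPz : ∀ i < d, IsZero (P.homology i) := by
    intro i hi
    obtain ⟨p, rfl⟩ : ∃ p : ℕ, i = -(p : ℤ) := ⟨(-i).toNat, by omega⟩
    have hp : t ≤ p := by omega
    have e1 : P.homology (-(p : ℤ)) ≅ (CA A₀ (Uc U) F₀).homology p :=
      (CA A₀ (Uc U) F₀).extendHomologyIso embNeg rfl
    obtain ⟨φ, -⟩ := exists_equiv_HH A₀ U hU hd hcov F₀ p
    have hsub : Subsingleton (Coh.HH X₀ F₀ p) :=
      Groth.Agent.Helper1.Serre.subsingleton_HH_of_affine_cover _ t U hU hcov hd p hp
    haveI : Subsingleton ((CA A₀ (Uc U) F₀).homology p) := φ.toEquiv.subsingleton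
    exact (ModuleCat.isZero_of_subsingleton _).of_iso e1
  obtain ⟨L, u, hLff, hLz, hqis⟩ := exists_approx_module A₀ P hPfin d hPz
  have hLflat : ∀ i, Module.Flat A₀ (L.X i) := fun i => by
    haveI := (hLff i).2
    infer_instance
  have hLd : ∀ i < d, ∀ M : ModuleCat.{u} A₀, IsZero ((CohIII.TFun L i).obj M) :=
    fun i hi M => isZero_tfun_of_isZero L i (hLz i hi) M
  have hPd : ∀ i < d, ∀ M : ModuleCat.{u} A₀, IsZero ((CohIII.TFun P i).obj M) :=
    fun i hi M => isZero_tfun_PZ_of_le A₀ U hU hd hcov F₀ i (by omega) M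
  refine ⟨L, hLff, ⟨d, hLz⟩, ?_, ?_, ?_⟩
  · intro i hi M
    obtain ⟨e⟩ := nonempty_tfunIso u hLflat hPflat d hLd hPd i
    exact (isZero_tfun_PZ_of_pos A₀ U F₀ i hi M).of_iso (e.app M)
  · intro x p
    have h1 : CohIII.fiberRank (X₀ ↘ Spec (CommRingCat.of A₀)) F₀ p x =
        CohIII.dRank P (-(p : ℤ)) x :=
      fiberRank_eq_dRank_PZ A₀ x F₀ p U hU hcov
    rw [h1]
    exact (dRank_eq_of_quasiIso' u hLflat hPflat d hLd hPd _ _).symm
  · intro R _ _ Y _ qY HR G eR A' _ _ X' _ g' hsq n
    haveI : IsAffineHom qY := CechBC.isAffineHom_of_isPullback A₀ R qY HR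
    haveI : IsProper (Y ↘ Spec (CommRingCat.of R)) :=
      MorphismProperty.of_isPullback (P := @IsProper) HR hprop
    -- the cover of `Y`
    have hU₁ : ∀ k, IsAffineOpen (Ut qY U k) := fun k => (hU k).preimage qY
    have hd₁ := affine_inf R (X := Y)
    have hcov₁ : ⨆ k, Ut qY U k = ⊤ := by
      rw [← Scheme.Hom.preimage_iSup, hcov]
      rfl
    haveI : G.IsQuasicoherent :=
      (SheafOfModules.isQuasicoherent Y.ringCatSheaf).prop_of_iso eR
        (Groth.Agent.Lead.StalkPull.isQuasicoherent_pullbackObj _ _)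
    obtain ⟨e₁, e₁', he₁⟩ := exists_gc R A' g' hsq (Ut qY U) hU₁ hd₁ hcov₁ G n
    have hCA : GCAt R A' g' G (CA R (Uc (Ut qY U)) G) n n :=
      ⟨e₁, e₁', he₁⟩
    have hPZ : GCAt R A' g' G (PZ R (Ut qY U) G) (-(n : ℤ)) n :=
      hCA.extend embNeg
    -- the comparison map
    obtain ⟨θ⟩ := nonempty_PZ_iso A₀ R qY HR U hU hd F₀
    let κ : CohIII.bcCx (algebraMap A₀ R) P ≅ PZ R (Ut qY U) G := θ ≪≫ PZiso R (Ut qY U) eR
    let φ : CohIII.bcCx (algebraMap A₀ R) L ⟶ PZ R (Ut qY U) G :=
      ((ModuleCat.extendScalars.{u, u, u} (algebraMap A₀ R)).mapHomologicalComplex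
        (ComplexShape.down ℤ)).map u ≫ κ.hom
    refine hPZ.of_hom φ ?_ ?_
    · have h1 : IsIso (HomologicalComplex.homologyMap
          (((ModuleCat.extendScalars.{u, u, u} (algebraMap A₀ R)).mapHomologicalComplex
            (ComplexShape.down ℤ)).map u) (-(n : ℤ))) :=
        isIso_homologyMap_bc R u hLflat hPflat d hLd hPd _
      haveI := h1
      haveI : IsIso (HomologicalComplex.homologyMap κ.hom (-(n : ℤ))) :=
        (HomologicalComplex.homologyMapIso κ (-(n : ℤ))).isIso_hom
      show IsIso (HomologicalComplex.homologyMap (_ ≫ κ.hom) (-(n : ℤ)))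
      rw [HomologicalComplex.homologyMap_comp]
      infer_instance
    · have h1 := isIso_homologyMap_bc_bc (algebraMap A₀ R) (algebraMap R A') u hLflat hPflat d
        hLd hPd (-(n : ℤ))
      haveI := h1
      let κ' := ((ModuleCat.extendScalars.{u, u, u} (algebraMap R A')).mapHomologicalComplex
        (ComplexShape.down ℤ)).mapIso κ
      haveI : IsIso (HomologicalComplex.homologyMap κ'.hom (-(n : ℤ))) :=
        (HomologicalComplex.homologyMapIso κ' (-(n : ℤ))).isIso_hom
      show IsIso (HomologicalComplex.homologyMap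
        (((ModuleCat.extendScalars.{u, u, u} (algebraMap R A')).mapHomologicalComplex
          (ComplexShape.down ℤ)).map (_ ≫ κ.hom)) (-(n : ℤ)))
      rw [Functor.map_comp, HomologicalComplex.homologyMap_comp]
      exact IsIso.comp_isIso' h1 (HomologicalComplex.homologyMapIso κ' (-(n : ℤ))).isIso_hom

end Groth.Agent.Helper1.UGC

end
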