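import Groth.Agent.Helper1.UGC2
import Groth.Agent.Helper1.SCV24

set_option autoImplicit false
set_option linter.style.haveILetI false
set_option linter.unusedSectionVars false
set_option linter.unusedVariables false

/-!
# The universal complex of a chart computes the cohomology of all base changes of the morphism

For a proper morphism of finite presentation `f : X ⟶ S`, a flat module `F` of finite
presentation and an affine open `W` of `S`, there is a complex `L` of finite free modules over a
Noetherian ring `A₀` with a ring map `A₀ → Γ(W)`, such that for every cartesian square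
`X' = X ×_S T` and every affine open `W'` of `T` mapping into `W`, the base change of `L` to
`Γ(W')` is a universal complex of the chart `W'` of `X' → T`.
-/

namespace Groth.Agent.Helper1.UGC

open CategoryTheory Limits Opposite TopologicalSpace AlgebraicGeometry TensorProduct
  AlgebraicGeometry.Scheme.Modules
open Groth.Agent.Helper1.BaseChart Groth.Agent.Helper1.GBC Groth.Agent.Helper1.HMap
open Groth.Agent.Lead.BCMap Groth.Agent.Helper1.FlatCx Groth.Agent.Helper1.NoethApx
open Groth.Agent.Helper1.BCFlatCoh Groth.Agent.Helper1 Groth.Agent.Helper1.SCV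

universe u

variable {X S : Scheme.{u}} (f : X ⟶ S) (W : S.Opens) [IsAffine (W : Scheme.{u})]

/-- the universal complex of an affine chart of the base, for all base changes -/
theorem exists_chart_data [IsProper f] [LocallyOfFinitePresentation f]
    (F : X.Modules) (hF : CohB1.IsFP F) (hfl : FlatMod.IsFlatOver f F) :
    ∃ (A₀ : Type u) (_ : CommRing A₀) (_ : IsNoetherianRing A₀) (ι : A₀ →+* AV W)
      (L : ChainComplex (ModuleCat.{u} A₀) ℤ),
      (∀ i, Module.Finite A₀ (L.X i) ∧ Module.Free A₀ (L.X i)) ∧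
      (∃ b : ℤ, ∀ i < b, IsZero (L.X i)) ∧
      (∀ i : ℤ, 0 < i → ∀ M : ModuleCat.{u} A₀, IsZero ((CohIII.TFun L i).obj M)) ∧
      (∀ (s : S) (hs : s ∈ W) (p : ℕ), PerfAux.betti f F s p =
        CohIII.dRank L (-(p : ℤ)) (PrimeSpectrum.comap ι (chartPt W s hs))) ∧
      (∀ {X' T : Scheme.{u}} (u : T ⟶ S) (f' : X' ⟶ T) (v : X' ⟶ X)
        (h : IsPullback v f' f u) (W' : T.Opens) [IsAffine (W' : Scheme.{u})]
        (e : W' ≤ u ⁻¹ᵁ W),
        letI := chartsAlgebra u W W' e
        Master f' W' ((Scheme.Modules.pullback v).obj F)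
          (CohIII.bcCx ((algebraMap (AV W) (AV W')).comp ι) L) ∧
        Module.freeLocus (AV W')
          ((CohIII.bcCx ((algebraMap (AV W) (AV W')).comp ι) L).opcycles 0) = Set.univ) := by
  haveI := hF
  haveI : F.IsQuasicoherent := inferInstance
  obtain ⟨A₀, hA₀, X₀, f₀, hprop, F₀, hF₀, q, H, e₀, hfl₀⟩ := exists_chart_model f W F hF hfl
  haveI := hprop
  have hft : Algebra.FiniteType ℤ A₀ := (Subalgebra.fg_iff_finiteType A₀).mp hA₀
  haveI hN : IsNoetherianRing A₀ := Algebra.FiniteType.isNoetherianRing ℤ A₀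
  letI : X₀.Over (Spec (CommRingCat.of A₀)) := ⟨f₀⟩
  haveI : IsProper (X₀ ↘ Spec (CommRingCat.of A₀)) := hprop
  set ι : A₀ →+* AV W := A₀.val.toRingHom with hι
  obtain ⟨L, hLff, ⟨b, hb⟩, hpos, hrank, hgc⟩ := exists_model_complex A₀ F₀ hF₀ hfl₀
  have hL : ∀ i, Module.Finite A₀ (L.X i) ∧ Module.Flat A₀ (L.X i) := fun i => by
    haveI := (hLff i).2
    exact ⟨(hLff i).1, inferInstance⟩
  refine ⟨A₀, inferInstance, hN, ι, L, hLff, ⟨b, hb⟩, hpos, ?_, ?_⟩
  · intro s hs p
    rw [betti_eq_of_chart_model f W F s hs ι f₀ F₀ hF₀ hfl₀ q H e₀ p]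
    exact hrank _ p
  · intro X' T u f' v h W' _ e
    letI aWW' := chartsAlgebra u W W' e
    set ρ : A₀ →+* AV W' := (algebraMap (AV W) (AV W')).comp ι with hρ
    letI : Algebra A₀ (AV W') := ρ.toAlgebra
    letI oW' := chartOver f' W'
    have hpb := isPullback_charts f u f' v W W' e h
    let qY : XV f' W' ⟶ X₀ := gRes f u f' v W W' e h.w ≫ q
    have HR : IsPullback qY (chartHom f' W') f₀ (Spec.map (CommRingCat.ofHom ρ)) := by
      have h1 := hpb.paste_horiz H
      have h2 : Spec.map (CommRingCat.ofHom ρ) =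
          Spec.map (CommRingCat.ofHom (algebraMap (AV W) (AV W'))) ≫
            Spec.map (CommRingCat.ofHom ι) := by
        rw [← Spec.map_comp]
        rfl
      rw [h2]
      exact h1
    let F' := (Scheme.Modules.pullback v).obj F
    have eG : (Scheme.Modules.pullback qY).obj F₀ ≅ FV f' W' F' :=
      ((Scheme.Modules.pullbackComp (gRes f u f' v W W' e h.w) q).app F₀).symm ≪≫
        (Scheme.Modules.pullback (gRes f u f' v W W' e h.w)).mapIso e₀ ≪≫
        CohPull.pullOnIso v (f ⁻¹ᵁ W) (f' ⁻¹ᵁ W') (preimage_le f u f' v W W' e h.w) F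
    have hK : ∀ i, Module.Finite (AV W') ((CohIII.bcCx ρ L).X i) ∧
        Module.Free (AV W') ((CohIII.bcCx ρ L).X i) := by
      intro i
      haveI := (hLff i).1
      haveI := (hLff i).2
      refine ⟨finite_extendScalars (S := AV W') (L.X i), ?_⟩
      exact Module.Free.of_equiv (extendScalarsEquiv (S := AV W') (L.X i)).symm
    have hbetti : ∀ (t : T) (ht : t ∈ W') (p : ℕ), PerfAux.betti f' F' t p =
        CohIII.dRank L (-(p : ℤ)) (PrimeSpectrum.comap ρ (chartPt W' t ht)) := by
      intro t ht p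
      rw [betti_eq_of_chart_model f' W' F' t ht ρ f₀ F₀ hF₀ hfl₀ qY HR eG p]
      exact hrank _ p
    refine ⟨⟨hK, ⟨b, ?_⟩, ?_, ?_, ?_⟩, ?_⟩
    · intro i hi
      exact Functor.map_isZero (ModuleCat.extendScalars.{u, u, u} ρ) (hb i hi)
    · intro n A' _ _ X'' _ g' hsq
      exact hgc (AV W') (XV f' W') qY HR (FV f' W' F') eG A' X'' g' hsq n
    · intro t ht p
      rw [hbetti t ht p]
      exact (dRank_baseChange L (-(p : ℤ)) (chartPt W' t ht)).symm
    · intro p hp
      apply isZero_homology_bcCx_of_dRank ρ L hL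
      intro y
      obtain ⟨w, hw, rfl⟩ := exists_eq_chartPt W' y
      rw [← hbetti w hw p]
      exact hp w hw
    · rw [Set.eq_univ_iff_forall]
      intro x
      have h1 : CohIII.dRank (CohIII.bcCx ρ L) 1 x = 0 := by
        refine (dRank_baseChange L 1 x).trans ?_
        exact Groth.Agent.Helper1.DRankConc.dRank_eq_zero_of_isZero_TFun L 1
          (hpos 1 one_pos) _
      have h2 := mem_freeLocus_opcycles_of_dRank_zero (CohIII.bcCx ρ L) hK 1 x h1
      rw [freeLocus_opcycles_congr W' (CohIII.bcCx ρ L) (show (1 : ℤ) - 1 = 0 by norm_num)] at h2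
      exact h2

end Groth.Agent.Helper1.UGC
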