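import Groth.Agent.Helper1.SCV19
import Groth.Agent.Helper1.HMap10
import Groth.Agent.Helper7.Fitt11
import Groth.Agent.Helper7.Fitt10
import Groth.Agent.Helper7.Fitt3
import Groth.Agent.S6890
import Groth.Agent.S6892

set_option autoImplicit false
set_option linter.unusedVariables false
set_option linter.style.haveILetI false
universe u
open CategoryTheory CategoryTheory.Limits TensorProduct

/-!
# Fitting ideals and local freeness of constant rank
-/

noncomputable section

namespace Groth.Agent.Helper1.UGC

open Groth.Agent.Helper1.FibreDim Groth.Agent.Helper7.FittLib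

section general

variable {R : Type u} [CommRing R] (M : Type u) [AddCommGroup M] [Module R M]

/-- the sum of the Fitting ideals of index `< m` -/
def fittLow (m : ℕ) : Ideal R := ⨆ k : Fin m, Fitt.ideal R M k

lemma fitt_le_fittLow {k m : ℕ} (h : k < m) : Fitt.ideal R M k ≤ fittLow (R := R) M m :=
  le_iSup (fun k : Fin m => Fitt.ideal R M k) ⟨k, h⟩

lemma fittLow_le_iff {m : ℕ} (I : Ideal R) :
    fittLow (R := R) M m ≤ I ↔ ∀ k, k < m → Fitt.ideal R M k ≤ I := by
  unfold fittLow
  rw [iSup_le_iff]
  exact ⟨fun h k hk => h ⟨k, hk⟩, fun h k => h k k.2⟩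

lemma fittLow_fg [Module.FinitePresentation R M] (m : ℕ) : (fittLow (R := R) M m).FG := by
  haveI : Module.Finite R M := inferInstance
  unfold fittLow
  apply Submodule.fg_iSup
  intro k
  exact (Groth.Agent.S6892.result (R := R) M M k).2.1 inferInstance

variable [Module.Finite R M]

/-- the fibre dimension is at most `m` iff the `m`-th Fitting ideal is not contained in the
prime -/
lemma not_fitt_le_iff (m : ℕ) (x : PrimeSpectrum R) :
    ¬ Fitt.ideal R M m ≤ x.asIdeal ↔ fibreDim M x ≤ m :=
  (fitt_not_le_iff M m x.asIdeal).1

/-- the fibre dimension is at least `m` iff the Fitting ideals of index `< m` are contained in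
the prime -/
lemma fittLow_le_iff_le_fibreDim (m : ℕ) (x : PrimeSpectrum R) :
    fittLow (R := R) M m ≤ x.asIdeal ↔ m ≤ fibreDim M x := by
  rw [fittLow_le_iff]
  constructor
  · intro h
    by_contra hlt
    push Not at hlt
    obtain ⟨k, rfl⟩ : ∃ k, m = k + 1 := ⟨m - 1, by omega⟩
    have h1 := h k (by omega)
    exact ((not_fitt_le_iff M k x).mpr (by omega)) h1
  · intro h k hk
    by_contra hnot
    have := (not_fitt_le_iff M k x).mp hnot
    omega

end general

section locfree

variable {R : Type u} [CommRing R] (M : Type u) [AddCommGroup M] [Module R M]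
  [Module.FinitePresentation R M]

/-- a finitely presented module is projective of constant rank `m` iff its Fitting ideals of
index `< m` vanish and the `m`-th one is the unit ideal -/
theorem projective_fibreDim_iff_fitt (m : ℕ) :
    (Module.Projective R M ∧ ∀ x : PrimeSpectrum R, fibreDim M x = m) ↔
      (fittLow (R := R) M m = ⊥ ∧ Fitt.ideal R M m = ⊤) := by
  haveI : Module.Finite R M := inferInstance
  have key := locally_free_iff_fitt (R := R) M m
  constructor
  · rintro ⟨hproj, hdim⟩
    haveI := hproj
    have h1 : ∀ (p : Ideal R) [p.IsPrime], ∃ f : R, f ∉ p ∧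
        Module.Free (Localization.Away f) (LocalizedModule (Submonoid.powers f) M) ∧
        Module.finrank (Localization.Away f) (LocalizedModule (Submonoid.powers f) M) = m := by
      intro p hp
      let x : PrimeSpectrum R := ⟨p, hp⟩
      haveI : Module.Free (Localization.AtPrime p) (LocalizedModule p.primeCompl M) :=
        Module.free_of_flat_of_isLocalRing
      obtain ⟨f, hf, hfree, hrank⟩ := Module.FinitePresentation.exists_free_localizedModule_powers
        p.primeCompl (LocalizedModule.mkLinearMap p.primeCompl M) (Localization.AtPrime p)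
      refine ⟨f, hf, hfree, hrank.trans ?_⟩
      have h2 : fibreDim M x = Module.rankAtStalk M x := fibreDim_eq_rankAtStalk M x
      rw [← hdim x, h2]
      rfl
    obtain ⟨hlow, hhigh⟩ := key.mp h1
    refine ⟨?_, hhigh m le_rfl⟩
    rw [eq_bot_iff, fittLow_le_iff]
    intro k hk
    rw [hlow k hk]
  · rintro ⟨hlow, htop⟩
    have h2 : (∀ k, k < m → Fitt.ideal R M k = ⊥) ∧ (∀ k, m ≤ k → Fitt.ideal R M k = ⊤) := by
      refine ⟨fun k hk => ?_, fun k hk => ?_⟩
      · rw [eq_bot_iff, ← hlow]
        exact fitt_le_fittLow M hk
      · rw [eq_top_iff, ← htop]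
        exact fitt_mono_index hk
    have h1 := key.mpr h2
    refine ⟨?_, fun x => ?_⟩
    · rw [← Module.freeLocus_eq_univ_iff, Set.eq_univ_iff_forall]
      intro x
      obtain ⟨f, hf, hfree, -⟩ := h1 x.asIdeal
      haveI := hfree
      have h3 : (PrimeSpectrum.basicOpen f : Set (PrimeSpectrum R)) ⊆ Module.freeLocus R M :=
        Module.basicOpen_subset_freeLocus_iff.mpr inferInstance
      exact h3 hf
    · apply le_antisymm
      · apply (not_fitt_le_iff M m x).mp
        rw [htop]
        intro h
        exact x.isPrime.ne_top (top_le_iff.mp h)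
      · apply (fittLow_le_iff_le_fibreDim M m x).mp
        rw [hlow]
        exact bot_le

end locfree

section prod

variable {R : Type u} [CommRing R] (N P : Type u) [AddCommGroup N] [Module R N]
  [AddCommGroup P] [Module R P] [Module.Finite R N] [Module.Finite R P]

lemma fibreDim_prod (x : PrimeSpectrum R) :
    fibreDim (N × P) x = fibreDim N x + fibreDim P x := by
  unfold fibreDim
  rw [(TensorProduct.prodRight R x.asIdeal.ResidueField x.asIdeal.ResidueField N P).finrank_eq]
  exact Module.finrank_prod

end prod

end Groth.Agent.Helper1.UGC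

end
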