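import Groth.Agent.Helper1.UGC6

set_option autoImplicit false
set_option linter.style.haveILetI false
set_option linter.unusedSectionVars false
set_option linter.unusedVariables false

/-!
# Local freeness of `R^n f_* F` near a good point, with the rank
-/

namespace Groth.Agent.Helper1.UGC

open CategoryTheory Limits Opposite TopologicalSpace AlgebraicGeometry TensorProduct
  AlgebraicGeometry.Scheme.Modules Topology
open Groth.Agent.Helper1.BaseChart Groth.Agent.Helper1.GBC Groth.Agent.Helper1.HMap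
open Groth.Agent.Lead.BCMap Groth.Agent.Helper1.FlatCx Groth.Agent.Helper1.NoethApx
open Groth.Agent.Helper1.BCFlatCoh Groth.Agent.Helper1 Groth.Agent.Helper1.SCV
open Groth.Agent.Helper4 Groth.Agent.Helper4.FinLocFree

universe u

section rank

variable {X S : Scheme.{u}} (f : X ⟶ S) (W : S.Opens) [IsAffine (W : Scheme.{u})]

variable [QuasiCompact f] [QuasiSeparated f] [HasInjectiveResolutions X.Modules]
  (F : X.Modules) [Coh.IsQCoh F]
  (K : ChainComplex (ModuleCat.{u} (AV W)) ℤ)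
  (hK : ∀ i, Module.Finite (AV W) (K.X i) ∧ Module.Free (AV W) (K.X i))

set_option maxHeartbeats 1600000 in
include hK in
/-- near a point of the free loci of `Z'_q` and `Z'_{q-1}`, `R^n f_* F` is free of rank the rank
of the fibre -/
theorem exists_free_nhd_of_mem_freeLocus (q : ℤ) (n : ℕ) (H : UnivGC f W F K q n)
    (hbetti : ∀ (s : S) (hs : s ∈ W),
      PerfAux.betti f F s n = CohIII.dRank K q (chartPt W s hs))
    (s : S) (hs : s ∈ W)
    (hx₁ : chartPt W s hs ∈ Module.freeLocus (AV W) (K.opcycles q))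
    (hx₂ : chartPt W s hs ∈ Module.freeLocus (AV W) (K.opcycles (q - 1))) :
    ∃ U : S.Opens, s ∈ U ∧ Nonempty (((Coh.Rpush f n).obj F).restrict U.ι ≅
      FlatMod.freeMod (↑U) (CohIII.fiberRank f F n s)) := by
  obtain ⟨_, ⟨a, rfl⟩, hxa, hsub⟩ :=
    PrimeSpectrum.isTopologicalBasis_basic_opens.exists_subset_of_mem_open
      (show chartPt W s hs ∈ Module.freeLocus (AV W) (K.opcycles q) ∩
        Module.freeLocus (AV W) (K.opcycles (q - 1)) from ⟨hx₁, hx₂⟩)
      ((isOpen_freeLocus_opcycles K hK q).inter (isOpen_freeLocus_opcycles K hK (q - 1)))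
  have hsub₁ : (PrimeSpectrum.basicOpen a : Set (PrimeSpectrum (AV W))) ⊆
      Module.freeLocus (AV W) (K.opcycles q) := fun y hy => (hsub hy).1
  have hsub₂ : (PrimeSpectrum.basicOpen a : Set (PrimeSpectrum (AV W))) ⊆
      Module.freeLocus (AV W) (K.opcycles (q - 1)) := fun y hy => (hsub hy).2
  obtain ⟨W₁, hsW₁, hW₁W, hW₁⟩ := exists_open_of_nhds W s hs
    (PrimeSpectrum.basicOpen a : Set (PrimeSpectrum (AV W)))
    ((PrimeSpectrum.basicOpen a).isOpen.mem_nhds hxa)
  obtain ⟨V, hV, hsV, hVW₁⟩ := exists_isAffineOpen_mem_and_subset (x := s) (U := W₁) hsW₁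
  haveI : IsAffine (V : Scheme.{u}) := hV
  have hVW : V ≤ W := fun y hy => hW₁W (hVW₁ hy)
  have e : V ≤ (𝟙 S) ⁻¹ᵁ W := by
    rw [Scheme.Hom.id_preimage]
    exact hVW
  letI := chartsAlgebra (𝟙 S) W V e
  have hcomap : ∀ (w : S) (hw : w ∈ V),
      PrimeSpectrum.comap (algebraMap (AV W) (AV V)) (chartPt V w hw) = chartPt W w (hVW hw) :=
    fun w hw => chartPt_comap (𝟙 S) W V e w hw
  have hB : IsUnit (algebraMap (AV W) (AV V) a) := by
    by_contra hnu
    obtain ⟨M, hM, haM⟩ := exists_max_ideal_of_mem_nonunits hnu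
    obtain ⟨w, hw, hwy⟩ := exists_eq_chartPt V (⟨M, hM.isPrime⟩ : PrimeSpectrum (AV V))
    have h2 : chartPt W w (hVW hw) ∈ (PrimeSpectrum.basicOpen a : Set (PrimeSpectrum (AV W))) :=
      hW₁ w (hVW hw) (hVW₁ hw)
    rw [← hcomap w hw, hwy] at h2
    exact h2 haM
  obtain ⟨hfin, hproj⟩ := finite_projective_homology_bcCx K hK q a hsub₁ hsub₂ (AV V) hB
  letI oW := chartOver f W
  letI oV := chartOver f V
  have hsq := isPullback_charts f (𝟙 S) f (𝟙 X) W V e (IsPullback.id_horiz f)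
  obtain ⟨-, e', -⟩ := H (AV V) (XV f V)
    (gRes f (𝟙 S) f (𝟙 X) W V e (IsPullback.id_horiz f).w) hsq
  let J : (Scheme.Modules.pullback (gRes f (𝟙 S) f (𝟙 X) W V e (IsPullback.id_horiz f).w)).obj
      (FV f W F) ≅ FV f V F :=
    CohPull.pullOnIso (𝟙 X) (f ⁻¹ᵁ W) (f ⁻¹ᵁ V)
      (preimage_le f (𝟙 S) f (𝟙 X) W V e (IsPullback.id_horiz f).w) F ≪≫
    (Scheme.Modules.restrictFunctor (f ⁻¹ᵁ V).ι).mapIso ((Scheme.Modules.pullbackId X).app F)
  let e1 : (CohIII.bcCx (algebraMap (AV W) (AV V)) K).homology q ≃ₗ[AV V]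
      Coh.HH (XV f V) (FV f V F) n := e'.trans (ProjTop.HHlinEquiv (AV V) J n)
  haveI := hfin
  haveI := hproj
  obtain ⟨U, hsU, hU⟩ := exists_free_nhd_of_projective f V F n _ e1 s hsV
  refine ⟨U, hsU, ?_⟩
  -- the rank
  haveI := (hK q).1
  haveI := (hK (q - 1)).1
  haveI := (hK (q - 1)).2
  haveI : Module.Projective (AV V) ((CohIII.bcCx (algebraMap (AV W) (AV V)) K).X (q - 1)) :=
    projective_bcCx_X K (AV V) (q - 1)
  haveI : Module.Projective (AV V)
      ((CohIII.bcCx (algebraMap (AV W) (AV V)) K).opcycles (q - 1)) :=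
    projective_opcycles_bcCx K q (q - 1) a (prev_down q) hsub₂ (AV V) hB
  have hr : Module.rankAtStalk ((CohIII.bcCx (algebraMap (AV W) (AV V)) K).homology q)
      (chartPt V s hsV) = CohIII.fiberRank f F n s := by
    rw [rankAtStalk_homology_eq_dRank_of_flat _ q inferInstance inferInstance, dRank_baseChange,
      hcomap s hsV]
    exact (hbetti s hs).symm
  rw [hr] at hU
  exact hU

end rank

section deg0

variable {X S : Scheme.{u}} {f : X ⟶ S} {W : S.Opens} [IsAffine (W : Scheme.{u})]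
  {F : X.Modules} {K : ChainComplex (ModuleCat.{u} (AV W)) ℤ}
  [QuasiCompact f] [QuasiSeparated f] [Coh.IsQCoh F]

/-- degree zero: near a good point, `f_* F` is free of rank the rank of the fibre -/
theorem Master.exists_free_nhd0 (M : Master f W F K)
    (h0 : Module.freeLocus (AV W) (K.opcycles 0) = Set.univ) (s : S) (hs : s ∈ W)
    (h₁ : chartPt W s hs ∈ OLoc W K 0) :
    ∃ U : S.Opens, s ∈ U ∧ Nonempty (((pushforward f).obj F).restrict U.ι ≅
      FlatMod.freeMod (↑U) (CohIII.fiberRank f F 0 s)) := by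
  haveI := Groth.Agent.Helper4.SchAdj.isGrothendieckAbelian_modules X
  haveI : HasInjectiveResolutions X.Modules := inferInstance
  have hx₁ : chartPt W s hs ∈ Module.freeLocus (AV W) (K.opcycles (-((0 : ℕ) : ℤ))) := by
    rw [freeLocus_opcycles_congr W K (show -((0 : ℕ) : ℤ) = 0 by simp), h0]
    trivial
  obtain ⟨U, hsU, ⟨i⟩⟩ := exists_free_nhd_of_mem_freeLocus f W F K M.hK (-((0 : ℕ) : ℤ)) 0
    (M.gc 0) (fun s hs => M.betti s hs 0) s hs hx₁ h₁
  obtain ⟨j⟩ := nonempty_push_iso_Rpush_zero (f := f) F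
  exact ⟨U, hsU, ⟨(Scheme.Modules.restrictFunctor U.ι).mapIso j ≪≫ i⟩⟩

end deg0

/-- the rank of a module which is free near a point is well defined -/
theorem rank_unique {T : Scheme.{u}} (N : T.Modules) [N.IsQuasicoherent] (t : T)
    {U U' : T.Opens} (ht : t ∈ U) (ht' : t ∈ U') {n m : ℕ}
    (h : Nonempty (N.restrict U.ι ≅ FlatMod.freeMod (↑U) n))
    (h' : Nonempty (N.restrict U'.ι ≅ FlatMod.freeMod (↑U') m)) : n = m := by
  obtain ⟨b⟩ := Groth.Agent.Helper4.FinLocFree2.nonempty_basis_stalk_of_isFreeAlong N (V := U) h t ht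
  obtain ⟨b'⟩ := Groth.Agent.Helper4.FinLocFree2.nonempty_basis_stalk_of_isFreeAlong N (V := U') h' t ht'
  have := Fintype.card_eq.mpr ⟨b.indexEquiv b'⟩
  simpa using this

end Groth.Agent.Helper1.UGC
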