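import Groth.Agent.Helper1.UGC8

set_option autoImplicit false
set_option linter.style.haveILetI false
set_option linter.unusedSectionVars false
set_option linter.unusedVariables false

/-!
# Good points of a base change over a pair of charts, in terms of Fitting ideals
-/

namespace Groth.Agent.Helper1.UGC

open CategoryTheory Limits Opposite TopologicalSpace AlgebraicGeometry TensorProduct
  AlgebraicGeometry.Scheme.Modules Topology
open Groth.Agent.Helper1.BaseChart Groth.Agent.Helper1.GBC Groth.Agent.Helper1.HMap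
open Groth.Agent.Lead.BCMap Groth.Agent.Helper1.FlatCx Groth.Agent.Helper1.NoethApx
open Groth.Agent.Helper1.BCFlatCoh Groth.Agent.Helper1 Groth.Agent.Helper1.SCV

universe u

variable {X S : Scheme.{u}} {f : X ⟶ S} {W : S.Opens} [IsAffine (W : Scheme.{u})]
  {F : X.Modules}

/-- the ring map from the Noetherian ring of the chart data to the ring of a chart of a base
change -/
noncomputable def ChartData.rho (D : ChartData f W F) {T : Scheme.{u}} (u : T ⟶ S)
    (W' : T.Opens) (e : W' ≤ u ⁻¹ᵁ W) : D.A₀ →+* AV W' :=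
  letI := chartsAlgebra u W W' e
  (algebraMap (AV W) (AV W')).comp D.ι

lemma ChartData.comap_rho (D : ChartData f W F) {T : Scheme.{u}} (u : T ⟶ S)
    (W' : T.Opens) [IsAffine (W' : Scheme.{u})] (e : W' ≤ u ⁻¹ᵁ W) (t : T) (ht : t ∈ W') :
    PrimeSpectrum.comap (D.rho u W' e) (chartPt W' t ht) =
      PrimeSpectrum.comap D.ι (chartPt W (u t) (e ht)) := by
  letI := chartsAlgebra u W W' e
  have h1 := chartPt_comap u W W' e t ht
  rw [← h1]
  rfl

variable [IsProper f] [LocallyOfFinitePresentation f] [Coh.IsQCoh F]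

/-- **good points over a pair of charts** -/
theorem forall_ptGood_chart_iff (D : ChartData f W F) (r : ℕ)
    {X' T : Scheme.{u}} (u : T ⟶ S) (f' : X' ⟶ T) (v : X' ⟶ X)
    (h : IsPullback v f' f u) (W' : T.Opens) [IsAffine (W' : Scheme.{u})]
    (e : W' ≤ u ⁻¹ᵁ W) :
    (∀ t ∈ W', PtGood f' ((Scheme.Modules.pullback v).obj F) r t) ↔
      ((J₁ D.L r).map (D.rho u W' e) = ⊥ ∧ (J₂ D.L r).map (D.rho u W' e) = ⊤) := by
  letI aWW' := chartsAlgebra u W W' e
  haveI : IsProper f' := MorphismProperty.of_isPullback (P := @IsProper) h inferInstance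
  haveI : F.IsQuasicoherent := inferInstance
  haveI qG : ((Scheme.Modules.pullback v).obj F).IsQuasicoherent :=
    Groth.Agent.Lead.StalkPull.isQuasicoherent_pullbackObj v F
  haveI : Coh.IsQCoh ((Scheme.Modules.pullback v).obj F) := qG
  obtain ⟨M, h0⟩ := D.master u f' v h W' e
  letI : Algebra D.A₀ (AV W') := (D.rho u W' e).toAlgebra
  have key := forall_good_iff_fitt D.L r D.ff (AV W') h0
  refine Iff.trans ?_ key
  set K := CohIII.bcCx (algebraMap D.A₀ (AV W')) D.L with hK
  have hpt : ∀ (t : T) (ht : t ∈ W'),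
      PtGood f' ((Scheme.Modules.pullback v).obj F) r t ↔
        (chartPt W' t ht ∈ Module.freeLocus (AV W') (K.opcycles (-1)) ∧
          CohIII.dRank K 0 (chartPt W' t ht) = r) := by
    intro t ht
    unfold PtGood
    rw [goodAt_iff M t ht]
    have h1 : OLoc W' K 0 = Module.freeLocus (AV W') (K.opcycles (-1)) :=
      freeLocus_opcycles_congr W' K (show -((0 : ℕ) : ℤ) - 1 = -1 by norm_num)
    have h2 : CohIII.fiberRank f' ((Scheme.Modules.pullback v).obj F) 0 t =
        CohIII.dRank K 0 (chartPt W' t ht) := by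
      have h3 := M.betti t ht 0
      have h4 : (-((0 : ℕ) : ℤ)) = 0 := by norm_num
      rw [h4] at h3
      exact h3
    rw [h2]
    exact Iff.rfl.and Iff.rfl |>.trans (by rw [← h1]; rfl)
  constructor
  · intro hg x
    obtain ⟨t, ht, rfl⟩ := exists_eq_chartPt W' x
    exact (hpt t ht).mp (hg t ht)
  · intro hg t ht
    exact (hpt t ht).mpr (hg _)

end Groth.Agent.Helper1.UGC
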