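import Mathlib
import Groth.Agent.Helper1.SP3
import Groth.Agent.Helper1.SY12
import Groth.Agent.Helper4.FinLocFree2

/-!
# Vector bundles of finite locally free modules are smooth
-/

set_option autoImplicit false
set_option linter.style.haveILetI false

namespace Groth.Agent.Helper1.VB

open CategoryTheory Limits AlgebraicGeometry TopologicalSpace Opposite RelSpec
open Groth.Agent.Helper1.SY

universe u

noncomputable section

variable {S : Scheme.{u}} {E : S.Modules} [E.IsQuasicoherent] {A : QCAlg S} {j : E ⟶ A.toModule}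

/-- over an affine open where `E` has a basis, `A(U)` is a polynomial algebra -/
def polyEquiv (hA : IsSymAlg E A j) (U : S.Opens) (hU : IsAffineOpen U) {n : ℕ}
    (b : Module.Basis (Fin n) Γ(S, U) Γ(E, U)) :
    letI : Algebra Γ(S, U) (A.presheaf.obj (op U)) := (A.str.app (op U)).hom.toAlgebra
    MvPolynomial (Fin n) Γ(S, U) ≃ₐ[Γ(S, U)] A.presheaf.obj (op U) :=
  letI : Algebra Γ(S, U) (A.presheaf.obj (op U)) := (A.str.app (op U)).hom.toAlgebra
  AlgEquiv.ofBijective
    { toRingHom := (symLift A j U).comp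
        ((SymmetricAlgebra.equivMvPolynomial b).symm.toRingEquiv.toRingHom)
      commutes' := fun r => by
        change symLift A j U ((SymmetricAlgebra.equivMvPolynomial b).symm (algebraMap _ _ r)) = _
        rw [AlgEquiv.commutes, symLift_algebraMap]
        rfl }
    ((symLift_bijective hA U hU).comp (SymmetricAlgebra.equivMvPolynomial b).symm.bijective)

theorem smooth_str (hA : IsSymAlg E A j) (U : S.Opens) (hU : IsAffineOpen U) {n : ℕ}
    (b : Module.Basis (Fin n) Γ(S, U) Γ(E, U)) : (A.str.app (op U)).hom.Smooth := by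
  letI : Algebra Γ(S, U) (A.presheaf.obj (op U)) := (A.str.app (op U)).hom.toAlgebra
  have : Algebra.Smooth Γ(S, U) (MvPolynomial (Fin n) Γ(S, U)) := ⟨inferInstance, inferInstance⟩
  have h := Algebra.Smooth.of_equiv (polyEquiv hA U hU b)
  exact h

theorem smooth_π (hA : IsSymAlg E A j) (hlf : FlatMod.IsFinLocFree E) : Smooth A.π := by
  apply IsZariskiLocalAtTarget.of_forall_exists_morphismRestrict (P := @Smooth)
  intro x
  obtain ⟨U, hU, n, hxU, ⟨b⟩⟩ := Groth.Agent.Helper4.FinLocFree2.exists_affine_basis E hlf x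
  refine ⟨U, hxU, ?_⟩
  have h1 : (SP.chartIso A U hU).hom ≫ (A.π ∣_ U) =
      Spec.map (A.str.app (op U)) ≫ hU.isoSpec.inv := by
    rw [← cancel_mono U.ι, Category.assoc, morphismRestrict_ι, SP.chartIso_hom_ι_assoc,
      Category.assoc, hU.isoSpec_inv_ι, A.ι_π]
  have h2 : Smooth (Spec.map (A.str.app (op U))) :=
    (HasRingHomProperty.Spec_iff (P := @Smooth)).mpr (smooth_str hA U hU b)
  have h3 : Smooth ((SP.chartIso A U hU).hom ≫ (A.π ∣_ U)) := by
    rw [h1]; infer_instance
  exact (MorphismProperty.cancel_left_of_respectsIso @Smooth (SP.chartIso A U hU).hom _).mp h3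

end

end Groth.Agent.Helper1.VB
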