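import Mathlib
import Groth.Agent.Helper1.KDSym
import Groth.Agent.Helper1.SY15
import Groth.Agent.Helper4.RelSpecIso
import Groth.Agent.Lead.OmegaLocC
import Groth.Agent.Lead.BCMap5
import Groth.Agent.Lead.OmegaCnB
import Groth.Agent.Lead.TildeTensor
import Groth.Agent.Helper4.QcohLocal
import Groth.Agent.Lead.StalkPull
import Groth.Agent.Lead.OmegaLocB

/-!
# Helper1: the sheaf of differentials of a vector bundle `V(E) → S` is `p^* E`
-/

set_option autoImplicit false
set_option linter.style.haveILetI false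
set_option linter.unusedSectionVars false

open CategoryTheory AlgebraicGeometry TopologicalSpace Opposite

universe u

namespace Groth.Agent.Helper1.VBOmega

open RelSpec Groth.Agent.Helper1.SY

variable {S : Scheme.{u}} {E : S.Modules} [E.IsQuasicoherent] {A : QCAlg S} {j : E ⟶ A.toModule}
  (hA : IsSymAlg E A j) (U : S.Opens) (hU : IsAffineOpen U)

/-- `gammaAff` as a ring isomorphism -/
noncomputable def gammaEquiv : Γ(A.spec, A.π ⁻¹ᵁ U) ≃+* A.presheaf.obj (op U) :=
  haveI := Groth.Agent.Helper4.RelSpecIso.isIso_gammaAff A U hU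
  (asIso (A.gammaAff U hU)).commRingCatIsoToRingEquiv

theorem gammaEquiv_apply (x : Γ(A.spec, A.π ⁻¹ᵁ U)) :
    gammaEquiv U hU x = (A.gammaAff U hU).hom x := rfl

theorem gammaEquiv_appLE (c : Γ(S, U)) :
    gammaEquiv U hU ((A.π.appLE U (A.π ⁻¹ᵁ U) le_rfl).hom c) = (A.str.app (op U)).hom c := by
  rw [gammaEquiv_apply, ← Scheme.Hom.app_eq_appLE]
  exact congrArg (fun k => k.hom c) (A.π_app_gammaAff U hU)

theorem j_smul (c : Γ(S, U)) (m : Γ(E, U)) :
    (show A.presheaf.obj (op U) from j.app U (c • m)) =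
      (A.str.app (op U)).hom c * (show A.presheaf.obj (op U) from j.app U m) := by
  letI : Algebra Γ(S, U) (A.presheaf.obj (op U)) := (A.str.app (op U)).hom.toAlgebra
  have := (linOf A j U).map_smul c m
  rw [Algebra.smul_def] at this
  exact this

/-- the sections of `E` as functions on `V(E)` -/
noncomputable def f₀ :
    letI := (A.π.appLE U (A.π ⁻¹ᵁ U) le_rfl).hom.toAlgebra
    Γ(E, U) →ₗ[Γ(S, U)] Γ(A.spec, A.π ⁻¹ᵁ U) :=
  letI := (A.π.appLE U (A.π ⁻¹ᵁ U) le_rfl).hom.toAlgebra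
  { toFun := fun m => (gammaEquiv U hU).symm (j.app U m)
    map_add' := fun x y => by
      rw [← map_add]
      exact congrArg _ (map_add _ x y)
    map_smul' := fun c m => by
      rw [RingHom.id_apply, RingEquiv.symm_apply_eq, Algebra.smul_def, map_mul,
        RingEquiv.apply_symm_apply]
      refine (j_smul U c m).trans ?_
      congr 1
      exact (gammaEquiv_appLE U hU c).symm }

theorem f₀_apply (m : Γ(E, U)) :
    f₀ (j := j) U hU m = (gammaEquiv U hU).symm (j.app U m) := rfl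

include hA in
theorem isSymmetricAlgebra_f₀ :
    letI := (A.π.appLE U (A.π ⁻¹ᵁ U) le_rfl).hom.toAlgebra
    IsSymmetricAlgebra (f₀ (j := j) U hU) := by
  letI := (A.π.appLE U (A.π ⁻¹ᵁ U) le_rfl).hom.toAlgebra
  have hc : (gammaEquiv U hU).toRingHom.comp
      (SymmetricAlgebra.lift (f₀ (j := j) U hU)).toRingHom = symLift A j U := by
    refine sym_ringHom_ext (fun c => ?_) (fun m => ?_)
    · rw [RingHom.comp_apply, symLift_algebraMap]
      have h1 : (SymmetricAlgebra.lift (f₀ (j := j) U hU)).toRingHom (algebraMap _ _ c) =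
          (A.π.appLE U (A.π ⁻¹ᵁ U) le_rfl).hom c :=
        AlgHom.commutes _ c
      rw [h1]
      exact gammaEquiv_appLE U hU c
    · rw [RingHom.comp_apply, symLift_ι]
      have h1 : (SymmetricAlgebra.lift (f₀ (j := j) U hU)).toRingHom (SymmetricAlgebra.ι _ _ m) =
          f₀ (j := j) U hU m :=
        SymmetricAlgebra.lift_ι_apply _ m
      rw [h1, f₀_apply]
      exact (gammaEquiv U hU).apply_symm_apply _
  have h2 : (SymmetricAlgebra.lift (f₀ (j := j) U hU) : _ → _) =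
      (gammaEquiv U hU).symm ∘ (symLift A j U) := by
    funext x
    rw [← hc]
    exact ((gammaEquiv U hU).symm_apply_apply _).symm
  change Function.Bijective (SymmetricAlgebra.lift (f₀ (j := j) U hU))
  rw [h2]
  exact (gammaEquiv U hU).symm.bijective.comp (symLift_bijective hA U hU)

include hA hU in
/-- the comparison `p^*E → Ω'` is bijective over the preimage of an affine open -/
theorem app_bijective {Ω' : A.spec.Modules} (d : OmegaSh.Der A.π Ω') (hd : OmegaSh.IsUniversal d)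
    (φ : (Scheme.Modules.pullback A.π).obj E ⟶ Ω')
    (hφ : ∀ (t : Γ(E, U)) (t' : Γ(A.spec, A.π ⁻¹ᵁ U)),
      A.gammaMap.app (op U) t' = j.app U t →
        φ.app (A.π ⁻¹ᵁ U) (OmegaSh.pullSect A.π E U t) = d.app (A.π ⁻¹ᵁ U) t') :
    Function.Bijective (φ.app (A.π ⁻¹ᵁ U)) := by
  have hW : IsAffineOpen (A.π ⁻¹ᵁ U) := hU.preimage A.π
  letI := (A.π.appLE U (A.π ⁻¹ᵁ U) le_rfl).hom.toAlgebra
  letI : Module Γ(S, U) Γ((Scheme.Modules.pullback A.π).obj E, A.π ⁻¹ᵁ U) :=
      Module.compHom _ (A.π.appLE U (A.π ⁻¹ᵁ U) le_rfl).hom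
  haveI : IsScalarTower Γ(S, U) Γ(A.spec, A.π ⁻¹ᵁ U)
      Γ((Scheme.Modules.pullback A.π).obj E, A.π ⁻¹ᵁ U) :=
    IsScalarTower.of_compHom _ _ _
  obtain ⟨ε, hε⟩ := Groth.Agent.Lead.OmegaLocC.exists_sectionsEquiv A.π d hd hW hU le_rfl
  obtain ⟨ρ, hρ, hbc⟩ := Groth.Agent.Lead.BCMap.exists_isBaseChange_pbSec A.π E hU hW le_rfl
  let φW : Γ((Scheme.Modules.pullback A.π).obj E, A.π ⁻¹ᵁ U) →ₗ[Γ(A.spec, A.π ⁻¹ᵁ U)]
      Γ(Ω', A.π ⁻¹ᵁ U) :=
    { toFun := fun x => φ.app _ x
      map_add' := fun x y => map_add _ x y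
      map_smul' := fun c x => Scheme.Modules.Hom.app_smul φ c x }
  let β := ε.toLinearMap ∘ₗ φW
  have hβ : ∀ m, β (ρ m) = KDSym.dι (f₀ (j := j) U hU) (LinearEquiv.refl Γ(S, U) Γ(E, U) m) := by
    intro m
    change ε (φ.app _ (ρ m)) = _
    rw [hρ, Groth.Agent.Lead.OmegaCnB.pbSec_self,
      hφ m ((gammaEquiv U hU).symm (j.app U m))
        (by rw [A.gammaMap_app U hU]; exact (gammaEquiv U hU).apply_symm_apply _), hε]
    rfl
  have hbij := Groth.Agent.Lead.TildeTensor.bijective_of_two_isBaseChange ρ hbc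
    (KDSym.dι (f₀ (j := j) U hU))
    (KDSym.isBaseChange_dι (isSymmetricAlgebra_f₀ hA U hU)) (LinearEquiv.refl Γ(S, U) Γ(E, U)) β hβ
  have h3 : (φ.app (A.π ⁻¹ᵁ U) : _ → _) = ε.symm ∘ β := by
    funext x
    exact (ε.symm_apply_apply _).symm
  rw [h3]
  exact ε.symm.bijective.comp hbij

end Groth.Agent.Helper1.VBOmega
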