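import Groth.Agent.Helper1.HMap3

/-!
# ValSeesaw1: over a valuation ring, the canonical map `H_0(K) → H_0(K ⊗ B)` of a complex of finite
free modules with free opcycles in degree `0` does not vanish when `H_0(K) ≠ 0`
-/

set_option autoImplicit false
set_option linter.unusedVariables false
universe u
open CategoryTheory CategoryTheory.Limits MonoidalCategory TensorProduct

noncomputable section

namespace Groth.Agent.Helper1.ValSeesaw

open Groth.Agent.Helper1.FlatCx Groth.Agent.Helper1.BCFlatCoh Groth.Agent.Helper1
  Groth.Agent.Helper1.HMap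

/-- over a valuation ring, the kernel of a linear map from a finite free module to a torsion-free
module is a direct summand which is free; if it is nonzero, some element of it is mapped to `1`
by a linear functional -/
theorem exists_functional (A : Type u) [CommRing A] [IsDomain A] [ValuationRing A]
    {Z N : Type u} [AddCommGroup Z] [Module A Z] [AddCommGroup N] [Module A N]
    [Module.Finite A Z] [Module.Free A Z] [Module.Free A N] (d : Z →ₗ[A] N)
    (hne : LinearMap.ker d ≠ ⊥) :
    ∃ x ∈ LinearMap.ker d, ∃ l : Z →ₗ[A] A, l x = 1 := by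
  classical
  -- the range is finite and torsion-free, hence free
  haveI : Module.Finite A (LinearMap.range d) := inferInstance
  haveI : Module.IsTorsionFree A (LinearMap.range d) := inferInstance
  haveI : Module.Flat A (LinearMap.range d) := by
    rw [Module.Flat.flat_iff_torsion_eq_bot_of_isBezout]
    exact Submodule.isTorsionFree_iff_torsion_eq_bot.mp inferInstance
  haveI : Module.Free A (LinearMap.range d) := Module.free_of_flat_of_isLocalRing
  obtain ⟨s, hs⟩ := Module.projective_lifting_property d.rangeRestrict LinearMap.id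
    d.surjective_rangeRestrict
  -- the projection onto the kernel
  have hπ : ∀ z : Z, z - s (d.rangeRestrict z) ∈ LinearMap.ker d := by
    intro z
    rw [LinearMap.mem_ker, map_sub, sub_eq_zero]
    have h1 := congrArg (fun g => (g (d.rangeRestrict z)).1) hs
    simp only [LinearMap.comp_apply, LinearMap.id_apply] at h1
    exact h1.symm
  let π : Z →ₗ[A] LinearMap.ker d :=
    LinearMap.codRestrict (LinearMap.ker d) (LinearMap.id - s ∘ₗ d.rangeRestrict) (fun z => hπ z)
  have hπi : ∀ h : LinearMap.ker d, π h.1 = h := by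
    intro h
    apply Subtype.ext
    show h.1 - s (d.rangeRestrict h.1) = h.1
    have h0 : d.rangeRestrict h.1 = 0 := by
      apply Subtype.ext
      exact h.2
    rw [h0, map_zero, sub_zero]
  haveI : Module.Finite A (LinearMap.ker d) :=
    Module.Finite.of_surjective π (fun h => ⟨h.1, hπi h⟩)
  haveI : Module.Projective A (LinearMap.ker d) :=
    Module.Projective.of_split (LinearMap.ker d).subtype π (by
      ext h
      exact congrArg Subtype.val (hπi h))
  haveI : Module.Free A (LinearMap.ker d) := Module.free_of_flat_of_isLocalRing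
  haveI : Nontrivial (LinearMap.ker d) := Submodule.nontrivial_iff_ne_bot.mpr hne
  let b := Module.Free.chooseBasis A (LinearMap.ker d)
  obtain ⟨i⟩ : Nonempty (Module.Free.ChooseBasisIndex A (LinearMap.ker d)) := b.index_nonempty
  refine ⟨(b i).1, (b i).2, (b.coord i) ∘ₗ π, ?_⟩
  show b.coord i (π (b i).1) = 1
  rw [hπi]
  simp

variable (A : Type u) [CommRing A] [IsDomain A] [ValuationRing A]
  (B : Type u) [CommRing B] [Nontrivial B] [Algebra A B]
  (K : ChainComplex (ModuleCat.{u} A) ℤ)

/-- **the canonical map `H_0(K) → H_0(K ⊗_A B)` does not vanish** -/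
theorem exists_hmapM_ne_zero
    (hK : ∀ i, Module.Finite A (K.X i) ∧ Module.Free A (K.X i))
    (hZ : Module.Free A (K.opcycles 0)) (hne : Nontrivial (K.homology 0)) :
    ∃ x : K.homology 0, (hmapM B K 0).hom x ≠ 0 := by
  haveI := (hK 0).1
  haveI := (hK (-1)).2
  haveI : Module.Finite A (K.opcycles 0) :=
    Module.Finite.of_surjective (K.pOpcycles 0).hom
      ((ModuleCat.epi_iff_surjective _).mp inferInstance)
  have hj : (ComplexShape.down ℤ).next 0 = -1 := by simp
  have hex : (ShortComplex.mk (K.homologyι 0) (K.fromOpcycles 0 (-1))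
      (K.homologyι_comp_fromOpcycles 0 (-1))).Exact :=
    ShortComplex.exact_of_f_is_kernel _ (K.homologyIsKernel 0 (-1) hj)
  rw [ShortComplex.moduleCat_exact_iff] at hex
  have hinj : Function.Injective (K.homologyι 0).hom :=
    (ModuleCat.mono_iff_injective _).mp inferInstance
  -- the kernel is nonzero
  have hker : LinearMap.ker (K.fromOpcycles 0 (-1)).hom ≠ ⊥ := by
    obtain ⟨h, hh⟩ := exists_ne (0 : K.homology 0)
    intro h0
    apply hh
    apply hinj
    rw [map_zero]
    have h1 : (K.homologyι 0).hom h ∈ LinearMap.ker (K.fromOpcycles 0 (-1)).hom := by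
      rw [LinearMap.mem_ker]
      have := congrArg (fun g => g.hom h) (K.homologyι_comp_fromOpcycles 0 (-1))
      exact this
    rw [h0] at h1
    exact h1
  obtain ⟨x₀, hx₀, l, hl⟩ := exists_functional A (K.fromOpcycles 0 (-1)).hom hker
  obtain ⟨x, hx⟩ := hex x₀ hx₀
  refine ⟨x, fun h0 => ?_⟩
  -- pass to the opcycles
  have h1 := congrArg (fun g => g.hom x) (hmapM_homologyι B K 0)
  simp only [ModuleCat.hom_comp, LinearMap.comp_apply] at h1
  rw [h0, map_zero] at h1
  have hx' : (K.homologyι 0).hom x = x₀ := hx
  rw [hx'] at h1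
  -- `1 ⊗ x₀ = 0`
  set u : (ModuleCat.extendScalars.{u, u, u} (algebraMap A B)).obj (K.opcycles 0) :=
    ((ModuleCat.extendRestrictScalarsAdj.{u, u, u} (algebraMap A B)).unit.app
      (K.opcycles 0)).hom x₀ with hu
  have h2 : u = 0 := by
    have h3 : (opcUnit B K 0).hom x₀ = 0 := h1.symm
    have h3' : (bcOpcyclesIso (algebraMap A B) K 0).inv.hom u = 0 := h3
    have h4 : (bcOpcyclesIso (algebraMap A B) K 0).hom.hom
        ((bcOpcyclesIso (algebraMap A B) K 0).inv.hom u) = 0 := by
      rw [h3', map_zero]
    refine Eq.trans ?_ h4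
    symm
    exact congrArg (fun g => g.hom u) (bcOpcyclesIso (algebraMap A B) K 0).inv_hom_id
  -- apply the functional
  have h5 : ((ModuleCat.extendScalars.{u, u, u} (algebraMap A B)).map
      (ModuleCat.ofHom l)).hom u = 0 := by
    rw [h2, map_zero]
  have h6 : ((ModuleCat.extendScalars.{u, u, u} (algebraMap A B)).map
      (ModuleCat.ofHom l)).hom u =
      ((ModuleCat.extendRestrictScalarsAdj.{u, u, u} (algebraMap A B)).unit.app
        (ModuleCat.of A A)).hom (l x₀) :=
    (congrArg (fun g => g.hom x₀)
      ((ModuleCat.extendRestrictScalarsAdj.{u, u, u} (algebraMap A B)).unit.naturality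
        (ModuleCat.ofHom l))).symm
  rw [h6, hl] at h5
  -- `1 ⊗ 1 ≠ 0`
  set w : (ModuleCat.extendScalars.{u, u, u} (algebraMap A B)).obj (ModuleCat.of A A) :=
    ((ModuleCat.extendRestrictScalarsAdj.{u, u, u} (algebraMap A B)).unit.app
        (ModuleCat.of A A)).hom (1 : A) with hw
  have h7 : extendScalarsEquiv (R := A) (S := B) (ModuleCat.of A A) w = 0 := by
    rw [h5, map_zero]
  have h8 : extendScalarsEquiv (R := A) (S := B) (ModuleCat.of A A) w =
      (1 : B) ⊗ₜ[A] (1 : A) := rfl
  rw [h8] at h7
  have h9 : TensorProduct.rid A B ((1 : B) ⊗ₜ[A] (1 : A)) = 0 := by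
    rw [h7, map_zero]
  simp at h9

end Groth.Agent.Helper1.ValSeesaw

end
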