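import Groth.Agent.Helper1.ValSeesaw5

set_option autoImplicit false
set_option linter.style.haveILetI false
set_option linter.unusedSectionVars false
set_option linter.unusedVariables false

/-!
# ValSeesaw6: over a valuation ring, the degree-zero base change map to the closed fibre does not
vanish when the generic fibre has nonzero sections
-/

namespace Groth.Agent.Helper1.ValSeesaw

open CategoryTheory Limits Opposite TopologicalSpace AlgebraicGeometry TensorProduct
  AlgebraicGeometry.Scheme.Modules
open Groth.Agent.Helper1.BaseChart Groth.Agent.Helper1.SCV Groth.Agent.Helper1.Seesaw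
open Groth.Agent.Helper1.FlatCx Groth.Agent.Helper1.BCFlatCoh Groth.Agent.Helper1.HMap

universe u

/-- the residue field of the zero ideal of a domain is flat -/
lemma flat_residueField_of_eq_bot {R : Type u} [CommRing R] [IsDomain R] :
    ∀ y : PrimeSpectrum R, y.asIdeal = ⊥ → Module.Flat R y.asIdeal.ResidueField := by
  rintro ⟨I, hI⟩ (rfl : I = ⊥)
  exact IsLocalization.flat _ (nonZeroDivisors R)

/-- if the homology of a complex vanishes in degree `p`, so does the fibre homology at a point
with flat residue field -/
lemma dRank_eq_zero_of_subsingleton_of_flat {R : Type u} [CommRing R]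
    (K : ChainComplex (ModuleCat.{u} R) ℤ) (p : ℤ) (y : PrimeSpectrum R)
    [Module.Flat R y.asIdeal.ResidueField] (h : Subsingleton (K.homology p)) :
    CohIII.dRank K p y = 0 := by
  unfold CohIII.dRank
  have hg : (algebraMap R y.asIdeal.ResidueField).Flat :=
    RingHom.flat_algebraMap_iff.mpr inferInstance
  have e := bcHomologyIso (algebraMap R y.asIdeal.ResidueField) hg K p
  have hz : IsZero (K.homology p) := ModuleCat.isZero_of_subsingleton _
  have hz' : IsZero ((CohIII.bcCx (algebraMap R y.asIdeal.ResidueField) K).homology p) :=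
    (Functor.map_isZero (ModuleCat.extendScalars.{u, u, u}
      (algebraMap R y.asIdeal.ResidueField)) hz).of_iso e
  haveI : Subsingleton ((CohIII.bcCx (algebraMap R y.asIdeal.ResidueField) K).homology p) :=
    ModuleCat.subsingleton_of_isZero hz'
  exact Module.finrank_zero_of_subsingleton

section main

variable {A : Type u} [CommRing A] [IsDomain A] [ValuationRing A] {X : Scheme.{u}}
  (f : X ⟶ Spec (CommRingCat.of A))

set_option maxHeartbeats 1600000 in
/-- **over a valuation ring, the degree-zero base change map to the closed fibre does not vanish**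
when the generic fibre has a nonzero section -/
theorem bc0_closedPoint_ne_zero [IsProper f] [LocallyOfFinitePresentation f]
    (F : X.Modules) [Coh.IsQCoh F] (hF : CohB1.IsFP F) (hfl : FlatMod.IsFlatOver f F)
    (hη : CohIII.fiberRank f F 0 (genericPoint ↑(Spec (CommRingCat.of A))) ≠ 0) :
    CohBC.bc0 f ((Spec (CommRingCat.of A)).fromSpecResidueField (IsLocalRing.closedPoint A))
      (f.fiberToSpecResidueField (IsLocalRing.closedPoint A))
      (f.fiberι (IsLocalRing.closedPoint A))
      (f.fiber_fac (IsLocalRing.closedPoint A)) F ≠ 0 := by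
  let S : Scheme.{u} := Spec (CommRingCat.of A)
  let η : S := genericPoint S
  let s₀ : S := IsLocalRing.closedPoint A
  let W : S.Opens := ⊤
  haveI : IsAffine (W : Scheme.{u}) := isAffineOpen_top S
  obtain ⟨K, M, hpos⟩ := exists_master_pos f W F hF hfl
  -- the ring of the chart is a valuation ring
  let ψ : AV W ≃+* A :=
    (RingEquiv.ofBijective (tau W) (tau_bijective W)).trans
      (Scheme.ΓSpecIso (CommRingCat.of A)).commRingCatIsoToRingEquiv
  haveI : IsDomain (AV W) := ψ.injective.isDomain ψ.toRingHom
  haveI : ValuationRing (AV W) :=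
    Function.Surjective.valuationRing (ψ.symm : A →+* AV W) ψ.symm.surjective
  -- the opcycles in degree zero are free
  have hZ : Module.Free (AV W) (K.opcycles 0) := by
    haveI := (M.hK 1).1
    haveI := (M.hK 0).1
    haveI := (M.hK 0).2
    haveI : Module.FinitePresentation (AV W) (K.opcycles 0) :=
      finitePresentation_opcycles K 1 0 (by simp)
    haveI : Module.Projective (AV W) (K.opcycles 0) := by
      rw [← Module.freeLocus_eq_univ_iff, Set.eq_univ_iff_forall]
      intro y
      have h1 := mem_freeLocus_opcycles_of_dRank_zero K M.hK 1 y (hpos 1 one_pos y)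
      exact h1
    exact Module.free_of_flat_of_isLocalRing
  -- the homology in degree zero does not vanish
  have hηW : η ∈ W := trivial
  have hne : Nontrivial (K.homology 0) := by
    by_contra hcon
    rw [not_nontrivial_iff_subsingleton] at hcon
    apply hη
    have h1 : CohIII.fiberRank f F 0 η = CohIII.dRank K 0 (chartPt W η hηW) := M.betti η hηW 0
    rw [h1]
    have hbot : (chartPt W η hηW).asIdeal = ⊥ := by
      let z : PrimeSpectrum (AV W) := ⟨⊥, Ideal.isPrime_bot⟩
      let w : (W : Scheme.{u}) := (W : Scheme.{u}).isoSpec.inv z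
      have hw : (W : Scheme.{u}).isoSpec.hom w = z := by
        show ((W : Scheme.{u}).isoSpec.inv ≫ (W : Scheme.{u}).isoSpec.hom) z = z
        rw [Iso.inv_hom_id]
        rfl
      have h2 : (⟨η, hηW⟩ : W) ⤳ w := by
        rw [subtype_specializes_iff]
        exact genericPoint_specializes _
      have h3 : chartPt W η hηW ⤳ z := by
        rw [← hw]
        exact h2.map (W : Scheme.{u}).isoSpec.hom.continuous
      have h4 := (PrimeSpectrum.le_iff_specializes _ _).mpr h3
      exact le_bot_iff.mp h4
    haveI := flat_residueField_of_eq_bot (chartPt W η hηW) hbot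
    exact dRank_eq_zero_of_subsingleton_of_flat K 0 _ hcon
  -- conclusion
  have hs₀W : s₀ ∈ W := trivial
  letI aAA' := chartsAlgebra (S.fromSpecResidueField s₀) W (topK s₀) (topK_le s₀ W hs₀W)
  haveI : Nontrivial (AV (topK s₀)) := inferInstance
  have hx := exists_hmapM_ne_zero (AV W) (AV (topK s₀)) K M.hK hZ hne
  exact bc0_fibre_ne_zero f W s₀ hs₀W F K (-((0 : ℕ) : ℤ)) (M.gc 0) hx

end main

end Groth.Agent.Helper1.ValSeesaw
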