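import Groth.Agent.Helper1.ValSeesaw6

set_option autoImplicit false
set_option linter.style.haveILetI false
set_option linter.unusedSectionVars false
set_option linter.unusedVariables false

/-!
# ValSeesaw7: over a valuation ring, an invertible module on a proper flat scheme of finite
presentation with integral closed fibre, trivial on the generic fibre whose global functions are
the fraction field, is trivial
-/

namespace Groth.Agent.Helper1.ValSeesaw

open CategoryTheory Limits Opposite TopologicalSpace AlgebraicGeometry TensorProduct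
  AlgebraicGeometry.Scheme.Modules
open Groth.Agent.Helper1.BaseChart Groth.Agent.Helper1.SCV Groth.Agent.Helper1.Seesaw

universe u

variable {A : Type u} [CommRing A] [IsDomain A] [ValuationRing A] {X : Scheme.{u}}
  (f : X ⟶ Spec (CommRingCat.of A))

set_option maxHeartbeats 1600000 in
theorem main [IsProper f] [Flat f] [LocallyOfFinitePresentation f]
    (L : X.Modules) (hL : PicF.IsInvertible L)
    (htriv : Nonempty ((Scheme.Modules.pullback
      (f.fiberι (genericPoint ↑(Spec (CommRingCat.of A))))).obj L ≅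
      Coh.structureModule (f.fiber (genericPoint ↑(Spec (CommRingCat.of A))))))
    (hint : IsIntegral (f.fiber (IsLocalRing.closedPoint A)))
    (h0 : Function.Bijective
      ((f.fiberToSpecResidueField (genericPoint ↑(Spec (CommRingCat.of A)))).appTop)) :
    Nonempty (L ≅ Coh.structureModule X) := by
  let S : Scheme.{u} := Spec (CommRingCat.of A)
  let η : S := genericPoint S
  let s₀ : S := IsLocalRing.closedPoint A
  obtain ⟨e⟩ := htriv
  obtain ⟨L', hL', -, ⟨b⟩⟩ := Groth.Agent.Lead.InvDual.exists_inverse L hL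
  -- finiteness and flatness
  haveI : L.IsQuasicoherent := (Groth.Agent.Lead.Ref1K.isCoh_of_isInvertible L hL).1
  haveI : Coh.IsQCoh L := ‹L.IsQuasicoherent›
  have hFP : CohB1.IsFP L :=
    Groth.Agent.Helper4.FinLocFree2.isFinitePresentation_of_isFinLocFree L
      (Groth.Agent.Lead.Ref1K.isFinLocFree_of_isInvertible L hL)
  have hfl : FlatMod.IsFlatOver f L :=
    Groth.Agent.Helper1.PicLoc.isFlatOver_of_isInvertible f L hL
  haveI : L'.IsQuasicoherent := (Groth.Agent.Lead.Ref1K.isCoh_of_isInvertible L' hL').1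
  have hFP' : CohB1.IsFP L' :=
    Groth.Agent.Helper4.FinLocFree2.isFinitePresentation_of_isFinLocFree L'
      (Groth.Agent.Lead.Ref1K.isFinLocFree_of_isInvertible L' hL')
  have hfl' : FlatMod.IsFlatOver f L' :=
    Groth.Agent.Helper1.PicLoc.isFlatOver_of_isInvertible f L' hL'
  -- the inverse is trivial on the generic fibre
  let by' : CohB1.tensorMod (CohIII.fiberMod f L η) (CohIII.fiberMod f L' η) ≅
      Coh.structureModule (f.fiber η) :=
    (Groth.Agent.Helper4.PullTensor.pullTensorIso (f.fiberι η) hL hL').symm ≪≫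
      (Scheme.Modules.pullback (f.fiberι η)).mapIso b ≪≫
      Groth.Agent.Helper4.PullUnit.pullbackUnitIso (f.fiberι η)
  have e' : CohIII.fiberMod f L' η ≅ Coh.structureModule (f.fiber η) :=
    (Groth.Agent.Lead.Ref1B.unitorL _).symm ≪≫
      PicGrp.tensorModIso e.symm (Iso.refl _) ≪≫ by'
  -- the fibre ranks
  have r1 : CohIII.fiberRank f L 0 η = 1 := fiberRank_eq_one f L η e h0
  have r2 : CohIII.fiberRank f L' 0 η = 1 := fiberRank_eq_one f L' η e' h0
  have hsp : η ⤳ s₀ := genericPoint_specializes s₀
  have q1 : 1 ≤ CohIII.fiberRank f L 0 s₀ := by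
    rw [← r1]
    exact fiberRank_le_of_specializes f L hFP hfl 0 hsp
  have q2 : 1 ≤ CohIII.fiberRank f L' 0 s₀ := by
    rw [← r2]
    exact fiberRank_le_of_specializes f L' hFP' hfl' 0 hsp
  -- triviality on the closed fibre
  haveI : IsIntegral (f.fiber s₀) := hint
  obtain ⟨e₀⟩ := (fiber_trivial_iff f L L' hL hL' b s₀).mpr ⟨q1, q2⟩
  -- the base change map does not vanish
  have hbc := bc0_closedPoint_ne_zero f L hFP hfl (by rw [r1]; exact one_ne_zero)
  obtain ⟨U, hU, ⟨t⟩⟩ := Groth.Agent.Helper1.SW.exists_nhd_trivial_of_bc0_ne_zero f L hL s₀ hbc e₀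
    (isField_Γ_fiber f s₀)
  have hUtop : U = ⊤ := (IsLocalRing.closedPoint_mem_iff (U := U)).mp hU
  subst hUtop
  exact Groth.Agent.Lead.ParaFLib2.iso_unit_of_restrict_top L t

end Groth.Agent.Helper1.ValSeesaw
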