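import Mathlib

/-!
# Veronese: the ring maps `B_(g) → A_(φ g)` for a degree-multiplying homomorphism `φ : B → A`
-/

set_option autoImplicit false
set_option linter.unusedSectionVars false

namespace Groth.Agent.Helper1.Ver

open HomogeneousLocalization

universe u

variable {A σ B τ : Type u} [CommRing A] [SetLike σ A] [AddSubgroupClass σ A]
  [CommRing B] [SetLike τ B] [AddSubgroupClass τ B]
  (𝒜 : ℕ → σ) (ℬ : ℕ → τ) [GradedRing 𝒜] [GradedRing ℬ]

/-- lifting a ring map into the localization through `val` -/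
noncomputable def liftVal {S : Type u} [CommRing S] {a : A} (ψ : S →+* Localization.Away a)
    (h : ∀ z, ∃ w : Away 𝒜 a, w.val = ψ z) : S →+* Away 𝒜 a where
  toFun z := (h z).choose
  map_one' := val_injective _ (by rw [(h 1).choose_spec, map_one, val_one])
  map_mul' x y := val_injective _ (by
    rw [(h _).choose_spec, map_mul, val_mul, (h x).choose_spec, (h y).choose_spec])
  map_zero' := val_injective _ (by rw [(h 0).choose_spec, map_zero, val_zero])
  map_add' x y := val_injective _ (by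
    rw [(h _).choose_spec, map_add, val_add, (h x).choose_spec, (h y).choose_spec])

lemma val_liftVal {S : Type u} [CommRing S] {a : A} (ψ : S →+* Localization.Away a)
    (h : ∀ z, ∃ w : Away 𝒜 a, w.val = ψ z) (z : S) : (liftVal 𝒜 ψ h z).val = ψ z :=
  (h z).choose_spec

variable (φ : B →+* A)

/-- `B_g → A_a` induced by `φ` when `φ g = a` -/
noncomputable def locMap (g : B) (a : A) (h : φ g = a) :
    Localization.Away g →+* Localization.Away a :=
  Localization.awayLift ((algebraMap A (Localization.Away a)).comp φ) g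
    (by rw [RingHom.comp_apply, h]; exact IsLocalization.Away.algebraMap_isUnit a)

lemma locMap_mk (g : B) (a : A) (h : φ g = a) (b : B) (k : ℕ) :
    locMap φ g a h (Localization.mk b (⟨g ^ k, k, rfl⟩ : Submonoid.powers g)) =
      Localization.mk (φ b) (⟨a ^ k, k, rfl⟩ : Submonoid.powers a) := by
  have hv : ((algebraMap A (Localization.Away a)).comp φ) g *
      Localization.mk 1 (⟨a, 1, by simp⟩ : Submonoid.powers a) = 1 := by
    rw [RingHom.comp_apply, h, ← Algebra.smul_def, Localization.smul_mk, smul_eq_mul, mul_one]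
    exact Localization.mk_self ⟨a, _⟩
  unfold locMap
  rw [Localization.awayLift_mk (hv := hv), RingHom.comp_apply, ← Algebra.smul_def,
    Localization.mk_pow, Localization.smul_mk, one_pow, smul_eq_mul, mul_one]
  rfl

variable {𝒜 ℬ} (d : ℕ) (hφ : ∀ (n : ℕ) (b : B), b ∈ ℬ n → φ b ∈ 𝒜 (n * d))

include hφ in
lemma map_mem' {n : ℕ} {g : B} (hg : g ∈ ℬ n) {a : A} (h : φ g = a) : a ∈ 𝒜 (n * d) :=
  h ▸ hφ n g hg

include hφ in
lemma map_mem_smul {n k : ℕ} {b : B} (hb : b ∈ ℬ (k • n)) : φ b ∈ 𝒜 (k • (n * d)) := by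
  have := hφ _ b hb
  rwa [smul_eq_mul, mul_assoc] at this

include hφ in
lemma exists_val_eq {n : ℕ} {g : B} (hg : g ∈ ℬ n) {a : A} (h : φ g = a) (z : Away ℬ g) :
    ∃ w : Away 𝒜 a, w.val =
      ((locMap φ g a h).comp (algebraMap (Away ℬ g) (Localization.Away g))) z := by
  obtain ⟨k, b, hb, rfl⟩ := Away.mk_surjective ℬ hg z
  refine ⟨Away.mk 𝒜 (map_mem' φ d hφ hg h) k (φ b) (map_mem_smul φ d hφ hb), ?_⟩
  rw [RingHom.comp_apply, HomogeneousLocalization.algebraMap_apply, Away.val_mk, Away.val_mk,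
    locMap_mk]

/-- the map `B_(g) → A_(a)`, `b / g^k ↦ φ b / a^k`, for `a = φ g` -/
noncomputable def θ {n : ℕ} {g : B} (hg : g ∈ ℬ n) {a : A} (h : φ g = a) :
    Away ℬ g →+* Away 𝒜 a :=
  liftVal 𝒜 ((locMap φ g a h).comp (algebraMap (Away ℬ g) (Localization.Away g)))
    (exists_val_eq φ d hφ hg h)

lemma val_θ {n : ℕ} {g : B} (hg : g ∈ ℬ n) {a : A} (h : φ g = a) (z : Away ℬ g) :
    (θ φ d hφ hg h z).val = locMap φ g a h z.val :=
  val_liftVal 𝒜 _ _ z

lemma θ_mk {n : ℕ} {g : B} (hg : g ∈ ℬ n) {a : A} (h : φ g = a) (k : ℕ) (b : B)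
    (hb : b ∈ ℬ (k • n)) :
    θ φ d hφ hg h (Away.mk ℬ hg k b hb) =
      Away.mk 𝒜 (map_mem' φ d hφ hg h) k (φ b) (map_mem_smul φ d hφ hb) := by
  apply val_injective
  rw [val_θ, Away.val_mk, Away.val_mk, locMap_mk]

/-- uniqueness: any ring map compatible with `val` is `θ` -/
lemma eq_θ {n : ℕ} {g : B} (hg : g ∈ ℬ n) {a : A} (h : φ g = a)
    (θ' : Away ℬ g →+* Away 𝒜 a) (hθ' : ∀ z, (θ' z).val = locMap φ g a h z.val) :
    θ' = θ φ d hφ hg h := by
  ext z
  rw [hθ', val_θ]

/-- compatibility with the transition maps, first chart -/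
lemma θ_comp_awayMap_left {n n' : ℕ} {g g' : B} (hg : g ∈ ℬ n) (hg' : g' ∈ ℬ n') {a a' : A}
    (h : φ g = a) (h' : φ g' = a') (hh : φ (g * g') = a * a') :
    (θ φ d hφ (SetLike.mul_mem_graded hg hg') hh).comp (awayMap ℬ hg' rfl) =
      (awayMap 𝒜 (map_mem' φ d hφ hg' h') rfl).comp (θ φ d hφ hg h) := by
  ext z
  obtain ⟨k, b, hb, rfl⟩ := Away.mk_surjective ℬ hg z
  simp only [RingHom.comp_apply]
  rw [val_θ, awayMap_mk, Away.val_mk, locMap_mk, θ_mk, awayMap_mk, Away.val_mk]
  simp only [map_mul, map_pow, h']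

/-- compatibility with the transition maps, second chart -/
lemma θ_comp_awayMap_right {n n' : ℕ} {g g' : B} (hg : g ∈ ℬ n) (hg' : g' ∈ ℬ n') {a a' : A}
    (h : φ g = a) (h' : φ g' = a') (hh : φ (g * g') = a * a') :
    (θ φ d hφ (SetLike.mul_mem_graded hg hg') hh).comp (awayMap ℬ hg (mul_comm g g')) =
      (awayMap 𝒜 (map_mem' φ d hφ hg h) (mul_comm a a')).comp (θ φ d hφ hg' h') := by
  ext z
  obtain ⟨k, b, hb, rfl⟩ := Away.mk_surjective ℬ hg' z
  simp only [RingHom.comp_apply]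
  rw [val_θ, awayMap_mk, Away.val_mk, locMap_mk, θ_mk, awayMap_mk, Away.val_mk]
  simp only [map_mul, map_pow, h]

end Groth.Agent.Helper1.Ver
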