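import Mathlib
import Groth.Agent.Helper1.Ver1

/-!
# Veronese: `B_(g) → A_(φ g)` is bijective
-/

set_option autoImplicit false
set_option linter.unusedSectionVars false

namespace Groth.Agent.Helper1.Ver

open HomogeneousLocalization

universe u

variable {A σ B τ : Type u} [CommRing A] [SetLike σ A] [AddSubgroupClass σ A]
  [CommRing B] [SetLike τ B] [AddSubgroupClass τ B]
  {𝒜 : ℕ → σ} {ℬ : ℕ → τ} [GradedRing 𝒜] [GradedRing ℬ]
  (φ : B →+* A) (d : ℕ) (hφ : ∀ (n : ℕ) (b : B), b ∈ ℬ n → φ b ∈ 𝒜 (n * d))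

lemma θ_injective (hinj : Function.Injective φ) {n : ℕ} {g : B} (hg : g ∈ ℬ n) {a : A}
    (h : φ g = a) : Function.Injective (θ φ d hφ hg h) := by
  rw [injective_iff_map_eq_zero]
  intro z hz
  obtain ⟨k, b, hb, rfl⟩ := Away.mk_surjective ℬ hg z
  rw [θ_mk] at hz
  have h1 := congrArg HomogeneousLocalization.val hz
  rw [Away.val_mk, val_zero, Localization.mk_eq_mk', IsLocalization.mk'_eq_zero_iff] at h1
  obtain ⟨⟨_, N, rfl⟩, hN⟩ := h1
  have h2 : φ (g ^ N * b) = 0 := by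
    rw [map_mul, map_pow, h]
    exact hN
  have h3 : g ^ N * b = 0 := hinj (by rw [h2, map_zero])
  apply val_injective
  rw [Away.val_mk, val_zero, Localization.mk_eq_mk', IsLocalization.mk'_eq_zero_iff]
  exact ⟨⟨g ^ N, N, rfl⟩, h3⟩

lemma θ_surjective (hsurj : ∀ (n : ℕ) (a : A), a ∈ 𝒜 (n * d) → ∃ b ∈ ℬ n, φ b = a) {n : ℕ} {g : B}
    (hg : g ∈ ℬ n) {a : A} (h : φ g = a) : Function.Surjective (θ φ d hφ hg h) := by
  intro w
  obtain ⟨k, c, hc, rfl⟩ := Away.mk_surjective 𝒜 (map_mem' φ d hφ hg h) w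
  have hc' : c ∈ 𝒜 ((k • n) * d) := by
    rwa [smul_eq_mul, mul_assoc]
  obtain ⟨b, hb, rfl⟩ := hsurj _ c hc'
  exact ⟨Away.mk ℬ hg k b hb, θ_mk φ d hφ hg h k b hb⟩

/-- the ring isomorphism `B_(g) ≃ A_(a)` -/
noncomputable def θEquiv (hinj : Function.Injective φ)
    (hsurj : ∀ (n : ℕ) (a : A), a ∈ 𝒜 (n * d) → ∃ b ∈ ℬ n, φ b = a) {n : ℕ} {g : B}
    (hg : g ∈ ℬ n) {a : A} (h : φ g = a) : Away ℬ g ≃+* Away 𝒜 a :=
  RingEquiv.ofBijective (θ φ d hφ hg h)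
    ⟨θ_injective φ d hφ hinj hg h, θ_surjective φ d hφ hsurj hg h⟩

end Groth.Agent.Helper1.Ver
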