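import Mathlib

/-!
# Glueing morphisms out of `Proj` along standard charts
-/

set_option autoImplicit false
set_option linter.unusedSectionVars false

namespace Groth.Agent.Helper1.Ver

open CategoryTheory Limits AlgebraicGeometry HomogeneousLocalization

universe u

variable {A σ : Type u} [CommRing A] [SetLike σ A] [AddSubgroupClass σ A]
  (𝒜 : ℕ → σ) [GradedRing 𝒜]

/-- a morphism out of `Proj 𝒜` may be given on a family of standard charts `D₊(f i)` covering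
`Proj 𝒜`, compatibly on the charts `D₊(f i * f j)` -/
theorem existsUnique_fromProj {I : Type u} (m : I → ℕ) (f : I → A) (hm : ∀ i, 0 < m i)
    (hf : ∀ i, f i ∈ 𝒜 (m i)) (hcov : ∀ x : Proj 𝒜, ∃ i, x ∈ Proj.basicOpen 𝒜 (f i))
    {Z : Scheme.{u}} (r : ∀ i, Spec (CommRingCat.of (Away 𝒜 (f i))) ⟶ Z)
    (hr : ∀ i j, Spec.map (CommRingCat.ofHom (awayMap 𝒜 (hf j) rfl)) ≫ r i =
      Spec.map (CommRingCat.ofHom (awayMap 𝒜 (hf i) (mul_comm (f i) (f j)))) ≫ r j) :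
    ∃! e : Proj 𝒜 ⟶ Z, ∀ i, Proj.awayι 𝒜 (f i) (hf i) (hm i) ≫ e = r i := by
  let 𝒰 : (Proj 𝒜).OpenCover := Scheme.Cover.mkOfCovers I
    (fun i => Spec (CommRingCat.of (Away 𝒜 (f i))))
    (fun i => Proj.awayι 𝒜 (f i) (hf i) (hm i))
    (fun x => by
      obtain ⟨i, hx⟩ := hcov x
      rw [← Proj.opensRange_awayι 𝒜 (f i) (hf i) (hm i)] at hx
      obtain ⟨y, hy⟩ := hx
      exact ⟨i, y, hy⟩)
    (fun i => inferInstance)
  have hcompat : ∀ i j : I, pullback.fst (𝒰.f i) (𝒰.f j) ≫ r i =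
      pullback.snd (𝒰.f i) (𝒰.f j) ≫ r j := by
    intro i j
    have h1 := Proj.pullbackAwayιIso_hom_SpecMap_awayMap_left 𝒜 (hf i) (hm i) (hf j) (hm j) rfl
    have h2 := Proj.pullbackAwayιIso_hom_SpecMap_awayMap_right 𝒜 (hf i) (hm i) (hf j) (hm j) rfl
    change pullback.fst (Proj.awayι 𝒜 (f i) (hf i) (hm i)) (Proj.awayι 𝒜 (f j) (hf j) (hm j)) ≫ r i =
      pullback.snd (Proj.awayι 𝒜 (f i) (hf i) (hm i)) (Proj.awayι 𝒜 (f j) (hf j) (hm j)) ≫ r j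
    rw [← h1, ← h2, Category.assoc, Category.assoc, hr i j]
  refine ⟨𝒰.glueMorphisms r hcompat, fun i => 𝒰.ι_glueMorphisms r hcompat i, ?_⟩
  intro e he
  apply 𝒰.hom_ext
  intro i
  rw [𝒰.ι_glueMorphisms r hcompat i]
  exact he i

/-- morphisms out of `Proj 𝒜` agreeing on a covering family of standard charts are equal -/
theorem hom_ext_fromProj {I : Type u} (m : I → ℕ) (f : I → A) (hm : ∀ i, 0 < m i)
    (hf : ∀ i, f i ∈ 𝒜 (m i)) (hcov : ∀ x : Proj 𝒜, ∃ i, x ∈ Proj.basicOpen 𝒜 (f i))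
    {Z : Scheme.{u}} (e e' : Proj 𝒜 ⟶ Z)
    (h : ∀ i, Proj.awayι 𝒜 (f i) (hf i) (hm i) ≫ e = Proj.awayι 𝒜 (f i) (hf i) (hm i) ≫ e') :
    e = e' := by
  let 𝒰 : (Proj 𝒜).OpenCover := Scheme.Cover.mkOfCovers I
    (fun i => Spec (CommRingCat.of (Away 𝒜 (f i))))
    (fun i => Proj.awayι 𝒜 (f i) (hf i) (hm i))
    (fun x => by
      obtain ⟨i, hx⟩ := hcov x
      rw [← Proj.opensRange_awayι 𝒜 (f i) (hf i) (hm i)] at hx
      obtain ⟨y, hy⟩ := hx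
      exact ⟨i, y, hy⟩)
    (fun i => inferInstance)
  exact 𝒰.hom_ext _ _ h

lemma awayι_congr {f : A} {m m' : ℕ} (e : m = m') (hf : f ∈ 𝒜 m) (hf' : f ∈ 𝒜 m') (hm : 0 < m)
    (hm' : 0 < m') : Proj.awayι 𝒜 f hf hm = Proj.awayι 𝒜 f hf' hm' := by
  subst e
  rfl

variable {B τ : Type u} [CommRing B] [SetLike τ B] [AddSubgroupClass τ B] (ℬ : ℕ → τ) [GradedRing ℬ]

/-- a morphism `Proj 𝒜 ⟶ Proj ℬ` from compatible ring maps on standard charts -/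
theorem existsUnique_projHom {I : Type u} (m : I → ℕ) (f : I → A) (hm : ∀ i, 0 < m i)
    (hf : ∀ i, f i ∈ 𝒜 (m i)) (hcov : ∀ x : Proj 𝒜, ∃ i, x ∈ Proj.basicOpen 𝒜 (f i))
    (m' : I → ℕ) (f' : I → B) (hm' : ∀ i, 0 < m' i) (hf' : ∀ i, f' i ∈ ℬ (m' i))
    (ϑ : ∀ i, Away ℬ (f' i) →+* Away 𝒜 (f i))
    (ϑ₂ : ∀ i j, Away ℬ (f' i * f' j) →+* Away 𝒜 (f i * f j))
    (hL : ∀ i j, (ϑ₂ i j).comp (awayMap ℬ (hf' j) rfl) = (awayMap 𝒜 (hf j) rfl).comp (ϑ i))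
    (hR : ∀ i j, (ϑ₂ i j).comp (awayMap ℬ (hf' i) (mul_comm (f' i) (f' j))) =
      (awayMap 𝒜 (hf i) (mul_comm (f i) (f j))).comp (ϑ j)) :
    ∃! e : Proj 𝒜 ⟶ Proj ℬ, ∀ i, Proj.awayι 𝒜 (f i) (hf i) (hm i) ≫ e =
      Spec.map (CommRingCat.ofHom (ϑ i)) ≫ Proj.awayι ℬ (f' i) (hf' i) (hm' i) := by
  apply existsUnique_fromProj 𝒜 m f hm hf hcov
  intro i j
  have h1 : Spec.map (CommRingCat.ofHom (awayMap 𝒜 (hf j) rfl)) ≫
      Spec.map (CommRingCat.ofHom (ϑ i)) =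
      Spec.map (CommRingCat.ofHom (ϑ₂ i j)) ≫
        Spec.map (CommRingCat.ofHom (awayMap ℬ (hf' j) rfl)) := by
    rw [← Spec.map_comp, ← Spec.map_comp, ← CommRingCat.ofHom_comp, ← CommRingCat.ofHom_comp,
      hL i j]
  have h2 : Spec.map (CommRingCat.ofHom (awayMap 𝒜 (hf i) (mul_comm (f i) (f j)))) ≫
      Spec.map (CommRingCat.ofHom (ϑ j)) =
      Spec.map (CommRingCat.ofHom (ϑ₂ i j)) ≫
        Spec.map (CommRingCat.ofHom (awayMap ℬ (hf' i) (mul_comm (f' i) (f' j)))) := by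
    rw [← Spec.map_comp, ← Spec.map_comp, ← CommRingCat.ofHom_comp, ← CommRingCat.ofHom_comp,
      hR i j]
  rw [reassoc_of% h1, reassoc_of% h2, Proj.SpecMap_awayMap_awayι, Proj.SpecMap_awayMap_awayι]
  congr 1

end Groth.Agent.Helper1.Ver
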