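import Mathlib
import Groth.Agent.Helper1.Ver2
import Groth.Agent.Helper1.Ver3

/-!
# Veronese: the isomorphism `Proj 𝒜 ≅ Proj ℬ` for `φ : ℬ → 𝒜` multiplying degrees by `d`,
injective, and onto the pieces `𝒜 (n d)`
-/

set_option autoImplicit false
set_option linter.unusedSectionVars false

namespace Groth.Agent.Helper1.Ver

open CategoryTheory Limits AlgebraicGeometry HomogeneousLocalization
open scoped HomogeneousIdeal

universe u

variable {A σ B τ : Type u} [CommRing A] [SetLike σ A] [AddSubgroupClass σ A]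
  [CommRing B] [SetLike τ B] [AddSubgroupClass τ B]
  (𝒜 : ℕ → σ) (ℬ : ℕ → τ) [GradedRing 𝒜] [GradedRing ℬ]

lemma exists_pos_deg_notMem (x : ProjectiveSpectrum 𝒜) :
    ∃ (k : ℕ) (h : A), 0 < k ∧ h ∈ 𝒜 k ∧ h ∉ x.asHomogeneousIdeal := by
  by_contra hcon
  push Not at hcon
  apply x.not_irrelevant_le
  rw [HomogeneousIdeal.irrelevant_le]
  intro i hi f hf
  exact hcon i f hi hf

/-- the index set of standard charts: homogeneous elements of positive degree of `ℬ` -/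
abbrev Idx := Σ n : ℕ+, ℬ n

variable {ℬ} in
abbrev Idx.deg (i : Idx ℬ) : ℕ := (i.1 : ℕ)

variable {ℬ} in
abbrev Idx.g (i : Idx ℬ) : B := (i.2 : B)

variable {ℬ} in
lemma Idx.hg (i : Idx ℬ) : i.g ∈ ℬ i.deg := i.2.2

variable {ℬ} in
lemma Idx.pos (i : Idx ℬ) : 0 < i.deg := i.1.pos

lemma cover_ℬ (x : Proj ℬ) : ∃ i : Idx ℬ, x ∈ Proj.basicOpen ℬ i.g := by
  obtain ⟨k, h, hk, hh, hx⟩ := exists_pos_deg_notMem ℬ x
  exact ⟨⟨⟨k, hk⟩, ⟨h, hh⟩⟩, (Proj.mem_basicOpen ℬ h x).2 hx⟩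

variable (φ : B →+* A) (d : ℕ) (hd : 0 < d)
  (hφ : ∀ (n : ℕ) (b : B), b ∈ ℬ n → φ b ∈ 𝒜 (n * d))
  (hinj : Function.Injective φ)
  (hsurj : ∀ (n : ℕ) (a : A), a ∈ 𝒜 (n * d) → ∃ b ∈ ℬ n, φ b = a)

include hd hsurj in
lemma cover_𝒜 (x : Proj 𝒜) : ∃ i : Idx ℬ, x ∈ Proj.basicOpen 𝒜 (φ i.g) := by
  obtain ⟨k, h, hk, hh, hx⟩ := exists_pos_deg_notMem 𝒜 x
  have h1 : h ^ d ∈ 𝒜 (k * d) := by
    have := SetLike.pow_mem_graded d hh
    rwa [smul_eq_mul, mul_comm] at this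
  obtain ⟨b, hb, hbh⟩ := hsurj k _ h1
  refine ⟨⟨⟨k, hk⟩, ⟨b, hb⟩⟩, ?_⟩
  change x ∈ Proj.basicOpen 𝒜 (φ b)
  rw [hbh, Proj.basicOpen_pow 𝒜 h d hd]
  exact (Proj.mem_basicOpen 𝒜 h x).2 hx

variable {ℬ} in
include hφ in
lemma Idx.hφg (i : Idx ℬ) : φ i.g ∈ 𝒜 (i.deg * d) := hφ _ _ i.hg

variable {ℬ} in
include hd in
lemma Idx.posd (i : Idx ℬ) : 0 < i.deg * d := Nat.mul_pos i.pos hd

include hsurj in
/-- the morphism `Proj 𝒜 ⟶ Proj ℬ` -/
theorem existsUnique_fwd :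
    ∃! e : Proj 𝒜 ⟶ Proj ℬ, ∀ i : Idx ℬ,
      Proj.awayι 𝒜 (φ i.g) (i.hφg 𝒜 φ d hφ) (i.posd d hd) ≫ e =
        Spec.map (CommRingCat.ofHom (θ φ d hφ i.hg rfl)) ≫ Proj.awayι ℬ i.g i.hg i.pos :=
  existsUnique_projHom 𝒜 ℬ (fun i : Idx ℬ => i.deg * d) (fun i => φ i.g) (fun i => i.posd d hd)
    (fun i => i.hφg 𝒜 φ d hφ) (cover_𝒜 𝒜 ℬ φ d hd hsurj) (fun i => i.deg) (fun i => i.g)
    (fun i => i.pos) (fun i => i.hg) (fun i => θ φ d hφ i.hg rfl)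
    (fun i j => θ φ d hφ (SetLike.mul_mem_graded i.hg j.hg) (map_mul φ _ _))
    (fun i j => θ_comp_awayMap_left φ d hφ i.hg j.hg rfl rfl (map_mul φ _ _))
    (fun i j => θ_comp_awayMap_right φ d hφ i.hg j.hg rfl rfl (map_mul φ _ _))

/-- the morphism `Proj ℬ ⟶ Proj 𝒜` -/
theorem existsUnique_bwd :
    ∃! e : Proj ℬ ⟶ Proj 𝒜, ∀ i : Idx ℬ,
      Proj.awayι ℬ i.g i.hg i.pos ≫ e =
        Spec.map (CommRingCat.ofHom (θEquiv φ d hφ hinj hsurj i.hg rfl).symm.toRingHom) ≫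
          Proj.awayι 𝒜 (φ i.g) (i.hφg 𝒜 φ d hφ) (i.posd d hd) := by
  refine existsUnique_projHom ℬ 𝒜 (fun i : Idx ℬ => i.deg) (fun i => i.g) (fun i => i.pos)
    (fun i => i.hg) (cover_ℬ ℬ) (fun i => i.deg * d) (fun i => φ i.g) (fun i => i.posd d hd)
    (fun i => i.hφg 𝒜 φ d hφ) (fun i => (θEquiv φ d hφ hinj hsurj i.hg rfl).symm.toRingHom)
    (fun i j => (θEquiv φ d hφ hinj hsurj (SetLike.mul_mem_graded i.hg j.hg)
      (map_mul φ _ _)).symm.toRingHom) ?_ ?_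
  · intro i j
    refine RingHom.ext fun z => ?_
    apply (θEquiv φ d hφ hinj hsurj (SetLike.mul_mem_graded i.hg j.hg) (map_mul φ _ _)).injective
    have h1 := RingHom.congr_fun
      (θ_comp_awayMap_left φ d hφ i.hg j.hg rfl rfl (map_mul φ _ _))
      ((θEquiv φ d hφ hinj hsurj i.hg rfl).symm z)
    simp only [RingHom.comp_apply] at h1
    have h2 : θ φ d hφ i.hg rfl ((θEquiv φ d hφ hinj hsurj i.hg rfl).symm z) = z :=
      (θEquiv φ d hφ hinj hsurj i.hg rfl).apply_symm_apply z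
    rw [h2] at h1
    simp only [RingHom.comp_apply, RingEquiv.toRingHom_eq_coe, RingHom.coe_coe,
      RingEquiv.apply_symm_apply]
    exact h1.symm
  · intro i j
    refine RingHom.ext fun z => ?_
    apply (θEquiv φ d hφ hinj hsurj (SetLike.mul_mem_graded i.hg j.hg) (map_mul φ _ _)).injective
    have h1 := RingHom.congr_fun
      (θ_comp_awayMap_right φ d hφ i.hg j.hg rfl rfl (map_mul φ _ _))
      ((θEquiv φ d hφ hinj hsurj j.hg rfl).symm z)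
    simp only [RingHom.comp_apply] at h1
    have h2 : θ φ d hφ j.hg rfl ((θEquiv φ d hφ hinj hsurj j.hg rfl).symm z) = z :=
      (θEquiv φ d hφ hinj hsurj j.hg rfl).apply_symm_apply z
    rw [h2] at h1
    simp only [RingHom.comp_apply, RingEquiv.toRingHom_eq_coe, RingHom.coe_coe,
      RingEquiv.apply_symm_apply]
    exact h1.symm

include hinj hsurj in
/-- **the Veronese isomorphism** -/
theorem exists_iso :
    ∃ e : Proj 𝒜 ≅ Proj ℬ, ∀ i : Idx ℬ,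
      Proj.awayι 𝒜 (φ i.g) (i.hφg 𝒜 φ d hφ) (i.posd d hd) ≫ e.hom =
        Spec.map (CommRingCat.ofHom (θ φ d hφ i.hg rfl)) ≫ Proj.awayι ℬ i.g i.hg i.pos := by
  obtain ⟨e₁, he₁, -⟩ := existsUnique_fwd 𝒜 ℬ φ d hd hφ hsurj
  obtain ⟨e₂, he₂, -⟩ := existsUnique_bwd 𝒜 ℬ φ d hd hφ hinj hsurj
  have hθ : ∀ i : Idx ℬ, CommRingCat.ofHom (θEquiv φ d hφ hinj hsurj i.hg rfl).symm.toRingHom ≫
      CommRingCat.ofHom (θ φ d hφ i.hg rfl) = 𝟙 _ := by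
    intro i
    ext z
    exact congrArg HomogeneousLocalization.val
      ((θEquiv φ d hφ hinj hsurj i.hg rfl).apply_symm_apply z)
  have hθ' : ∀ i : Idx ℬ, CommRingCat.ofHom (θ φ d hφ i.hg rfl) ≫
      CommRingCat.ofHom (θEquiv φ d hφ hinj hsurj i.hg rfl).symm.toRingHom = 𝟙 _ := by
    intro i
    ext z
    exact congrArg HomogeneousLocalization.val
      ((θEquiv φ d hφ hinj hsurj i.hg rfl).symm_apply_apply z)
  refine ⟨⟨e₁, e₂, ?_, ?_⟩, he₁⟩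
  · apply hom_ext_fromProj 𝒜 (fun i : Idx ℬ => i.deg * d) (fun i => φ i.g)
      (fun i => i.posd d hd) (fun i => i.hφg 𝒜 φ d hφ) (cover_𝒜 𝒜 ℬ φ d hd hsurj)
    intro i
    rw [reassoc_of% he₁ i, he₂ i, ← Spec.map_comp_assoc, hθ i, Spec.map_id, Category.id_comp,
      Category.comp_id]
  · apply hom_ext_fromProj ℬ (fun i : Idx ℬ => i.deg) (fun i => i.g) (fun i => i.pos)
      (fun i => i.hg) (cover_ℬ ℬ)
    intro i
    rw [reassoc_of% he₂ i, he₁ i, ← Spec.map_comp_assoc, hθ' i, Spec.map_id, Category.id_comp,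
      Category.comp_id]

end Groth.Agent.Helper1.Ver
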