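import Mathlib
import Groth.Agent.Helper1.Ver4

/-!
# Veronese: the isomorphism on points
-/

set_option autoImplicit false
set_option linter.unusedSectionVars false

namespace Groth.Agent.Helper1.Ver

open CategoryTheory Limits AlgebraicGeometry HomogeneousLocalization
open scoped HomogeneousIdeal

universe u

variable {A σ B τ : Type u} [CommRing A] [SetLike σ A] [AddSubgroupClass σ A]
  [CommRing B] [SetLike τ B] [AddSubgroupClass τ B]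
  (𝒜 : ℕ → σ) (ℬ : ℕ → τ) [GradedRing 𝒜] [GradedRing ℬ]
  (φ : B →+* A) (d : ℕ) (hd : 0 < d)
  (hφ : ∀ (n : ℕ) (b : B), b ∈ ℬ n → φ b ∈ 𝒜 (n * d))

include hd in
/-- membership of a homogeneous element of positive degree, on a chart -/
lemma mem_iff_of_chart (e : Proj 𝒜 ⟶ Proj ℬ) (i : Idx ℬ)
    (he : Proj.awayι 𝒜 (φ i.g) (i.hφg 𝒜 φ d hφ) (i.posd d hd) ≫ e =
      Spec.map (CommRingCat.ofHom (θ φ d hφ i.hg rfl)) ≫ Proj.awayι ℬ i.g i.hg i.pos)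
    (q : Spec (CommRingCat.of (Away 𝒜 (φ i.g)))) {k : ℕ} (hk : 0 < k) {b : B} (hb : b ∈ ℬ k) :
    b ∈ (e (Proj.awayι 𝒜 (φ i.g) (i.hφg 𝒜 φ d hφ) (i.posd d hd) q)).asHomogeneousIdeal ↔
      φ b ∈ (Proj.awayι 𝒜 (φ i.g) (i.hφg 𝒜 φ d hφ) (i.posd d hd) q).asHomogeneousIdeal := by
  have hφb : φ b ∈ 𝒜 (k * d) := hφ k b hb
  have hkd : 0 < k * d := Nat.mul_pos hk hd
  set Eℬ := Away.isLocalizationElem i.hg hb with hEℬ
  set E𝒜 := Away.isLocalizationElem (i.hφg 𝒜 φ d hφ) hφb with hE𝒜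
  have hE : E𝒜 = (θ φ d hφ i.hg rfl Eℬ) ^ d := by
    apply val_injective
    rw [val_pow, hEℬ, hE𝒜, θ_mk, Away.val_mk, Away.val_mk, Localization.mk_pow]
    congr 1
    · rw [map_pow, ← pow_mul]
    · apply Subtype.ext
      change φ i.g ^ (k * d) = (φ i.g ^ k) ^ d
      rw [pow_mul]
  have h1 : e (Proj.awayι 𝒜 (φ i.g) (i.hφg 𝒜 φ d hφ) (i.posd d hd) q) =
      Proj.awayι ℬ i.g i.hg i.pos (Spec.map (CommRingCat.ofHom (θ φ d hφ i.hg rfl)) q) := by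
    rw [← Scheme.Hom.comp_apply, he, Scheme.Hom.comp_apply]
  have hL : b ∈ (e (Proj.awayι 𝒜 (φ i.g) (i.hφg 𝒜 φ d hφ) (i.posd d hd)
      q)).asHomogeneousIdeal ↔ θ φ d hφ i.hg rfl Eℬ ∈ q.asIdeal := by
    rw [h1]
    have h2 : Proj.awayι ℬ i.g i.hg i.pos
        (Spec.map (CommRingCat.ofHom (θ φ d hφ i.hg rfl)) q) ∈ Proj.basicOpen ℬ b ↔
        Spec.map (CommRingCat.ofHom (θ φ d hφ i.hg rfl)) q ∈
          Proj.awayι ℬ i.g i.hg i.pos ⁻¹ᵁ Proj.basicOpen ℬ b := Iff.rfl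
    rw [Proj.awayι_preimage_basicOpen ℬ i.hg i.pos hb hk, Proj.mem_basicOpen] at h2
    rw [← not_iff_not, h2]
    exact Iff.rfl
  have hR : φ b ∈ (Proj.awayι 𝒜 (φ i.g) (i.hφg 𝒜 φ d hφ) (i.posd d hd)
      q).asHomogeneousIdeal ↔ E𝒜 ∈ q.asIdeal := by
    have h2 : Proj.awayι 𝒜 (φ i.g) (i.hφg 𝒜 φ d hφ) (i.posd d hd) q ∈
        Proj.basicOpen 𝒜 (φ b) ↔
        q ∈ Proj.awayι 𝒜 (φ i.g) (i.hφg 𝒜 φ d hφ) (i.posd d hd) ⁻¹ᵁ Proj.basicOpen 𝒜 (φ b) :=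
      Iff.rfl
    rw [Proj.awayι_preimage_basicOpen 𝒜 (i.hφg 𝒜 φ d hφ) (i.posd d hd) hφb hkd,
      Proj.mem_basicOpen] at h2
    rw [← not_iff_not, h2]
    exact Iff.rfl
  rw [hL, hR, hE]
  exact (q.isPrime.pow_mem_iff_mem d hd).symm

end Groth.Agent.Helper1.Ver
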