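import Mathlib
import Groth.Agent.Helper1.Ver5

/-!
# Veronese: the isomorphism sends `p` to `φ⁻¹ p`
-/

set_option autoImplicit false
set_option linter.unusedSectionVars false

namespace Groth.Agent.Helper1.Ver

open CategoryTheory Limits AlgebraicGeometry HomogeneousLocalization
open scoped HomogeneousIdeal

universe u

variable {A σ B τ : Type u} [CommRing A] [SetLike σ A] [AddSubgroupClass σ A]
  [CommRing B] [SetLike τ B] [AddSubgroupClass τ B]
  (𝒜 : ℕ → σ) (ℬ : ℕ → τ) [GradedRing 𝒜] [GradedRing ℬ]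
  (φ : B →+* A) (d : ℕ) (hd : 0 < d)
  (hφ : ∀ (n : ℕ) (b : B), b ∈ ℬ n → φ b ∈ 𝒜 (n * d))

include hd hφ in
/-- the homogeneous components of `φ x` -/
lemma decompose_map (x : B) (k : ℕ) :
    (DirectSum.decompose 𝒜 (φ x) (k * d) : A) = φ (DirectSum.decompose ℬ x k : B) := by
  classical
  have hx : x = ∑ j ∈ DFinsupp.support (DirectSum.decompose ℬ x),
      ((DirectSum.decompose ℬ x j : ℬ j) : B) := (DirectSum.sum_support_decompose ℬ x).symm
  have hmem : ∀ j, φ ((DirectSum.decompose ℬ x j : ℬ j) : B) ∈ 𝒜 (j * d) := fun j =>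
    hφ j _ (DirectSum.decompose ℬ x j).2
  conv_lhs => rw [hx]
  rw [map_sum, DirectSum.decompose_sum, DFinsupp.finsetSum_apply, AddSubmonoidClass.coe_finsetSum]
  by_cases hk : k ∈ DFinsupp.support (DirectSum.decompose ℬ x)
  · rw [Finset.sum_eq_single k]
    · exact DirectSum.decompose_of_mem_same 𝒜 (hmem k)
    · intro j _ hjk
      exact DirectSum.decompose_of_mem_ne 𝒜 (hmem j)
        (fun h => hjk (Nat.eq_of_mul_eq_mul_right hd h))
    · intro h; exact absurd hk h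
  · rw [DFinsupp.notMem_support_iff] at hk
    rw [hk, ZeroMemClass.coe_zero, map_zero]
    apply Finset.sum_eq_zero
    intro j hj
    have hjk : j ≠ k := by
      rintro rfl
      rw [DFinsupp.mem_support_iff] at hj
      exact hj hk
    exact DirectSum.decompose_of_mem_ne 𝒜 (hmem j)
      (fun h => hjk (Nat.eq_of_mul_eq_mul_right hd h))

variable (hsurj : ∀ (n : ℕ) (a : A), a ∈ 𝒜 (n * d) → ∃ b ∈ ℬ n, φ b = a)

include hd hφ hsurj in
/-- **on points the Veronese isomorphism is `p ↦ φ⁻¹ p`** -/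
theorem asHomogeneousIdeal_eq (e : Proj 𝒜 ⟶ Proj ℬ)
    (he : ∀ i : Idx ℬ, Proj.awayι 𝒜 (φ i.g) (i.hφg 𝒜 φ d hφ) (i.posd d hd) ≫ e =
      Spec.map (CommRingCat.ofHom (θ φ d hφ i.hg rfl)) ≫ Proj.awayι ℬ i.g i.hg i.pos)
    (p : Proj 𝒜) :
    (e p).asHomogeneousIdeal.toIdeal = Ideal.comap φ p.asHomogeneousIdeal.toIdeal := by
  classical
  obtain ⟨i, hp⟩ := cover_𝒜 𝒜 ℬ φ d hd hsurj p
  have hp' := hp
  rw [← Proj.opensRange_awayι 𝒜 (φ i.g) (i.hφg 𝒜 φ d hφ) (i.posd d hd)] at hp'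
  obtain ⟨q, rfl⟩ := hp'
  set P := Proj.awayι 𝒜 (φ i.g) (i.hφg 𝒜 φ d hφ) (i.posd d hd) q with hP
  have key : ∀ {k : ℕ} (_ : 0 < k) {b : B} (_ : b ∈ ℬ k),
      b ∈ (e P).asHomogeneousIdeal ↔ φ b ∈ P.asHomogeneousIdeal := fun hk _ hb =>
    mem_iff_of_chart 𝒜 ℬ φ d hd hφ e i (he i) q hk hb
  have hg𝒜 : φ i.g ∉ P.asHomogeneousIdeal := (Proj.mem_basicOpen 𝒜 _ P).1 hp
  have hgℬ : i.g ∉ (e P).asHomogeneousIdeal := fun h => hg𝒜 ((key i.pos i.hg).1 h)
  have keyAll : ∀ (k : ℕ) (b : B), b ∈ ℬ k →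
      (b ∈ (e P).asHomogeneousIdeal ↔ φ b ∈ P.asHomogeneousIdeal) := by
    intro k b hb
    rcases Nat.eq_zero_or_pos k with rfl | hk
    · have h1 : b * i.g ∈ ℬ (0 + i.deg) := SetLike.mul_mem_graded hb i.hg
      have h2 := key (by rw [zero_add]; exact i.pos) h1
      rw [map_mul] at h2
      constructor
      · intro hbI
        have h3 : b * i.g ∈ (e P).asHomogeneousIdeal := Ideal.mul_mem_right _ _ hbI
        exact (P.isPrime.mem_or_mem (h2.1 h3)).resolve_right hg𝒜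
      · intro hbP
        have h3 : φ b * φ i.g ∈ P.asHomogeneousIdeal := Ideal.mul_mem_right _ _ hbP
        exact ((e P).isPrime.mem_or_mem (h2.2 h3)).resolve_right hgℬ
    · exact key hk hb
  ext x
  rw [Ideal.mem_comap]
  constructor
  · intro hx
    rw [← DirectSum.sum_support_decompose ℬ x, map_sum]
    apply Ideal.sum_mem
    intro k _
    exact (keyAll k _ (DirectSum.decompose ℬ x k).2).1 ((e P).asHomogeneousIdeal.isHomogeneous k hx)
  · intro hx
    rw [← DirectSum.sum_support_decompose ℬ x]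
    apply Ideal.sum_mem
    intro k _
    apply (keyAll k _ (DirectSum.decompose ℬ x k).2).2
    rw [← decompose_map 𝒜 ℬ φ d hd hφ]
    exact P.asHomogeneousIdeal.isHomogeneous (k * d) hx

end Groth.Agent.Helper1.Ver
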