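import Mathlib
import Groth.Agent.Helper1.LDualD
import Groth.Agent.Helper1.LcColim

set_option autoImplicit false

namespace Groth.Agent.Helper1.WattsColim
open CategoryTheory Limits TensorProduct MonoidalCategory
open Groth.Agent.Helper1.LDual

universe u

/-- a natural transformation between functors preserving a colimit, which is an isomorphism on
the diagram, is an isomorphism on the colimit -/
lemma isIso_app_of_isColimit {K : Type*} [Category K] {C : Type*} [Category C] {D : Type*}
    [Category D] {F G : C ⥤ D} (τ : F ⟶ G) {D₀ : K ⥤ C} (c : Cocone D₀) (hc : IsColimit c)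
    [PreservesColimit D₀ F] [PreservesColimit D₀ G] (h : ∀ j, IsIso (τ.app (D₀.obj j))) :
    IsIso (τ.app c.pt) := by
  have hF : IsColimit (F.mapCocone c) := isColimitOfPreserves F hc
  have hG : IsColimit (G.mapCocone c) := isColimitOfPreserves G hc
  haveI : IsIso (Functor.whiskerLeft D₀ τ) := by
    haveI : ∀ j, IsIso ((Functor.whiskerLeft D₀ τ).app j) := fun j => h j
    exact NatIso.isIso_of_isIso_app _
  let e := IsColimit.coconePointsIsoOfNatIso hF hG (asIso (Functor.whiskerLeft D₀ τ))
  have : τ.app c.pt = e.hom := by
    apply hF.hom_ext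
    intro j
    rw [IsColimit.comp_coconePointsIsoOfNatIso_hom]
    exact τ.naturality (c.ι.app j)
  rw [this]
  infer_instance

variable {R : Type u} [CommRing R]

/-- `tens H` is `tensorRight H` -/
noncomputable def tensIso (H : ModuleCat.{u} R) : tens H ≅ tensorRight H :=
  NatIso.ofComponents (fun X => (Iso.refl _ : (tens H).obj X ≅ (tensorRight H).obj X)) (by
    intro X Y f
    apply ModuleCat.hom_ext
    apply TensorProduct.ext'
    intro x h
    rfl)

instance (H : ModuleCat.{u} R) : PreservesColimitsOfSize.{u, u} (tens H) :=
  preservesColimits_of_natIso (tensIso H).symm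

variable (T : ModuleCat.{u} R ⥤ ModuleCat.{u} R) [T.Additive] [T.Linear R]

/-- **Watts**: a right exact linear functor commuting with directed colimits is a tensor
product (Noetherian base) -/
theorem isIso_theta [IsNoetherianRing R] (hT : RightExact T)
    (hG : ∀ (Λ : Type u) [PartialOrder Λ] [IsDirected Λ (· ≤ ·)] [Nonempty Λ],
      PreservesColimitsOfShape Λ T) (M : ModuleCat.{u} R) : IsIso ((theta T).app M) := by
  classical
  let Λ := {N : Submodule R M // N.FG}
  haveI : Nonempty Λ := ⟨⟨⊥, Submodule.fg_bot⟩⟩
  haveI := hG Λ
  let c := ModuleCat.directLimitCocone (R := R) (fun N : Λ => N.1) (Module.fgSystem R M)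
  have hc : IsColimit c := ModuleCat.directLimitIsColimit _ _
  have h1 : IsIso ((theta T).app c.pt) := by
    refine isIso_app_of_isColimit (theta T) c hc (fun N => ?_)
    haveI : Module.Finite R N.1 := Module.Finite.iff_fg.2 N.2
    exact isIso_theta_of_finite T hT (ModuleCat.of R N.1)
  let e : c.pt ≅ M := (Module.fgSystem.equiv R M).toModuleIso
  have h2 : (theta T).app M = (tens _).map e.inv ≫ (theta T).app c.pt ≫ T.map e.hom := by
    rw [(theta T).naturality_assoc, ← T.map_comp, e.inv_hom_id, T.map_id, Category.comp_id]
  rw [h2]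
  infer_instance

/-- the resulting natural isomorphism -/
noncomputable def thetaIso [IsNoetherianRing R] (hT : RightExact T)
    (hG : ∀ (Λ : Type u) [PartialOrder Λ] [IsDirected Λ (· ≤ ·)] [Nonempty Λ],
      PreservesColimitsOfShape Λ T) : tens (T.obj (ModuleCat.of R R)) ≅ T :=
  haveI : ∀ M, IsIso ((theta T).app M) := fun M => isIso_theta T hT hG M
  haveI : IsIso (theta T) := NatIso.isIso_of_isIso_app _
  asIso (theta T)

section lc

variable [IsNoetherianRing R] (J : Ideal R) (n : ℕ)

/-- top local cohomology is a tensor product -/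
noncomputable def lcTensIso
    (hvan : ∀ M : ModuleCat.{u} R, IsZero ((localCohomology J (n + 1)).obj M)) :
    tens ((localCohomology J n).obj (ModuleCat.of R R)) ≅ localCohomology J n :=
  thetaIso (localCohomology J n) (rightExact_lc J n hvan)
    (fun Λ _ _ _ => LcColim.preservesColimitsOfShape J Λ n)

end lc

end Groth.Agent.Helper1.WattsColim
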