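import Mathlib
import Groth.Agent.Helper1.WattsColim
import Groth.Agent.Helper1.LocCohCd
import Groth.Agent.Helper1.LocCohVanish
import Groth.Prelude.Def_Wider

set_option autoImplicit false

/-!
# Applications of Watts' theorem to top local cohomology
-/

namespace Groth.Agent.Helper1.WattsColim
open CategoryTheory Limits TensorProduct MonoidalCategory
open Groth.Agent.Helper1.LDual

universe u

theorem s17757 (R : Type u) [CommRing R] [IsNoetherianRing R] [IsLocalRing R] (d : ℕ) (hd : ringKrullDim R = d) (I : Ideal R) (M : Type u) [AddCommGroup M] [Module R M] : Nonempty (LocCoh.H I d M ≃ₗ[R] TensorProduct R (LocCoh.H I d R) M) := by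
  have hvan : ∀ M : ModuleCat.{u} R, IsZero ((localCohomology I (d + 1)).obj M) := by
    intro M
    refine LocCohVanish.isZero_lc_of_supportDim_lt I M (d + 1) ?_
    refine (Module.supportDim_le_ringKrullDim R M).trans_lt ?_
    rw [hd]
    exact_mod_cast Nat.lt_succ_self d
  let e := (lcTensIso I d hvan).app (ModuleCat.of R M)
  exact ⟨e.symm.toLinearEquiv ≪≫ₗ TensorProduct.comm R _ _⟩

theorem s17073
    (R S : Type u) [CommRing R] [CommRing S] [IsNoetherianRing S] [Algebra R S]
    (J : Ideal S) (d : ℕ) (u : Fin d → S) (hu : ∀ i, u i ∈ J)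
    (hJ : J ≤ (Ideal.span (Set.range u)).radical)
    (F : Type u) [AddCommGroup F] [Module R F] :
    ((localCohomology J d ⋙ ModuleCat.restrictScalars (algebraMap R S)).op ⋙
      yoneda.obj (ModuleCat.of R F)).IsRepresentable := by
  classical
  set K : Ideal S := Ideal.span (Set.range u) with hK
  have hKJ : K ≤ J := Ideal.span_le.2 (by rintro _ ⟨i, rfl⟩; exact hu i)
  have hrad : K.radical = J.radical :=
    le_antisymm (Ideal.radical_mono hKJ) (by
      have := Ideal.radical_mono hJ
      rwa [Ideal.radical_idem] at this)
  have hcd : LocCoh.CdLE S K d := by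
    intro M _ _ i hi
    have h1 := LocCohCd.cdLE_span_finset (R := S) (Finset.image u Finset.univ) M i
      (lt_of_le_of_lt (Finset.card_image_le.trans (by simp)) hi)
    have h2 : ((Finset.image u Finset.univ : Finset S) : Set S) = Set.range u := by
      simp
    rw [h2] at h1
    exact h1
  have hvan : ∀ M : ModuleCat.{u} S, IsZero ((localCohomology J (d + 1)).obj M) := by
    intro M
    have h1 : IsZero ((localCohomology K (d + 1)).obj M) :=
      ModuleCat.isZero_iff_subsingleton.2 (hcd M (d + 1) (Nat.lt_succ_self d))
    exact IsZero.of_iso h1 ((localCohomology.isoOfSameRadical hrad (d + 1)).app M).symm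
  let e : tensorRight ((localCohomology J d).obj (ModuleCat.of S S)) ≅ localCohomology J d :=
    (tensIso _).symm ≪≫ lcTensIso J d hvan
  haveI : (localCohomology J d).IsLeftAdjoint := Functor.isLeftAdjoint_of_iso e
  haveI : (localCohomology J d ⋙ ModuleCat.restrictScalars (algebraMap R S)).IsLeftAdjoint :=
    inferInstance
  let adj := Adjunction.ofIsLeftAdjoint
    (localCohomology J d ⋙ ModuleCat.restrictScalars (algebraMap R S))
  exact (adj.representableBy (ModuleCat.of R F)).isRepresentable

end Groth.Agent.Helper1.WattsColim
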