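import Mathlib
import Groth.Agent.Helper1.WayOut2

set_option autoImplicit false
set_option linter.unusedSectionVars false

namespace Groth.Agent.Helper1.WayOut
open CategoryTheory Limits Pretriangulated Triangulated DerivedCategory
open Groth.Agent.Helper1.DerTrunc

section Four
variable {𝒜 : Type*} [Category 𝒜] [Abelian 𝒜]

open ComposableArrows in
/-- Elementary form of the four lemma (mono version). -/
lemma four_mono {A B C D A' B' C' D' : 𝒜} (f : A ⟶ B) (g : B ⟶ C) (h : C ⟶ D)
    (f' : A' ⟶ B') (g' : B' ⟶ C') (h' : C' ⟶ D')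
    (α : A ⟶ A') (β : B ⟶ B') (γ : C ⟶ C') (δ : D ⟶ D')
    (comm₁ : f ≫ β = α ≫ f') (comm₂ : g ≫ γ = β ≫ g') (comm₃ : h ≫ δ = γ ≫ h')
    (hfg : f ≫ g = 0) (hgh : g ≫ h = 0) (exC : (ShortComplex.mk g h hgh).Exact)
    (hfg' : f' ≫ g' = 0) (exB' : (ShortComplex.mk f' g' hfg').Exact)
    (hα : Epi α) (hβ : Mono β) (hδ : Mono δ) : Mono γ := by
  let φ : mk₃ f g h ⟶ mk₃ f' g' h' := homMk₃ α β γ δ comm₁ comm₂ comm₃
  exact Abelian.mono_of_epi_of_mono_of_mono' φ hfg exC.exact_toComposableArrows
    exB'.exact_toComposableArrows hα hβ hδ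

open ComposableArrows in
/-- Elementary form of the four lemma (epi version). -/
lemma four_epi {A B C D A' B' C' D' : 𝒜} (f : A ⟶ B) (g : B ⟶ C) (h : C ⟶ D)
    (f' : A' ⟶ B') (g' : B' ⟶ C') (h' : C' ⟶ D')
    (α : A ⟶ A') (β : B ⟶ B') (γ : C ⟶ C') (δ : D ⟶ D')
    (comm₁ : f ≫ β = α ≫ f') (comm₂ : g ≫ γ = β ≫ g') (comm₃ : h ≫ δ = γ ≫ h')
    (hgh : g ≫ h = 0) (exC : (ShortComplex.mk g h hgh).Exact)
    (hfg' : f' ≫ g' = 0) (exB' : (ShortComplex.mk f' g' hfg').Exact) (hgh' : g' ≫ h' = 0)
    (hα : Epi α) (hγ : Epi γ) (hδ : Mono δ) : Epi β := by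
  let φ : mk₃ f g h ⟶ mk₃ f' g' h' := homMk₃ α β γ δ comm₁ comm₂ comm₃
  exact Abelian.epi_of_epi_of_epi_of_mono' φ exC.exact_toComposableArrows
    exB'.exact_toComposableArrows hgh' hα hγ hδ

end Four

section General

variable {C D : Type*} [Category C] [Category D]
  [Preadditive C] [HasZeroObject C] [HasShift C ℤ]
  [∀ (n : ℤ), (shiftFunctor C n).Additive] [Pretriangulated C]
  [Preadditive D] [HasZeroObject D] [HasShift D ℤ]
  [∀ (n : ℤ), (shiftFunctor D n).Additive] [Pretriangulated D]
  {F G : C ⥤ D} [F.CommShift ℤ] [G.CommShift ℤ] [F.IsTriangulated] [G.IsTriangulated]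
  (η : F ⟶ G) [NatTrans.CommShift η ℤ]

set_option backward.isDefEq.respectTransparency.types false in
set_option backward.defeqAttrib.useBackward true in
/-- The morphism of triangles `F(T) ⟶ G(T)` induced by a natural transformation commuting
with shifts. -/
@[simps!]
def mapTriangleHom (T : Triangle C) : F.mapTriangle.obj T ⟶ G.mapTriangle.obj T :=
  Triangle.homMk _ _ (η.app _) (η.app _) (η.app _) (by simp) (by simp) (by
    dsimp
    simp only [Category.assoc, NatTrans.shift_app_comm η (1 : ℤ) T.obj₁,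
      NatTrans.naturality_assoc])

end General

universe w v u w' v' u'
variable {A : Type u} [Category.{v} A] [Abelian A] [HasDerivedCategory.{w} A]
variable {B : Type u'} [Category.{v'} B] [Abelian B] [HasDerivedCategory.{w'} B]
  {F G : DerivedCategory A ⥤ DerivedCategory B} [F.CommShift ℤ] [G.CommShift ℤ]
  [F.IsTriangulated] [G.IsTriangulated] (η : F ⟶ G) [NatTrans.CommShift η ℤ]

/-- A way-out right triangulated functor sends all objects `X[0]` to objects `≥ c` for a
uniform `c`. -/
lemma exists_uniform_bound (F : DerivedCategory A ⥤ DerivedCategory B) [F.CommShift ℤ]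
    (hF : ∀ n₁ : ℤ, ∃ n₂ : ℤ, ∀ Y : DerivedCategory A, Y.IsGE n₂ → (F.obj Y).IsGE n₁) :
    ∃ c : ℤ, ∀ X : A, (F.obj ((singleFunctor A 0).obj X)).IsGE c := by
  obtain ⟨n₂, h⟩ := hF 0
  refine ⟨-n₂, fun X => ?_⟩
  have h1 : (tD A).IsGE (((singleFunctor A 0).obj X)⟦-n₂⟧) n₂ :=
    (tD A).isGE_shift _ 0 (-n₂) n₂
  have h2 : (tD B).IsGE ((shiftFunctor (DerivedCategory A) (-n₂) ⋙ F).obj
      ((singleFunctor A 0).obj X)) 0 := h _ h1
  have h3 : (tD B).IsGE ((F.obj ((singleFunctor A 0).obj X))⟦-n₂⟧) 0 :=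
    (tD B).isGE_of_iso ((F.commShiftIso (-n₂)).app _) 0
  exact (tD B).isGE_of_shift _ (-n₂) (-n₂) 0

lemma homologyMap_naturality {X Y : DerivedCategory A} (f : X ⟶ Y) (j : ℤ) :
    (homologyFunctor B j).map (F.map f) ≫ (homologyFunctor B j).map (η.app Y) =
      (homologyFunctor B j).map (η.app X) ≫ (homologyFunctor B j).map (G.map f) := by
  rw [← Functor.map_comp, ← Functor.map_comp, η.naturality]

lemma mono_step (T : Triangle (DerivedCategory A)) (hT : T ∈ distTriang _) (j' j : ℤ)
    (hj : j' + 1 = j)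
    (h₂ : IsIso (η.app T.obj₂)) (h₃ : Mono ((homologyFunctor B j').map (η.app T.obj₃))) :
    Mono ((homologyFunctor B j).map (η.app T.obj₁)) := by
  have hTF := F.map_distinguished T hT
  have hTG := G.map_distinguished T hT
  have hnat := (homologyFunctor B 0).homologySequenceδ_naturality _ _ (mapTriangleHom η T) j' j hj
  exact four_mono
    ((homologyFunctor B j').map (F.map T.mor₂)) (HomologySequence.δ (F.mapTriangle.obj T) j' j hj)
    ((homologyFunctor B j).map (F.map T.mor₁))
    ((homologyFunctor B j').map (G.map T.mor₂)) (HomologySequence.δ (G.mapTriangle.obj T) j' j hj)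
    ((homologyFunctor B j).map (G.map T.mor₁))
    ((homologyFunctor B j').map (η.app T.obj₂)) ((homologyFunctor B j').map (η.app T.obj₃))
    ((homologyFunctor B j).map (η.app T.obj₁)) ((homologyFunctor B j).map (η.app T.obj₂))
    (homologyMap_naturality η T.mor₂ j')
    hnat.symm
    (homologyMap_naturality η T.mor₁ j)
    (HomologySequence.comp_δ _ hTF j' j hj) (HomologySequence.δ_comp _ hTF j' j hj)
    (HomologySequence.exact₁ _ hTF j' j hj)
    (HomologySequence.comp_δ _ hTG j' j hj) (HomologySequence.exact₃ _ hTG j' j hj)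
    inferInstance h₃ inferInstance

lemma homologyMap_comp_zero (H : DerivedCategory A ⥤ DerivedCategory B) [H.CommShift ℤ]
    [H.IsTriangulated]
    (T : Triangle (DerivedCategory A)) (hT : T ∈ distTriang _) (j : ℤ) :
    (homologyFunctor B j).map (H.map T.mor₁) ≫ (homologyFunctor B j).map (H.map T.mor₂) = 0 := by
  rw [← Functor.map_comp, ← Functor.map_comp, comp_distTriang_mor_zero₁₂ _ hT,
      Functor.map_zero, Functor.map_zero]

lemma epi_step (T : Triangle (DerivedCategory A)) (hT : T ∈ distTriang _) (j' j : ℤ)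
    (hj : j' + 1 = j)
    (h₂ : IsIso (η.app T.obj₂)) (h₃ : Epi ((homologyFunctor B j').map (η.app T.obj₃)))
    (h₃' : Mono ((homologyFunctor B j).map (η.app T.obj₃))) :
    Epi ((homologyFunctor B j).map (η.app T.obj₁)) := by
  have hTF := F.map_distinguished T hT
  have hTG := G.map_distinguished T hT
  have hnat := (homologyFunctor B 0).homologySequenceδ_naturality _ _ (mapTriangleHom η T) j' j hj
  exact four_epi
    (HomologySequence.δ (F.mapTriangle.obj T) j' j hj)
    ((homologyFunctor B j).map (F.map T.mor₁)) ((homologyFunctor B j).map (F.map T.mor₂))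
    (HomologySequence.δ (G.mapTriangle.obj T) j' j hj)
    ((homologyFunctor B j).map (G.map T.mor₁)) ((homologyFunctor B j).map (G.map T.mor₂))
    ((homologyFunctor B j').map (η.app T.obj₃))
    ((homologyFunctor B j).map (η.app T.obj₁)) ((homologyFunctor B j).map (η.app T.obj₂))
    ((homologyFunctor B j).map (η.app T.obj₃))
    hnat.symm
    (homologyMap_naturality η T.mor₁ j)
    (homologyMap_naturality η T.mor₂ j)
    (homologyMap_comp_zero F T hT j)
    (HomologySequence.exact₂ _ hTF j)
    (HomologySequence.δ_comp _ hTG j' j hj) (HomologySequence.exact₁ _ hTG j' j hj)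
    (homologyMap_comp_zero G T hT j)
    h₃ inferInstance h₃'

/-- Way-out lemma: `η` is an isomorphism on all `X[0]` as soon as it is on a cogenerating
class, for way-out right functors. -/
theorem isIso_app_single_of_cogenerating (P : ObjectProperty A)
    (hP : ∀ X : A, ∃ (Y : A) (i : X ⟶ Y), P Y ∧ Mono i)
    (hF : ∀ n₁ : ℤ, ∃ n₂ : ℤ, ∀ Y : DerivedCategory A, Y.IsGE n₂ → (F.obj Y).IsGE n₁)
    (hG : ∀ n₁ : ℤ, ∃ n₂ : ℤ, ∀ Y : DerivedCategory A, Y.IsGE n₂ → (G.obj Y).IsGE n₁)
    (hη : ∀ X : A, P X → IsIso (η.app ((singleFunctor A 0).obj X)))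
    (X : A) : IsIso (η.app ((singleFunctor A 0).obj X)) := by
  obtain ⟨cF, hcF⟩ := exists_uniform_bound F hF
  obtain ⟨cG, hcG⟩ := exists_uniform_bound G hG
  -- the triangles
  have tri : ∀ X : A, ∃ (X' : A) (T : Triangle (DerivedCategory A)), T ∈ distTriang _ ∧
      IsIso (η.app T.obj₂) ∧ T.obj₁ = (singleFunctor A 0).obj X ∧
      T.obj₃ = (singleFunctor A 0).obj X' := by
    intro X
    obtain ⟨I, i, hI, hi⟩ := hP X
    have hS : (ShortComplex.mk i (cokernel.π i) (cokernel.condition i)).ShortExact :=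
      { exact := ShortComplex.exact_cokernel i }
    exact ⟨cokernel i, hS.singleTriangle, hS.singleTriangle_distinguished, hη I hI, rfl, rfl⟩
  have hM : ∀ k : ℕ, ∀ j : ℤ, j < cF + k → ∀ X : A,
      Mono ((homologyFunctor B j).map (η.app ((singleFunctor A 0).obj X))) := by
    intro k
    induction k with
    | zero =>
      intro j hj X
      have := hcF X
      exact (isZero_of_isGE (F.obj ((singleFunctor A 0).obj X)) cF j (by simpa using hj)).mono _
    | succ k ih =>
      intro j hj X
      obtain ⟨X', T, hT, h₂, h₁, h₃⟩ := tri X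
      have := mono_step η T hT (j - 1) j (by omega) h₂ (by
        rw [h₃]; exact ih (j - 1) (by push_cast at hj; omega) X')
      rw [h₁] at this
      exact this
  have hM' : ∀ (j : ℤ) (X : A),
      Mono ((homologyFunctor B j).map (η.app ((singleFunctor A 0).obj X))) := fun j X =>
    hM (j - cF + 1).toNat j (by omega) X
  have hE : ∀ k : ℕ, ∀ j : ℤ, j < cG + k → ∀ X : A,
      Epi ((homologyFunctor B j).map (η.app ((singleFunctor A 0).obj X))) := by
    intro k
    induction k with
    | zero =>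
      intro j hj X
      have := hcG X
      exact (isZero_of_isGE (G.obj ((singleFunctor A 0).obj X)) cG j (by simpa using hj)).epi _
    | succ k ih =>
      intro j hj X
      obtain ⟨X', T, hT, h₂, h₁, h₃⟩ := tri X
      have := epi_step η T hT (j - 1) j (by omega) h₂ (by
        rw [h₃]; exact ih (j - 1) (by push_cast at hj; omega) X') (by rw [h₃]; exact hM' j X')
      rw [h₁] at this
      exact this
  rw [DerivedCategory.isIso_iff]
  intro j
  have := hM' j X
  have := hE (j - cG + 1).toNat j (by omega) X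
  exact isIso_of_mono_of_epi _

end Groth.Agent.Helper1.WayOut
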