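import Mathlib

set_option autoImplicit false
set_option linter.unusedSectionVars false

namespace Groth.Agent.Helper1.WeakSerre
open CategoryTheory Limits Pretriangulated DerivedCategory ZeroObject
universe w v u
variable {A : Type u} [Category.{v} A] [Abelian A] [HasDerivedCategory.{w} A]

section
variable (P : ObjectProperty A) [P.IsClosedUnderIsomorphisms] (h0 : ∃ Z : A, IsZero Z ∧ P Z)
    (hP : ∀ S : ComposableArrows A 4, S.Exact → P (S.obj 0) → P (S.obj 1) → P (S.obj 3) → P (S.obj 4) → P (S.obj 2))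

include h0 in
lemma prop_of_isZero {Z : A} (hZ : IsZero Z) : P Z := by
  obtain ⟨Z', hZ', hP'⟩ := h0
  exact P.prop_of_iso (hZ'.iso hZ) hP'

include hP in
lemma prop_of_exact {X₀ X₁ X₂ X₃ X₄ : A} (f₀ : X₀ ⟶ X₁) (f₁ : X₁ ⟶ X₂) (f₂ : X₂ ⟶ X₃) (f₃ : X₃ ⟶ X₄)
    (w₀ : f₀ ≫ f₁ = 0) (w₁ : f₁ ≫ f₂ = 0) (w₂ : f₂ ≫ f₃ = 0)
    (e₀ : (ShortComplex.mk f₀ f₁ w₀).Exact) (e₁ : (ShortComplex.mk f₁ f₂ w₁).Exact)
    (e₂ : (ShortComplex.mk f₂ f₃ w₂).Exact) (h₀ : P X₀) (h₁ : P X₁) (h₃ : P X₃) (h₄ : P X₄) :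
    P X₂ := by
  refine hP (ComposableArrows.mk₄ f₀ f₁ f₂ f₃) ?_ h₀ h₁ h₃ h₄
  exact ComposableArrows.exact_of_δ₀ e₀.exact_toComposableArrows
    (ComposableArrows.exact_of_δ₀ e₁.exact_toComposableArrows e₂.exact_toComposableArrows)

include h0 hP in
lemma prop_of_retract {X Y : A} (r : Retract Y X) (hX : P X) : P Y := by
  have hz : P (0 : A) := prop_of_isZero P h0 (isZero_zero A)
  have w₀ : (𝟙 X - r.r ≫ r.i) ≫ r.r = 0 := by
    rw [Preadditive.sub_comp, Category.id_comp, Category.assoc, r.retract, Category.comp_id,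
      sub_self]
  refine prop_of_exact P hP (𝟙 X - r.r ≫ r.i) r.r (0 : Y ⟶ 0) (0 : (0 : A) ⟶ 0) w₀ (by simp) (by simp)
    ?_ ?_ ?_ hX hX hz hz
  · rw [ShortComplex.exact_iff_exact_up_to_refinements]
    intro W x₂ hx₂
    dsimp at x₂ hx₂ ⊢
    refine ⟨W, 𝟙 W, inferInstance, x₂, ?_⟩
    rw [Category.id_comp, Preadditive.comp_sub, Category.comp_id, ← Category.assoc, hx₂,
      zero_comp, sub_zero]
  · have : Epi r.r := by
      have : IsSplitEpi r.r := ⟨⟨⟨r.i, r.retract⟩⟩⟩
      infer_instance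
    exact (ShortComplex.exact_iff_epi _ (by simp)).2 this
  · exact ShortComplex.exact_of_isZero_X₂ _ (isZero_zero A)

/-- the property on the derived category -/
def DP : ObjectProperty (DerivedCategory A) :=
  fun X => ∀ n : ℤ, P ((DerivedCategory.homologyFunctor A n).obj X)

include h0 in
lemma dP_containsZero : (DP P).ContainsZero where
  exists_zero := ⟨0, isZero_zero _, fun n =>
    prop_of_isZero P h0 (Functor.map_isZero _ (isZero_zero _))⟩

lemma dP_isStableUnderShift : (DP P).IsStableUnderShift ℤ where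
  isStableUnderShiftBy a :=
    { le_shift := fun X hX n => by
        have e : (homologyFunctor A n).obj (X⟦a⟧) ≅ (homologyFunctor A (a + n)).obj X :=
          ((homologyFunctor A 0).shiftIso a n (a + n) rfl).app X
        exact P.prop_of_iso e.symm (hX (a + n)) }

include hP in
lemma dP_ext₂ : (DP P).IsTriangulatedClosed₂ where
  ext₂' T hT h₁ h₃ := by
    refine ObjectProperty.le_isoClosure _ _ ?_
    intro n
    exact prop_of_exact P hP
      (HomologySequence.δ T (n - 1) n (by lia)) ((homologyFunctor A n).map T.mor₁)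
      ((homologyFunctor A n).map T.mor₂) (HomologySequence.δ T n (n + 1) rfl)
      (HomologySequence.δ_comp T hT _ _ _) (by
        rw [← Functor.map_comp, comp_distTriang_mor_zero₁₂ _ hT, Functor.map_zero])
      (HomologySequence.comp_δ T hT _ _ _)
      (HomologySequence.exact₁ T hT _ _ _) (HomologySequence.exact₂ T hT _)
      (HomologySequence.exact₃ T hT _ _ _) (h₃ _) (h₁ _) (h₃ _) (h₁ _)

include h0 hP in
theorem dP_isTriangulated : (DP P).IsTriangulated :=
  { dP_containsZero P h0, dP_isStableUnderShift P, dP_ext₂ P hP with }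

include h0 hP in
theorem dP_isStableUnderRetracts : (DP P).IsStableUnderRetracts where
  of_retract {X Y} r hY n := prop_of_retract P h0 hP (r.map (homologyFunctor A n)) (hY n)

end

end Groth.Agent.Helper1.WeakSerre
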