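import Mathlib

/-!
# Limits of acyclic complexes of abelian groups over a well-order (Mittag-Leffler type lemma)
-/

set_option autoImplicit false
universe w
open CategoryTheory CategoryTheory.Limits Opposite

namespace Groth.Agent.Helper1.WellLim

variable {I : Type w} [LinearOrder I]
  (K : Iᵒᵖ ⥤ CochainComplex AddCommGrpCat.{w} ℤ)

/-- transition map -/
def r {β β' : I} (h : β ≤ β') (n : ℤ) : (K.obj (op β')).X n →+ (K.obj (op β)).X n :=
  ((K.map (homOfLE h).op).f n).hom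

/-- differential -/
def dd (β : I) (n m : ℤ) : (K.obj (op β)).X n →+ (K.obj (op β)).X m :=
  ((K.obj (op β)).d n m).hom

lemma r_refl (β : I) (n : ℤ) (x : (K.obj (op β)).X n) : r K (le_refl β) n x = x := by
  have : (homOfLE (le_refl β)).op = 𝟙 (op β) := Subsingleton.elim _ _
  simp [r, this]

lemma r_r {β β' β'' : I} (h1 : β ≤ β') (h2 : β' ≤ β'') (n : ℤ) (x : (K.obj (op β'')).X n) :
    r K h1 n (r K h2 n x) = r K (h1.trans h2) n x := by
  have : (homOfLE (h1.trans h2)).op = (homOfLE h2).op ≫ (homOfLE h1).op := Subsingleton.elim _ _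
  simp [r, this]

lemma r_dd {β β' : I} (h : β ≤ β') (n m : ℤ) (x : (K.obj (op β')).X n) :
    r K h m (dd K β' n m x) = dd K β n m (r K h n x) := by
  have := (K.map (homOfLE h).op).comm n m
  have h2 := ConcreteCategory.congr_hom this x
  exact h2.symm

lemma dd_dd (β : I) (n m k : ℤ) (x : (K.obj (op β)).X n) :
    dd K β m k (dd K β n m x) = 0 := by
  have := (K.obj (op β)).d_comp_d n m k
  have h2 := ConcreteCategory.congr_hom this x
  exact h2

lemma exact_elem (β : I) (m n k : ℤ) (hm : m + 1 = n) (hk : n + 1 = k)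
    (h : (K.obj (op β)).ExactAt n) (x : (K.obj (op β)).X n) (hx : dd K β n k x = 0) :
    ∃ z : (K.obj (op β)).X m, dd K β m n z = x := by
  rw [HomologicalComplex.exactAt_iff' _ m n k (by simp; omega) (by simp; omega),
    ShortComplex.ab_exact_iff] at h
  exact h x hx

/-- the surjectivity hypothesis -/
def HSurj : Prop := ∀ (β : I) (n : ℤ) (x : ∀ γ : {γ : I // γ < β}, (K.obj (op γ.1)).X n),
  (∀ (γ γ' : {γ : I // γ < β}) (h : γ.1 ≤ γ'.1), r K h n (x γ') = x γ) →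
    ∃ y : (K.obj (op β)).X n, ∀ γ : {γ : I // γ < β}, r K γ.2.le n y = x γ

/-- extension property at `β` -/
def E (β : I) : Prop := ∀ (m n : ℤ) (_ : m + 1 = n) (xβ : (K.obj (op β)).X n)
  (f : ∀ γ : I, γ < β → (K.obj (op γ)).X m),
  dd K β n (n + 1) xβ = 0 →
  (∀ γ (hγ : γ < β), dd K γ m n (f γ hγ) = r K hγ.le n xβ) →
  (∀ γ γ' (hγ : γ < β) (hγ' : γ' < β) (h : γ ≤ γ'), r K h m (f γ' hγ') = f γ hγ) →
  ∃ y : (K.obj (op β)).X m, dd K β m n y = xβ ∧ ∀ γ (hγ : γ < β), r K hγ.le m y = f γ hγ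

/-- acyclicity of the limit over a lower set `S` -/
def A (S : Set I) : Prop := ∀ (m n : ℤ) (_ : m + 1 = n) (x : ∀ γ : I, (K.obj (op γ)).X n),
  (∀ γ ∈ S, dd K γ n (n + 1) (x γ) = 0) →
  (∀ γ γ' (h : γ ≤ γ'), γ' ∈ S → r K h n (x γ') = x γ) →
  ∃ y : ∀ γ : I, (K.obj (op γ)).X m, (∀ γ ∈ S, dd K γ m n (y γ) = x γ) ∧
    ∀ γ γ' (h : γ ≤ γ'), γ' ∈ S → r K h m (y γ') = y γ

lemma E_of_A (hs : HSurj K) (β : I) (hac : ∀ n, (K.obj (op β)).ExactAt n)
    (hA : A K (Set.Iio β)) : E K β := by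
  intro m n hm xβ f hx hf hfc
  subst hm
  obtain ⟨y', hy'⟩ := hs β m (fun γ => f γ.1 γ.2) (fun γ γ' h => hfc _ _ _ _ h)
  obtain ⟨w, hw⟩ : ∃ w, w = xβ - dd K β m (m + 1) y' := ⟨_, rfl⟩
  have hdw : dd K β (m + 1) (m + 1 + 1) w = 0 := by
    rw [hw, map_sub, hx, dd_dd, sub_zero]
  have hrw : ∀ γ (hγ : γ < β), r K hγ.le (m + 1) w = 0 := by
    intro γ hγ
    rw [hw, map_sub, r_dd, hy' ⟨γ, hγ⟩, hf γ hγ, sub_self]
  obtain ⟨z', hz'⟩ := exact_elem K β m (m + 1) (m + 1 + 1) rfl rfl (hac (m + 1)) w hdw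
  classical
  let zf : ∀ γ : I, (K.obj (op γ)).X m := fun γ => if h : γ ≤ β then r K h m z' else 0
  have hzf : ∀ γ (h : γ ≤ β), zf γ = r K h m z' := fun γ h => dif_pos h
  have h1 : ∀ γ ∈ Set.Iio β, dd K γ m (m + 1) (zf γ) = 0 := by
    intro γ hγ
    rw [hzf γ (le_of_lt hγ), ← r_dd, hz', hrw γ hγ]
  have h2 : ∀ γ γ' (h : γ ≤ γ'), γ' ∈ Set.Iio β → r K h m (zf γ') = zf γ := by
    intro γ γ' h hγ'
    rw [hzf γ' (le_of_lt hγ'), hzf γ (h.trans (le_of_lt hγ')), r_r]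
  obtain ⟨u, hu1, hu2⟩ := hA (m - 1) m (by omega) zf h1 h2
  obtain ⟨ũ, hũ⟩ := hs β (m - 1) (fun γ => u γ.1) (fun γ γ' h => hu2 _ _ h γ'.2)
  refine ⟨y' + z' - dd K β (m - 1) m ũ, ?_, ?_⟩
  · rw [map_sub, map_add, hz', dd_dd, hw]; abel
  · intro γ hγ
    rw [map_sub, map_add, hy' ⟨γ, hγ⟩, r_dd, hũ ⟨γ, hγ⟩, hu1 γ hγ, ← hzf γ hγ.le]
    abel

lemma A_of_E [WellFoundedLT I] (S : Set I) (hS : IsLowerSet S) (hE : ∀ γ ∈ S, E K γ) :
    A K S := by
  intro m n hm x hx hxc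
  classical
  let P : ∀ γ : I, (∀ δ : I, δ < γ → (K.obj (op δ)).X m) → Prop := fun γ f =>
    γ ∈ S ∧ (∀ δ (hδ : δ < γ), dd K δ m n (f δ hδ) = x δ) ∧
      (∀ δ δ' (hδ : δ < γ) (hδ' : δ' < γ) (h : δ ≤ δ'), r K h m (f δ' hδ') = f δ hδ)
  have key : ∀ γ f, P γ f → ∃ y : (K.obj (op γ)).X m, dd K γ m n y = x γ ∧
      ∀ δ (hδ : δ < γ), r K hδ.le m y = f δ hδ := by
    intro γ f ⟨hγ, h1, h2⟩
    exact hE γ hγ m n hm (x γ) f (hx γ hγ) (fun δ hδ => by rw [h1, hxc _ _ hδ.le hγ]) h2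
  let y : ∀ γ : I, (K.obj (op γ)).X m :=
    WellFoundedLT.fix (fun γ f => if h : P γ f then (key γ f h).choose else 0)
  have y_eq : ∀ γ, y γ = if h : P γ (fun δ _ => y δ) then (key γ _ h).choose else 0 :=
    fun γ => WellFoundedLT.fix_eq _ γ
  have main : ∀ γ, γ ∈ S → dd K γ m n (y γ) = x γ ∧ ∀ δ (h : δ ≤ γ), r K h m (y γ) = y δ := by
    intro γ
    induction γ using WellFoundedLT.induction with
    | ind γ ih =>
      intro hγ
      have hP : P γ (fun δ _ => y δ) :=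
        ⟨hγ, fun δ hδ => (ih δ hδ (hS hδ.le hγ)).1,
          fun δ δ' hδ hδ' h => (ih δ' hδ' (hS hδ'.le hγ)).2 δ h⟩
      have hc := (key γ _ hP).choose_spec
      rw [y_eq γ, dif_pos hP]
      refine ⟨hc.1, fun δ h => ?_⟩
      rcases h.eq_or_lt with rfl | h'
      · rw [r_refl, y_eq δ, dif_pos hP]
      · exact hc.2 δ h'
  exact ⟨y, fun γ hγ => (main γ hγ).1, fun γ γ' h hγ' => (main γ' hγ').2 γ h⟩

theorem all_E [WellFoundedLT I] (hs : HSurj K) (hac : ∀ β n, (K.obj (op β)).ExactAt n) :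
    ∀ β, E K β := by
  intro β
  induction β using WellFoundedLT.induction with
  | ind β ih => exact E_of_A K hs β (hac β) (A_of_E K _ (isLowerSet_Iio β) (fun γ hγ => ih γ hγ))

theorem A_univ [WellFoundedLT I] (hs : HSurj K) (hac : ∀ β n, (K.obj (op β)).ExactAt n) :
    A K Set.univ :=
  A_of_E K _ isLowerSet_univ (fun γ _ => all_E K hs hac γ)

noncomputable def isLim (n : ℤ) : IsLimit ((HomologicalComplex.eval _ _ n ⋙ forget AddCommGrpCat.{w}).mapCone (limit.cone K)) :=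
  isLimitOfPreserves _ (limit.isLimit K)

lemma lim_ext (n : ℤ) (a b : (limit K).X n)
    (h : ∀ β, ((limit.π K (op β)).f n).hom a = ((limit.π K (op β)).f n).hom b) : a = b := by
  have := (Types.isLimitEquivSections (isLim K n)).injective
  apply this
  ext j
  exact h j.unop

lemma lim_exists (n : ℤ) (x : ∀ β, (K.obj (op β)).X n)
    (hx : ∀ γ γ' (h : γ ≤ γ'), r K h n (x γ') = x γ) :
    ∃ a : (limit K).X n, ∀ β, ((limit.π K (op β)).f n).hom a = x β := by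
  have hs : (fun j : Iᵒᵖ => x j.unop) ∈ (K ⋙ HomologicalComplex.eval _ _ n ⋙ forget AddCommGrpCat.{w}).sections := by
    intro j j' f
    have : f = (homOfLE (leOfHom f.unop)).op := Subsingleton.elim _ _
    rw [this]
    exact hx _ _ _
  obtain ⟨a, ha, -⟩ := (Types.isLimit_iff _).1 ⟨isLim K n⟩ _ hs
  exact ⟨a, fun β => ha (op β)⟩

lemma π_d (β : I) (n m : ℤ) (a : (limit K).X n) :
    ((limit.π K (op β)).f m).hom (((limit K).d n m).hom a) =
      dd K β n m (((limit.π K (op β)).f n).hom a) :=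
  (ConcreteCategory.congr_hom ((limit.π K (op β)).comm n m) a).symm

lemma r_π {β β' : I} (h : β ≤ β') (n : ℤ) (a : (limit K).X n) :
    r K h n (((limit.π K (op β')).f n).hom a) = ((limit.π K (op β)).f n).hom a := by
  have := limit.w K (homOfLE h).op
  have h2 := congrArg (fun φ => (φ.f n).hom a) this
  exact h2

theorem exactAt_limit [WellFoundedLT I] (hs : HSurj K)
    (hac : ∀ β n, (K.obj (op β)).ExactAt n) (n : ℤ) : (limit K).ExactAt n := by
  have key : ∀ a : (limit K).X n, ((limit K).d n (n + 1)).hom a = 0 →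
      ∃ b : (limit K).X (n - 1), ((limit K).d (n - 1) n).hom b = a := by
    intro a ha'
    obtain ⟨y, hy1, hy2⟩ := A_univ K hs hac (n-1) n (by omega)
      (fun β => ((limit.π K (op β)).f n).hom a)
      (fun β _ => by rw [← π_d, ha', map_zero])
      (fun γ γ' h _ => r_π K h n a)
    obtain ⟨b, hb⟩ := lim_exists K (n-1) y (fun γ γ' h => hy2 γ γ' h trivial)
    refine ⟨b, lim_ext K n _ _ fun β => ?_⟩
    rw [π_d, hb, hy1 β trivial]
  rw [HomologicalComplex.exactAt_iff' _ (n-1) n (n+1) (by simp) (by simp),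
    ShortComplex.ab_exact_iff]
  intro a ha
  exact key a ha

end Groth.Agent.Helper1.WellLim
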