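import Mathlib
import Groth.Agent.S2952

/-!
# Weyl group and bases: words in simple reflections, exchange lemma
-/

set_option autoImplicit false
set_option linter.unusedSectionVars false

namespace Groth.Agent.Helper1.WeylBase

open RootPairing

variable {ι R M N : Type*} [CommRing R] [AddCommGroup M] [Module R M]
  [AddCommGroup N] [Module R N] (P : RootPairing ι R M N)

/-- The product of the reflections along a word. -/
noncomputable def wd (l : List ι) : P.Aut := (l.map (Equiv.reflection P)).prod

@[simp] lemma wd_nil : wd P [] = 1 := rfl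

@[simp] lemma wd_cons (i : ι) (l : List ι) : wd P (i :: l) = Equiv.reflection P i * wd P l := by
  simp [wd]

lemma wd_append (l l' : List ι) : wd P (l ++ l') = wd P l * wd P l' := by
  simp [wd]

lemma wd_singleton (i : ι) : wd P [i] = Equiv.reflection P i := by simp

lemma reflection_mul_self (i : ι) : Equiv.reflection P i * Equiv.reflection P i = 1 := by
  rw [mul_eq_one_iff_inv_eq, Equiv.reflection_inv]

lemma wd_inv (l : List ι) : (wd P l)⁻¹ = wd P l.reverse := by
  induction l with
  | nil => simp
  | cons i l ih =>
    rw [wd_cons, mul_inv_rev, ih, List.reverse_cons, wd_append, wd_singleton, Equiv.reflection_inv]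

lemma wd_mem (l : List ι) : wd P l ∈ P.weylGroup := by
  induction l with
  | nil => exact one_mem _
  | cons i l ih => rw [wd_cons]; exact mul_mem (P.reflection_mem_weylGroup i) ih

lemma reflection_smul_idx (j i : ι) : Equiv.reflection P j • i = P.reflectionPerm j i := rfl

lemma root_smul (g : P.Aut) (i : ι) : P.root (g • i) = g • P.root i :=
  Equiv.root_indexEquiv_eq_smul (P := P) i g

/-- Conjugation formula for reflections along words. -/
lemma reflection_wd_smul (l : List ι) (i : ι) :
    Equiv.reflection P (wd P l • i) = wd P l * Equiv.reflection P i * (wd P l)⁻¹ := by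
  induction l with
  | nil => simp
  | cons j l ih =>
    rw [wd_cons, mul_smul, reflection_smul_idx, Groth.Agent.S2952.reflection_conj, ih, mul_inv_rev,
      Equiv.reflection_inv]
    simp only [mul_assoc]

section base

variable {P}
variable [CharZero R] [IsDomain R] [Finite ι] [P.IsCrystallographic] [P.IsReduced] (b : P.Base)

lemma root_reflectionPerm_self (j : ι) : P.root (P.reflectionPerm j j) = - P.root j := by
  rw [root_reflectionPerm, reflection_apply_self]

lemma height_reflectionPerm_self' (j : ι) :
    b.height (P.reflectionPerm j j) = - b.height j :=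
  b.height_reflectionPerm_self j

lemma smul_reflectionPerm_self (g : P.Aut) (j : ι) :
    g • (P.reflectionPerm j j) = P.reflectionPerm (g • j) (g • j) := by
  apply P.root.injective
  rw [root_smul, root_reflectionPerm_self, root_reflectionPerm_self, smul_neg, root_smul]

lemma height_smul_neg (g : P.Aut) (j : ι) :
    b.height (g • (P.reflectionPerm j j)) = - b.height (g • j) := by
  rw [smul_reflectionPerm_self, height_reflectionPerm_self']

lemma eq_of_not_isPos_reflectionPerm {i j : ι} (hi : b.IsPos i) (hj : j ∈ b.support)
    (h : ¬ b.IsPos (P.reflectionPerm j i)) : i = j := by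
  by_contra hij
  exact h (hi.reflectionPerm hj hij)

/-- The exchange lemma. -/
theorem exchange (l : List ι) (hl : ∀ i ∈ l, i ∈ b.support) (j : ι) (hj : j ∈ b.support)
    (hneg : ¬ b.IsPos (wd P l • j)) :
    ∃ l' : List ι, (∀ i ∈ l', i ∈ b.support) ∧ l'.length + 1 = l.length ∧
      wd P l' = wd P l * Equiv.reflection P j := by
  induction l with
  | nil =>
    exfalso
    apply hneg
    rw [wd_nil, one_smul]
    exact RootPairing.Base.isPos_of_mem_support hj
  | cons i l ih =>
    have hi : i ∈ b.support := hl i (List.mem_cons_self)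
    have hl' : ∀ i ∈ l, i ∈ b.support := fun k hk => hl k (List.mem_cons_of_mem _ hk)
    by_cases hpos : b.IsPos (wd P l • j)
    · -- then wd l • j = i
      rw [wd_cons, mul_smul, reflection_smul_idx] at hneg
      have heq : wd P l • j = i := eq_of_not_isPos_reflectionPerm b hpos hi hneg
      refine ⟨l, hl', by simp, ?_⟩
      have h1 := reflection_wd_smul P l j
      rw [heq] at h1
      rw [wd_cons, h1]
      simp only [mul_assoc, inv_mul_cancel_left, reflection_mul_self, mul_one]
    · obtain ⟨l', hl'', hlen, hw⟩ := ih hl' hpos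
      refine ⟨i :: l', ?_, by simp [hlen], ?_⟩
      · intro k hk
        rcases List.mem_cons.1 hk with rfl | hk
        · exact hi
        · exact hl'' k hk
      · rw [wd_cons, wd_cons, hw, mul_assoc]

/-- Every element of the Weyl group is a word in the simple reflections. -/
theorem exists_word {g : P.Aut} (hg : g ∈ P.weylGroup) :
    ∃ l : List ι, (∀ i ∈ l, i ∈ b.support) ∧ wd P l = g := by
  rw [← (Groth.Agent.S2952.result P b).1] at hg
  induction hg using Subgroup.closure_induction with
  | mem x hx =>
    obtain ⟨i, hi, rfl⟩ := hx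
    exact ⟨[i], by simpa using hi, wd_singleton P i⟩
  | one => exact ⟨[], by simp, rfl⟩
  | mul x y _ _ hx hy =>
    obtain ⟨l, hl, rfl⟩ := hx
    obtain ⟨l', hl', rfl⟩ := hy
    refine ⟨l ++ l', ?_, wd_append P l l'⟩
    intro i hi
    rcases List.mem_append.1 hi with h | h
    · exact hl i h
    · exact hl' i h
  | inv x _ hx =>
    obtain ⟨l, hl, rfl⟩ := hx
    exact ⟨l.reverse, fun i hi => hl i (List.mem_reverse.1 hi), (wd_inv P l).symm⟩

/-- An element of the Weyl group preserving positivity is trivial. -/
theorem eq_one_of_preserves_pos (g : P.Aut) (hg : g ∈ P.weylGroup)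
    (hpos : ∀ i, b.IsPos i → b.IsPos (g • i)) : g = 1 := by
  classical
  have hex : ∃ n : ℕ, ∃ l : List ι, l.length = n ∧ (∀ i ∈ l, i ∈ b.support) ∧ wd P l = g := by
    obtain ⟨l, hl, hw⟩ := exists_word b hg
    exact ⟨l.length, l, rfl, hl, hw⟩
  obtain ⟨l, hlen, hl, hw⟩ := Nat.find_spec hex
  have hmin := fun m (hm : m < Nat.find hex) => Nat.find_min hex hm
  rcases List.eq_nil_or_concat l with rfl | ⟨l₁, j, rfl⟩
  · rw [← hw, wd_nil]
  · exfalso
    have hj : j ∈ b.support := hl j (by simp)
    have hl₁ : ∀ i ∈ l₁, i ∈ b.support := fun i hi => hl i (by simp [hi])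
    have hw' : g = wd P l₁ * Equiv.reflection P j := by
      rw [← hw, List.concat_eq_append, wd_append, wd_singleton]
    have h1 : b.IsPos (g • j) := hpos j (RootPairing.Base.isPos_of_mem_support hj)
    have h2 : ¬ b.IsPos (wd P l₁ • j) := by
      rw [hw', mul_smul, reflection_smul_idx, RootPairing.Base.isPos_iff, height_smul_neg] at h1
      rw [RootPairing.Base.isPos_iff]
      omega
    obtain ⟨l', hl', hlen', hwl'⟩ := exchange b l₁ hl₁ j hj h2
    refine hmin l'.length ?_ ⟨l', rfl, hl', ?_⟩
    · rw [← hlen]
      simp only [List.concat_eq_append, List.length_append, List.length_singleton]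
      omega
    · rw [hwl', hw']

end base

end Groth.Agent.Helper1.WeylBase
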