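import Groth.Agent.Helper1.WeylBase1

/-!
# The Weyl group acts simply transitively on bases
-/

set_option autoImplicit false
set_option linter.unusedSectionVars false

namespace Groth.Agent.Helper1.WeylBase

open RootPairing

variable {ι R M N : Type*} [CommRing R] [AddCommGroup M] [Module R M]
  [AddCommGroup N] [Module R N] {P : RootPairing ι R M N}
variable [CharZero R] [IsDomain R] [Finite ι] [P.IsCrystallographic] [P.IsReduced]
  (b b' : P.Base)

lemma root_smul_add (g : P.Aut) {i j k : ι} (h : P.root k = P.root i + P.root j) :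
    P.root (g • k) = P.root (g • i) + P.root (g • j) := by
  rw [root_smul, root_smul, root_smul, h, smul_add]

/-- If `g` maps the simple roots of `b` to `b'`-positive roots, it maps `b`-positive roots to
`b'`-positive roots. -/
lemma isPos_smul_of_support (g : P.Aut) (h : ∀ j ∈ b.support, b'.IsPos (g • j)) {i : ι}
    (hi : b.IsPos i) : b'.IsPos (g • i) := by
  refine hi.induction_on_add (p := fun i => b'.IsPos (g • i)) h ?_
  intro i j k hk hi hj
  exact RootPairing.Base.IsPos.add hi (h j hj) (root_smul_add g hk)

lemma not_isPos_neg {i : ι} (hi : b.IsPos i) : ¬ b.IsPos (P.reflectionPerm i i) := by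
  rw [RootPairing.Base.isPos_iff] at hi ⊢
  rw [height_reflectionPerm_self']
  omega

lemma isPos_neg_of_not {i : ι} (hi : ¬ b.IsPos i) : b.IsPos (P.reflectionPerm i i) := by
  have := b.height_ne_zero i
  rw [RootPairing.Base.isPos_iff] at hi ⊢
  rw [height_reflectionPerm_self']
  omega

lemma reflectionPerm_reflectionPerm_self (i : ι) :
    P.reflectionPerm (P.reflectionPerm i i) (P.reflectionPerm i i) = i := by
  apply P.root.injective
  rw [root_reflectionPerm_self, root_reflectionPerm_self, neg_neg]

/-- Simple roots are indecomposable. -/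
lemma root_ne_add_of_mem_support {j i k : ι} (hj : j ∈ b.support) (hi : b.IsPos i) (hk : b.IsPos k) :
    P.root j ≠ P.root i + P.root k := by
  intro h
  have h1 := b.height_add h
  rw [RootPairing.Base.height_one_of_mem_support hj] at h1
  rw [RootPairing.Base.isPos_iff] at hi hk
  omega

/-- Positive roots that are not simple are decomposable. -/
lemma exists_add_of_not_mem_support {i : ι} (hi : b.IsPos i) (hS : i ∉ b.support) :
    ∃ i' k, b.IsPos i' ∧ k ∈ b.support ∧ P.root i = P.root i' + P.root k := by
  have key : b.IsPos i ∧ (i ∈ b.support ∨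
      ∃ i' k, b.IsPos i' ∧ k ∈ b.support ∧ P.root i = P.root i' + P.root k) := by
    refine hi.induction_on_add (p := fun i => b.IsPos i ∧ (i ∈ b.support ∨
      ∃ i' k, b.IsPos i' ∧ k ∈ b.support ∧ P.root i = P.root i' + P.root k)) ?_ ?_
    · intro j hj
      exact ⟨RootPairing.Base.isPos_of_mem_support hj, Or.inl hj⟩
    · intro i j k hk hi hj
      exact ⟨RootPairing.Base.IsPos.add hi.1 (RootPairing.Base.isPos_of_mem_support hj) hk,
        Or.inr ⟨i, j, hi.1, hj, hk⟩⟩
  exact key.2.resolve_left hS

/-- If `g` maps `b`-positive roots to `b'`-positive roots, then `g⁻¹` maps `b'`-positive roots to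
`b`-positive roots. -/
lemma isPos_inv_smul (g : P.Aut) (h : ∀ i, b.IsPos i → b'.IsPos (g • i)) {i : ι}
    (hi : b'.IsPos i) : b.IsPos (g⁻¹ • i) := by
  by_contra hneg
  have h1 := h _ (isPos_neg_of_not b hneg)
  rw [← smul_reflectionPerm_self, smul_smul, mul_inv_cancel, one_smul] at h1
  exact not_isPos_neg b' hi h1

/-- If `g` identifies the positive systems, it maps simple roots to simple roots. -/
lemma smul_mem_support (g : P.Aut) (h : ∀ i, b.IsPos i → b'.IsPos (g • i)) {j : ι}
    (hj : j ∈ b.support) : g • j ∈ b'.support := by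
  by_contra hS
  have hpos : b'.IsPos (g • j) := h j (RootPairing.Base.isPos_of_mem_support hj)
  obtain ⟨i', k, hi', hk, hsum⟩ := exists_add_of_not_mem_support b' hpos hS
  have h1 := root_smul_add g⁻¹ hsum
  rw [inv_smul_smul] at h1
  exact root_ne_add_of_mem_support b hj (isPos_inv_smul b b' g h hi')
    (isPos_inv_smul b b' g h (RootPairing.Base.isPos_of_mem_support hk)) h1

lemma image_support_eq (g : P.Aut) (h : ∀ i, b.IsPos i → b'.IsPos (g • i)) :
    (fun i : ι => g • i) '' (b.support : Set ι) = (b'.support : Set ι) := by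
  apply Set.Subset.antisymm
  · rintro _ ⟨j, hj, rfl⟩
    exact smul_mem_support b b' g h hj
  · intro j' hj'
    have h' : ∀ i, b'.IsPos i → b.IsPos (g⁻¹ • i) := fun i hi => isPos_inv_smul b b' g h hi
    refine ⟨g⁻¹ • j', smul_mem_support b' b g⁻¹ h' hj', ?_⟩
    simp

/-- The set of `b`-positive roots sent to `b'`-negative roots. -/
def badSet (g : P.Aut) : Set ι := {i | b.IsPos i ∧ ¬ b'.IsPos (g • i)}

/-- The number of `b`-positive roots sent to `b'`-negative roots. -/
noncomputable def badCount (g : P.Aut) : ℕ := (badSet b b' g).ncard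

lemma badCount_eq_zero_iff (g : P.Aut) :
    badCount b b' g = 0 ↔ ∀ i, b.IsPos i → b'.IsPos (g • i) := by
  unfold badCount
  rw [Set.ncard_eq_zero (Set.toFinite _), Set.eq_empty_iff_forall_notMem]
  constructor
  · intro h i hi
    by_contra hc
    exact h i ⟨hi, hc⟩
  · intro h i hc
    exact hc.2 (h i hc.1)

lemma badCount_lt (g : P.Aut) {j : ι} (hj : j ∈ b.support) (hneg : ¬ b'.IsPos (g • j)) :
    badCount b b' (g * Equiv.reflection P j) < badCount b b' g := by
  unfold badCount
  have hjA : j ∈ badSet b b' g := ⟨RootPairing.Base.isPos_of_mem_support hj, hneg⟩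
  have hsub : badSet b b' (g * Equiv.reflection P j) ⊆
      (fun i => P.reflectionPerm j i) '' (badSet b b' g \ {j}) := by
    rintro i ⟨hipos, hineg⟩
    rw [mul_smul, reflection_smul_idx] at hineg
    have hij : i ≠ j := by
      rintro rfl
      apply hineg
      rw [smul_reflectionPerm_self]
      exact isPos_neg_of_not b' hneg
    refine ⟨P.reflectionPerm j i, ⟨⟨hipos.reflectionPerm hj hij, hineg⟩, ?_⟩, ?_⟩
    · intro h
      rw [Set.mem_singleton_iff] at h
      have : i = P.reflectionPerm j j := by
        have h2 := P.reflectionPerm_self j i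
        rw [h] at h2
        exact h2.symm
      rw [this] at hipos
      exact not_isPos_neg b (RootPairing.Base.isPos_of_mem_support hj) hipos
    · exact P.reflectionPerm_self j i
  calc (badSet b b' (g * Equiv.reflection P j)).ncard
      ≤ ((fun i => P.reflectionPerm j i) '' (badSet b b' g \ {j})).ncard :=
        Set.ncard_le_ncard hsub (Set.toFinite _)
    _ ≤ (badSet b b' g \ {j}).ncard := Set.ncard_image_le (Set.toFinite _)
    _ < (badSet b b' g).ncard := Set.ncard_sdiff_singleton_lt_of_mem hjA (Set.toFinite _)

/-- Transitivity: some element of the Weyl group identifies the positive systems. -/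
theorem exists_weyl_pos : ∃ g ∈ P.weylGroup, ∀ i, b.IsPos i → b'.IsPos (g • i) := by
  have key : ∀ n : ℕ, ∀ g ∈ P.weylGroup, badCount b b' g = n →
      ∃ g' ∈ P.weylGroup, badCount b b' g' = 0 := by
    intro n
    induction n using Nat.strong_induction_on with
    | _ n ih =>
      intro g hg hn
      by_cases h0 : n = 0
      · exact ⟨g, hg, hn.trans h0⟩
      · -- some simple root is mapped to a negative root
        have hex : ∃ j ∈ b.support, ¬ b'.IsPos (g • j) := by
          by_contra hcon
          push Not at hcon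
          apply h0
          rw [← hn, badCount_eq_zero_iff]
          intro i hi
          exact isPos_smul_of_support b b' g hcon hi
        obtain ⟨j, hj, hneg⟩ := hex
        have hlt := badCount_lt b b' g hj hneg
        rw [hn] at hlt
        exact ih _ hlt (g * Equiv.reflection P j)
          (mul_mem hg (P.reflection_mem_weylGroup j)) rfl
  obtain ⟨g, hg, h0⟩ := key _ 1 (one_mem _) rfl
  exact ⟨g, hg, (badCount_eq_zero_iff b b' g).1 h0⟩

/-- The Weyl group acts simply transitively on bases. -/
theorem existsUnique_weyl :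
    ∃! g : P.weylGroup, (fun i : ι => (g : P.Aut) • i) '' (b.support : Set ι) = (b'.support : Set ι) := by
  obtain ⟨g, hg, hpos⟩ := exists_weyl_pos b b'
  refine ⟨⟨g, hg⟩, image_support_eq b b' g hpos, ?_⟩
  rintro ⟨g', hg'⟩ himg
  simp only at himg
  have himg0 := image_support_eq b b' g hpos
  apply Subtype.ext
  show g' = g
  -- h := g⁻¹ * g' preserves the support of b
  have hsupp : ∀ j ∈ b.support, (g⁻¹ * g') • j ∈ b.support := by
    intro j hj
    have h1 : g' • j ∈ (b'.support : Set ι) := by
      rw [← himg]; exact ⟨j, hj, rfl⟩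
    rw [← himg0] at h1
    obtain ⟨j₀, hj₀, h2⟩ := h1
    have : (g⁻¹ * g') • j = j₀ := by
      rw [mul_smul, ← h2]
      simp
    rw [this]
    exact hj₀
  have h1 : g⁻¹ * g' = 1 := by
    apply eq_one_of_preserves_pos b _ (mul_mem (inv_mem hg) hg')
    intro i hi
    exact isPos_smul_of_support b b _
      (fun j hj => RootPairing.Base.isPos_of_mem_support (hsupp j hj)) hi
  rw [inv_mul_eq_one] at h1
  exact h1.symm

end Groth.Agent.Helper1.WeylBase
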