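import Groth.Agent.Helper1.WeylBase2

/-!
# Tits' decomposition of Weyl group elements mapping a simple root to a simple root
-/

set_option autoImplicit false
set_option linter.unusedSectionVars false

namespace Groth.Agent.Helper1.WeylBase

open RootPairing

variable {ι R M N : Type*} [CommRing R] [AddCommGroup M] [Module R M]
  [AddCommGroup N] [Module R N] {P : RootPairing ι R M N}
variable [CharZero R] [IsDomain R] [Finite ι] [P.IsCrystallographic] [P.IsReduced]
  (b : P.Base)

/-- Reduction to a minimal coset representative for a rank two parabolic subgroup. -/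
theorem coset_reduce (α γ : ι) (hα : α ∈ b.support) (hγ : γ ∈ b.support) :
    ∀ (n : ℕ) (g : P.Aut), g ∈ P.weylGroup → badCount b b g = n →
      ∃ g' ∈ P.weylGroup, ∃ v ∈ Subgroup.closure {Equiv.reflection P α, Equiv.reflection P γ},
        g = g' * v ∧ b.IsPos (g' • α) ∧ b.IsPos (g' • γ) ∧
          (badCount b b g' < badCount b b g ∨ g' = g) := by
  intro n
  induction n using Nat.strong_induction_on with
  | _ n ih =>
    intro g hg hn
    by_cases hpos : b.IsPos (g • α) ∧ b.IsPos (g • γ)
    · exact ⟨g, hg, 1, one_mem _, by simp, hpos.1, hpos.2, Or.inr rfl⟩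
    · have : ∃ δ, (δ = α ∨ δ = γ) ∧ δ ∈ b.support ∧ ¬ b.IsPos (g • δ) := by
        by_cases h1 : b.IsPos (g • α)
        · exact ⟨γ, Or.inr rfl, hγ, fun h2 => hpos ⟨h1, h2⟩⟩
        · exact ⟨α, Or.inl rfl, hα, h1⟩
      obtain ⟨δ, hδ, hδS, hneg⟩ := this
      have hlt := badCount_lt b b g hδS hneg
      have hg₁ : g * Equiv.reflection P δ ∈ P.weylGroup :=
        mul_mem hg (P.reflection_mem_weylGroup δ)
      obtain ⟨g', hg', v₁, hv₁, heq, hp1, hp2, hlt'⟩ :=
        ih _ (hn ▸ hlt) (g * Equiv.reflection P δ) hg₁ rfl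
      have hsδ : Equiv.reflection P δ ∈
          Subgroup.closure {Equiv.reflection P α, Equiv.reflection P γ} := by
        apply Subgroup.subset_closure
        rcases hδ with rfl | rfl
        · exact Set.mem_insert _ _
        · exact Set.mem_insert_of_mem _ rfl
      refine ⟨g', hg', v₁ * Equiv.reflection P δ, mul_mem hv₁ hsδ, ?_, hp1, hp2, Or.inl ?_⟩
      · rw [← mul_assoc, ← heq, mul_assoc, reflection_mul_self, mul_one]
      · rcases hlt' with h | h
        · exact h.trans hlt
        · rw [h]; exact hlt

omit [Finite ι] [P.IsReduced] [IsDomain R] [CharZero R] in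
lemma reflection_root_eq (δ ε : ι) :
    P.reflection δ (P.root ε) = P.root ε - (P.pairingIn ℤ ε δ) • P.root δ := by
  rw [P.reflection_apply_root, ← P.algebraMap_pairingIn ℤ]
  simp [Int.cast_smul_eq_zsmul]

omit [Finite ι] [P.IsReduced] [IsDomain R] [CharZero R] in
/-- The rank two parabolic subgroup preserves the `ℤ`-span of its two roots. -/
theorem closure_pair_smul (α γ : ι) (v : P.Aut)
    (hv : v ∈ Subgroup.closure {Equiv.reflection P α, Equiv.reflection P γ}) :
    ∀ x : M, (∃ a c : ℤ, x = a • P.root α + c • P.root γ) →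
      ∃ a c : ℤ, v • x = a • P.root α + c • P.root γ := by
  have hgen : ∀ δ, (δ = α ∨ δ = γ) → ∀ x : M, (∃ a c : ℤ, x = a • P.root α + c • P.root γ) →
      ∃ a c : ℤ, Equiv.reflection P δ • x = a • P.root α + c • P.root γ := by
    intro δ hδ x ⟨a, c, hx⟩
    rw [RootPairing.Equiv.reflection_smul, hx, map_add, map_zsmul, map_zsmul,
      reflection_root_eq, reflection_root_eq]
    rcases hδ with rfl | rfl
    · exact ⟨a - a * P.pairingIn ℤ δ δ - c * P.pairingIn ℤ γ δ, c, by module⟩
    · exact ⟨a, c - a * P.pairingIn ℤ α δ - c * P.pairingIn ℤ δ δ, by module⟩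
  induction hv using Subgroup.closure_induction_left with
  | one => intro x hx; simpa using hx
  | mul_left s hs y _ ih =>
    intro x hx
    rw [mul_smul]
    rcases hs with rfl | hs
    · exact hgen α (Or.inl rfl) _ (ih x hx)
    · rw [Set.mem_singleton_iff] at hs
      subst hs
      exact hgen γ (Or.inr rfl) _ (ih x hx)
  | inv_mul_cancel s hs y _ ih =>
    intro x hx
    rw [mul_smul]
    rcases hs with rfl | hs
    · rw [Equiv.reflection_inv]
      exact hgen α (Or.inl rfl) _ (ih x hx)
    · rw [Set.mem_singleton_iff] at hs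
      subst hs
      rw [Equiv.reflection_inv]
      exact hgen γ (Or.inr rfl) _ (ih x hx)

omit [Finite ι] [P.IsReduced] [IsDomain R] [P.IsCrystallographic] in
lemma coeff_unique {f g : ι → ℤ}
    (h : ∑ j ∈ b.support, f j • P.root j = ∑ j ∈ b.support, g j • P.root j) :
    ∀ j ∈ b.support, f j = g j := by
  intro j hj
  rw [b.support.sum_subtype (p := (· ∈ b.support)) (by simp) (F := inferInstance),
    b.support.sum_subtype (p := (· ∈ b.support)) (by simp) (F := inferInstance)] at h
  have aux (j : b.support) := Fintype.linearIndependent_iffₛ.mp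
      (b.linearIndepOn_root.restrict_scalars' ℤ) (f ∘ (↑)) (g ∘ (↑)) (by simpa using h) j
  simpa using aux ⟨j, hj⟩

omit [P.IsReduced] [IsDomain R] [P.IsCrystallographic] in
lemma coeff_sign {α γ : ι} (hα : α ∈ b.support) (hγ : γ ∈ b.support) (hne : α ≠ γ) (i : ι)
    (a c : ℤ) (h : P.root i = a • P.root α + c • P.root γ) :
    (0 ≤ a ∧ 0 ≤ c) ∨ (a ≤ 0 ∧ c ≤ 0) := by
  classical
  obtain ⟨f, -, hsign, hf⟩ := b.exists_root_eq_sum_int i
  let g : ι → ℤ := fun j => if j = α then a else if j = γ then c else 0
  have hg : P.root i = ∑ j ∈ b.support, g j • P.root j := by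
    rw [h]
    have : ∀ j ∈ b.support, g j • P.root j =
        (if j = α then a • P.root α else 0) + (if j = γ then c • P.root γ else 0) := by
      intro j _
      simp only [g]
      by_cases h1 : j = α
      · subst h1; simp [hne]
      · by_cases h2 : j = γ
        · subst h2; simp [h1]
        · simp [h1, h2]
    rw [Finset.sum_congr rfl this, Finset.sum_add_distrib, Finset.sum_ite_eq' , Finset.sum_ite_eq']
    simp [hα, hγ]
  have huniq := coeff_unique b (hf.symm.trans hg)
  have ha : f α = a := by rw [huniq α hα]; simp [g]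
  have hc : f γ = c := by rw [huniq γ hγ]; simp [g, hne.symm]
  rcases hsign with h0 | h0
  · left
    exact ⟨ha ▸ (Pi.lt_def.1 h0).1 α, hc ▸ (Pi.lt_def.1 h0).1 γ⟩
  · right
    exact ⟨ha ▸ (Pi.lt_def.1 h0).1 α, hc ▸ (Pi.lt_def.1 h0).1 γ⟩

omit [P.IsReduced] [IsDomain R] [P.IsCrystallographic] in
lemma height_combo {k p r : ι} (a c : ℤ) (h : P.root k = a • P.root p + c • P.root r) :
    b.height k = a * b.height p + c * b.height r := by
  obtain ⟨f, -, -, hf⟩ := b.exists_root_eq_sum_int p
  obtain ⟨g, -, -, hg⟩ := b.exists_root_eq_sum_int r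
  have hfg : P.root k = ∑ l ∈ b.support, (a • f + c • g) l • P.root l := by
    simp_rw [Pi.add_apply, Pi.smul_apply, add_smul, smul_assoc, Finset.sum_add_distrib,
      ← Finset.smul_sum, ← hf, ← hg, h]
  simp_rw [RootPairing.Base.height_eq_sum hf, RootPairing.Base.height_eq_sum hg,
    RootPairing.Base.height_eq_sum hfg, Pi.add_apply, Pi.smul_apply,
    Finset.sum_add_distrib, ← Finset.smul_sum, smul_eq_mul]

/-- The rank two analysis: an element of the parabolic subgroup of `α, γ` sending `α` to a root
which a positivity-preserving `w'` maps to a simple root must send `α` to `α` or `γ`. -/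
theorem rank_two {α γ β : ι} (hα : α ∈ b.support) (hγ : γ ∈ b.support) (hβ : β ∈ b.support)
    (hne : α ≠ γ) (v : P.Aut)
    (hv : v ∈ Subgroup.closure {Equiv.reflection P α, Equiv.reflection P γ}) (w' : P.Aut)
    (hp1 : b.IsPos (w' • α)) (hp2 : b.IsPos (w' • γ)) (hβ' : w' • (v • α) = β) :
    v • α = α ∨ v • α = γ := by
  obtain ⟨a, c, hac⟩ := closure_pair_smul α γ v hv (P.root α) ⟨1, 0, by simp⟩
  rw [← root_smul] at hac
  have hsign := coeff_sign b hα hγ hne _ a c hac
  have h2 : P.root β = a • P.root (w' • α) + c • P.root (w' • γ) := by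
    rw [← hβ', root_smul, hac, smul_add, root_smul, root_smul, smul_comm w' a, smul_comm w' c]
  have hh := height_combo b a c h2
  rw [RootPairing.Base.height_one_of_mem_support hβ] at hh
  rw [RootPairing.Base.isPos_iff] at hp1 hp2
  have hac' : (a = 1 ∧ c = 0) ∨ (a = 0 ∧ c = 1) := by
    rcases hsign with ⟨h0a, h0c⟩ | ⟨h0a, h0c⟩
    · have h3 : a ≤ a * b.height (w' • α) := by nlinarith
      have h4 : c ≤ c * b.height (w' • γ) := by nlinarith
      have h5 : a + c ≤ 1 := by omega
      have h6 : a ≠ 0 ∨ c ≠ 0 := by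
        by_contra hcon
        push Not at hcon
        rw [hcon.1, hcon.2] at hh
        simp at hh
      omega
    · exfalso
      have h3 : a * b.height (w' • α) ≤ 0 := by nlinarith
      have h4 : c * b.height (w' • γ) ≤ 0 := by nlinarith
      omega
  rcases hac' with ⟨rfl, rfl⟩ | ⟨rfl, rfl⟩
  · left
    apply P.root.injective
    rw [hac]; simp
  · right
    apply P.root.injective
    rw [hac]; simp

/-- Tits' decomposition. -/
theorem tits_decomposition :
    ∀ (n : ℕ) (w : P.Aut), w ∈ P.weylGroup → badCount b b w = n →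
      ∀ α β : ι, α ∈ b.support → β ∈ b.support → w • α = β →
    ∃ (m : ℕ) (a : Fin (m + 1) → ι) (ws : Fin m → P.Aut),
      (∀ i, a i ∈ b.support) ∧ a 0 = α ∧ a (Fin.last m) = β ∧
      (∀ i, ws i ∈ P.weylGroup) ∧
      w = (List.ofFn fun i : Fin m => ws (Fin.rev i)).prod ∧
      (∀ i : Fin m, ws i • a (Fin.castSucc i) = a (Fin.succ i)) ∧
      ∀ i : Fin m, ∃ γ ∈ b.support,
        ws i ∈ Subgroup.closure {Equiv.reflection P (a (Fin.castSucc i)), Equiv.reflection P γ} ∧
        (a (Fin.castSucc i) ≠ a (Fin.succ i) → γ = a (Fin.succ i)) := by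
  intro n
  induction n using Nat.strong_induction_on with
  | _ n ih =>
    intro w hw hn α β hα hβ hwα
    by_cases hall : ∀ γ ∈ b.support, b.IsPos (w • γ)
    · -- `w = 1`
      have h1 : w = 1 := eq_one_of_preserves_pos b w hw
        (fun i hi => isPos_smul_of_support b b w hall hi)
      subst h1
      rw [one_smul] at hwα
      subst hwα
      exact ⟨0, fun _ => α, Fin.elim0, fun _ => hα, rfl, rfl, fun i => i.elim0, by simp,
        fun i => i.elim0, fun i => i.elim0⟩
    · push Not at hall
      obtain ⟨γ, hγ, hneg⟩ := hall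
      have hne : α ≠ γ := by
        rintro rfl
        rw [hwα] at hneg
        exact hneg (RootPairing.Base.isPos_of_mem_support hβ)
      obtain ⟨w', hw', v, hv, heq, hp1, hp2, hlt⟩ := coset_reduce b α γ hα hγ n w hw hn
      have hlt' : badCount b b w' < n := by
        rcases hlt with h | h
        · exact hn ▸ h
        · exfalso
          rw [h] at hp2
          exact hneg hp2
      have hβ' : w' • (v • α) = β := by rw [← mul_smul, ← heq, hwα]
      have hα₁ := rank_two b hα hγ hβ hne v hv w' hp1 hp2 hβ'
      have hα₁S : v • α ∈ b.support := by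
        rcases hα₁ with h | h <;> rw [h] <;> assumption
      have hvW : v ∈ P.weylGroup := by
        have : v = w'⁻¹ * w := by rw [heq, inv_mul_cancel_left]
        rw [this]
        exact mul_mem (inv_mem hw') hw
      obtain ⟨m', a', ws', ha'S, ha'0, ha'last, hws'W, hprod, hchain, hγ'⟩ :=
        ih _ hlt' w' hw' rfl (v • α) β hα₁S hβ hβ'
      refine ⟨m' + 1, Fin.cons α a', Fin.cons v ws', ?_, ?_, ?_, ?_, ?_, ?_, ?_⟩
      · intro i
        refine Fin.cases ?_ (fun j => ?_) i
        · simpa using hα
        · simpa using ha'S j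
      · simp
      · rw [← Fin.succ_last, Fin.cons_succ, ha'last]
      · intro i
        refine Fin.cases ?_ (fun j => ?_) i
        · simpa using hvW
        · simpa using hws'W j
      · rw [List.ofFn_succ', List.concat_eq_append, List.prod_append, List.prod_singleton]
        simp only [Fin.rev_last, Fin.cons_zero, Fin.rev_castSucc, Fin.cons_succ]
        rw [← hprod, heq]
      · intro i
        refine Fin.cases ?_ (fun j => ?_) i
        · simp [ha'0]
        · rw [Fin.cons_succ, ← Fin.succ_castSucc, Fin.cons_succ, Fin.cons_succ]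
          exact hchain j
      · intro i
        refine Fin.cases ?_ (fun j => ?_) i
        · refine ⟨γ, hγ, ?_, ?_⟩
          · simpa using hv
          · intro hne'
            simp only [Fin.castSucc_zero, Fin.cons_zero, Fin.succ_zero_eq_one, ne_eq] at hne' ⊢
            have h1 : (Fin.cons α a' : Fin (m' + 1 + 1) → ι) 1 = v • α := by
              rw [← Fin.succ_zero_eq_one, Fin.cons_succ, ha'0]
            rw [h1] at hne' ⊢
            rcases hα₁ with h | h
            · exact absurd h.symm hne'
            · exact h.symm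
        · obtain ⟨γ', hγ'S, hmem, himp⟩ := hγ' j
          refine ⟨γ', hγ'S, ?_, ?_⟩
          · rw [Fin.cons_succ, ← Fin.succ_castSucc, Fin.cons_succ]
            exact hmem
          · rw [← Fin.succ_castSucc, Fin.cons_succ, Fin.cons_succ]
            exact himp

end Groth.Agent.Helper1.WeylBase
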