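import Groth.Agent.Helper9.QP2
import Groth.Agent.Helper4.GV2

set_option autoImplicit false

/-!
# Gluing a global section with zero across two disjoint closed sets
-/

namespace Groth.Agent.Helper1.ZCon

open CategoryTheory Limits AlgebraicGeometry Opposite TopologicalSpace
open Groth.Agent.Helper4.GV

universe u

variable {X : Scheme.{u}} (N : X.Modules)

/-- restriction of sections of a module -/
noncomputable abbrev res {U V : X.Opens} (h : V ≤ U) : Γ(N, U) →+ Γ(N, V) :=
  (N.presheaf.map (homOfLE h).op).hom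

lemma res_res {U V W : X.Opens} (h : V ≤ U) (h' : W ≤ V) (s : Γ(N, U)) :
    res N h' (res N h s) = res N (h'.trans h) s := by
  show (N.presheaf.map (homOfLE h').op).hom ((N.presheaf.map (homOfLE h).op).hom s) = _
  rw [← AddCommGrpCat.comp_apply, ← N.presheaf.map_comp]
  rfl

lemma res_self {U : X.Opens} (s : Γ(N, U)) : res N le_rfl s = s := by
  show (N.presheaf.map (homOfLE le_rfl).op).hom s = s
  have : (homOfLE (le_refl U)).op = 𝟙 (op U) := rfl
  rw [this, N.presheaf.map_id]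
  rfl

/-- naturality of restriction -/
lemma app_res {N N' : X.Modules} (φ : N ⟶ N') {U V : X.Opens} (h : V ≤ U) (s : Γ(N, U)) :
    φ.app V (res N h s) = res N' h (φ.app U s) := by
  have := φ.mapPresheaf.naturality (homOfLE h).op
  exact congrArg (fun k => k.hom s) this

variable {U V : X.Opens}

/-- two global sections which agree on both members of a cover by two opens agree -/
theorem eq_of_res_eq (hUV : ∀ x : X, x ∈ U ∨ x ∈ V) (s s' : Γ(N, ⊤))
    (h₁ : res N (le_top : U ≤ ⊤) s = res N (le_top : U ≤ ⊤) s')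
    (h₂ : res N (le_top : V ≤ ⊤) s = res N (le_top : V ≤ ⊤) s') : s = s' := by
  have e : (⊤ : X.Opens) ≤ U ⊔ V := by
    intro x _
    rcases hUV x with h | h
    · exact (le_sup_left : U ≤ U ⊔ V) h
    · exact (le_sup_right : V ≤ U ⊔ V) h
  have e' : U ⊔ V ≤ (⊤ : X.Opens) := le_top
  have key : res N e' s = res N e' s' := by
    apply Groth.Agent.Helper9.QP2.sep₂ N U V
    · exact (res_res N e' le_sup_left s).trans (h₁.trans (res_res N e' le_sup_left s').symm)
    · exact (res_res N e' le_sup_right s).trans (h₂.trans (res_res N e' le_sup_right s').symm)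
  have := congrArg (res N e) key
  rwa [res_res, res_res, res_self, res_self] at this

/-- gluing two sections over a cover of the whole space by two opens -/
theorem exists_glue (hUV : ∀ x : X, x ∈ U ∨ x ∈ V) (s : Γ(N, U)) (t : Γ(N, V))
    (h : res N (inf_le_left : U ⊓ V ≤ U) s = res N (inf_le_right : U ⊓ V ≤ V) t) :
    ∃ w : Γ(N, ⊤), res N (le_top : U ≤ ⊤) w = s ∧ res N (le_top : V ≤ ⊤) w = t := by
  have e : (⊤ : X.Opens) ≤ U ⊔ V := by
    intro x _
    rcases hUV x with h | h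
    · exact (le_sup_left : U ≤ U ⊔ V) h
    · exact (le_sup_right : V ≤ U ⊔ V) h
  obtain ⟨w', hw₁, hw₂⟩ := Groth.Agent.Helper9.QP2.glue₂ N U V s t h
  refine ⟨res N e w', ?_, ?_⟩
  · rw [res_res]; exact hw₁
  · rw [res_res]; exact hw₂

/-- for a module supported in `Z₁ ∪ Z₂` with `Z₁`, `Z₂` disjoint closed sets, every global section
can be cut off to a section vanishing near `Z₁` and unchanged near `Z₂ᶜ`... -/
theorem exists_cutoff (Z₁ Z₂ : Set X) (h₁ : IsClosed Z₁) (h₂ : IsClosed Z₂) (hd : Disjoint Z₁ Z₂)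
    (hS : SuppIn (Coh.toAb N) (Z₁ ∪ Z₂)) (a : Γ(N, ⊤)) :
    ∃ s : Γ(N, ⊤),
      res N (le_top : (⟨Z₂ᶜ, h₂.isOpen_compl⟩ : X.Opens) ≤ ⊤) s =
        res N (le_top : (⟨Z₂ᶜ, h₂.isOpen_compl⟩ : X.Opens) ≤ ⊤) a ∧
      res N (le_top : (⟨Z₁ᶜ, h₁.isOpen_compl⟩ : X.Opens) ≤ ⊤) s = 0 := by
  apply exists_glue N
  · intro x
    by_cases hx : x ∈ Z₂
    · right
      exact fun hx1 => Set.disjoint_left.mp hd hx1 hx
    · left
      exact hx
  · have hdis : Disjoint (((⟨Z₂ᶜ, h₂.isOpen_compl⟩ : X.Opens) ⊓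
        (⟨Z₁ᶜ, h₁.isOpen_compl⟩ : X.Opens) : X.Opens) : Set X) (Z₁ ∪ Z₂) := by
      rw [Set.disjoint_left]
      rintro x ⟨hx2, hx1⟩ (hx | hx)
      · exact hx1 hx
      · exact hx2 hx
    exact (hS _ hdis _).trans (hS _ hdis _).symm

end Groth.Agent.Helper1.ZCon
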