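import Groth.Agent.Helper1.ZCon1
import Groth.Agent.Helper1.ZarIso8
import Groth.Agent.Helper1.FibDimVan2
import Groth.Agent.Helper1.FormA
import Groth.Agent.Lead.ProperFinA

set_option autoImplicit false

/-!
# The image of `1` in `O/mO` does not vanish near a point of the closed fibre
-/

namespace Groth.Agent.Helper1.ZCon

open CategoryTheory Limits AlgebraicGeometry Opposite TopologicalSpace IsLocalRing
open Groth.Agent.Helper4.GV Groth.Agent.Helper1.Form Groth.Agent.Helper1.FibDimVan
open Groth.Agent.Helper1.ZarIso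

universe u

section unit

variable {Z : Scheme.{u}}

/-- the section `1` of the structure module -/
noncomputable abbrev one (Z : Scheme.{u}) : Γ(Coh.structureModule Z, ⊤) :=
  (1 : Z.ringCatSheaf.obj.obj (op ⊤))

/-- a morphism out of the structure sheaf vanishing on the section `1` is zero -/
lemma unit_hom_eq_zero {N : Z.Modules} (q : Coh.structureModule Z ⟶ N)
    (h : q.app ⊤ (one Z) = 0) : q = 0 := by
  apply (SheafOfModules.unitHomEquiv N).injective
  apply PresheafOfModules.sections_ext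
  intro U
  have hs := PresheafOfModules.sections_property (SheafOfModules.unitHomEquiv N q)
    (homOfLE (le_top : U.unop ≤ ⊤)).op
  rw [← hs]
  have h4 : (SheafOfModules.unitHomEquiv N q).val (op ⊤) = 0 := h
  rw [h4]
  have h5 : (SheafOfModules.unitHomEquiv N (0 : Coh.structureModule Z ⟶ N)).val U = 0 := by
    change ((0 : Coh.structureModule Z ⟶ N).val.app U) (1 : Z.ringCatSheaf.obj.obj U) = 0
    rfl
  exact (map_zero _).trans h5.symm

end unit

variable (B : Type u) [CommRing B] [IsLocalRing B] {X₁ : Scheme.{u}}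
  [X₁.Over (Spec (CommRingCat.of B))]

/-- the scheme-theoretic closed fibre -/
noncomputable abbrev Zc : Scheme.{u} :=
  pullback (X₁ ↘ Spec (CommRingCat.of B))
    (Spec.map (CommRingCat.ofHom (algebraMap B (ResidueField B))))

/-- its inclusion -/
noncomputable abbrev jc : Zc B (X₁ := X₁) ⟶ X₁ := pullback.fst _ _

lemma closedFibre_subset_range_jc :
    closedFibre B (X₁ := X₁) ⊆ Set.range (jc B (X₁ := X₁)) := by
  intro x hx
  rw [Scheme.Pullback.range_fst]
  show (X₁ ↘ Spec (CommRingCat.of B)) x ∈ Set.range _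
  have hx' : (X₁ ↘ Spec (CommRingCat.of B)) x = closedPoint B := hx
  rw [hx']
  exact ⟨(⊥ : PrimeSpectrum (ResidueField B)), PrimeSpectrum.comap_residue B _⟩

lemma toGlobal_comp_jc (a : B) (ha : a ∈ maximalIdeal B) :
    (jc B (X₁ := X₁)).appTop.hom (Coh.toGlobal (X₁ ↘ Spec (CommRingCat.of B)) a) = 0 := by
  have h1 : (jc B (X₁ := X₁)).appTop.hom (Coh.toGlobal (X₁ ↘ Spec (CommRingCat.of B)) a) =
      Coh.toGlobal (jc B (X₁ := X₁) ≫ (X₁ ↘ Spec (CommRingCat.of B))) a := by
    unfold Coh.toGlobal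
    rw [Scheme.Hom.comp_appTop]
    rfl
  rw [h1, pullback.condition]
  unfold Coh.toGlobal
  rw [Scheme.Hom.comp_appTop]
  show (pullback.snd (X₁ ↘ Spec (CommRingCat.of B))
    (Spec.map (CommRingCat.ofHom (algebraMap B (ResidueField B))))).appTop.hom
      ((Spec.map (CommRingCat.ofHom (algebraMap B (ResidueField B)))).appTop.hom
        ((Scheme.ΓSpecIso (CommRingCat.of B)).inv.hom a)) = 0
  have h2 : (Spec.map (CommRingCat.ofHom (algebraMap B (ResidueField B)))).appTop.hom
      ((Scheme.ΓSpecIso (CommRingCat.of B)).inv.hom a) =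
      (Scheme.ΓSpecIso (CommRingCat.of (ResidueField B))).inv.hom
        (algebraMap B (ResidueField B) a) := by
    have := Scheme.ΓSpecIso_inv_naturality (CommRingCat.ofHom (algebraMap B (ResidueField B)))
    exact (congrArg (fun k => k.hom a) this).symm
  rw [h2]
  have h3 : algebraMap B (ResidueField B) a = 0 := by
    exact (IsLocalRing.residue_eq_zero_iff a).mpr ha
  rw [h3, map_zero, map_zero]

/-- the unit map to the closed fibre is killed by the maximal ideal -/
lemma kills_unitToPush_jc :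
    Kills (maximalIdeal B) (unitToPush (jc B (X₁ := X₁))) := by
  intro a ha
  apply unit_hom_eq_zero
  show (unitToPush (jc B (X₁ := X₁))).app ⊤
    ((Formal.smulMod B (Coh.structureModule X₁) a).app ⊤ (one X₁)) = 0
  have h1 : (Formal.smulMod B (Coh.structureModule X₁) a).app ⊤ (one X₁) =
      (show Γ(Coh.structureModule X₁, ⊤) from
        (Coh.toGlobal (X₁ ↘ Spec (CommRingCat.of B)) a : X₁.ringCatSheaf.obj.obj (op ⊤))) := by
    show (Coh.resTop X₁ (op ⊤) (Coh.toGlobal (X₁ ↘ Spec (CommRingCat.of B)) a)) *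
      (1 : X₁.ringCatSheaf.obj.obj (op ⊤)) = _
    rw [mul_one]
    exact Groth.Agent.Lead.ProperFinA.resTop_top _
  rw [h1]
  exact toGlobal_comp_jc B a ha

/-- the section `π(1)` of `O/mO` -/
noncomputable abbrev piOne (k : ℕ) :
    Γ(Formal.modPow (maximalIdeal B) (k + 1) (Coh.structureModule X₁), ⊤) :=
  (Formal.modPowπ (maximalIdeal B) (k + 1) (Coh.structureModule X₁)).app ⊤ (one X₁)

/-- if the image of `1` in `O/mO` vanishes on an open `W`, then `W` misses the closed fibre -/
theorem disjoint_closedFibre_of_res_piOne_eq_zero (W : X₁.Opens)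
    (h : res _ (le_top : W ≤ ⊤) (piOne B (X₁ := X₁) 0) = 0) :
    Disjoint (W : Set X₁) (closedFibre B (X₁ := X₁)) := by
  rw [Set.disjoint_left]
  intro z hzW hzC
  obtain ⟨z', rfl⟩ := closedFibre_subset_range_jc B hzC
  have hk : Kills (maximalIdeal B ^ (0 + 1)) (unitToPush (jc B (X₁ := X₁))) := by
    rw [zero_add, pow_one]
    exact kills_unitToPush_jc B
  obtain ⟨g, hg⟩ := (isQuot_modPowπ (maximalIdeal B) (0 + 1) (Coh.structureModule X₁)).fac
    (unitToPush (jc B (X₁ := X₁))) hk
  -- apply `g` to the vanishing section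
  have h1 : g.app W (res _ (le_top : W ≤ ⊤) (piOne B (X₁ := X₁) 0)) = 0 := by
    rw [h, map_zero]
  rw [app_res] at h1
  have h2 : g.app ⊤ (piOne B (X₁ := X₁) 0) =
      (unitToPush (jc B (X₁ := X₁))).app ⊤ (one X₁) := by
    rw [← hg]
    rfl
  rw [h2, ← app_res] at h1
  -- so `1 = 0` on `j⁻¹ W`
  have h3 : (1 : Γ(Zc B (X₁ := X₁), jc B (X₁ := X₁) ⁻¹ᵁ W)) = 0 := by
    have h4 : res (Coh.structureModule X₁) (le_top : W ≤ ⊤) (one X₁) =
        (show Γ(Coh.structureModule X₁, W) from (1 : Γ(X₁, W))) :=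
      map_one (X₁.presheaf.map (homOfLE (le_top : W ≤ ⊤)).op).hom
    rw [h4, unitToPush_app, map_one] at h1
    exact h1
  have h5 : (jc B (X₁ := X₁) ⁻¹ᵁ W) = ⊥ := by
    rw [← Scheme.basicOpen_one (X := Zc B (X₁ := X₁)) (U := jc B (X₁ := X₁) ⁻¹ᵁ W), h3,
      Scheme.basicOpen_zero]
  have h6 : z' ∈ (jc B (X₁ := X₁) ⁻¹ᵁ W) := hzW
  rw [h5] at h6
  exact h6

end Groth.Agent.Helper1.ZCon
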