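import Groth.Agent.Helper1.ZCon3
import Groth.Agent.Helper1.FibDimVan3

set_option autoImplicit false

/-!
# Zariski's connectedness theorem, local form
-/

namespace Groth.Agent.Helper1.ZCon

open CategoryTheory Limits AlgebraicGeometry Opposite TopologicalSpace IsLocalRing
open Groth.Agent.Helper1.FibDimVan

universe u

section

variable (B : Type u) [CommRing B] [IsLocalRing B] {X₁ : Scheme.{u}}
  [X₁.Over (Spec (CommRingCat.of B))]

theorem nonempty_closedFibre [UniversallyClosed (X₁ ↘ Spec (CommRingCat.of B))] [Nonempty X₁] :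
    (closedFibre B (X₁ := X₁)).Nonempty := by
  obtain ⟨x⟩ := ‹Nonempty X₁›
  set φ := X₁ ↘ Spec (CommRingCat.of B) with hφ
  have hcl : IsClosed (φ '' closure {x}) := φ.isClosedMap _ isClosed_closure
  have hp : φ x ∈ φ '' closure {x} := ⟨x, subset_closure rfl, rfl⟩
  have hsp : φ x ⤳ closedPoint B := specializes_closedPoint (R := B) (φ x)
  obtain ⟨x', -, hx'⟩ := hsp.mem_closed hcl hp
  exact ⟨x', hx'⟩

end

variable {X Y : Scheme.{u}} (f : X ⟶ Y) (y : Y)
  {X₁ : Scheme.{u}} [X₁.Over (Spec (CommRingCat.of (Y.presheaf.stalk y)))] (g : X₁ ⟶ X)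
  (hsq : IsPullback g (X₁ ↘ Spec (CommRingCat.of (Y.presheaf.stalk y))) f (Y.fromSpecStalk y))

lemma range_jFib :
    Set.range (jFib f y g hsq) = closedFibre (Y.presheaf.stalk y) (X₁ := X₁) := by
  apply Set.Subset.antisymm
  · rintro _ ⟨z, rfl⟩
    show (X₁ ↘ Spec (CommRingCat.of (Y.presheaf.stalk y))) (jFib f y g hsq z) =
      closedPoint (Y.presheaf.stalk y)
    rw [← Scheme.Hom.comp_apply, jFib_snd, Scheme.Hom.comp_apply, Scheme.SpecMap_residue_apply]
  · exact closedFibre_subset_range f y g hsq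

include hsq in
/-- **Zariski's connectedness theorem**, local form: if the ring of global functions of
`X ×_Y Spec O_{Y,y}` is local, the fibre of the proper morphism `f` at `y` is connected -/
theorem connectedSpace_fiber [IsProper f] [IsLocallyNoetherian Y] [Nonempty X₁]
    (hloc : ∀ t : Γ(X₁, ⊤), IsUnit t ∨ IsUnit (1 - t)) : ConnectedSpace (f.fiber y) := by
  haveI : IsProper (X₁ ↘ Spec (CommRingCat.of (Y.presheaf.stalk y))) :=
    MorphismProperty.of_isPullback (P := @IsProper) hsq inferInstance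
  haveI : IsNoetherianRing (Y.presheaf.stalk y) := inferInstance
  have h1 := isPreconnected_closedFibre (Y.presheaf.stalk y) (X₁ := X₁) hloc
  have h2 := nonempty_closedFibre (Y.presheaf.stalk y) (X₁ := X₁)
  rw [← range_jFib f y g hsq] at h1 h2
  rw [← Set.image_univ] at h1
  have h3 : _root_.IsPreconnected (Set.univ : Set (f.fiber y)) :=
    (jFib f y g hsq).isClosedEmbedding.isInducing.isPreconnected_image.mp h1
  obtain ⟨_, ⟨z, rfl⟩⟩ := h2
  haveI : Nonempty (f.fiber y) := ⟨z⟩
  haveI : PreconnectedSpace (f.fiber y) := ⟨h3⟩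
  exact ⟨inferInstance⟩

end Groth.Agent.Helper1.ZCon
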