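import Groth.Agent.Helper1.ZCon4
import Groth.Agent.Helper1.ZarIso5

set_option autoImplicit false

/-!
# Global functions of `X ×_Y Spec O_{Y,y}` and Zariski's connectedness theorem
-/

namespace Groth.Agent.Helper1.ZCon

open CategoryTheory Limits AlgebraicGeometry Opposite TopologicalSpace IsLocalRing TensorProduct
open Groth.Agent.Helper1.FibDimVan Groth.Agent.Helper1.StalkBC Groth.Agent.Helper1.ZarIso

universe u

/-- `Γ(X ×_Y Spec O_{Y,y}, O) = O_{Y,y} ⊗ Γ(f⁻¹V, O)` for an affine open `V ∋ y` -/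
theorem nonempty_tensor_equiv_top {X Y : Scheme.{u}} (f : X ⟶ Y) [QuasiCompact f] [IsSeparated f]
    [HasInjectiveResolutions X.Modules] (y : Y) {V : Y.Opens} (hV : IsAffineOpen V) (hyV : y ∈ V)
    (X₁ : Scheme.{u}) [X₁.Over (Spec (CommRingCat.of (Y.presheaf.stalk y)))] (g : X₁ ⟶ X)
    (hsq : IsPullback g (X₁ ↘ Spec (CommRingCat.of (Y.presheaf.stalk y))) f
      (Y.fromSpecStalk y)) :
    letI := (f.app V).hom.toAlgebra
    letI := Y.presheaf.algebra_section_stalk ⟨y, hyV⟩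
    letI := ((X₁ ↘ Spec (CommRingCat.of (Y.presheaf.stalk y))).appTop.hom.comp
      (Scheme.ΓSpecIso (CommRingCat.of (Y.presheaf.stalk y))).inv.hom :
        Y.presheaf.stalk y →+* Γ(X₁, ⊤)).toAlgebra
    Nonempty (Y.presheaf.stalk y ⊗[Γ(Y, V)] Γ(X, f ⁻¹ᵁ V) ≃ₗ[Y.presheaf.stalk y] Γ(X₁, ⊤)) := by
  letI := (f.app V).hom.toAlgebra
  letI := Y.presheaf.algebra_section_stalk ⟨y, hyV⟩
  letI := ((X₁ ↘ Spec (CommRingCat.of (Y.presheaf.stalk y))).appTop.hom.comp
    (Scheme.ΓSpecIso (CommRingCat.of (Y.presheaf.stalk y))).inv.hom :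
      Y.presheaf.stalk y →+* Γ(X₁, ⊤)).toAlgebra
  haveI : ((Coh.Rpush f 0).obj (Coh.structureModule X)).IsQuasicoherent :=
    Groth.Agent.S0030.result f (Coh.structureModule X) 0
  obtain ⟨e1⟩ := nonempty_stalk_equiv hV ((Coh.Rpush f 0).obj (Coh.structureModule X)) y hyV
  obtain ⟨e3⟩ := nonempty_sections_Rpush_zero_equiv f V
  obtain ⟨e4⟩ := nonempty_stalk_Rpush_equiv f (Coh.structureModule X) y 0 X₁ g hsq
  obtain ⟨e5⟩ := nonempty_linearEquiv_HH_of_iso (K := Y.presheaf.stalk y) (Z := X₁)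
    (Groth.Agent.Helper4.PullUnit.pullbackUnitIso g) 0
  obtain ⟨e6⟩ := nonempty_HH_zero_equiv_top (Y.presheaf.stalk y) X₁
  exact ⟨((((LinearEquiv.baseChange Γ(Y, V) (Y.presheaf.stalk y) _ _ e3).symm.trans e1).trans
    e4).trans e5).trans e6⟩

/-- if `O_Y(V) → O_X(f⁻¹V)` is bijective for an affine open `V ∋ y`, the ring of global functions
of `X ×_Y Spec O_{Y,y}` is `O_{Y,y}` -/
theorem bijective_toGlobal_of_bijective_app {X Y : Scheme.{u}} (f : X ⟶ Y) [QuasiCompact f]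
    [IsSeparated f] (y : Y) {V : Y.Opens} (hV : IsAffineOpen V) (hyV : y ∈ V)
    (hb : Function.Bijective (f.app V).hom)
    (X₁ : Scheme.{u}) [X₁.Over (Spec (CommRingCat.of (Y.presheaf.stalk y)))] (g : X₁ ⟶ X)
    (hsq : IsPullback g (X₁ ↘ Spec (CommRingCat.of (Y.presheaf.stalk y))) f
      (Y.fromSpecStalk y)) :
    Function.Bijective (Coh.toGlobal (X₁ ↘ Spec (CommRingCat.of (Y.presheaf.stalk y)))) := by
  haveI : EnoughInjectives X.Modules :=
    Groth.Agent.Helper9.ModCechExt.enoughInjectives_mod X.ringCatSheaf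
  letI := (f.app V).hom.toAlgebra
  letI := Y.presheaf.algebra_section_stalk ⟨y, hyV⟩
  letI := ((X₁ ↘ Spec (CommRingCat.of (Y.presheaf.stalk y))).appTop.hom.comp
    (Scheme.ΓSpecIso (CommRingCat.of (Y.presheaf.stalk y))).inv.hom :
      Y.presheaf.stalk y →+* Γ(X₁, ⊤)).toAlgebra
  obtain ⟨e⟩ := nonempty_tensor_equiv_top f y hV hyV X₁ g hsq
  let e2 : Γ(Y, V) ≃ₗ[Γ(Y, V)] Γ(X, f ⁻¹ᵁ V) :=
    LinearEquiv.ofBijective (Algebra.linearMap Γ(Y, V) Γ(X, f ⁻¹ᵁ V)) hb
  let e3 : Y.presheaf.stalk y ⊗[Γ(Y, V)] Γ(Y, V) ≃ₗ[Y.presheaf.stalk y]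
      Y.presheaf.stalk y ⊗[Γ(Y, V)] Γ(X, f ⁻¹ᵁ V) :=
    LinearEquiv.baseChange Γ(Y, V) (Y.presheaf.stalk y) _ _ e2
  let e4 : Y.presheaf.stalk y ⊗[Γ(Y, V)] Γ(Y, V) ≃ₗ[Y.presheaf.stalk y] Y.presheaf.stalk y :=
    TensorProduct.AlgebraTensorModule.rid Γ(Y, V) (Y.presheaf.stalk y) (Y.presheaf.stalk y)
  exact bijective_algebraMap_of_linearEquiv ((e.symm.trans e3.symm).trans e4)

/-- the local-ring property transported along a bijective ring homomorphism -/
lemma isUnit_or_of_bijective {B S : Type*} [CommRing B] [IsLocalRing B] [CommRing S]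
    (φ : B →+* S) (hφ : Function.Surjective φ) (t : S) : IsUnit t ∨ IsUnit (1 - t) := by
  obtain ⟨b, rfl⟩ := hφ t
  rcases IsLocalRing.isUnit_or_isUnit_one_sub_self b with h | h
  · exact Or.inl (h.map φ)
  · right
    have := h.map φ
    rwa [map_sub, map_one] at this

/-- **Zariski's connectedness theorem**: for `f` proper over a locally Noetherian base, if
`O_Y(V) → O_X(f⁻¹V)` is bijective for some affine open neighbourhood `V` of `y`, the fibre of `f`
at `y` is connected (and nonempty) -/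
theorem connectedSpace_fiber_of_bijective_app {X Y : Scheme.{u}} (f : X ⟶ Y) [IsProper f]
    [IsLocallyNoetherian Y] (y : Y) {V : Y.Opens} (hV : IsAffineOpen V) (hyV : y ∈ V)
    (hb : Function.Bijective (f.app V).hom) : ConnectedSpace (f.fiber y) := by
  let B : Type u := Y.presheaf.stalk y
  let X₁ : Scheme.{u} := pullback f (Y.fromSpecStalk y)
  letI : X₁.Over (Spec (CommRingCat.of B)) := ⟨pullback.snd f (Y.fromSpecStalk y)⟩
  let g : X₁ ⟶ X := pullback.fst f (Y.fromSpecStalk y)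
  have hsq : IsPullback g (X₁ ↘ Spec (CommRingCat.of B)) f (Y.fromSpecStalk y) :=
    IsPullback.of_hasPullback _ _
  have hbij := bijective_toGlobal_of_bijective_app f y hV hyV hb X₁ g hsq
  haveI : Nonempty X₁ := by
    by_contra hne
    rw [not_nonempty_iff] at hne
    haveI : Subsingleton Γ(X₁, ⊤) := inferInstance
    have h01 : (0 : B) = 1 := hbij.1 (@Subsingleton.elim Γ(X₁, ⊤) _ _ _)
    exact zero_ne_one h01
  exact connectedSpace_fiber f y g hsq (isUnit_or_of_bijective _ hbij.2)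

end Groth.Agent.Helper1.ZCon
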