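import Groth.Agent.Helper1.ZCon6
import Groth.Agent.S1355

set_option autoImplicit false

/-!
# Geometric connectedness of a fibre, and an algebraic spreading-out lemma
-/

namespace Groth.Agent.Helper1.ZCon

open CategoryTheory Limits AlgebraicGeometry Opposite TopologicalSpace

universe u

/-- if `O_Y(V) → O_X(f⁻¹V)` is an isomorphism for an affine open `V ∋ y`, the fibre of the proper
morphism `f` at `y` is geometrically connected -/
theorem geometricallyConnected_fiber_of_isIso_app {X Y : Scheme.{u}} (f : X ⟶ Y) [IsProper f]
    [IsLocallyNoetherian Y] (y : Y) {V : Y.Opens} (hV : IsAffineOpen V) (hyV : y ∈ V)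
    (hiso : IsIso (f.app V)) : GeometricallyConnected (f.fiberToSpecResidueField y) := by
  rw [Groth.Agent.S1355.result f y]
  intro U g u hg hgu
  haveI : Etale g := hg
  haveI : IsLocallyNoetherian U := LocallyOfFiniteType.isLocallyNoetherian g
  have hu : u ∈ g ⁻¹ᵁ V := by
    show g u ∈ V
    rw [hgu]
    exact hyV
  obtain ⟨_, ⟨V', hV' : IsAffineOpen V', rfl⟩, huV', hle⟩ :=
    U.isBasis_affineOpens.exists_subset_of_mem_open hu (g ⁻¹ᵁ V).isOpen
  have hiso' := isIso_app_baseChange f g hV hV' hle
  exact connectedSpace_fiber_of_bijective_app (pullback.snd f g) u hV' huV'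
    ((ConcreteCategory.isIso_iff_bijective _).mp hiso')

/-- an injective algebra map all of whose cokernel is killed by `s` becomes bijective after
inverting `s` -/
theorem bijective_localizedModule_map_of_smul_mem {A R : Type*} [CommRing A] [CommRing R]
    [Algebra A R] (s : A) (hinj : Function.Injective (algebraMap A R))
    (h : ∀ b : R, s • b ∈ Set.range (algebraMap A R)) :
    Function.Bijective (LocalizedModule.map (Submonoid.powers s) (Algebra.linearMap A R)) := by
  constructor
  · exact LocalizedModule.map_injective _ _ hinj
  · intro x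
    induction x using LocalizedModule.induction_on with
    | h b t =>
      obtain ⟨a, ha⟩ := h b
      refine ⟨LocalizedModule.mk a (⟨s, Submonoid.mem_powers s⟩ * t), ?_⟩
      rw [LocalizedModule.map_mk, LocalizedModule.mk_eq]
      refine ⟨1, ?_⟩
      simp only [one_smul, Algebra.linearMap_apply, ha]
      rw [Submonoid.smul_def, Submonoid.smul_def, Submonoid.coe_mul, mul_smul]
      rw [smul_comm]

end Groth.Agent.Helper1.ZCon
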