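import Groth.Agent.Helper1.ZCon7
import Groth.Agent.Helper1.ZarIso7
import Groth.Agent.Lead.PropNormA
import Groth.Agent.Lead.ProperFinB

set_option autoImplicit false

/-!
# `O_Y → f_* O_X` near a normal point, for `R(Y)` algebraically closed in `R(X)`
-/

namespace Groth.Agent.Helper1.ZCon

open CategoryTheory Limits AlgebraicGeometry Opposite TopologicalSpace
open Groth.Agent.Lead.PropNormA

universe u

variable {X Y : Scheme.{u}} [IsIntegral X] [IsIntegral Y]

theorem exists_mul_eq_app (f : X ⟶ Y) [IsProper f]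
    (hdom : f.base (genericPoint X) ⤳ genericPoint Y)
    (halg : ∀ x : X.functionField,
      (∃ q : Polynomial Y.functionField, q ≠ 0 ∧
        Polynomial.eval₂ (CohIII.stalkToFunctionField f (genericPoint Y) hdom) x q = 0) →
      x ∈ Set.range (CohIII.stalkToFunctionField f (genericPoint Y) hdom))
    (y : Y) (hy : IsIntegrallyClosed (Y.presheaf.stalk y)) {V : Y.Opens} (hV : IsAffineOpen V)
    (hyV : y ∈ V) (b : Γ(X, f ⁻¹ᵁ V)) :
    ∃ s : Γ(Y, V), IsUnit (Y.presheaf.germ V y hyV s) ∧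
      ∃ a : Γ(Y, V), (f.app V).hom s * b = (f.app V).hom a := by
  have hηV : genericPoint Y ∈ V := (genericPoint_specializes y).mem_open V.isOpen hyV
  have hηX : genericPoint X ∈ f ⁻¹ᵁ V := hdom.mem_open V.isOpen hηV
  have hφ := stalkToFunctionField_injective f hdom
  obtain ⟨q, hq, hqb⟩ := exists_monic_eq f hdom V b V hV le_rfl hηV
  obtain ⟨y₀, hy₀⟩ := halg _ ⟨_, (hq.map _).ne_zero, hqb⟩
  rw [← hy₀, Polynomial.eval₂_hom] at hqb
  have h1 : Polynomial.eval y₀ (q.map (Y.presheaf.germ V (genericPoint Y) hηV).hom) = 0 :=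
    hφ (hqb.trans (map_zero _).symm)
  have hint : IsIntegral (Y.presheaf.stalk y) y₀ := by
    refine ⟨q.map (Y.presheaf.germ V y hyV).hom, hq.map _, ?_⟩
    rw [Polynomial.eval₂_map]
    have h2 : (algebraMap (Y.presheaf.stalk y) Y.functionField).comp
        (Y.presheaf.germ V y hyV).hom = (Y.presheaf.germ V (genericPoint Y) hηV).hom := by
      ext a
      exact algebraMap_germ V y hyV a
    rw [h2, ← Polynomial.eval_map]
    exact h1
  obtain ⟨t, ht⟩ := (IsIntegrallyClosed.isIntegral_iff (R := Y.presheaf.stalk y)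
    (K := Y.functionField)).mp hint
  letI := Y.presheaf.algebra_section_stalk ⟨y, hyV⟩
  haveI := hV.isLocalization_stalk ⟨y, hyV⟩
  obtain ⟨⟨a, s⟩, has⟩ := IsLocalization.surj (hV.primeIdealOf ⟨y, hyV⟩).asIdeal.primeCompl t
  have hsu : IsUnit (Y.presheaf.germ V y hyV (s : Γ(Y, V))) :=
    IsLocalization.map_units (M := (hV.primeIdealOf ⟨y, hyV⟩).asIdeal.primeCompl)
      (Y.presheaf.stalk y) s
  refine ⟨s, hsu, a, ?_⟩
  have has' : t * Y.presheaf.germ V y hyV (s : Γ(Y, V)) = Y.presheaf.germ V y hyV a := has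
  have h3 := congrArg (algebraMap (Y.presheaf.stalk y) Y.functionField) has'
  rw [map_mul, ht, algebraMap_germ, algebraMap_germ] at h3
  have h4 := congrArg (CohIII.stalkToFunctionField f (genericPoint Y) hdom) h3
  rw [map_mul, hy₀, stalkToFunctionField_germ f hdom V hηV, stalkToFunctionField_germ f hdom V hηV,
    ← map_mul] at h4
  have h5 := germ_injective_of_isIntegral X (genericPoint X) hηX h4
  rw [mul_comm]
  exact h5

theorem exists_bijective_app_basicOpen [IsLocallyNoetherian Y] (f : X ⟶ Y) [IsProper f]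
    (hdom : f.base (genericPoint X) ⤳ genericPoint Y)
    (halg : ∀ x : X.functionField,
      (∃ q : Polynomial Y.functionField, q ≠ 0 ∧
        Polynomial.eval₂ (CohIII.stalkToFunctionField f (genericPoint Y) hdom) x q = 0) →
      x ∈ Set.range (CohIII.stalkToFunctionField f (genericPoint Y) hdom))
    (y : Y) (hy : IsIntegrallyClosed (Y.presheaf.stalk y)) {V : Y.Opens} (hV : IsAffineOpen V)
    (hyV : y ∈ V) :
    ∃ s : Γ(Y, V), y ∈ Y.basicOpen s ∧ Function.Bijective (f.app (Y.basicOpen s)).hom := by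
  classical
  letI := (f.app V).hom.toAlgebra
  haveI : Module.Finite Γ(Y, V) Γ(X, f ⁻¹ᵁ V) :=
    Groth.Agent.Lead.ProperFinB.finite_app f ⟨V, hV⟩
  obtain ⟨n, b, hb⟩ := Module.Finite.exists_fin (R := Γ(Y, V)) (M := Γ(X, f ⁻¹ᵁ V))
  choose s hsu a hsa using fun i => exists_mul_eq_app f hdom halg y hy hV hyV (b i)
  let s₀ : Γ(Y, V) := ∏ i, s i
  have hs₀ : IsUnit (Y.presheaf.germ V y hyV s₀) := by
    rw [map_prod]
    exact (IsUnit.submonoid (Y.presheaf.stalk y)).prod_mem (fun i _ => hsu i)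
  refine ⟨s₀, (Scheme.mem_basicOpen _ _ _ hyV).mpr hs₀, ?_⟩
  apply Groth.Agent.Helper1.ZarIso.bijective_app_basicOpen f hV s₀
  apply bijective_localizedModule_map_of_smul_mem s₀
  · exact app_injective f hdom V
  · -- the set of `b` with `s₀ • b` in the range is a submodule containing the generators
    let S : Submodule Γ(Y, V) Γ(X, f ⁻¹ᵁ V) :=
      { carrier := {c | s₀ • c ∈ Set.range (algebraMap Γ(Y, V) Γ(X, f ⁻¹ᵁ V))}
        add_mem' := by
          rintro c c' ⟨a₁, h₁⟩ ⟨a₂, h₂⟩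
          exact ⟨a₁ + a₂, by rw [map_add, h₁, h₂, smul_add]⟩
        zero_mem' := ⟨0, by rw [map_zero, smul_zero]⟩
        smul_mem' := by
          rintro r c ⟨a₁, h₁⟩
          exact ⟨r * a₁, by rw [map_mul, h₁, smul_comm, Algebra.smul_def r]⟩ }
    have hS : S = ⊤ := by
      rw [eq_top_iff, ← hb, Submodule.span_le]
      rintro _ ⟨i, rfl⟩
      show s₀ • b i ∈ Set.range (algebraMap Γ(Y, V) Γ(X, f ⁻¹ᵁ V))
      refine ⟨(∏ j ∈ Finset.univ.erase i, s j) * a i, ?_⟩
      have h1 : s₀ = (∏ j ∈ Finset.univ.erase i, s j) * s i := by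
        rw [mul_comm]
        exact (Finset.mul_prod_erase Finset.univ s (Finset.mem_univ i)).symm
      have h2 : algebraMap Γ(Y, V) Γ(X, f ⁻¹ᵁ V) (a i) = s i • b i := by
        rw [Algebra.smul_def]
        exact (hsa i).symm
      rw [map_mul, h2, h1, mul_smul, Algebra.smul_def (∏ j ∈ Finset.univ.erase i, s j)]
    intro c
    have : c ∈ S := hS ▸ Submodule.mem_top
    exact this

end Groth.Agent.Helper1.ZCon
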