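import Mathlib
import Groth.Prelude.Def_PicF2
import Groth.Agent.Helper1.PUP1
import Groth.Agent.Helper1.BasisHom

/-!
# The zero scheme of a section of a locally free module of rank one, computed locally
-/

set_option autoImplicit false
set_option linter.style.haveILetI false

namespace Groth.Agent.Helper1.ZS

open CategoryTheory Limits AlgebraicGeometry TopologicalSpace Opposite
open Groth.Agent.Helper4.GenLoc Groth.Agent.Helper1.PUP

universe u

variable {X : Scheme.{u}} (L : X.Modules) (s : Coh.structureModule X ⟶ L)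

theorem secVal_eq (V : X.Opens) : PicF2.secVal L s V = sec s V := rfl

/-- the zero ideal on `V`, as an ideal of `Γ(X, V)` -/
noncomputable def zI (V : X.Opens) : Ideal Γ(X, V) :=
  (show Ideal Γ(X, V) from PicF2.zeroIdealOn L s V)

theorem zeroScheme_def : PicF2.zeroScheme L s =
    Scheme.IdealSheafData.ofIdeals (fun W : X.affineOpens => zI L s W.1) := rfl

theorem mem_zI_iff (V : X.Opens) (a : Γ(X, V)) :
    a ∈ zI L s V ↔ ∀ m : Γ(L, V), ∃ b : Γ(X, V), a • m = b • sec s V :=
  Iff.rfl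

variable (I : X.IdealSheafData) {ι : Type*} (U : ι → X.affineOpens)
  (σ : ι → (Coh.structureModule X ⟶ L)) (hU : ∀ j, (U j).1 ≤ CohB1.genLocus L (σ j))
  (c : ∀ j, Γ(X, (U j).1)) (hc : ∀ j, c j • sec (σ j) (U j).1 = sec s (U j).1)

include hc in
theorem hc_res (j : ι) {V : X.Opens} (hV : V ≤ (U j).1) :
    X.presheaf.map (homOfLE hV).op (c j) • sec (σ j) V = sec s V := by
  have h := congrArg (L.presheaf.map (homOfLE hV).op) (hc j)
  rw [Scheme.Modules.map_smul, sec_res, sec_res] at h
  exact h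

include hU hc in
/-- on `U j` the zero ideal is contained in the ideal generated by `c j` -/
theorem zI_le (j : ι) : zI L s (U j).1 ≤ Ideal.span {c j} := by
  intro a ha
  obtain ⟨b, hb⟩ := (mem_zI_iff L s _ a).mp ha (sec (σ j) (U j).1)
  rw [← hc j, ← mul_smul] at hb
  have h0 : (a - b * c j) • sec (σ j) (U j).1 = 0 := by
    rw [sub_smul, hb, sub_self]
  have h1 := eq_zero_of_smul_sec (σ j) (hU j) _ h0
  rw [sub_eq_zero] at h1
  rw [h1]
  exact Ideal.mul_mem_left _ _ (Ideal.subset_span rfl)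

variable (hcov : (⨆ j, (U j).1) = ⊤)
  (hnzd : ∀ (j : ι) (V : X.Opens) (hV : V ≤ (U j).1) (b : Γ(X, V)),
    b * X.presheaf.map (homOfLE hV).op (c j) = 0 → b = 0)
  (hI : ∀ j, I.ideal (U j) = Ideal.span {c j})

include hU hc hI hcov in
theorem exists_local (W : X.affineOpens) (a : Γ(X, W.1)) (ha : a ∈ I.ideal W) (m : Γ(L, W.1))
    (x : W.1) : ∃ (V : X.Opens) (hVW : V ≤ W.1) (_ : x.1 ∈ V) (j : ι) (_ : V ≤ (U j).1)
      (b : Γ(X, V)), L.presheaf.map (homOfLE hVW).op (a • m) = b • sec s V := by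
  have hx : x.1 ∈ (⨆ j, (U j).1) := by rw [hcov]; trivial
  obtain ⟨j, hj⟩ := Opens.mem_iSup.mp hx
  obtain ⟨V, hVaff, hxV, hVle⟩ := (Opens.isBasis_iff_nbhd.mp X.isBasis_affineOpens)
    (show x.1 ∈ W.1 ⊓ (U j).1 from ⟨x.2, hj⟩)
  have hVW : V ≤ W.1 := hVle.trans inf_le_left
  have hVU : V ≤ (U j).1 := hVle.trans inf_le_right
  refine ⟨V, hVW, hxV, j, hVU, ?_⟩
  let V' : X.affineOpens := ⟨V, hVaff⟩
  have h1 : X.presheaf.map (homOfLE hVW).op a ∈ I.ideal V' :=
    I.ideal_le_comap_ideal (U := V') (V := W) hVW ha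
  have h2 : I.ideal V' = Ideal.span {X.presheaf.map (homOfLE hVU).op (c j)} := by
    rw [← I.map_ideal (U := V') (V := U j) hVU, hI j, Ideal.map_span, Set.image_singleton]
    rfl
  rw [h2] at h1
  obtain ⟨b', hb'⟩ := Ideal.mem_span_singleton'.mp h1
  obtain ⟨μ, hμ⟩ := exists_smul_sec (σ j) (hVU.trans (hU j)) (L.presheaf.map (homOfLE hVW).op m)
  refine ⟨b' * μ, ?_⟩
  rw [Scheme.Modules.map_smul, ← hb', ← hμ, ← hc_res L s U σ c hc j hVU]
  simp only [← mul_smul]
  congr 1
  ring

include hU hc hI hcov hnzd in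
/-- the ideal sheaf is contained in the zero ideals on all affine opens -/
theorem ideal_le_zI (W : X.affineOpens) : I.ideal W ≤ zI L s W.1 := by
  intro a ha
  rw [mem_zI_iff]
  intro m
  choose V hVW hxV j hVU b hb using exists_local L s I U σ hU c hc hcov hI W a ha m
  have hcover : W.1 ≤ iSup V := fun y hy => Opens.mem_iSup.mpr ⟨⟨y, hy⟩, hxV ⟨y, hy⟩⟩
  have hcompat : TopCat.Presheaf.IsCompatible X.presheaf V b := by
    intro x y
    set T : X.Opens := V x ⊓ V y with hT
    have hTx : T ≤ V x := inf_le_left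
    have hTy : T ≤ V y := inf_le_right
    have hTU : T ≤ (U (j x)).1 := hTx.trans (hVU x)
    show X.presheaf.map (homOfLE hTx).op (b x) = X.presheaf.map (homOfLE hTy).op (b y)
    have e1 : L.presheaf.map (homOfLE hTx).op (L.presheaf.map (homOfLE (hVW x)).op (a • m)) =
        X.presheaf.map (homOfLE hTx).op (b x) • sec s T := by
      rw [hb x, Scheme.Modules.map_smul, sec_res]
    have e2 : L.presheaf.map (homOfLE hTy).op (L.presheaf.map (homOfLE (hVW y)).op (a • m)) =
        X.presheaf.map (homOfLE hTy).op (b y) • sec s T := by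
      rw [hb y, Scheme.Modules.map_smul, sec_res]
    have e3 : L.presheaf.map (homOfLE hTx).op (L.presheaf.map (homOfLE (hVW x)).op (a • m)) =
        L.presheaf.map (homOfLE hTy).op (L.presheaf.map (homOfLE (hVW y)).op (a • m)) := by
      rw [← ConcreteCategory.comp_apply, ← L.presheaf.map_comp, ← ConcreteCategory.comp_apply,
        ← L.presheaf.map_comp]
      rfl
    rw [e1, e2, ← hc_res L s U σ c hc (j x) hTU, ← mul_smul, ← mul_smul] at e3
    have e4 : ((X.presheaf.map (homOfLE hTx).op (b x) - X.presheaf.map (homOfLE hTy).op (b y)) *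
        X.presheaf.map (homOfLE hTU).op (c (j x))) • sec (σ (j x)) T = 0 := by
      rw [sub_mul, sub_smul, e3, sub_self]
    have e5 := eq_zero_of_smul_sec (σ (j x)) (hTU.trans (hU (j x))) _ e4
    exact sub_eq_zero.mp (hnzd (j x) T hTU _ e5)
  obtain ⟨bb, hbb, -⟩ := TopCat.Sheaf.existsUnique_gluing' X.sheaf V W.1
    (fun x => homOfLE (hVW x)) hcover b hcompat
  refine ⟨bb, ?_⟩
  apply Groth.Agent.Helper1.BasisHom.section_ext_of_cover L W.1 V hVW hcover
  intro x
  rw [hb x, Scheme.Modules.map_smul, sec_res]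
  congr 1
  exact (hbb x).symm

include hU hc hI hcov hnzd in
/-- **the zero scheme of a section, computed locally** -/
theorem zeroScheme_eq : PicF2.zeroScheme L s = I := by
  rw [zeroScheme_def]
  apply le_antisymm
  · refine Scheme.IdealSheafData.le_of_iSup_eq_top U hcov (fun j => ?_)
    refine (Scheme.IdealSheafData.ideal_ofIdeals_le _ (U j)).trans ?_
    rw [hI j]
    exact zI_le L s U σ hU c hc j
  · exact Scheme.IdealSheafData.le_ofIdeals_iff.mpr
      (fun W => ideal_le_zI L s I U σ hU c hc hcov hnzd hI W)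

end Groth.Agent.Helper1.ZS
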