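import Mathlib
import Groth.Agent.Helper1.ProjH05
import Groth.Agent.Helper1.PUP8

/-!
# Sections of `O(d)` on projective space are forms of degree `d`
-/

set_option autoImplicit false
set_option linter.style.haveILetI false

namespace Groth.Agent.Helper1.ZS

open CategoryTheory Limits AlgebraicGeometry TopologicalSpace Opposite
open Groth.Agent.Helper4.GenLoc Groth.Agent.Helper1.PUP Groth.Agent.Helper1.ProjTop
open Groth.Agent.Helper1.GrT

universe u

variable (r : ℕ) (R : Type u) [CommRing R] (dd : ℕ)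

theorem gsec_eq_elemSect (m : MvPolynomial (Fin (r + 1)) R) (hm : m ∈ CohB1.polyGrading r R dd)
    (hij : ((dd : ℕ) : ℤ) = ((0 : ℕ) : ℤ) + (dd : ℤ)) :
    Groth.Agent.Helper1.TwistEpi.gsec (CohB1.polyGrading r R) dd m hm =
      elemSect (CohB1.polyGrading r R) (CohB1.polyGrading r R) (dd : ℤ) ⊤ m hm hij := rfl

/-- every map `O ⟶ O(d)` on projective space comes from a form of degree `d` -/
theorem exists_TT_eq
    (s : Coh.structureModule (Proj (CohB1.polyGrading r R)) ⟶
      Twist.twist (CohB1.polyGrading r R) (dd : ℤ)) :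
    ∃ (ℓ : MvPolynomial (Fin (r + 1)) R) (hℓ : ℓ ∈ CohB1.polyGrading r R dd),
      s = TT (CohB1.polyGrading r R) ℓ hℓ := by
  set iso := Groth.Agent.Helper1.TwistIso.twistIsoTilde (CohB1.polyGrading r R) (dd : ℤ) with hiso
  set t : GrTilde.sect (CohB1.polyGrading r R) (CohB1.polyGrading r R) (dd : ℤ) (op ⊤) :=
    sec (s ≫ iso.hom) ⊤ with ht
  refine ⟨(G0 r R dd t : MvPolynomial (Fin (r + 1)) R), (G0 r R dd t).2, ?_⟩
  have h1 : t = elemSect (CohB1.polyGrading r R) (CohB1.polyGrading r R) (dd : ℤ) ⊤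
      (G0 r R dd t : MvPolynomial (Fin (r + 1)) R) (G0 r R dd t).2 (by simp) := by
    apply G0_injective r R dd
    apply Subtype.ext
    exact (G0fun_elemSect r R dd _ (G0 r R dd t).2 (by simp)).symm
  have h2 : s ≫ iso.hom = Groth.Agent.Helper1.TwistMul.secHom (CohB1.polyGrading r R) dd
      (G0 r R dd t : MvPolynomial (Fin (r + 1)) R) (G0 r R dd t).2 := by
    apply hom_ext_of_sec
    unfold Groth.Agent.Helper1.TwistMul.secHom
    rw [sec_homOfTop]
    exact h1
  rw [← TT_comp_iso] at h2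
  exact (cancel_mono iso.hom).mp h2

end Groth.Agent.Helper1.ZS
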