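import Mathlib
import Groth.Prelude.Def_CohB1

/-!
# Eliminating a variable along a nonzero linear form
-/

set_option autoImplicit false
set_option linter.style.haveILetI false

namespace Groth.Agent.Helper1.ZS

open MvPolynomial

universe u

variable (k : Type u) [Field k] (n : ℕ) (a : Fin (n + 1 + 1) → k) (i0 : Fin (n + 1 + 1))

/-- the linear form with coefficients `a` -/
noncomputable def lf : MvPolynomial (Fin (n + 1 + 1)) k := ∑ i, a i • X i

/-- the value of the eliminated variable -/
noncomputable def w : MvPolynomial (Fin (n + 1)) k :=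
  -((a i0)⁻¹ • ∑ m, a (i0.succAbove m) • X m)

/-- the values of the variables -/
noncomputable def vals : Fin (n + 1 + 1) → MvPolynomial (Fin (n + 1)) k :=
  Fin.insertNth (α := fun _ => MvPolynomial (Fin (n + 1)) k) i0 (w k n a i0) (fun m => X m)

theorem vals_same : vals k n a i0 i0 = w k n a i0 := by
  unfold vals
  exact Fin.insertNth_apply_same _ _ _

theorem vals_succAbove (m : Fin (n + 1)) : vals k n a i0 (i0.succAbove m) = X m := by
  unfold vals
  exact Fin.insertNth_apply_succAbove _ _ _ _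

/-- the elimination map -/
noncomputable def φ : MvPolynomial (Fin (n + 1 + 1)) k →ₐ[k] MvPolynomial (Fin (n + 1)) k :=
  aeval (vals k n a i0)

/-- the section of the elimination map -/
noncomputable def ψ : MvPolynomial (Fin (n + 1)) k →ₐ[k] MvPolynomial (Fin (n + 1 + 1)) k :=
  aeval (fun m => X (i0.succAbove m))

theorem φ_X (i : Fin (n + 1 + 1)) : φ k n a i0 (X i) = vals k n a i0 i := by
  unfold φ
  rw [aeval_X]

theorem ψ_X (m : Fin (n + 1)) : ψ k n i0 (X m) = X (i0.succAbove m) := by
  unfold ψ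
  rw [aeval_X]

variable (hi0 : a i0 ≠ 0)

include hi0 in
theorem φ_lf : φ k n a i0 (lf k n a) = 0 := by
  unfold lf
  rw [map_sum, Fin.sum_univ_succAbove _ i0]
  simp only [map_smul, φ_X, vals_same, vals_succAbove]
  unfold w
  rw [smul_neg, smul_smul, mul_inv_cancel₀ hi0, one_smul, neg_add_cancel]

theorem φ_surjective : Function.Surjective (φ k n a i0) := by
  rw [← AlgHom.range_eq_top, _root_.eq_top_iff, ← MvPolynomial.adjoin_range_X, Algebra.adjoin_le_iff]
  rintro _ ⟨m, rfl⟩
  exact ⟨X (i0.succAbove m), by show φ k n a i0 _ = _; rw [φ_X, vals_succAbove]⟩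

theorem vals_isHomogeneous (i : Fin (n + 1 + 1)) : (vals k n a i0 i).IsHomogeneous 1 := by
  rcases Fin.eq_self_or_eq_succAbove i0 i with rfl | ⟨m, rfl⟩
  · rw [vals_same]
    unfold w
    refine (IsHomogeneous.neg ?_)
    rw [← mem_homogeneousSubmodule]
    refine Submodule.smul_mem _ _ (Submodule.sum_mem _ (fun m _ => Submodule.smul_mem _ _ ?_))
    exact isHomogeneous_X k m
  · rw [vals_succAbove]
    exact isHomogeneous_X k m

include hi0 in
theorem X_sub_mem (i : Fin (n + 1 + 1)) :
    X i - ψ k n i0 (φ k n a i0 (X i)) ∈ Ideal.span {lf k n a} := by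
  rcases Fin.eq_self_or_eq_succAbove i0 i with rfl | ⟨m, rfl⟩
  · rw [φ_X, vals_same]
    have h1 : X i - ψ k n i (w k n a i) = C (a i)⁻¹ * lf k n a := by
      unfold w lf
      rw [map_neg, map_smul, map_sum, Fin.sum_univ_succAbove _ i, sub_neg_eq_add]
      simp only [map_smul, ψ_X]
      rw [← smul_eq_C_mul, smul_add, smul_smul, inv_mul_cancel₀ hi0, one_smul]
    rw [h1]
    exact Ideal.mul_mem_left _ _ (Ideal.subset_span rfl)
  · rw [φ_X, vals_succAbove, ψ_X, sub_self]
    exact Ideal.zero_mem _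

include hi0 in
theorem sub_mem (p : MvPolynomial (Fin (n + 1 + 1)) k) :
    p - ψ k n i0 (φ k n a i0 p) ∈ Ideal.span {lf k n a} := by
  induction p using MvPolynomial.induction_on with
  | C c =>
    have : φ k n a i0 (C c) = C c := by unfold φ; rw [aeval_C]; rfl
    rw [this]
    have : ψ k n i0 (C c) = C c := by unfold ψ; rw [aeval_C]; rfl
    rw [this, sub_self]
    exact Ideal.zero_mem _
  | add p q hp hq =>
    rw [map_add, map_add]
    have : p + q - (ψ k n i0 (φ k n a i0 p) + ψ k n i0 (φ k n a i0 q)) =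
        (p - ψ k n i0 (φ k n a i0 p)) + (q - ψ k n i0 (φ k n a i0 q)) := by ring
    rw [this]
    exact Ideal.add_mem _ hp hq
  | mul_X p i hp =>
    rw [map_mul, map_mul]
    have : p * X i - ψ k n i0 (φ k n a i0 p) * ψ k n i0 (φ k n a i0 (X i)) =
        (p - ψ k n i0 (φ k n a i0 p)) * X i +
          ψ k n i0 (φ k n a i0 p) * (X i - ψ k n i0 (φ k n a i0 (X i))) := by ring
    rw [this]
    exact Ideal.add_mem _ (Ideal.mul_mem_right _ _ hp)
      (Ideal.mul_mem_left _ _ (X_sub_mem k n a i0 hi0 i))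

include hi0 in
theorem ker_φ : RingHom.ker (φ k n a i0 : MvPolynomial (Fin (n + 1 + 1)) k →+*
    MvPolynomial (Fin (n + 1)) k) = Ideal.span {lf k n a} := by
  apply le_antisymm
  · intro p hp
    have h1 := sub_mem k n a i0 hi0 p
    have h2 : φ k n a i0 p = 0 := hp
    rw [h2, map_zero, sub_zero] at h1
    exact h1
  · rw [Ideal.span_le]
    rintro _ rfl
    exact φ_lf k n a i0 hi0

/-- the graded ring homomorphism -/
noncomputable def φg : CohB1.polyGrading (n + 1) k →+*ᵍ CohB1.polyGrading n k where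
  toRingHom := (φ k n a i0).toRingHom
  map_mem := by
    intro i x hx
    have h1 : x.IsHomogeneous i := hx
    have h2 := h1.aeval (vals k n a i0) (vals_isHomogeneous k n a i0)
    rw [one_mul] at h2
    exact h2

theorem φg_apply (x : MvPolynomial (Fin (n + 1 + 1)) k) : φg k n a i0 x = φ k n a i0 x := rfl

theorem φg_surjective : Function.Surjective (φg k n a i0) := φ_surjective k n a i0

theorem lf_mem : lf k n a ∈ CohB1.polyGrading (n + 1) k 1 := by
  unfold lf
  exact Submodule.sum_mem _ (fun i _ => Submodule.smul_mem _ _ (isHomogeneous_X k i))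

/-- every form of degree one is a linear form -/
theorem exists_lf (ℓ : MvPolynomial (Fin (n + 1 + 1)) k) (hℓ : ℓ ∈ CohB1.polyGrading (n + 1) k 1) :
    ∃ a : Fin (n + 1 + 1) → k, ℓ = lf k n a := by
  have h : ℓ ∈ Submodule.span k (Set.range (X : Fin (n + 1 + 1) → MvPolynomial (Fin (n + 1 + 1)) k)) := by
    rw [← homogeneousSubmodule_one_eq_span_X]
    exact hℓ
  obtain ⟨a, ha⟩ := (Submodule.mem_span_range_iff_exists_fun k).mp h
  exact ⟨a, ha.symm⟩

theorem exists_ne_zero (h : lf k n a ≠ 0) : ∃ i, a i ≠ 0 := by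
  by_contra hcon
  push Not at hcon
  apply h
  unfold lf
  exact Finset.sum_eq_zero (fun i _ => by rw [hcon i, zero_smul])

include hi0 in
/-- a homogeneous element of the kernel is the linear form times a homogeneous element -/
theorem exists_mul_of_mem_ker (d : ℕ) (x : MvPolynomial (Fin (n + 1 + 1)) k)
    (hx : x ∈ CohB1.polyGrading (n + 1) k (d + 1)) (h0 : φ k n a i0 x = 0) :
    ∃ q ∈ CohB1.polyGrading (n + 1) k d, x = lf k n a * q := by
  have h1 : x ∈ Ideal.span {lf k n a} := by
    rw [← ker_φ k n a i0 hi0]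
    exact h0
  obtain ⟨q', hq'⟩ := Ideal.mem_span_singleton'.mp h1
  refine ⟨(DirectSum.decompose (CohB1.polyGrading (n + 1) k) q' d : MvPolynomial _ k),
    SetLike.coe_mem _, ?_⟩
  have h2 := DirectSum.coe_decompose_mul_of_left_mem_of_le (𝒜 := CohB1.polyGrading (n + 1) k)
    (n := d + 1) (b := q') (lf_mem k n a) (Nat.le_add_left 1 d)
  rw [Nat.add_sub_cancel, mul_comm, hq', DirectSum.decompose_of_mem_same _ hx] at h2
  exact h2

end Groth.Agent.Helper1.ZS
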