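import Mathlib
import Groth.Agent.Helper1.ZS1
import Groth.Agent.Helper1.ZS4
import Groth.Agent.Helper1.PUP8
import Groth.Agent.Helper1.PUP7
import Groth.Agent.Helper1.LinEmb1
import Groth.Agent.Helper1.ProjO

/-!
# The zero scheme of a form of degree one on `Proj` is the closed subscheme `Proj` of the
quotient
-/

set_option autoImplicit false
set_option linter.style.haveILetI false

namespace Groth.Agent.Helper1.ZS

open CategoryTheory Limits AlgebraicGeometry TopologicalSpace Opposite HomogeneousLocalization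
open Groth.Agent.Helper4.GenLoc Groth.Agent.Helper1.PUP Groth.Agent.Helper1.GrT
  Groth.Agent.Helper1.ProjO Groth.Agent.Helper1.LinEmb

universe u

variable {R A : Type u} [CommRing R] [CommRing A] [Algebra R A] (𝒜 : ℕ → Submodule R A)
  [GradedAlgebra 𝒜]

section Coef

variable {ℓ t : A} (hℓ : ℓ ∈ 𝒜 1) (ht : t ∈ 𝒜 1)

/-- the function `ℓ / t` on `D₊(t)` -/
noncomputable def cℓ : Γ(Proj 𝒜, Proj.basicOpen 𝒜 t) :=
  (Proj.awayToSection 𝒜 t).hom (Away.mk 𝒜 ht 1 ℓ (by simpa using hℓ))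

theorem cℓ_smul_sec :
    cℓ 𝒜 hℓ ht • sec (TT 𝒜 t ht) (Proj.basicOpen 𝒜 t) = sec (TT 𝒜 ℓ hℓ) (Proj.basicOpen 𝒜 t) := by
  unfold TT
  rw [sec_homOfTop', sec_homOfTop']
  exact (globalOf_res_eq_smul 𝒜 ht hℓ).symm

theorem val_evO_cℓ (y : Proj 𝒜) (hy : y ∈ Proj.basicOpen 𝒜 t) :
    (evO 𝒜 (Proj.basicOpen 𝒜 t) y hy (cℓ 𝒜 hℓ ht)).val = Localization.mk ℓ ⟨t, hy⟩ := by
  rw [evO_apply]
  unfold cℓ
  change (HomogeneousLocalization.mapId 𝒜 _ (Away.mk 𝒜 ht 1 ℓ _)).val = _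
  unfold Away.mk HomogeneousLocalization.mapId
  rw [HomogeneousLocalization.map_mk, HomogeneousLocalization.val_mk]
  simp only [RingHom.id_apply]
  congr 1
  exact Subtype.ext (pow_one t)

variable [IsDomain A]

/-- `ℓ / t` is a nonzerodivisor on every open of `D₊(t)` -/
theorem cℓ_nzd (hℓ0 : ℓ ≠ 0) (V : (Proj 𝒜).Opens) (hV : V ≤ Proj.basicOpen 𝒜 t) (b : Γ(Proj 𝒜, V))
    (h : b * (Proj 𝒜).presheaf.map (homOfLE hV).op (cℓ 𝒜 hℓ ht) = 0) : b = 0 := by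
  apply O_ext 𝒜 V
  intro y hy
  have h1 := congrArg (fun z => (evO 𝒜 V y hy z).val) h
  simp only at h1
  rw [evO_val_mul, evO_res, val_evO_cℓ, map_zero, HomogeneousLocalization.val_zero] at h1
  rw [map_zero, HomogeneousLocalization.val_zero]
  haveI : IsDomain (Localization.AtPrime (y : ProjectiveSpectrum 𝒜).asHomogeneousIdeal.toIdeal) :=
    IsLocalization.isDomain_localization
      (Ideal.primeCompl_le_nonZeroDivisors (y : ProjectiveSpectrum 𝒜).asHomogeneousIdeal.toIdeal)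
  rcases mul_eq_zero.mp h1 with h2 | h2
  · exact h2
  · exfalso
    rw [Localization.mk_eq_mk', IsLocalization.mk'_eq_zero_iff] at h2
    obtain ⟨u, hu⟩ := h2
    rcases mul_eq_zero.mp hu with h3 | h3
    · exact u.2 (by rw [h3]; exact Ideal.zero_mem _)
    · exact hℓ0 h3

end Coef

section Ker

variable {R' B : Type u} [CommRing R'] [CommRing B] [Algebra R' B] {ℬ : ℕ → Submodule R' B}
  [GradedAlgebra ℬ] (f : 𝒜 →+*ᵍ ℬ) (hs : Function.Surjective f)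
  {ℓ : A} (hℓ : ℓ ∈ 𝒜 1) (hfℓ : f ℓ = 0)
  (hker : ∀ (d : ℕ) (x : A), x ∈ 𝒜 (d + 1) → f x = 0 → ∃ q ∈ 𝒜 d, x = ℓ * q)
  {t : A} (ht : t ∈ 𝒜 1)

include hfℓ hker in
/-- the kernel of the closed immersion on `D₊(t)` -/
theorem ker_app_basicOpen :
    RingHom.ker ((Proj.map f (irrelevant_le_of_surjective f hs)).app (Proj.basicOpen 𝒜 t)).hom =
      Ideal.span {cℓ 𝒜 hℓ ht} := by
  set i := Proj.map f (irrelevant_le_of_surjective f hs) with hi
  have hsq := Proj.awayToSection_comp_appLE f (irrelevant_le_of_surjective f hs) ht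
  have hα : Function.Bijective (Proj.awayToSection 𝒜 t).hom :=
    ConcreteCategory.bijective_of_isIso (Proj.basicOpenIsoAway 𝒜 t ht Nat.one_pos).hom
  have hβ : Function.Bijective (Proj.awayToSection ℬ (f t)).hom :=
    ConcreteCategory.bijective_of_isIso
      (Proj.basicOpenIsoAway ℬ (f t) (f.map_mem ht) Nat.one_pos).hom
  have hsq' : ∀ z : Away 𝒜 t, (i.app (Proj.basicOpen 𝒜 t)).hom ((Proj.awayToSection 𝒜 t).hom z) =
      (Proj.awayToSection ℬ (f t)).hom (Away.map f t z) := by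
    intro z
    exact congrArg (fun φ => φ.hom z) hsq
  have hK := ker_away_map f hℓ hfℓ hker ht
  apply le_antisymm
  · intro c hc
    obtain ⟨z, rfl⟩ := hα.2 c
    have h1 : (i.app (Proj.basicOpen 𝒜 t)).hom ((Proj.awayToSection 𝒜 t).hom z) = 0 := hc
    rw [hsq'] at h1
    have h2 : Away.map f t z = 0 := hβ.1 (h1.trans (map_zero _).symm)
    have h3 : z ∈ Ideal.span {Away.mk 𝒜 ht 1 ℓ (by simpa using hℓ)} := by
      rw [← hK]; exact h2
    obtain ⟨r, rfl⟩ := Ideal.mem_span_singleton'.mp h3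
    rw [map_mul]
    exact Ideal.mul_mem_left _ _ (Ideal.subset_span rfl)
  · rw [Ideal.span_le]
    rintro _ rfl
    show (i.app (Proj.basicOpen 𝒜 t)).hom (cℓ 𝒜 hℓ ht) = 0
    unfold cℓ
    rw [hsq', map_mk_ℓ f hℓ hfℓ ht]
    exact map_zero _

variable [IsDomain A] {ι : Type*} (tt : ι → A) (htt : ∀ j, tt j ∈ 𝒜 1)
  (hcov : (⨆ j, Proj.basicOpen 𝒜 (tt j)) = ⊤)

omit [IsDomain A] in
include hcov htt in
theorem hcov' : (⨆ g : 𝒜 1, Proj.basicOpen 𝒜 (g : A)) = ⊤ := by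
  rw [eq_top_iff, ← hcov]
  apply iSup_le
  intro j
  exact le_iSup (fun g : 𝒜 1 => Proj.basicOpen 𝒜 (g : A)) ⟨tt j, htt j⟩

include hfℓ hker hcov htt in
/-- **the zero scheme of a form of degree one is the image of `Proj` of the quotient** -/
theorem zeroScheme_eq_ker (hℓ0 : ℓ ≠ 0) :
    PicF2.zeroScheme (Twist.twist 𝒜 ((1 : ℕ) : ℤ)) (TT 𝒜 ℓ hℓ) =
      (Proj.map f (irrelevant_le_of_surjective f hs)).ker := by
  haveI : IsClosedImmersion (Proj.map f (irrelevant_le_of_surjective f hs)) :=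
    isClosedImmersion_map f hs
  refine zeroScheme_eq (Twist.twist 𝒜 ((1 : ℕ) : ℤ)) (TT 𝒜 ℓ hℓ) _
    (fun j => ⟨Proj.basicOpen 𝒜 (tt j), Proj.isAffineOpen_basicOpen 𝒜 (tt j) (htt j) Nat.one_pos⟩)
    (fun j => TT 𝒜 (tt j) (htt j)) ?_ (fun j => cℓ 𝒜 hℓ (htt j)) ?_ hcov ?_ ?_
  · intro j
    rw [genLocus_TT 𝒜 (hcov' 𝒜 tt htt hcov) (tt j) (htt j)]
  · intro j
    exact cℓ_smul_sec 𝒜 hℓ (htt j)
  · intro j V hV b hb
    exact cℓ_nzd 𝒜 hℓ (htt j) hℓ0 V hV b hb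
  · intro j
    rw [Scheme.Hom.ker_apply]
    exact ker_app_basicOpen 𝒜 f hs hℓ hfℓ hker (htt j)

end Ker

end Groth.Agent.Helper1.ZS
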