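import Mathlib
import Groth.Agent.Helper1.ZS2
import Groth.Agent.Helper1.ZS3
import Groth.Agent.Helper1.ZS5
import Groth.Agent.Helper1.ProjBC8

/-!
# A hyperplane in projective space over a field is a projective space
-/

set_option autoImplicit false
set_option linter.style.haveILetI false

namespace Groth.Agent.Helper1.ZS

open CategoryTheory Limits AlgebraicGeometry TopologicalSpace Opposite
open Groth.Agent.Helper4.GenLoc Groth.Agent.Helper1.PUP Groth.Agent.Helper1.LinEmb
  Groth.Agent.Helper1.Segre Groth.Agent.Helper1.ProjBC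

universe u

/-- a closed immersion identifies its source with the closed subscheme cut out by its kernel -/
theorem exists_iso_subscheme {X Y : Scheme.{u}} (f : X ⟶ Y) [IsClosedImmersion f]
    (J : Y.IdealSheafData) (h : J = f.ker) :
    ∃ φ : X ≅ J.subscheme, φ.hom ≫ J.subschemeι = f := by
  subst h
  exact ⟨asIso f.toImage, f.toImage_imageι⟩

theorem TT_zero {R A : Type u} [CommRing R] [CommRing A] [Algebra R A] (𝒜 : ℕ → Submodule R A)
    [GradedAlgebra 𝒜] {d : ℕ} (h : (0 : A) ∈ 𝒜 d) : TT 𝒜 0 h = 0 := by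
  apply hom_ext_of_sec
  unfold TT
  rw [sec_homOfTop]
  have h0 : sec (0 : Coh.structureModule (Proj 𝒜) ⟶ Twist.twist 𝒜 (d : ℤ)) ⊤ = 0 := rfl
  rw [h0]
  apply Subtype.ext
  funext y
  apply Subtype.ext
  exact Localization.mk_zero _

variable (k : Type u) [Field k] (n : ℕ)

theorem hyperplane
    (s : Coh.structureModule (Proj (CohB1.polyGrading (n + 1) k)) ⟶
      Twist.twist (CohB1.polyGrading (n + 1) k) ((1 : ℕ) : ℤ)) (hs : s ≠ 0) :
    ∃ φ : Proj (CohB1.polyGrading n k) ≅ (PicF2.zeroScheme _ s).subscheme,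
      Nonempty ((Scheme.Modules.pullback (φ.hom ≫ (PicF2.zeroScheme _ s).subschemeι)).obj
          (Twist.twist (CohB1.polyGrading (n + 1) k) ((1 : ℕ) : ℤ)) ≅
        Twist.twist (CohB1.polyGrading n k) ((1 : ℕ) : ℤ)) := by
  obtain ⟨ℓ, hℓ, rfl⟩ := exists_TT_eq (n + 1) k 1 s
  obtain ⟨a, rfl⟩ := exists_lf k n ℓ hℓ
  have hℓ0 : lf k n a ≠ 0 := by
    intro h0
    apply hs
    have : ∀ (x : MvPolynomial (Fin (n + 1 + 1)) k) (hx : x ∈ CohB1.polyGrading (n + 1) k 1),
        x = 0 → TT (CohB1.polyGrading (n + 1) k) x hx = 0 := by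
      rintro x hx rfl
      exact TT_zero _ hx
    exact this _ hℓ h0
  obtain ⟨i0, hi0⟩ := exists_ne_zero k n a hℓ0
  have hsurj := φg_surjective k n a i0
  haveI : IsClosedImmersion (Proj.map (φg k n a i0)
      (irrelevant_le_of_surjective (φg k n a i0) hsurj)) := isClosedImmersion_map _ hsurj
  have hZ := zeroScheme_eq_ker (CohB1.polyGrading (n + 1) k) (φg k n a i0) hsurj hℓ
    (φ_lf k n a i0 hi0) (fun d x hx h0 => exists_mul_of_mem_ker k n a i0 hi0 d x hx h0)
    (fun j : Fin (n + 1 + 1) => (MvPolynomial.X j : MvPolynomial (Fin (n + 1 + 1)) k))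
    (fun j => hX j) (iSup_basicOpen_X (R := k) (n + 1)) hℓ0
  obtain ⟨φ, hφ⟩ := exists_iso_subscheme (Proj.map (φg k n a i0)
    (irrelevant_le_of_surjective (φg k n a i0) hsurj)) _ hZ
  refine ⟨φ, ?_⟩
  rw [hφ]
  exact ⟨pullTwistIso (φg k n a i0) (irrelevant_le_of_surjective (φg k n a i0) hsurj) 1
    (hloc_poly k (n + 1) 1)⟩

end Groth.Agent.Helper1.ZS
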