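import Mathlib

set_option autoImplicit false

/-!
# Two algebraic lemmas: algebras free of rank one, and localized maps
-/

namespace Groth.Agent.Helper1.ZarIso

universe u

/-- a `B`-algebra which is free of rank one as a `B`-module is `B` -/
theorem bijective_algebraMap_of_linearEquiv {B S : Type*} [CommRing B] [CommRing S] [Algebra B S]
    (e : S ≃ₗ[B] B) : Function.Bijective (algebraMap B S) := by
  set v : S := e.symm 1 with hv
  have hgen : ∀ s : S, s = e s • v := by
    intro s
    apply e.injective
    rw [map_smul, hv, LinearEquiv.apply_symm_apply, smul_eq_mul, mul_one]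
  set a : B := e 1 with ha
  set c : B := e (v * v) with hc
  have h1 : (1 : S) = a • v := hgen 1
  have h2 : v * v = c • v := hgen (v * v)
  have h3 : v = (a * c) • v := by
    calc v = v * 1 := (mul_one v).symm
      _ = v * (a • v) := by rw [← h1]
      _ = a • (v * v) := by rw [mul_smul_comm]
      _ = a • (c • v) := by rw [h2]
      _ = (a * c) • v := by rw [smul_smul]
  have h4 : a * c = 1 := by
    have := congrArg e h3
    rw [map_smul, hv, LinearEquiv.apply_symm_apply, smul_eq_mul, mul_one] at this
    exact this.symm
  have hmap : ∀ b : B, algebraMap B S b = (b * a) • v := by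
    intro b
    rw [Algebra.algebraMap_eq_smul_one, h1, smul_smul]
  constructor
  · intro b b' hbb
    rw [hmap, hmap] at hbb
    have := congrArg e hbb
    rw [map_smul, map_smul, hv, LinearEquiv.apply_symm_apply, smul_eq_mul, smul_eq_mul, mul_one,
      mul_one] at this
    calc b = b * (a * c) := by rw [h4, mul_one]
      _ = (b * a) * c := by ring
      _ = (b' * a) * c := by rw [this]
      _ = b' * (a * c) := by ring
      _ = b' := by rw [h4, mul_one]
  · intro s
    refine ⟨e s * c, ?_⟩
    rw [hmap]
    have : e s * c * a = e s := by
      calc e s * c * a = e s * (a * c) := by ring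
        _ = e s := by rw [h4, mul_one]
    rw [this]
    exact (hgen s).symm

/-- bijectivity of `LocalizedModule.map` transfers to any model of the localizations -/
theorem bijective_isLocalizedModule_map {R : Type*} [CommRing R] (S : Submonoid R)
    {M N M' N' : Type*} [AddCommGroup M] [AddCommGroup N] [AddCommGroup M'] [AddCommGroup N']
    [Module R M] [Module R N] [Module R M'] [Module R N']
    (f : M →ₗ[R] M') (g : N →ₗ[R] N') [IsLocalizedModule S f] [IsLocalizedModule S g]
    (l : M →ₗ[R] N) (h : Function.Bijective (LocalizedModule.map S l)) :
    Function.Bijective (IsLocalizedModule.map S f g l) := by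
  have key : IsLocalizedModule.map S f g l =
      (IsLocalizedModule.iso S g).toLinearMap ∘ₗ
        ((LocalizedModule.map S l).restrictScalars R) ∘ₗ
          (IsLocalizedModule.iso S f).symm.toLinearMap := by
    apply IsLocalizedModule.ext S f (IsLocalizedModule.map_units g)
    ext m
    simp only [LinearMap.coe_comp, Function.comp_apply, IsLocalizedModule.map_apply,
      LinearEquiv.coe_coe, LinearMap.coe_restrictScalars]
    rw [IsLocalizedModule.iso_symm_apply' S f (f m) m 1 (by simp)]
    rw [LocalizedModule.map_mk, IsLocalizedModule.iso_apply_mk]
    simp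
  rw [key]
  exact (IsLocalizedModule.iso S g).bijective.comp
    (h.comp (IsLocalizedModule.iso S f).symm.bijective)

end Groth.Agent.Helper1.ZarIso
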