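import Groth.Agent.Helper1.Bridge9
import Groth.Agent.Helper1.ModPowT2
import Groth.Agent.Helper1.FlatCxLocal2
import Groth.Agent.Helper1.FlatCxChain
import Groth.Agent.Helper1.BaseChart1
import Groth.Agent.Helper1.BCFlatCoh
import Groth.Agent.Helper1.DRankConc
import Groth.Agent.Helper9.Chart17
import Groth.Agent.Lead.ProperFinA
import Groth.Agent.Helper1.Dev4

set_option autoImplicit false

/-!
# Proper flat schemes over a local ring whose closed fibre has one-dimensional `H⁰`
-/

namespace Groth.Agent.Helper1.ZarIso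

open CategoryTheory Limits AlgebraicGeometry Opposite IsLocalRing
open Groth.Agent.Helper1.Form Groth.Agent.Helper1.ModPowT Groth.Agent.Helper1.FlatCx
open Groth.Agent.Helper1.BCFlatCoh

universe u

section unit

variable {Z : Scheme.{u}}

/-- a morphism out of the structure sheaf inducing zero on `H⁰` is zero -/
lemma eq_zero_of_HAb_map_eq_zero {N : Z.Modules} (q : Coh.structureModule Z ⟶ N)
    (h : (CohIII.HAb Z 0).map q = 0) : q = 0 := by
  let x₁ : Coh.HH Z (Coh.structureModule Z) 0 :=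
    (Groth.Agent.Lead.ProperFinA.h0Equiv (Coh.structureModule Z)).symm
      (1 : Z.ringCatSheaf.obj.obj (op ⊤))
  have h1 := Sheaf.H.equiv₀_naturality (isTerminalTop (α := TopologicalSpace.Opens Z))
    ((SheafOfModules.toSheaf Z.ringCatSheaf).map q) x₁
  have h2 : Sheaf.H.map ((SheafOfModules.toSheaf Z.ringCatSheaf).map q) 0 x₁ = 0 := by
    have := congrArg (fun k => k.hom x₁) h
    exact this
  rw [h2, map_zero] at h1
  have h3 : Sheaf.H.equiv₀ (Coh.toAb (Coh.structureModule Z)) isTerminalTop x₁ =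
      (1 : Z.ringCatSheaf.obj.obj (op ⊤)) :=
    (Groth.Agent.Lead.ProperFinA.h0Equiv (Coh.structureModule Z)).apply_symm_apply _
  rw [h3] at h1
  apply (SheafOfModules.unitHomEquiv N).injective
  apply PresheafOfModules.sections_ext
  intro U
  have hs := PresheafOfModules.sections_property (SheafOfModules.unitHomEquiv N q)
    (homOfLE (le_top : U.unop ≤ ⊤)).op
  rw [← hs]
  have h4 : (SheafOfModules.unitHomEquiv N q).val (op ⊤) = 0 := h1
  rw [h4]
  have h5 : (SheafOfModules.unitHomEquiv N (0 : Coh.structureModule Z ⟶ N)).val U = 0 := by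
    change ((0 : Coh.structureModule Z ⟶ N).val.app U) (1 : Z.ringCatSheaf.obj.obj U) = 0
    rfl
  exact (map_zero _).trans h5.symm

end unit

/-- a nonzero `B`-submodule of a module isomorphic to the residue field is everything -/
lemma eq_top_of_ne_bot {B : Type u} [CommRing B] [IsLocalRing B] {W : Type u} [AddCommGroup W]
    [Module B W] (ψ : W ≃ₗ[B] ResidueField B) (N : Submodule B W) (hN : N ≠ ⊥) : N = ⊤ := by
  obtain ⟨w, hwN, hw0⟩ := (Submodule.ne_bot_iff N).1 hN
  obtain ⟨b, hb⟩ := Ideal.Quotient.mk_surjective (ψ w)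
  have hbu : IsUnit b := by
    by_contra hnu
    have hbm : b ∈ maximalIdeal B := (IsLocalRing.mem_maximalIdeal b).2 hnu
    have h0 : ψ w = 0 := by
      rw [← hb]
      exact Ideal.Quotient.eq_zero_iff_mem.2 hbm
    exact hw0 (ψ.injective (by rw [h0, map_zero]))
  obtain ⟨c, hc⟩ := hbu
  rw [eq_top_iff]
  intro z _
  obtain ⟨d, hd⟩ := Ideal.Quotient.mk_surjective (ψ z)
  have hz : z = (d * ↑c⁻¹) • w := by
    apply ψ.injective
    rw [map_smul, ← hb, ← hd, ← hc]
    show Ideal.Quotient.mk _ d = (d * ↑c⁻¹) • Ideal.Quotient.mk _ (c : B)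
    rw [Algebra.smul_def]
    show Ideal.Quotient.mk _ d = Ideal.Quotient.mk _ (d * ↑c⁻¹) * Ideal.Quotient.mk _ (c : B)
    rw [← map_mul, mul_assoc, Units.inv_mul, mul_one]
  rw [hz]
  exact N.smul_mem _ hwN

/-- **the local statement**: `H⁰(Z, O_Z)` is free of rank one over `B` when the closed fibre has
one-dimensional `H⁰`. -/
theorem nonempty_HH_zero_equiv (B : Type u) [CommRing B] [IsNoetherianRing B] [IsLocalRing B]
    (Z : Scheme.{u}) [Z.Over (Spec (CommRingCat.of B))]
    [IsProper (Z ↘ Spec (CommRingCat.of B))] [Flat (Z ↘ Spec (CommRingCat.of B))]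
    (Z' : Scheme.{u}) [Z'.Over (Spec (CommRingCat.of (ResidueField B)))] (g' : Z' ⟶ Z)
    (hsq : IsPullback g' (Z' ↘ Spec (CommRingCat.of (ResidueField B)))
      (Z ↘ Spec (CommRingCat.of B))
      (Spec.map (CommRingCat.ofHom (algebraMap B (ResidueField B)))))
    (h1 : Module.finrank (ResidueField B)
      (Coh.HH Z' ((Scheme.Modules.pullback g').obj (Coh.structureModule Z)) 0) = 1) :
    Nonempty (Coh.HH Z (Coh.structureModule Z) 0 ≃ₗ[B] B) := by
  have hfl : FlatMod.IsFlatOver (Z ↘ Spec (CommRingCat.of B)) (Coh.structureModule Z) :=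
    (Groth.Agent.Helper9.Chart17.isFlatOver_unit_iff _).mpr inferInstance
  have hcoh : Coh.IsCoh (Coh.structureModule Z) :=
    Groth.Agent.Helper1.Dev.isCoh_structureModule Z
  haveI : (Coh.structureModule Z).IsQuasicoherent := hcoh.1
  obtain ⟨L, hLff, -, h3, hbr, -, h6, h7⟩ :=
    Groth.Agent.Helper1.Bridge.exists_complex'' B Z (Coh.structureModule Z) hcoh hfl
  have hQ : ∀ i, Module.Finite B (L.X i) ∧ Module.Flat B (L.X i) := fun i =>
    ⟨(hLff i).1, by haveI := (hLff i).2; infer_instance⟩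
  have hflat : ∀ i, Module.Flat B (L.X i) := fun i => (hQ i).2
  set k := ResidueField B with hk
  -- `T₀(k)` is one-dimensional
  obtain ⟨e6⟩ := h6 k Z' g' hsq 0
  have hfr : Module.finrank k ((CohIII.bcCx (algebraMap B k) L).homology (0 : ℤ)) = 1 := by
    have := e6.finrank_eq
    rw [h1] at this
    exact this
  -- `ψ : T₀(k) ≃ k`
  haveI : Module.Finite k ((CohIII.bcCx (algebraMap B k) L).homology (0 : ℤ)) :=
    Module.finite_of_finrank_pos (by rw [hfr]; exact Nat.one_pos)
  let ϕ : ((CohIII.bcCx (algebraMap B k) L).homology (0 : ℤ)) ≃ₗ[k] k :=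
    LinearEquiv.ofFinrankEq _ _ (by rw [hfr, Module.finrank_self])
  let ϕB : ((ModuleCat.restrictScalars.{u, u, u} (algebraMap B k)).obj
      ((CohIII.bcCx (algebraMap B k) L).homology (0 : ℤ))) ≃ₗ[B] k :=
    { toFun := fun x => ϕ x
      invFun := fun x => ϕ.symm x
      left_inv := ϕ.left_inv
      right_inv := ϕ.right_inv
      map_add' := fun x y => ϕ.map_add x y
      map_smul' := fun b x => by
        have hx : ϕ (algebraMap B k b • (show ((CohIII.bcCx (algebraMap B k) L).homology (0 : ℤ)) from x)) =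
            algebraMap B k b • ϕ (show ((CohIII.bcCx (algebraMap B k) L).homology (0 : ℤ)) from x) :=
          map_smul ϕ _ _
        rw [Algebra.smul_def]
        exact hx }
  let ψ : (CohIII.TFun L (0 : ℤ)).obj (ModuleCat.of B k) ≃ₗ[B] k :=
    (bcHomologyIso' k L (0 : ℤ)).symm.toLinearEquiv ≪≫ₗ ϕB
  -- the bridge
  obtain ⟨e0⟩ := hbr 0
  have e0' : CohIII.TFun L (0 : ℤ) ⋙ forget₂ (ModuleCat.{u} B) AddCommGrpCat.{u} ≅
      CohIII.tensorAFunctor B (Coh.structureModule Z) ⋙ CohIII.HAb Z 0 := e0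
  -- `T₀(B) → T₀(k)` is nonzero
  have hne : toResidue L (0 : ℤ) ≠ 0 := by
    intro h0
    let u : ModuleCat.of B B ⟶ ModuleCat.of B k := ModuleCat.ofHom (Algebra.linearMap B k)
    have hu : u = π (maximalIdeal B) := rfl
    have nat := e0'.hom.naturality u
    have h1' : (CohIII.HAb Z 0).map ((CohIII.tensorAFunctor B (Coh.structureModule Z)).map u) = 0 := by
      have hz0 : (CohIII.TFun L (0 : ℤ) ⋙ forget₂ (ModuleCat.{u} B) AddCommGrpCat.{u}).map u = 0 := by
        show (forget₂ (ModuleCat.{u} B) AddCommGrpCat.{u}).map ((CohIII.TFun L (0 : ℤ)).map u) = 0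
        rw [show (CohIII.TFun L (0 : ℤ)).map u = 0 from h0, Functor.map_zero]
      rw [hz0, zero_comp] at nat
      rw [← cancel_epi (e0'.hom.app (ModuleCat.of B B))]
      rw [comp_zero]
      exact nat.symm
    let q := (isoA (Coh.structureModule Z)).inv ≫
      (CohIII.tensorAFunctor B (Coh.structureModule Z)).map (π (maximalIdeal B))
    have hq : IsQuot (maximalIdeal B) q := isQuot_isoA_inv_map_π _ _
    have h1'' : (CohIII.HAb Z 0).map ((CohIII.tensorAFunctor B (Coh.structureModule Z)).map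
        (π (maximalIdeal B))) = 0 := h1'
    have hq0 : (CohIII.HAb Z 0).map q = 0 := by
      rw [Functor.map_comp, h1'', comp_zero]
    have hqz : q = 0 := eq_zero_of_HAb_map_eq_zero q hq0
    haveI := hq.epi
    have hz : IsZero ((CohIII.tensorAFunctor B (Coh.structureModule Z)).obj
        (ModuleCat.of B (B ⧸ maximalIdeal B))) := IsZero.of_epi_eq_zero q hqz
    have hz2 : IsZero ((CohIII.tensorAFunctor B (Coh.structureModule Z) ⋙ CohIII.HAb Z 0).obj
        (ModuleCat.of B k)) := by
      have hz' : IsZero ((SheafOfModules.toSheaf Z.ringCatSheaf).obj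
          ((CohIII.tensorAFunctor B (Coh.structureModule Z)).obj
            (ModuleCat.of B (B ⧸ maximalIdeal B)))) := Functor.map_isZero _ hz
      have hsub := Sheaf.subsingleton_H_of_isZero hz' 0
      exact @AddCommGrpCat.isZero_of_subsingleton _ hsub
    have hz3 : IsZero ((CohIII.TFun L (0 : ℤ) ⋙ forget₂ (ModuleCat.{u} B) AddCommGrpCat.{u}).obj
        (ModuleCat.of B k)) := hz2.of_iso (e0'.app _)
    haveI : Subsingleton ((CohIII.TFun L (0 : ℤ)).obj (ModuleCat.of B k)) :=
      AddCommGrpCat.subsingleton_of_isZero hz3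
    exact (one_ne_zero : (1 : k) ≠ 0) (ψ.symm.injective (Subsingleton.elim _ _))
  -- hence surjective
  have hs : Function.Surjective (toResidue L (0 : ℤ)).hom := by
    have hN : LinearMap.range (toResidue L (0 : ℤ)).hom ≠ ⊥ := by
      intro hb
      apply hne
      apply ModuleCat.hom_ext
      exact LinearMap.range_eq_bot.1 hb
    exact LinearMap.range_eq_top.1 (eq_top_of_ne_bot ψ _ hN)
  have he : (CohIII.TFun L (0 : ℤ)).PreservesEpimorphisms :=
    preservesEpi_of_surjective_toResidue L hQ 0 hs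
  have hm : (CohIII.TFun L (0 : ℤ)).PreservesMonomorphisms := by
    have he1 : (CohIII.TFun L (1 : ℤ)).PreservesEpimorphisms :=
      ⟨fun {M N} f _ => ⟨fun g h _ => (h3 1 one_pos N).eq_of_src _ _⟩⟩
    exact (chain_preservesEpi_iff_preservesMono L hflat 1 0 (by norm_num)).1 he1
  obtain ⟨-, hfree⟩ := (exact_iff_preservesEpi_and_free L hQ 0).1 ⟨hm, he⟩
  haveI := finite_TA L hQ 0 he
  let eTA := (TAIso L hflat 0 he).toLinearEquiv
  haveI : Module.Free B (L.homology (0 : ℤ)) := Module.Free.of_equiv eTA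
  haveI : Module.Finite B (L.homology (0 : ℤ)) := Module.Finite.equiv eTA
  let eT : TensorProduct B (L.homology (0 : ℤ)) k ≃ₗ[B] k :=
    ((chainTensorNatIso L hflat 0 he).app (ModuleCat.of B k)).toLinearEquiv ≪≫ₗ ψ
  let eT' : TensorProduct B k (L.homology (0 : ℤ)) ≃ₗ[k] k :=
    ((TensorProduct.comm B k (L.homology (0 : ℤ))) ≪≫ₗ eT).extendScalarsOfSurjective
      Ideal.Quotient.mk_surjective
  have hr : Module.finrank B (L.homology (0 : ℤ)) = 1 := by
    rw [← Module.finrank_baseChange (R := k) (S := B), eT'.finrank_eq, Module.finrank_self]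
  let eH : L.homology (0 : ℤ) ≃ₗ[B] B :=
    LinearEquiv.ofFinrankEq _ _ (by rw [hr, Module.finrank_self])
  obtain ⟨e7⟩ := h7 0
  exact ⟨e7.symm ≪≫ₗ eH⟩

end Groth.Agent.Helper1.ZarIso
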