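import Groth.Agent.Helper1.ZarIso2
import Groth.Agent.Helper1.FibDimVan3
import Groth.Agent.Helper1.StalkBC5
import Groth.Agent.Helper4.PullUnit

set_option autoImplicit false

/-!
# The stalk of `f_* O_X` at a point with `Γ(X_y, O) = κ(y)`
-/

namespace Groth.Agent.Helper1.ZarIso

open CategoryTheory Limits AlgebraicGeometry Opposite IsLocalRing
open Groth.Agent.Helper1.StalkBC Groth.Agent.Helper1.FibDimVan

universe u

/-- `H⁰` of the structure module over a field-scheme, as the global sections -/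
theorem nonempty_HH_zero_equiv_top (K : Type u) [CommRing K] (Z : Scheme.{u})
    [Z.Over (Spec (CommRingCat.of K))] :
    letI := ((Z ↘ Spec (CommRingCat.of K)).appTop.hom.comp
      (Scheme.ΓSpecIso (CommRingCat.of K)).inv.hom : K →+* Γ(Z, ⊤)).toAlgebra
    Nonempty (Coh.HH Z (Coh.structureModule Z) 0 ≃ₗ[K] Γ(Z, ⊤)) := by
  letI := ((Z ↘ Spec (CommRingCat.of K)).appTop.hom.comp
    (Scheme.ΓSpecIso (CommRingCat.of K)).inv.hom : K →+* Γ(Z, ⊤)).toAlgebra
  exact ⟨{ (Groth.Agent.Lead.ProperFinA.h0Equiv (Coh.structureModule Z)) with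
    map_smul' := by
      intro a x
      change Groth.Agent.Lead.ProperFinA.h0Equiv (Coh.structureModule Z)
        (Coh.toGlobal (Z ↘ Spec (CommRingCat.of K)) a • x) = _
      rw [Groth.Agent.Lead.ProperFinA.h0Equiv_smul]
      rfl }⟩

theorem nonempty_stalk_Rpush_zero_equiv {X Y : Scheme.{u}} (f : X ⟶ Y) [IsProper f] [Flat f]
    [IsLocallyNoetherian Y] [HasInjectiveResolutions X.Modules] (y : Y)
    (hy : Function.Bijective (algebraMap (Y.residueField y) Γ(f.fiber y, ⊤))) :
    Nonempty (((Coh.Rpush f 0).obj (Coh.structureModule X)).presheaf.stalk y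
      ≃ₗ[Y.presheaf.stalk y] Y.presheaf.stalk y) := by
  let B : Type u := Y.presheaf.stalk y
  let X₁ : Scheme.{u} := pullback f (Y.fromSpecStalk y)
  letI : X₁.Over (Spec (CommRingCat.of B)) := ⟨pullback.snd f (Y.fromSpecStalk y)⟩
  let g : X₁ ⟶ X := pullback.fst f (Y.fromSpecStalk y)
  have hsq : IsPullback g (X₁ ↘ Spec (CommRingCat.of B)) f (Y.fromSpecStalk y) :=
    IsPullback.of_hasPullback _ _
  haveI : IsProper (X₁ ↘ Spec (CommRingCat.of B)) :=
    MorphismProperty.of_isPullback (P := @IsProper) hsq inferInstance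
  haveI : Flat (X₁ ↘ Spec (CommRingCat.of B)) :=
    MorphismProperty.of_isPullback (P := @Flat) hsq inferInstance
  haveI : IsNoetherianRing B := inferInstance
  -- the closed fibre
  letI : (f.fiber y).Over (Spec (CommRingCat.of (ResidueField B))) :=
    ⟨f.fiberToSpecResidueField y⟩
  have hsq' : IsPullback (jFib f y g hsq)
      (f.fiber y ↘ Spec (CommRingCat.of (ResidueField B)))
      (X₁ ↘ Spec (CommRingCat.of B))
      (Spec.map (CommRingCat.ofHom (algebraMap B (ResidueField B)))) :=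
    isPullback_jFib f y g hsq
  have h1 : Module.finrank (ResidueField B)
      (Coh.HH (f.fiber y) ((Scheme.Modules.pullback (jFib f y g hsq)).obj
        (Coh.structureModule X₁)) 0) = 1 := by
    obtain ⟨e1⟩ := nonempty_linearEquiv_HH_of_iso (K := ResidueField B) (Z := f.fiber y)
      (Groth.Agent.Helper4.PullUnit.pullbackUnitIso (jFib f y g hsq)) 0
    obtain ⟨e2⟩ := nonempty_HH_zero_equiv_top (ResidueField B) (f.fiber y)
    letI := ((f.fiber y ↘ Spec (CommRingCat.of (ResidueField B))).appTop.hom.comp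
      (Scheme.ΓSpecIso (CommRingCat.of (ResidueField B))).inv.hom :
        ResidueField B →+* Γ(f.fiber y, ⊤)).toAlgebra
    let e3 : ResidueField B ≃ₗ[ResidueField B] Γ(f.fiber y, ⊤) :=
      LinearEquiv.ofBijective (Algebra.linearMap (ResidueField B) Γ(f.fiber y, ⊤)) hy
    rw [(e1.trans (e2.trans e3.symm)).finrank_eq]
    exact Module.finrank_self _
  obtain ⟨e⟩ := nonempty_HH_zero_equiv B X₁ (f.fiber y) (jFib f y g hsq) hsq' h1
  obtain ⟨e4⟩ := nonempty_stalk_Rpush_equiv f (Coh.structureModule X) y 0 X₁ g hsq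
  obtain ⟨e5⟩ := nonempty_linearEquiv_HH_of_iso (K := B) (Z := X₁)
    (Groth.Agent.Helper4.PullUnit.pullbackUnitIso g) 0
  exact ⟨e4.trans (e5.trans e)⟩

end Groth.Agent.Helper1.ZarIso
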