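import Groth.Agent.Helper1.ZarIso1

set_option autoImplicit false

/-!
# A ring map between localizations away from an element, and `LocalizedModule.map`
-/

namespace Groth.Agent.Helper1.ZarIso

universe u

theorem bijective_of_bijective_localizedModule_map {A R A' R' : Type*} [CommRing A] [CommRing R]
    [Algebra A R] (s : A) [CommRing A'] [Algebra A A'] [IsLocalization.Away s A'] [CommRing R']
    [Algebra R R'] [IsLocalization.Away (algebraMap A R s) R'] (θ : A' →+* R')
    (hθ : ∀ a : A, θ (algebraMap A A' a) = algebraMap R R' (algebraMap A R a))
    (h : Function.Bijective (LocalizedModule.map (Submonoid.powers s) (Algebra.linearMap A R))) :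
    Function.Bijective θ := by
  letI : Algebra A R' := ((algebraMap R R').comp (algebraMap A R)).toAlgebra
  haveI : IsScalarTower A R R' := IsScalarTower.of_algebraMap_eq (fun _ => rfl)
  haveI h1 : IsLocalizedModule (Submonoid.powers s) (Algebra.linearMap A A') :=
    (isLocalizedModule_iff_isLocalization' (Submonoid.powers s) A').mpr inferInstance
  haveI h2 : IsLocalizedModule (Submonoid.powers s) (IsScalarTower.toAlgHom A R R').toLinearMap := by
    rw [isLocalizedModule_iff_isLocalization, Algebra.algebraMapSubmonoid_powers]
    infer_instance
  have hb := bijective_isLocalizedModule_map (Submonoid.powers s) (Algebra.linearMap A A')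
    (IsScalarTower.toAlgHom A R R').toLinearMap (Algebra.linearMap A R) h
  let θl : A' →ₗ[A] R' :=
    { toFun := θ
      map_add' := map_add θ
      map_smul' := by
        intro a x
        simp only [RingHom.id_apply]
        rw [Algebra.smul_def, map_mul, hθ, Algebra.smul_def]
        rfl }
  have key : IsLocalizedModule.map (Submonoid.powers s) (Algebra.linearMap A A')
      (IsScalarTower.toAlgHom A R R').toLinearMap (Algebra.linearMap A R) = θl := by
    apply IsLocalizedModule.ext (Submonoid.powers s) (Algebra.linearMap A A')
      (IsLocalizedModule.map_units (IsScalarTower.toAlgHom A R R').toLinearMap)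
    ext
    simp only [LinearMap.coe_comp, Function.comp_apply, IsLocalizedModule.map_apply]
    simp only [Algebra.linearMap_apply, map_one, AlgHom.toLinearMap_apply]
    show (1 : R') = θ 1
    rw [map_one]
  have : (θ : A' → R') = ⇑(IsLocalizedModule.map (Submonoid.powers s) (Algebra.linearMap A A')
      (IsScalarTower.toAlgHom A R R').toLinearMap (Algebra.linearMap A R)) := by
    rw [key]
    rfl
  rw [this]
  exact hb

end Groth.Agent.Helper1.ZarIso
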